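import Mathlib.RingTheory.Flat.Equalizer
import Mathlib.RingTheory.Flat.Basic
import Mathlib.RingTheory.Flat.Tensor

/-!
# Flatness in short exact sequences
-/

namespace Groth.Agent.Lib.Helper12

open TensorProduct LinearMap

universe u v

variable {R : Type u} [CommRing R] {M N P : Type v} [AddCommGroup M] [AddCommGroup N]
  [AddCommGroup P] [Module R M] [Module R N] [Module R P]

/-- in `0 → M → N → P → 0` with `N`, `P` flat, `M` is flat -/
theorem flat_of_exact_left (g : M →ₗ[R] N) (f : N →ₗ[R] P) (hg : Function.Injective g)
    (hf : Function.Surjective f) (H : Function.Exact g f) [Module.Flat R N] [Module.Flat R P] :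
    Module.Flat R M := by
  rw [Module.Flat.iff_rTensor_injective']
  intro I
  have h1 : Function.Injective (g.lTensor I) :=
    LinearMap.lTensor_injective_of_exact_of_flat f hf g hg H I
  have h2 : Function.Injective (I.subtype.rTensor N) :=
    Module.Flat.rTensor_preserves_injective_linearMap _ Subtype.val_injective
  have h3 : (g.lTensor R).comp (I.subtype.rTensor M) = (I.subtype.rTensor N).comp (g.lTensor I) := by
    rw [lTensor_comp_rTensor, rTensor_comp_lTensor]
  have h4 : Function.Injective ((g.lTensor R).comp (I.subtype.rTensor M)) := by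
    rw [h3]
    exact h2.comp h1
  exact Function.Injective.of_comp h4

/-- in `0 → M → N → P → 0` with `M`, `P` flat, `N` is flat -/
theorem flat_of_exact_middle (g : M →ₗ[R] N) (f : N →ₗ[R] P) (hg : Function.Injective g)
    (hf : Function.Surjective f) (H : Function.Exact g f) [Module.Flat R M] [Module.Flat R P] :
    Module.Flat R N := by
  rw [Module.Flat.iff_rTensor_injective']
  intro I
  rw [injective_iff_map_eq_zero]
  intro x hx
  -- push to `P`
  have hP : Function.Injective (I.subtype.rTensor P) :=
    Module.Flat.rTensor_preserves_injective_linearMap _ Subtype.val_injective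
  have hM : Function.Injective (I.subtype.rTensor M) :=
    Module.Flat.rTensor_preserves_injective_linearMap _ Subtype.val_injective
  have h1 : (f.lTensor R).comp (I.subtype.rTensor N) = (I.subtype.rTensor P).comp (f.lTensor I) := by
    rw [lTensor_comp_rTensor, rTensor_comp_lTensor]
  have h2 : (I.subtype.rTensor P) ((f.lTensor I) x) = 0 := by
    have := congrArg (fun φ => φ x) h1
    simp only [coe_comp, Function.comp_apply] at this
    rw [← this, hx, map_zero]
  have h3 : (f.lTensor I) x = 0 := hP (by rw [h2, map_zero])
  -- lift to `M`
  have hex : Function.Exact (g.lTensor I) (f.lTensor I) := lTensor_exact I H hf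
  obtain ⟨y, rfl⟩ := (hex x).1 h3
  have h4 : (g.lTensor R).comp (I.subtype.rTensor M) = (I.subtype.rTensor N).comp (g.lTensor I) := by
    rw [lTensor_comp_rTensor, rTensor_comp_lTensor]
  have h5 : (g.lTensor R) ((I.subtype.rTensor M) y) = 0 := by
    have := congrArg (fun φ => φ y) h4
    simp only [coe_comp, Function.comp_apply] at this
    rw [this, hx]
  have h6 : Function.Injective (g.lTensor R) :=
    LinearMap.lTensor_injective_of_exact_of_flat f hf g hg H R
  have h7 : (I.subtype.rTensor M) y = 0 := h6 (by rw [h5, map_zero])
  have h8 : y = 0 := hM (by rw [h7, map_zero])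
  rw [h8, map_zero]

end Groth.Agent.Lib.Helper12
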