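import Groth.Prelude.Def_DRing2
import Mathlib.Algebra.Category.ModuleCat.Descent
import Mathlib.Algebra.Homology.DerivedCategory.ExactFunctor
import Mathlib.RingTheory.RingHom.Flat
import Mathlib.RingTheory.Flat.Stability
import Mathlib.CategoryTheory.Adjunction.Additive
import Mathlib.Algebra.Homology.DerivedCategory.HomologySequence
import Mathlib.RingTheory.TensorProduct.Finite
import Mathlib.LinearAlgebra.TensorProduct.Basis

/-!
# Flat extension of scalars on derived categories of modules
-/

set_option autoImplicit false
universe u

open CategoryTheory CategoryTheory.Limits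

attribute [local instance] HasDerivedCategory.standard

namespace Groth.Agent.Lib.Helper12

variable {A B : Type u} [CommRing A] [CommRing B] [Algebra A B]

/-- extension of scalars along `A → B` -/
noncomputable abbrev extSc (A B : Type u) [CommRing A] [CommRing B] [Algebra A B] :
    ModuleCat.{u} A ⥤ ModuleCat.{u} B :=
  ModuleCat.extendScalars.{u, u, u} (algebraMap A B)

instance extSc_preservesFiniteLimits [Module.Flat A B] : PreservesFiniteLimits (extSc A B) :=
  ModuleCat.preservesFiniteLimits_extendScalars_of_flat (RingHom.flat_algebraMap_iff.mpr ‹_›)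

instance extSc_additive : (extSc A B).Additive :=
  (ModuleCat.extendRestrictScalarsAdj (algebraMap A B)).left_adjoint_additive

instance extSc_preservesFiniteColimits : PreservesFiniteColimits (extSc A B) := by
  have : (extSc A B).IsLeftAdjoint := (ModuleCat.extendRestrictScalarsAdj (algebraMap A B)).isLeftAdjoint
  infer_instance

/-- the extension of scalars of `ModuleCat.of A M` is `ModuleCat.of B (B ⊗[A] M)` -/
noncomputable def extScObjEquiv (M : Type u) [AddCommGroup M] [Module A M] :
    (extSc A B).obj (ModuleCat.of A M) ≃ₗ[B] TensorProduct A B M := by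
  let S' : ModuleCat.{u} A := (ModuleCat.restrictScalars (algebraMap A B)).obj (ModuleCat.of B B)
  let idEquiv : S' ≃ₗ[A] B :=
    { toFun := fun b => b
      invFun := fun b => b
      left_inv := fun _ => rfl
      right_inv := fun _ => rfl
      map_add' := fun _ _ => rfl
      map_smul' := fun a (b : B) => (Algebra.smul_def a b).symm }
  let e₀ : TensorProduct A S' M ≃ₗ[A] TensorProduct A B M :=
    TensorProduct.congr idEquiv (LinearEquiv.refl A M)
  let sm : B → TensorProduct A S' M → TensorProduct A S' M := fun b x =>
    (b • (show ((extSc A B).obj (ModuleCat.of A M)) from x) : ((extSc A B).obj (ModuleCat.of A M)))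
  have sm_add : ∀ b x y, sm b (x + y) = sm b x + sm b y := fun b x y =>
    smul_add (A := ((extSc A B).obj (ModuleCat.of A M))) b x y
  have sm_zero : ∀ b, sm b 0 = 0 := fun b =>
    smul_zero (A := ((extSc A B).obj (ModuleCat.of A M))) b
  have sm_tmul : ∀ b (s : S') (m : M), sm b (s ⊗ₜ[A] m) = (show S' from (b * (show B from s))) ⊗ₜ[A] m :=
    fun b s m => rfl
  have hsmul : ∀ (b : B) (x : TensorProduct A S' M), e₀ (sm b x) = b • e₀ x := by
    intro b x
    induction x using TensorProduct.induction_on with
    | zero => rw [sm_zero, map_zero, smul_zero]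
    | tmul s m =>
      rw [sm_tmul]
      rfl
    | add x y hx hy => rw [sm_add, map_add, map_add, smul_add, hx, hy]
  exact
    { toFun := fun x => e₀ x
      invFun := fun x => e₀.symm x
      left_inv := fun x => e₀.symm_apply_apply x
      right_inv := fun x => e₀.apply_symm_apply x
      map_add' := fun x y => e₀.map_add x y
      map_smul' := fun b x => hsmul b x }

/-- the extension of scalars of `ModuleCat.of A M` is `ModuleCat.of B (B ⊗[A] M)` -/
noncomputable def extScObjIso (M : Type u) [AddCommGroup M] [Module A M] :
    (extSc A B).obj (ModuleCat.of A M) ≅ ModuleCat.of B (TensorProduct A B M) :=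
  (extScObjEquiv M).toModuleIso

variable (A B) in
/-- the induced functor on derived categories for flat `A → B` -/
noncomputable abbrev extScD [Module.Flat A B] : Dual.D A ⥤ Dual.D B :=
  (extSc A B).mapDerivedCategory

/-- flat base change of the image of a complex -/
noncomputable def extScD_toD [Module.Flat A B] (E : DRing.Cx A) :
    (extScD A B).obj (DRing.toD E) ≅
      DRing.toD (((extSc A B).mapHomologicalComplex (ComplexShape.up ℤ)).obj E) :=
  (extSc A B).mapDerivedCategoryFactors.app E

/-- flat base change of a module in degree zero -/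
noncomputable def extScD_inD [Module.Flat A B] (M : Type u) [AddCommGroup M] [Module A M] :
    (extScD A B).obj (Dual.inD A M) ≅ Dual.inD B (TensorProduct A B M) :=
  ((extSc A B).mapDerivedCategorySingleFunctor 0).app (ModuleCat.of A M) ≪≫
    (DerivedCategory.singleFunctor (ModuleCat.{u} B) 0).mapIso (extScObjIso M)

end Groth.Agent.Lib.Helper12

namespace Groth.Agent.Lib.Helper12

variable {A B : Type u} [CommRing A] [CommRing B] [Algebra A B]

/-- extension of scalars preserves flatness -/
lemma extSc_flat (N : ModuleCat.{u} A) [Module.Flat A N] :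
    Module.Flat B ((extSc A B).obj N) :=
  Module.Flat.of_linearEquiv (extScObjEquiv (A := A) (B := B) N)

/-- extension of scalars preserves zero objects -/
lemma extSc_isZero (N : ModuleCat.{u} A) (h : IsZero N) : IsZero ((extSc A B).obj N) :=
  (extSc A B).map_isZero h

/-- flat base change of tor amplitude (representative form) for objects of `D(A)`. -/
lemma hasTorAmplitudeIn_extScD [Module.Flat A B] (a b : ℤ) (K : Dual.D A)
    (hK : DRing.HasTorAmplitudeIn A a b K) :
    DRing.HasTorAmplitudeIn B a b ((extScD A B).obj K) := by
  obtain ⟨E, hE, hflat, ⟨e⟩⟩ := hK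
  refine ⟨((extSc A B).mapHomologicalComplex (ComplexShape.up ℤ)).obj E, ?_, ?_, ⟨?_⟩⟩
  · intro i hi
    exact extSc_isZero _ (hE i hi)
  · intro i
    have := hflat i
    exact extSc_flat (E.X i)
  · exact (extScD_toD E).symm ≪≫ (extScD A B).mapIso e

end Groth.Agent.Lib.Helper12

namespace Groth.Agent.Lib.Helper12

section General

variable {C₁ C₂ : Type (u+1)} [Category.{u} C₁] [Category.{u} C₂] [Abelian C₁] [Abelian C₂]
  (F : C₁ ⥤ C₂) [F.Additive] [PreservesFiniteLimits F] [PreservesFiniteColimits F]

/-- an exact functor commutes with homology of complexes -/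
noncomputable def mapHCHomologyIso (i : ℤ) :
    F.mapHomologicalComplex (ComplexShape.up ℤ) ⋙ HomologicalComplex.homologyFunctor C₂ _ i ≅
      HomologicalComplex.homologyFunctor C₁ _ i ⋙ F :=
  NatIso.ofComponents (fun K => (K.sc i).mapHomologyIso F)
    (fun f => ShortComplex.mapHomologyIso_hom_naturality
      ((HomologicalComplex.shortComplexFunctor C₁ _ i).map f) F)

/-- an exact functor commutes with the homology functors on derived categories -/
noncomputable def mapDerivedCategoryHomologyIso [HasDerivedCategory.{u+1} C₁]
    [HasDerivedCategory.{u+1} C₂] (i : ℤ) :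
    F.mapDerivedCategory ⋙ DerivedCategory.homologyFunctor C₂ i ≅
      DerivedCategory.homologyFunctor C₁ i ⋙ F :=
  letI : Localization.Lifting DerivedCategory.Q
      (HomologicalComplex.quasiIso C₁ (ComplexShape.up ℤ))
      (F.mapHomologicalComplex _ ⋙ HomologicalComplex.homologyFunctor C₂ _ i)
      (F.mapDerivedCategory ⋙ DerivedCategory.homologyFunctor C₂ i) :=
    ⟨(Functor.associator _ _ _).symm ≪≫
      Functor.isoWhiskerRight F.mapDerivedCategoryFactors _ ≪≫
      Functor.associator _ _ _ ≪≫
      Functor.isoWhiskerLeft _ (DerivedCategory.homologyFunctorFactors C₂ i)⟩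
  letI : Localization.Lifting DerivedCategory.Q
      (HomologicalComplex.quasiIso C₁ (ComplexShape.up ℤ))
      (HomologicalComplex.homologyFunctor C₁ _ i ⋙ F)
      (DerivedCategory.homologyFunctor C₁ i ⋙ F) :=
    ⟨(Functor.associator _ _ _).symm ≪≫
      Functor.isoWhiskerRight (DerivedCategory.homologyFunctorFactors C₁ i) _⟩
  Localization.liftNatIso DerivedCategory.Q (HomologicalComplex.quasiIso C₁ (ComplexShape.up ℤ))
    (F.mapHomologicalComplex _ ⋙ HomologicalComplex.homologyFunctor C₂ _ i)
    (HomologicalComplex.homologyFunctor C₁ _ i ⋙ F) _ _ (mapHCHomologyIso F i)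

end General

variable {A B : Type u} [CommRing A] [CommRing B] [Algebra A B]

/-- extension of scalars preserves finite free modules -/
lemma extSc_finite_free (N : ModuleCat.{u} A) [Module.Finite A N] [Module.Free A N] :
    Module.Finite B ((extSc A B).obj N) ∧ Module.Free B ((extSc A B).obj N) :=
  ⟨Module.Finite.equiv (extScObjEquiv (A := A) (B := B) N).symm,
    Module.Free.of_equiv (extScObjEquiv (A := A) (B := B) N).symm⟩

/-- `IsPseudoCoherent` is invariant under isomorphism -/
lemma isPseudoCoherent_of_iso {m : ℤ} {K K' : Dual.D A} (e : K ≅ K')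
    (h : DRing.IsPseudoCoherent A m K) : DRing.IsPseudoCoherent A m K' := by
  obtain ⟨E, a, b, α, hE, hff, hiso, hepi⟩ := h
  refine ⟨E, a, b, α ≫ e.hom, hE, hff, fun i hi => ?_, ?_⟩
  · have := hiso i hi
    rw [Functor.map_comp]; infer_instance
  · rw [Functor.map_comp]; infer_instance

/-- flat base change of `m`-pseudo-coherence -/
lemma isPseudoCoherent_extScD [Module.Flat A B] (m : ℤ) (K : Dual.D A)
    (h : DRing.IsPseudoCoherent A m K) :
    DRing.IsPseudoCoherent B m ((extScD A B).obj K) := by
  obtain ⟨E, a, b, α, hE, hff, hiso, hepi⟩ := h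
  refine ⟨((extSc A B).mapHomologicalComplex (ComplexShape.up ℤ)).obj E, a, b,
    (extScD_toD E).inv ≫ (extScD A B).map α, ?_, ?_, fun i hi => ?_, ?_⟩
  · intro i hi
    exact extSc_isZero _ (hE i hi)
  · intro i
    have := (hff i).1
    have := (hff i).2
    exact extSc_finite_free (E.X i)
  · have := hiso i hi
    rw [Functor.map_comp]
    have : IsIso ((DerivedCategory.homologyFunctor (ModuleCat.{u} B) i).map ((extScD A B).map α)) :=
      (NatIso.isIso_map_iff (mapDerivedCategoryHomologyIso (extSc A B) i) α).mpr
        (by dsimp; infer_instance)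
    infer_instance
  · rw [Functor.map_comp]
    have : Epi ((DerivedCategory.homologyFunctor (ModuleCat.{u} B) m).map ((extScD A B).map α)) := by
      have hnat := (mapDerivedCategoryHomologyIso (extSc A B) m).hom.naturality α
      have h1 : Epi (((extSc A B).mapDerivedCategory ⋙
          DerivedCategory.homologyFunctor (ModuleCat.{u} B) m).map α ≫
          (mapDerivedCategoryHomologyIso (extSc A B) m).hom.app K) := by
        rw [hnat, Functor.comp_map]
        infer_instance
      have h3 : (DerivedCategory.homologyFunctor (ModuleCat.{u} B) m).map ((extScD A B).map α) =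
          (((extSc A B).mapDerivedCategory ⋙
            DerivedCategory.homologyFunctor (ModuleCat.{u} B) m).map α ≫
            (mapDerivedCategoryHomologyIso (extSc A B) m).hom.app K) ≫
            (mapDerivedCategoryHomologyIso (extSc A B) m).inv.app K := by
        rw [Category.assoc, Iso.hom_inv_id_app, Category.comp_id]
        rfl
      rw [h3]
      infer_instance
    infer_instance

/-- flat base change of pseudo-coherence (bounded above finite free representative) -/
lemma isPseudoCoherent'_extScD [Module.Flat A B] (K : Dual.D A)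
    (h : DRing.IsPseudoCoherent' A K) :
    DRing.IsPseudoCoherent' B ((extScD A B).obj K) := by
  obtain ⟨E, b, hE, hff, ⟨e⟩⟩ := h
  refine ⟨((extSc A B).mapHomologicalComplex (ComplexShape.up ℤ)).obj E, b, ?_, ?_, ⟨?_⟩⟩
  · intro i hi
    exact extSc_isZero _ (hE i hi)
  · intro i
    have := (hff i).1
    have := (hff i).2
    exact extSc_finite_free (E.X i)
  · exact (extScD_toD E).symm ≪≫ (extScD A B).mapIso e

end Groth.Agent.Lib.Helper12
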