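import Groth.Agent.Lib.Helper12.DRingTower

/-!
# `m`-pseudo-coherent for all `m` iff represented by a bounded above complex of finite free modules
-/

namespace Groth.Agent.Lib.Helper12

open CategoryTheory CategoryTheory.Limits DRing CategoryTheory.Pretriangulated
open CochainComplex HomComplex

attribute [local instance] HasDerivedCategory.standard

universe u

variable {A : Type u} [CommRing A]

/-- pseudo-coherent in all degrees implies a bounded above finite free representative -/
theorem isPseudoCoherent'_of_forall {K : Dual.D A} (h : ∀ m : ℤ, IsPseudoCoherent A m K) :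
    IsPseudoCoherent' A K := by
  let X : Cx A := DerivedCategory.Q.objPreimage K
  let e : toD X ≅ K := DerivedCategory.Q.objObjPreimageIso K
  have hX : ∀ m : ℤ, IsPseudoCoherent A m (toD X) := fun m =>
    isPseudoCoherent_of_iso' e.symm (h m)
  obtain ⟨b, hb⟩ := exists_bound_of_isPseudoCoherent (hX 0)
  obtain ⟨E', hE', hterm, ⟨e'⟩⟩ := exists_boundedAbove_rep (Pp := finiteFree A) (X := X) (b := b)
    (fun M hM => finiteFree_projective M hM) hb (by
      intro n s
      let Ta := DerivedCategory.Q.mapTriangle.obj (mappingCone.triangle s.a)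
      have hTa : Ta ∈ distTriang (Dual.D A) :=
        DerivedCategory.mappingCone_triangle_distinguished s.a
      have h1 : IsPseudoCoherent A (b + 1 - n - 1 + 1) Ta.obj₁ :=
        isPseudoCoherent_toD_of_bounded_ff s.E _ _ s.van s.term _
      have h2 : IsPseudoCoherent A (b + 1 - n - 1) Ta.obj₂ := hX _
      have h3 : IsPseudoCoherent A (b + 1 - n - 1) Ta.obj₃ :=
        (isPseudoCoherent_two_out_of_three Ta hTa _).1 h1 h2
      have hz : ∀ i : ℤ, b + 1 - n - 1 < i → IsZero ((HF A i).obj Ta.obj₃) :=
        fun i hi => IsConn.cone Ta hTa s.conn i (by omega)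
      have hfin : Module.Finite A ((HF A (b + 1 - n - 1)).obj Ta.obj₃) :=
        Groth.Agent.S2068.part_a _ _ h3 hz
      obtain ⟨k, f, hf⟩ := Module.Finite.exists_fin' A ((HF A (b + 1 - n - 1)).obj Ta.obj₃)
      refine ⟨ModuleCat.of A (Fin k → A), ⟨inferInstanceAs (Module.Finite A (Fin k → A)),
        inferInstanceAs (Module.Free A (Fin k → A))⟩, ModuleCat.ofHom f, ?_⟩
      exact (ModuleCat.epi_iff_surjective _).mpr hf)
  exact ⟨E', b, hE', hterm, ⟨e' ≪≫ e⟩⟩

theorem isPseudoCoherent'_iff_forall (K : Dual.D A) :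
    (∀ m : ℤ, IsPseudoCoherent A m K) ↔ IsPseudoCoherent' A K :=
  ⟨isPseudoCoherent'_of_forall, fun h m => isPseudoCoherent_of_isPseudoCoherent' h m⟩

/-- every object with cohomology bounded above is represented by a bounded above complex of
projective (indeed free) modules -/
theorem exists_projective_rep (K : Dual.D A) (b : ℤ)
    (hK : ∀ i : ℤ, b < i → IsZero ((HF A i).obj K)) :
    ∃ (P : Cx A), VanishesAbove P b ∧ (∀ i, Module.Projective A (P.X i)) ∧
      Nonempty (toD P ≅ K) := by
  let X : Cx A := DerivedCategory.Q.objPreimage K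
  let e : toD X ≅ K := DerivedCategory.Q.objObjPreimageIso K
  have hb : ∀ i : ℤ, b < i → IsZero ((HF A i).obj (toD X)) := fun i hi =>
    (hK i hi).of_iso ((HF A i).mapIso e)
  obtain ⟨E', hE', hterm, ⟨e'⟩⟩ := exists_boundedAbove_rep (Pp := projectiveP A) (X := X) (b := b)
    (fun M hM => hM) hb (by
      intro n s
      let M := (HF A (b + 1 - n - 1)).obj (toD (mappingCone s.a))
      refine ⟨ModuleCat.of A (M →₀ A), ?_, ModuleCat.ofHom (Finsupp.linearCombination A id), ?_⟩
      · exact inferInstanceAs (Module.Projective A (M →₀ A))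
      · rw [ModuleCat.epi_iff_surjective]
        exact Finsupp.linearCombination_id_surjective A M)
  exact ⟨E', hE', hterm, ⟨e' ≪≫ e⟩⟩

end Groth.Agent.Lib.Helper12
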