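import Groth.Agent.Lib.Helper12.DRingPCAbove
import Mathlib.CategoryTheory.Functor.OfSequence
import Mathlib.CategoryTheory.Limits.Constructions.EventuallyConstant
import Mathlib.Algebra.Homology.HomologicalComplexLimits

/-!
# Resolutions of bounded-above objects of `D(A)` by towers of attached projective modules

* `strictify`: homotopy extension along the inclusion into a mapping cone.
* `exists_hom_from_single_epi`: lifting a surjection `F → H^q(C)` (F projective, `C` with no
  cohomology above `q`) to a morphism `F[-q] → C` in `D(A)`.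
* `exists_attach`: attaching a projective module to a connected map to improve connectivity.
* `tower_colimit`: colimit of a degreewise stabilising tower.
* `exists_boundedAbove_rep`: the resolution theorem.
-/

namespace Groth.Agent.Lib.Helper12

open CategoryTheory CategoryTheory.Limits DRing CategoryTheory.Pretriangulated
open CochainComplex HomComplex ZeroObject

attribute [local instance] HasDerivedCategory.standard

universe u

variable {A : Type u} [CommRing A]

lemma homotopy_of_Q_map_eq (E L : Cx A) [E.IsKProjective] (f g : E ⟶ L)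
    (h : DerivedCategory.Q.map f = DerivedCategory.Q.map g) : Nonempty (Homotopy f g) := by
  have h1 : (HomotopyCategory.quotient _ _).map f = (HomotopyCategory.quotient _ _).map g := by
    apply (CochainComplex.IsKProjective.Qh_map_bijective E
      ((HomotopyCategory.quotient _ _).obj L)).injective
    have hf := DerivedCategory.quotientCompQhIso_hom_naturality f
    have hg := DerivedCategory.quotientCompQhIso_hom_naturality g
    rw [h] at hf
    have := hf.trans hg.symm
    exact (cancel_mono ((DerivedCategory.quotientCompQhIso (ModuleCat.{u} A)).hom.app L)).mp this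
  exact ⟨HomotopyCategory.homotopyOfEq _ _ h1⟩

/-- homotopy extension along the inclusion into a mapping cone -/
lemma strictify {S E X : Cx A} (φ : S ⟶ E) (a : E ⟶ X) (a'' : mappingCone φ ⟶ X)
    (h : Homotopy (mappingCone.inr φ ≫ a'') a) :
    ∃ a' : mappingCone φ ⟶ X, mappingCone.inr φ ≫ a' = a ∧ Nonempty (Homotopy a' a'') := by
  obtain ⟨z, hz⟩ := Cochain.equivHomotopy _ _ h
  let h' : Cochain (mappingCone φ) X (-1) := (mappingCone.snd φ).comp z (zero_add (-1))
  let c : Cocycle (mappingCone φ) X 0 := Cocycle.mk (δ (-1) 0 h') 1 (by simp) (δ_δ _ _ _ _)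
  refine ⟨a'' - Cocycle.homOf c, ?_, ⟨(Cochain.equivHomotopy _ _).symm ⟨-h', ?_⟩⟩⟩
  · apply Cochain.ofHom_injective
    rw [Preadditive.comp_sub, Cochain.ofHom_sub, Cochain.ofHom_comp (mappingCone.inr φ) (Cocycle.homOf c),
      Cocycle.cochain_ofHom_homOf_eq_coe]
    change _ - (Cochain.ofHom (mappingCone.inr φ)).comp (δ (-1) 0 h') (zero_add 0) = _
    rw [← δ_ofHom_comp]
    have : (Cochain.ofHom (mappingCone.inr φ)).comp h' (zero_add (-1)) = z := by
      dsimp only [h']
      rw [← Cochain.comp_assoc_of_first_is_zero_cochain, mappingCone.inr_snd, Cochain.id_comp]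
    rw [this, hz]
    abel
  · rw [Cochain.ofHom_sub, Cocycle.cochain_ofHom_homOf_eq_coe]
    change _ - δ (-1) 0 h' = _
    rw [δ_neg]
    abel

lemma projective_singleCx_X (q : ℤ) (F : ModuleCat.{u} A) (hF : Module.Projective A F) (i : ℤ) :
    Module.Projective A ((singleCx q F).X i) := by
  by_cases hi : i = q
  · subst hi
    exact Module.Projective.of_equiv
      (HomologicalComplex.singleObjXSelf (ComplexShape.up ℤ) i F).symm.toLinearEquiv
  · have : Subsingleton ((singleCx q F).X i) :=
      ModuleCat.subsingleton_of_isZero (isZero_singleCx_X q F i hi)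
    infer_instance

lemma vanishesOutside_singleCx (q : ℤ) (F : ModuleCat.{u} A) :
    VanishesOutside (singleCx q F) q q := fun i hi => isZero_singleCx_X q F i (by omega)

/-- lifting a surjection from a projective module onto the top cohomology to a morphism from a
single complex -/
lemma exists_hom_from_single_epi (C : Dual.D A) (q : ℤ)
    (hC : ∀ i : ℤ, q < i → IsZero ((HF A i).obj C))
    (F : ModuleCat.{u} A) (hF : Module.Projective A F) (π : F ⟶ (HF A q).obj C) (hπ : Epi π) :
    ∃ γ : toD (singleCx q F) ⟶ C, Epi ((HF A q).map γ) := by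
  let πC : C ⟶ (truncTriangle C q).obj₃ := (truncTriangle C q).mor₂
  have hisoC : ∀ i : ℤ, q ≤ i → IsIso ((HF A i).map πC) := fun i hi => isIso_HF_truncGEπ C q i hi
  have hconn : IsConn q πC :=
    ⟨fun i hi => hisoC i (by omega), by
      have := hisoC q le_rfl
      infer_instance⟩
  obtain ⟨Y, ⟨e⟩, ⟨eY⟩⟩ := exists_iso_single (truncTriangle C q).obj₃ q (by
    intro i hi
    rcases lt_or_gt_of_ne hi with hlt | hgt
    · exact isZero_HF_truncGE C q i hlt
    · exact IsZero.of_iso (hC i hgt) (HFTruncGEIso C q i (by omega)).symm)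
  have hq := hisoC q le_rfl
  let ψ : F ⟶ Y := π ≫ (HF A q).map πC ≫ eY.hom
  have hψ : Epi ψ := by
    have := hπ
    dsimp only [ψ]; infer_instance
  let g : toD (singleCx q F) ⟶ (truncTriangle C q).obj₃ :=
    (toDSingleIso' q F).hom ≫ (DerivedCategory.singleFunctor (ModuleCat.{u} A) q).map ψ ≫ e.inv
  obtain ⟨γ, hγ⟩ : ∃ γ : toD (singleCx q F) ⟶ C, γ ≫ πC = g :=
    exists_lift_of_isConn (singleCx q F) q q (vanishesOutside_singleCx q F)
      (projective_singleCx_X q F hF) πC hconn g
  refine ⟨γ, ?_⟩
  have hg : Epi ((HF A q).map g) := by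
    dsimp only [g]
    rw [CategoryTheory.Functor.map_comp, CategoryTheory.Functor.map_comp]
    have h3 : Epi ((HF A q).map
        ((DerivedCategory.singleFunctor (ModuleCat.{u} A) q).map ψ)) := by
      have e := map_eq_of_natIso (HFSingleNatIso (A := A) q) ψ
      change (HF A q).map ((DerivedCategory.singleFunctor (ModuleCat.{u} A) q).map ψ) = _ at e
      rw [e]
      simp only [Functor.id_map]
      infer_instance
    infer_instance
  have : (HF A q).map γ = (HF A q).map g ≫ inv ((HF A q).map πC) := by
    rw [← hγ, CategoryTheory.Functor.map_comp, Category.assoc, IsIso.hom_inv_id, Category.comp_id]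
  rw [this]
  infer_instance

/-- Attaching a projective module in degree `p - 1` to improve connectivity by one. -/
lemma exists_attach (X E : Cx A) (p : ℤ) (a : E ⟶ X)
    (ha : IsConn p (DerivedCategory.Q.map a))
    (F : ModuleCat.{u} A) (hF : Module.Projective A F)
    (π : F ⟶ (HF A (p - 1)).obj (toD (mappingCone a))) (hπ : Epi π) :
    ∃ (φ : singleCx p F ⟶ E) (α' : toD (mappingCone φ) ⟶ toD X),
      DerivedCategory.Q.map (mappingCone.inr φ) ≫ α' = DerivedCategory.Q.map a ∧
        IsConn (p - 1) α' := by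
  let Ta := DerivedCategory.Q.mapTriangle.obj (mappingCone.triangle a)
  have hTa : Ta ∈ distTriang (Dual.D A) := DerivedCategory.mappingCone_triangle_distinguished a
  have hC : ∀ i : ℤ, p ≤ i → IsZero ((HF A i).obj Ta.obj₃) := IsConn.cone Ta hTa ha
  let B := Ta.invRotate
  have hB : B ∈ distTriang (Dual.D A) := inv_rot_of_distTriang _ hTa
  have hC' : ∀ i : ℤ, p < i → IsZero ((HF A i).obj B.obj₁) := by
    intro i hi
    exact (hC (i - 1) (by omega)).of_iso
      ((HFShiftIso (A := A) (-1) i (i - 1) (by omega)).app Ta.obj₃)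
  let π' : F ⟶ (HF A p).obj B.obj₁ :=
    π ≫ ((HFShiftIso (A := A) (-1) p (p - 1) (by omega)).app Ta.obj₃).inv
  have hπ' : Epi π' := by
    have h2 : Epi ((HFShiftIso (A := A) (-1) p (p - 1) (by omega)).app Ta.obj₃).inv :=
      inferInstance
    exact @epi_comp _ _ _ _ _ π hπ _ h2
  obtain ⟨θ, hθ⟩ := exists_hom_from_single_epi B.obj₁ p hC' F hF π' hπ'
  have : (singleCx p F).IsKProjective :=
    isKProjective_of_vanishesAbove _ p
      (vanishesAbove_of_vanishesOutside (vanishesOutside_singleCx p F))
      (projective_singleCx_X p F hF)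
  obtain ⟨φ, hφ⟩ := exists_map_of_isKProjective (singleCx p F) E (θ ≫ B.mor₁)
  let A' := DerivedCategory.Q.mapTriangle.obj (mappingCone.triangle φ)
  have hA' : A' ∈ distTriang (Dual.D A) := DerivedCategory.mappingCone_triangle_distinguished φ
  have hcomm : A'.mor₁ ≫ 𝟙 (toD E) = θ ≫ B.mor₁ := (Category.comp_id _).trans hφ
  obtain ⟨c, hc1, hc2⟩ := complete_distinguished_triangle_morphism A' B hA' hB θ (𝟙 _) hcomm
  let Φ : A' ⟶ B :=
    { hom₁ := θ, hom₂ := 𝟙 _, hom₃ := c, comm₁ := hcomm, comm₂ := hc1, comm₃ := hc2 }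
  refine ⟨φ, c, ?_, ?_⟩
  · exact hc1.trans (Category.id_comp _)
  · have hid : ∀ i, IsIso ((HF A i).map Φ.hom₂) := fun i => by
      change IsIso ((HF A i).map (𝟙 _))
      rw [CategoryTheory.Functor.map_id]
      infer_instance
    have hepiθ : ∀ i : ℤ, p ≤ i → Epi ((HF A i).map Φ.hom₁) := by
      intro i hi
      rcases eq_or_lt_of_le hi with rfl | hlt
      · exact hθ
      · exact ⟨fun _ _ _ => (hC' i hlt).eq_of_src _ _⟩
    have hmonoθ : ∀ i : ℤ, p < i → Mono ((HF A i).map Φ.hom₁) := by
      intro i hi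
      exact ⟨fun _ _ _ => (isZero_HF_toD_singleCx p F i (by omega)).eq_of_tgt _ _⟩
    have hepi : ∀ i : ℤ, p - 1 ≤ i → Epi ((HF A i).map c) := by
      intro i hi
      have := hid i
      have := hid (i + 1)
      exact epi_HF_hom₃ hA' hB Φ i inferInstance (hepiθ (i + 1) (by omega)) inferInstance
    refine ⟨fun i hi => ?_, hepi (p - 1) le_rfl⟩
    have := hid i
    have hmono : Mono ((HF A i).map c) :=
      mono_HF_hom₃ hA' hB Φ i (hepiθ i (by omega)) inferInstance (hmonoθ (i + 1) (by omega))
    exact @isIso_of_mono_of_epi _ _ _ _ _ ((HF A i).map c) hmono (hepi i (by omega))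

/-- a chain map which is an isomorphism in degrees `i-1, i, i+1` induces an isomorphism
on `H^i` -/
lemma isIso_HF_Q_map_of_isIso_f {K L : Cx A} (f : K ⟶ L) (i : ℤ) (h0 : IsIso (f.f (i - 1)))
    (h1 : IsIso (f.f i)) (h2 : IsIso (f.f (i + 1))) :
    IsIso ((HF A i).map (DerivedCategory.Q.map f)) := by
  have hq : QuasiIsoAt f i := by
    rw [quasiIsoAt_iff' f (i - 1) i (i + 1) (by simp) (by simp)]
    let φ := (HomologicalComplex.shortComplexFunctor' (ModuleCat.{u} A) (ComplexShape.up ℤ)
      (i - 1) i (i + 1)).map f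
    have : IsIso φ.τ₁ := h0
    have : IsIso φ.τ₂ := h1
    have : IsIso φ.τ₃ := h2
    exact ShortComplex.quasiIso_of_epi_of_isIso_of_mono φ
  rw [quasiIsoAt_iff_isIso_homologyMap] at hq
  have e := map_eq_of_natIso (DerivedCategory.homologyFunctorFactors (ModuleCat.{u} A) i) f
  change (HF A i).map (DerivedCategory.Q.map f) = _ at e
  rw [e]
  have : IsIso ((HomologicalComplex.homologyFunctor (ModuleCat.{u} A) (ComplexShape.up ℤ) i).map f) :=
    hq
  infer_instance

/-- the colimit of a tower of complexes which stabilises degreewise -/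
theorem tower_colimit (Pp : ModProp A) (X : Cx A) (b : ℤ)
    (E : ℕ → Cx A) (a : ∀ n, E n ⟶ X) (ι : ∀ n, E n ⟶ E (n + 1))
    (comm : ∀ n, ι n ≫ a (n + 1) = a n)
    (van : ∀ n, VanishesOutside (E n) (b + 1 - n) b)
    (term : ∀ n, Termwise Pp (E n))
    (conn : ∀ n : ℕ, IsConn (b + 1 - n) (DerivedCategory.Q.map (a n)))
    (iso : ∀ (n : ℕ) (i : ℤ), b + 1 - n ≤ i → IsIso ((ι n).f i)) :
    ∃ (E' : Cx A), VanishesAbove E' b ∧ Termwise Pp E' ∧ Nonempty (toD E' ≅ toD X) := by
  let F : ℕ ⥤ Cx A := Functor.ofSequence ι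
  have hFmap : ∀ (n j : ℕ) (h : n ≤ j) (i : ℤ), b + 1 - n ≤ i →
      IsIso ((F.map (homOfLE h)).f i) := by
    intro n j h i hi
    induction j, h using Nat.le_induction with
    | base =>
      have : F.map (homOfLE (le_refl n)) = 𝟙 _ := F.map_id n
      rw [this]
      exact inferInstanceAs (IsIso (𝟙 ((E n).X i)))
    | succ j hj ih =>
      have h1 : F.map (homOfLE (hj.trans (Nat.le_add_right j 1))) =
          F.map (homOfLE hj) ≫ F.map (homOfLE (Nat.le_add_right j 1)) := by
        rw [← F.map_comp]; rfl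
      have h3 : (F.map (homOfLE (Nat.le_add_right j 1))).f i = (ι j).f i :=
        congrArg (fun g : E j ⟶ E (j + 1) => g.f i) (Functor.ofSequence_map_homOfLE_succ ι j)
      have h4 := iso j i (by omega)
      rw [← h3] at h4
      rw [h1, HomologicalComplex.comp_f]
      exact IsIso.comp_isIso' ih h4
  let c := colimit.cocone F
  have hc : IsColimit c := colimit.isColimit F
  have hιiso : ∀ (n : ℕ) (i : ℤ), b + 1 - n ≤ i → IsIso ((c.ι.app n).f i) := by
    intro n i hi
    have hconst : (F ⋙ HomologicalComplex.eval _ _ i).IsEventuallyConstantFrom n := by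
      intro j f
      have := hFmap n j (leOfHom f) i hi
      exact this
    exact hconst.isIso_ι_of_isColimit (isColimitOfPreserves (HomologicalComplex.eval _ _ i) hc)
  let aInf : c.pt ⟶ X := hc.desc (Cocone.mk X (NatTrans.ofSequence (F := F)
    (G := (Functor.const ℕ).obj X) a (by
      intro n
      simp only [Functor.const_obj_obj, Functor.const_obj_map, Category.comp_id]
      rw [Functor.ofSequence_map_homOfLE_succ]
      exact comm n)))
  have hfac : ∀ n, c.ι.app n ≫ aInf = a n := fun n => hc.fac _ n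
  refine ⟨c.pt, ?_, ?_, ?_⟩
  · intro i hi
    have := hιiso 0 i (by simp; omega)
    exact (van 0 i (Or.inr hi)).of_iso (asIso ((c.ι.app 0).f i)).symm
  · intro i
    have := hιiso (b + 1 - i).toNat i (by omega)
    exact Pp.iso (asIso ((c.ι.app (b + 1 - i).toNat).f i)) (term _ i)
  · have : IsIso (DerivedCategory.Q.map aInf) := by
      rw [DerivedCategory.isIso_iff]
      intro i
      let n := (b + 3 - i).toNat
      have h1 : IsIso ((HF A i).map (DerivedCategory.Q.map (c.ι.app n))) :=
        isIso_HF_Q_map_of_isIso_f _ i (hιiso n (i - 1) (by omega)) (hιiso n i (by omega))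
          (hιiso n (i + 1) (by omega))
      have h2 : IsIso ((HF A i).map (DerivedCategory.Q.map (a n))) := (conn n).1 i (by omega)
      have h3 : (HF A i).map (DerivedCategory.Q.map aInf) =
          inv ((HF A i).map (DerivedCategory.Q.map (c.ι.app n))) ≫
            (HF A i).map (DerivedCategory.Q.map (a n)) := by
        rw [IsIso.eq_inv_comp, ← CategoryTheory.Functor.map_comp, ← CategoryTheory.Functor.map_comp, hfac]
      change IsIso ((HF A i).map (DerivedCategory.Q.map aInf))
      rw [h3]
      exact IsIso.comp_isIso' inferInstance h2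
    exact ⟨asIso (DerivedCategory.Q.map aInf)⟩


lemma isIso_inr_f {S E : Cx A} (φ : S ⟶ E) (i : ℤ) (h : IsZero (S.X (i + 1))) :
    IsIso ((mappingCone.inr φ).f i) := by
  refine ⟨(mappingCone.snd φ).v i i (add_zero i), mappingCone.inr_f_snd_v φ i, ?_⟩
  have h1 := mappingCone.id_X φ i (i + 1) rfl
  have h2 : (mappingCone.fst φ).1.v i (i + 1) rfl = 0 := h.eq_of_tgt _ _
  rw [h2, zero_comp, zero_add] at h1
  exact h1

section Tower

variable (Pp : ModProp A) (X : Cx A) (b : ℤ)

/-- a stage of the tower: a complex in degrees `[b+1-n, b]` with a `(b+1-n)`-connected map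
to `X` -/
structure Stage (n : ℕ) where
  E : Cx A
  a : E ⟶ X
  van : VanishesOutside E (b + 1 - n) b
  term : Termwise Pp E
  conn : IsConn (b + 1 - n) (DerivedCategory.Q.map a)

/-- an extension of a stage -/
structure Stage.Ext {n : ℕ} (s : Stage Pp X b n) where
  t : Stage Pp X b (n + 1)
  ι : s.E ⟶ t.E
  comm : ι ≫ t.a = s.a
  iso : ∀ i : ℤ, b + 1 - n ≤ i → IsIso (ι.f i)

variable {Pp X b}

lemma Stage.exists_ext (hproj : ∀ M, Pp.P M → Module.Projective A M) {n : ℕ}
    (s : Stage Pp X b n) (F : ModuleCat.{u} A) (hF : Pp.P F)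
    (π : F ⟶ (HF A (b + 1 - n - 1)).obj (toD (mappingCone s.a))) (hπ : Epi π) :
    Nonempty s.Ext := by
  obtain ⟨φ, α', hcomm, hconn⟩ :=
    exists_attach X s.E (b + 1 - n) s.a s.conn F (hproj F hF) π hπ
  have : s.E.IsKProjective :=
    isKProjective_of_vanishesAbove s.E b (vanishesAbove_of_vanishesOutside s.van)
      (fun i => hproj _ (s.term i))
  have hSterm : Termwise Pp (singleCx (b + 1 - n) F) := by
    intro i
    by_cases hi : i = b + 1 - n
    · subst hi
      exact Pp.iso (HomologicalComplex.singleObjXSelf (ComplexShape.up ℤ) _ F).symm hF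
    · exact Pp.zero (isZero_singleCx_X _ F i hi)
  have hcone_term : Termwise Pp (mappingCone φ) := termwise_cone Pp φ hSterm s.term
  have hcone_van : VanishesOutside (mappingCone φ) (b + 1 - n - 1) b := by
    refine vanishesOutside_cone' φ ?_ ?_
    · intro i hi
      exact isZero_singleCx_X _ F i (by omega)
    · intro i hi
      exact s.van i (by omega)
  have : (mappingCone φ).IsKProjective :=
    isKProjective_of_vanishesAbove _ b (vanishesAbove_of_vanishesOutside hcone_van)
      (fun i => hproj _ (hcone_term i))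
  obtain ⟨a'', ha''⟩ := exists_map_of_isKProjective (mappingCone φ) X α'
  have hQ : DerivedCategory.Q.map (mappingCone.inr φ ≫ a'') = DerivedCategory.Q.map s.a := by
    rw [CategoryTheory.Functor.map_comp, ha'', hcomm]
  obtain ⟨hh⟩ := homotopy_of_Q_map_eq s.E X _ _ hQ
  obtain ⟨a', ha'1, ⟨hh'⟩⟩ := strictify φ s.a a'' hh
  have hQa' : DerivedCategory.Q.map a' = α' :=
    (DerivedCategory.Q_map_eq_of_homotopy _ hh').trans ha''
  have e : b + 1 - ((n + 1 : ℕ) : ℤ) = b + 1 - (n : ℤ) - 1 := by push_cast; ring
  exact ⟨{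
    t := {
      E := mappingCone φ
      a := a'
      van := by rw [e]; exact hcone_van
      term := hcone_term
      conn := by rw [e, hQa']; exact hconn }
    ι := mappingCone.inr φ
    comm := ha'1
    iso := fun i hi => isIso_inr_f φ i (isZero_singleCx_X _ F (i + 1) (by omega)) }⟩

/-- the initial (zero) stage -/
noncomputable def Stage.zero (hX : ∀ i : ℤ, b < i → IsZero ((HF A i).obj (toD X))) :
    Stage Pp X b 0 where
  E := 0
  a := 0
  van := fun i _ => (HomologicalComplex.eval _ _ i).map_isZero (isZero_zero _)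
  term := fun i => Pp.zero ((HomologicalComplex.eval _ _ i).map_isZero (isZero_zero _))
  conn := by
    have h1 : ∀ i, IsZero ((HF A i).obj (toD (0 : Cx A))) := fun i =>
      (HF A i).map_isZero (DerivedCategory.Q.map_isZero (isZero_zero _))
    refine ⟨fun i hi => ?_, ?_⟩
    · exact ⟨⟨0, (h1 i).eq_of_src _ _, (hX i (by simp at hi; omega)).eq_of_src _ _⟩⟩
    · exact ⟨fun _ _ _ => (hX _ (by simp)).eq_of_src _ _⟩

/-- **Resolution theorem**: if at every stage a module in the class `Pp` surjects onto the
relevant cohomology module of the cone, then `X` is quasi-isomorphic to a complex of modules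
in `Pp` vanishing above `b`. -/
theorem exists_boundedAbove_rep (hproj : ∀ M, Pp.P M → Module.Projective A M)
    (hX : ∀ i : ℤ, b < i → IsZero ((HF A i).obj (toD X)))
    (hstep : ∀ (n : ℕ) (s : Stage Pp X b n), ∃ (F : ModuleCat.{u} A) (_ : Pp.P F)
      (π : F ⟶ (HF A (b + 1 - n - 1)).obj (toD (mappingCone s.a))), Epi π) :
    ∃ (E' : Cx A), VanishesAbove E' b ∧ Termwise Pp E' ∧ Nonempty (toD E' ≅ toD X) := by
  have hext : ∀ (n : ℕ) (s : Stage Pp X b n), Nonempty s.Ext := by
    intro n s
    obtain ⟨F, hF, π, hπ⟩ := hstep n s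
    exact s.exists_ext hproj F hF π hπ
  let st : ∀ n, Stage Pp X b n := fun n =>
    Nat.rec (Stage.zero hX) (fun n s => (Classical.choice (hext n s)).t) n
  exact tower_colimit Pp X b (fun n => (st n).E) (fun n => (st n).a)
    (fun n => (Classical.choice (hext n (st n))).ι)
    (fun n => (Classical.choice (hext n (st n))).comm)
    (fun n => (st n).van) (fun n => (st n).term) (fun n => (st n).conn)
    (fun n => (Classical.choice (hext n (st n))).iso)

end Tower

end Groth.Agent.Lib.Helper12
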