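import Groth.Agent.Lib.Helper12.FlatExtendScalars
import Groth.Agent.Lib.Helper12.DRingTower
import Groth.Agent.Lib.Helper12.DRingPCRep
import Mathlib.RingTheory.Finiteness.Descent

/-!
# Faithfully flat descent of pseudo-coherence
-/

namespace Groth.Agent.Lib.Helper12

open CategoryTheory CategoryTheory.Limits DRing CategoryTheory.Pretriangulated

attribute [local instance] HasDerivedCategory.standard

universe u

variable {A B : Type u} [CommRing A] [CommRing B] [Algebra A B]

/-- flat extension of scalars commutes with cohomology -/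
noncomputable def HFExtIso [Module.Flat A B] (i : ℤ) :
    extScD A B ⋙ HF B i ≅ HF A i ⋙ extSc A B :=
  mapDerivedCategoryHomologyIso (extSc A B) i

lemma isZero_of_isZero_extSc [Module.FaithfullyFlat A B] (M : ModuleCat.{u} A)
    (h : IsZero ((extSc A B).obj M)) : IsZero M := by
  have h1 : Subsingleton ((extSc A B).obj M) := ModuleCat.subsingleton_of_isZero h
  have h2 : Subsingleton (TensorProduct A B M) :=
    (extScObjEquiv (A := A) (B := B) M).symm.toEquiv.subsingleton
  have h3 : Subsingleton M := (Module.FaithfullyFlat.subsingleton_tensorProduct_iff_right A B).1 h2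
  exact ModuleCat.isZero_of_subsingleton _

lemma finite_of_finite_extSc [Module.FaithfullyFlat A B] (M : ModuleCat.{u} A)
    (h : Module.Finite B ((extSc A B).obj M)) : Module.Finite A M := by
  have h2 : Module.Finite B (TensorProduct A B M) :=
    Module.Finite.equiv (extScObjEquiv (A := A) (B := B) M)
  exact Module.Finite.of_finite_tensorProduct_of_faithfullyFlat B

lemma isZero_HF_of_extScD [Module.FaithfullyFlat A B] (K : Dual.D A) (i : ℤ)
    (h : IsZero ((HF B i).obj ((extScD A B).obj K))) : IsZero ((HF A i).obj K) :=
  isZero_of_isZero_extSc _ (h.of_iso ((HFExtIso (A := A) (B := B) i).app K).symm)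

lemma isZero_HF_extScD [Module.Flat A B] (K : Dual.D A) (i : ℤ)
    (h : IsZero ((HF A i).obj K)) : IsZero ((HF B i).obj ((extScD A B).obj K)) :=
  ((extSc A B).map_isZero h).of_iso ((HFExtIso (A := A) (B := B) i).app K)

theorem isPseudoCoherent_of_extScD_aux [Module.FaithfullyFlat A B] (m : ℤ) :
    ∀ (n : ℕ) (b : ℤ), b < m + n →
    ∀ (K : Dual.D A), IsPseudoCoherent B m ((extScD A B).obj K) →
    (∀ j : ℤ, b < j → IsZero ((HF A j).obj K)) → IsPseudoCoherent A m K := by
  intro n
  induction n with
  | zero =>
    intro b hb K _ hz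
    exact isPseudoCoherent_of_isZero_HF m K (fun i hi => hz i (by simp at hb; omega))
  | succ n ih =>
    intro b hb K hK hz
    by_cases hbm : b < m
    · exact isPseudoCoherent_of_isZero_HF m K (fun i hi => hz i (by omega))
    · have hfinB : Module.Finite B ((HF B b).obj ((extScD A B).obj K)) :=
        Groth.Agent.S2068.part_a _ b (isPseudoCoherent_mono hK (by omega))
          (fun i hi => isZero_HF_extScD K i (hz i hi))
      have hfinB'' : Module.Finite B ((extScD A B ⋙ HF B b).obj K) := hfinB
      have hfinB' : Module.Finite B ((extSc A B).obj ((HF A b).obj K)) :=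
        Module.Finite.equiv ((HFExtIso (A := A) (B := B) b).app K).toLinearEquiv
      have hfinA : Module.Finite A ((HF A b).obj K) := finite_of_finite_extSc _ hfinB'
      obtain ⟨r, p, hp⟩ := Module.Finite.exists_fin' A ((HF A b).obj K)
      let F : ModuleCat.{u} A := ModuleCat.of A (Fin r → A)
      have hFfin : Module.Finite A F := inferInstanceAs (Module.Finite A (Fin r → A))
      have hFfree : Module.Free A F := inferInstanceAs (Module.Free A (Fin r → A))
      have hFproj : Module.Projective A F := inferInstance
      obtain ⟨γ, hγ⟩ := exists_hom_from_single_epi K b hz F hFproj (ModuleCat.ofHom p)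
        ((ModuleCat.epi_iff_surjective _).mpr hp)
      have hγconn : IsConn b γ := by
        refine ⟨fun i hi => ?_, hγ⟩
        exact ⟨⟨0, (isZero_HF_toD_singleCx b F i (by omega)).eq_of_src _ _,
          (hz i hi).eq_of_src _ _⟩⟩
      obtain ⟨C, c, d, hT⟩ := distinguished_cocone_triangle γ
      have hCz : ∀ j : ℤ, b - 1 < j → IsZero ((HF A j).obj C) := fun j hj =>
        IsConn.cone _ hT hγconn j (by omega)
      have hSff : TermwiseFiniteFree (singleCx b F) := by
        intro i
        by_cases hi : i = b
        · subst hi
          exact (finiteFree A).iso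
            (HomologicalComplex.singleObjXSelf (ComplexShape.up ℤ) i F).symm ⟨hFfin, hFfree⟩
        · exact (finiteFree A).zero (isZero_singleCx_X b F i hi)
      have hS : ∀ m' : ℤ, IsPseudoCoherent A m' (toD (singleCx b F)) := fun m' =>
        isPseudoCoherent_toD_of_bounded_ff _ b b (vanishesOutside_singleCx b F) hSff m'
      have hT' := (extScD A B).map_distinguished _ hT
      have h1 : IsPseudoCoherent B (m + 1) ((extScD A B).obj (toD (singleCx b F))) :=
        isPseudoCoherent_extScD _ _ (hS _)
      have h3 : IsPseudoCoherent B m ((extScD A B).obj C) :=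
        (isPseudoCoherent_two_out_of_three _ hT' m).1 h1 hK
      have hC : IsPseudoCoherent A m C := ih (b - 1) (by push_cast at hb; omega) C h3 hCz
      exact (isPseudoCoherent_two_out_of_three _ hT m).2.1 (hS m) hC

/-- `m`-pseudo-coherence descends along faithfully flat ring maps -/
theorem isPseudoCoherent_of_extScD [Module.FaithfullyFlat A B] {m : ℤ} {K : Dual.D A}
    (hK : IsPseudoCoherent B m ((extScD A B).obj K)) : IsPseudoCoherent A m K := by
  obtain ⟨b, hb⟩ := exists_bound_of_isPseudoCoherent hK
  exact isPseudoCoherent_of_extScD_aux m (b - m + 1).toNat b (by omega) K hK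
    (fun j hj => isZero_HF_of_extScD K j (hb j hj))

theorem isPseudoCoherent_extScD_iff [Module.FaithfullyFlat A B] (m : ℤ) (K : Dual.D A) :
    IsPseudoCoherent B m ((extScD A B).obj K) ↔ IsPseudoCoherent A m K :=
  ⟨isPseudoCoherent_of_extScD, isPseudoCoherent_extScD m K⟩

theorem isPseudoCoherent'_extScD_iff [Module.FaithfullyFlat A B] (K : Dual.D A) :
    IsPseudoCoherent' B ((extScD A B).obj K) ↔ IsPseudoCoherent' A K := by
  rw [← isPseudoCoherent'_iff_forall, ← isPseudoCoherent'_iff_forall]
  exact forall_congr' (fun m => isPseudoCoherent_extScD_iff m K)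

end Groth.Agent.Lib.Helper12
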