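import Groth.Agent.Lib.Helper12.DRingPCRep

/-!
# Pseudo-coherence from cohomology modules; the Noetherian case
-/

namespace Groth.Agent.Lib.Helper12

open CategoryTheory CategoryTheory.Limits DRing CategoryTheory.Pretriangulated
open DerivedCategory

attribute [local instance] HasDerivedCategory.standard

universe u

variable {A : Type u} [CommRing A]

/-- Induction principle on objects with bounded above cohomology via canonical truncations,
down to degree `m`. -/
theorem homologyAbove_induction (Pr : Dual.D A → Prop) (m : ℤ)
    (hiso : ∀ {K K' : Dual.D A}, (K ≅ K') → Pr K → Pr K')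
    (hlow : ∀ K : Dual.D A, (∀ i : ℤ, m ≤ i → IsZero ((HF A i).obj K)) → Pr K)
    (hext : ∀ T : Triangle (Dual.D A), T ∈ distTriang (Dual.D A) → Pr T.obj₁ → Pr T.obj₃ →
      Pr T.obj₂)
    (K : Dual.D A) (b : ℤ) (hK : ∀ i : ℤ, b < i → IsZero ((HF A i).obj K))
    (hsingle : ∀ i : ℤ, m ≤ i →
      Pr ((DerivedCategory.singleFunctor (ModuleCat.{u} A) i).obj ((HF A i).obj K))) : Pr K := by
  suffices H : ∀ (n : ℕ) (b : ℤ) (K : Dual.D A), b < m + n →
      (∀ i : ℤ, b < i → IsZero ((HF A i).obj K)) →
      (∀ i : ℤ, m ≤ i →
        Pr ((DerivedCategory.singleFunctor (ModuleCat.{u} A) i).obj ((HF A i).obj K))) → Pr K by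
    exact H (b - m + 1).toNat b K (by omega) hK hsingle
  intro n
  induction n with
  | zero =>
    intro b K hb hK _
    exact hlow K (fun i hi => hK i (by simp at hb; omega))
  | succ n ih =>
    intro b K hb hK hsingle
    by_cases hbm : b < m
    · exact hlow K (fun i hi => hK i (by omega))
    · have hT := truncTriangle_distinguished K b
      have hK2 : (truncTriangle K b).obj₂ = K := rfl
      refine hK2 ▸ hext (truncTriangle K b) hT ?_ ?_
      · refine ih (b - 1) _ (by push_cast at hb; omega) ?_ ?_
        · intro i hi
          exact isZero_HF_truncLT K b i (by omega)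
        · intro i hi
          by_cases hib : i < b
          · exact hiso ((DerivedCategory.singleFunctor (ModuleCat.{u} A) i).mapIso
              (HFTruncLTIso K b i hib).symm) (hsingle i hi)
          · apply hlow
            intro j _
            exact (HF A j).map_isZero ((DerivedCategory.singleFunctor (ModuleCat.{u} A) i).map_isZero
              (isZero_HF_truncLT K b i (by omega)))
      · obtain ⟨Y, ⟨e⟩, ⟨eY⟩⟩ := exists_iso_single (truncTriangle K b).obj₃ b (by
          intro i hi
          rcases lt_or_gt_of_ne hi with hlt | hgt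
          · exact isZero_HF_truncGE K b i hlt
          · exact IsZero.of_iso (hK i hgt) (HFTruncGEIso K b i (by omega)).symm)
        have eY' : (HF A b).obj K ≅ Y := HFTruncGEIso K b b le_rfl ≪≫ eY
        exact hiso (((DerivedCategory.singleFunctor (ModuleCat.{u} A) b).mapIso eY') ≪≫ e.symm)
          (hsingle b (by omega))

/-- `K` with bounded above cohomology whose `H^i` are `(m - i)`-pseudo-coherent modules is
`m`-pseudo-coherent -/
theorem isPseudoCoherent_of_homology (m : ℤ) (K : Dual.D A) (b : ℤ)
    (hK : ∀ i : ℤ, b < i → IsZero ((HF A i).obj K))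
    (h : ∀ i : ℤ, m ≤ i → IsPseudoCoherent A (m - i) (Dual.inD A ((HF A i).obj K))) :
    IsPseudoCoherent A m K := by
  refine homologyAbove_induction (IsPseudoCoherent A m) m
    (fun e h => isPseudoCoherent_of_iso' e h)
    (fun K hK => isPseudoCoherent_of_isZero_HF m K hK)
    (fun T hT h1 h3 => (isPseudoCoherent_two_out_of_three T hT m).2.1 h1 h3) K b hK ?_
  intro i hi
  have h1 := isPseudoCoherent_shift (h i hi) (-i)
  have e : m - i - -i = m := by omega
  rw [e] at h1
  exact isPseudoCoherent_of_iso' (singleFunctorShiftIso i _).symm h1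

section Noetherian

variable [IsNoetherianRing A]

/-- over a Noetherian ring, finite modules are `m`-pseudo-coherent for all `m` -/
theorem isPseudoCoherent_inD_of_finite_of_isNoetherianRing :
    ∀ (k : ℕ) (M : ModuleCat.{u} A) [Module.Finite A M],
      IsPseudoCoherent A (-(k : ℤ)) (Dual.inD A M) := by
  intro k
  induction k with
  | zero =>
    intro M _
    simpa using isPseudoCoherent_inD_of_finite M
  | succ k ih =>
    intro M _
    obtain ⟨n, p, hp⟩ := Module.Finite.exists_fin' A M
    let F : ModuleCat.{u} A := ModuleCat.of A (Fin n → A)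
    let N : ModuleCat.{u} A := ModuleCat.of A (LinearMap.ker p)
    let S : ShortComplex (ModuleCat.{u} A) :=
      ShortComplex.mk (ModuleCat.ofHom (LinearMap.ker p).subtype) (ModuleCat.ofHom p) (by
        ext x
        exact x.2)
    have hS : S.ShortExact := by
      refine ShortComplex.ShortExact.mk' ?_ ?_ ?_
      · rw [ShortComplex.ShortExact.moduleCat_exact_iff_function_exact]
        exact LinearMap.exact_subtype_ker_map p
      · exact (ModuleCat.mono_iff_injective _).mpr (Submodule.injective_subtype _)
      · exact (ModuleCat.epi_iff_surjective _).mpr hp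
    have hT := hS.singleTriangle_distinguished
    have hN : Module.Finite A N :=
      inferInstanceAs (Module.Finite A (LinearMap.ker p))
    have h1 : IsPseudoCoherent A (-((k + 1 : ℕ) : ℤ) + 1) (Dual.inD A N) := by
      have := ih N
      have e : -((k + 1 : ℕ) : ℤ) + 1 = -(k : ℤ) := by push_cast; ring
      rwa [e]
    have h2 : IsPseudoCoherent A (-((k + 1 : ℕ) : ℤ)) (Dual.inD A F) :=
      haveI : Module.Finite A F := inferInstanceAs (Module.Finite A (Fin n → A))
      haveI : Module.Free A F := inferInstanceAs (Module.Free A (Fin n → A))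
      isPseudoCoherent_inD_of_finite_free F _
    exact (isPseudoCoherent_two_out_of_three hS.singleTriangle hT _).1 h1 h2

theorem isPseudoCoherent_inD_of_finite_of_isNoetherianRing' (M : ModuleCat.{u} A)
    [Module.Finite A M] (m : ℤ) : IsPseudoCoherent A m (Dual.inD A M) :=
  isPseudoCoherent_mono (isPseudoCoherent_inD_of_finite_of_isNoetherianRing (-m).toNat M)
    (by omega)

/-- cohomology of a complex of finite modules over a Noetherian ring is finite -/
lemma finite_HF_toD_of_finite (E : Cx A) (i : ℤ) (h : Module.Finite A (E.X i)) :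
    Module.Finite A ((HF A i).obj (toD E)) := by
  have e : (HF A i).obj (toD E) ≅ E.homology i :=
    (DerivedCategory.homologyFunctorFactors (ModuleCat.{u} A) i).app E
  have h1 : Module.Finite A (E.cycles i) :=
    Module.Finite.of_injective (E.iCycles i).hom ((ModuleCat.mono_iff_injective _).mp inferInstance)
  have h2 : Module.Finite A (E.homology i) :=
    Module.Finite.of_surjective (E.homologyπ i).hom
      ((ModuleCat.epi_iff_surjective _).mp inferInstance)
  exact Module.Finite.equiv e.symm.toLinearEquiv

theorem finite_HF_of_isPseudoCoherent {m : ℤ} {K : Dual.D A} (hK : IsPseudoCoherent A m K)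
    (i : ℤ) (hi : m ≤ i) : Module.Finite A ((HF A i).obj K) := by
  obtain ⟨E, a, b, α, hE, hff, hα'⟩ := hK
  have hα : IsConn m α := hα'
  have h1 : Module.Finite A ((HF A i).obj (toD E)) := finite_HF_toD_of_finite E i (hff i).1
  have := hα.epi i hi
  exact Module.Finite.of_surjective ((HF A i).map α).hom
    ((ModuleCat.epi_iff_surjective _).mp inferInstance)

theorem isPseudoCoherent_iff_of_isNoetherianRing (m : ℤ) (K : Dual.D A) :
    IsPseudoCoherent A m K ↔ (∃ b : ℤ, ∀ i : ℤ, b < i → IsZero ((HF A i).obj K)) ∧
      ∀ i : ℤ, m ≤ i → Module.Finite A ((HF A i).obj K) := by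
  constructor
  · intro h
    exact ⟨exists_bound_of_isPseudoCoherent h, fun i hi => finite_HF_of_isPseudoCoherent h i hi⟩
  · rintro ⟨⟨b, hb⟩, hfin⟩
    refine isPseudoCoherent_of_homology m K b hb (fun i hi => ?_)
    have := hfin i hi
    exact isPseudoCoherent_inD_of_finite_of_isNoetherianRing' _ _

end Noetherian

end Groth.Agent.Lib.Helper12
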