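import Mathlib

/-!
# Families of flat algebras detecting vanishing of modules
-/

set_option autoImplicit false
universe u v w
open TensorProduct

namespace Groth.Agent.Lib.Helper12.FlatHomBC

variable {A : Type u} [CommRing A]

/-- a family of `A`-algebras detects vanishing of modules in universe `v` -/
def DetectsZero {ι : Type*} (Bs : ι → Type u) [∀ j, CommRing (Bs j)] [∀ j, Algebra A (Bs j)] :
    Prop :=
  ∀ (M : Type v) [AddCommGroup M] [Module A M], (∀ j, Subsingleton (Bs j ⊗[A] M)) → Subsingleton M

variable {ι : Type*} (Bs : ι → Type u) [∀ j, CommRing (Bs j)] [∀ j, Algebra A (Bs j)]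
  [∀ j, Module.Flat A (Bs j)]

theorem injective_of_forall_baseChange (hD : DetectsZero.{u, v} (A := A) Bs)
    {M : Type v} {N : Type w} [AddCommGroup M] [Module A M] [AddCommGroup N] [Module A N]
    (g : M →ₗ[A] N) (h : ∀ j, Function.Injective (g.baseChange (Bs j))) :
    Function.Injective g := by
  have hK : Subsingleton (LinearMap.ker g) := by
    apply hD
    intro j
    have hinj : Function.Injective ((LinearMap.ker g).subtype.baseChange (Bs j)) :=
      Module.Flat.lTensor_preserves_injective_linearMap _ (Submodule.injective_subtype _)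
    have hz : (g.baseChange (Bs j)) ∘ₗ ((LinearMap.ker g).subtype.baseChange (Bs j)) = 0 := by
      rw [← LinearMap.baseChange_comp]
      have : g ∘ₗ (LinearMap.ker g).subtype = 0 := by
        ext x
        exact x.2
      rw [this, LinearMap.baseChange_zero]
    refine ⟨fun x y => ?_⟩
    apply hinj
    apply h j
    have hx := LinearMap.congr_fun hz x
    have hy := LinearMap.congr_fun hz y
    simp only [LinearMap.comp_apply, LinearMap.zero_apply] at hx hy
    rw [hx, hy]
  rw [← LinearMap.ker_eq_bot]
  exact Submodule.eq_bot_of_subsingleton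

theorem surjective_of_forall_baseChange (hD : DetectsZero.{u, w} (A := A) Bs)
    {M : Type v} {N : Type w} [AddCommGroup M] [Module A M] [AddCommGroup N] [Module A N]
    (g : M →ₗ[A] N) (h : ∀ j, Function.Surjective (g.baseChange (Bs j))) :
    Function.Surjective g := by
  have hQ : Subsingleton (N ⧸ LinearMap.range g) := by
    apply hD
    intro j
    have hsurj : Function.Surjective ((LinearMap.range g).mkQ.baseChange (Bs j)) :=
      LinearMap.lTensor_surjective _ (Submodule.mkQ_surjective _)
    have hz : ((LinearMap.range g).mkQ.baseChange (Bs j)) ∘ₗ (g.baseChange (Bs j)) = 0 := by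
      rw [← LinearMap.baseChange_comp]
      have : (LinearMap.range g).mkQ ∘ₗ g = 0 := by
        ext x
        simp
      rw [this, LinearMap.baseChange_zero]
    have hall : ∀ x : Bs j ⊗[A] (N ⧸ LinearMap.range g), x = 0 := by
      intro x
      obtain ⟨y, rfl⟩ := hsurj x
      obtain ⟨z, rfl⟩ := h j y
      exact LinearMap.congr_fun hz z
    exact ⟨fun x y => (hall x).trans (hall y).symm⟩
  rw [← LinearMap.range_eq_top]
  exact Submodule.Quotient.subsingleton_iff.mp hQ

end Groth.Agent.Lib.Helper12.FlatHomBC

namespace Groth.Agent.Lib.Helper12.FlatHomBC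

variable {A : Type u} [CommRing A]

theorem detectsZero_faithfullyFlat (B : Type u) [CommRing B] [Algebra A B]
    [Module.FaithfullyFlat A B] : DetectsZero.{u, v} (A := A) (fun _ : Unit => B) := by
  intro M _ _ h
  exact (Module.FaithfullyFlat.subsingleton_tensorProduct_iff_right A B).1 (h ())

theorem detectsZero_maximal :
    DetectsZero.{u, v} (A := A)
      (fun m : MaximalSpectrum A => Localization.AtPrime m.asIdeal) := by
  intro M _ _ h
  refine Module.subsingleton_of_localization_maximal
    (fun P _ => Localization.AtPrime P ⊗[A] M)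
    (fun P _ => TensorProduct.mk A (Localization.AtPrime P) M 1) ?_
  intro P hP
  exact h ⟨P, hP⟩

theorem detectsZero_prime :
    DetectsZero.{u, v} (A := A)
      (fun p : PrimeSpectrum A => Localization.AtPrime p.asIdeal) := by
  intro M _ _ h
  apply detectsZero_maximal (A := A) M
  intro m
  exact h ⟨m.asIdeal, inferInstance⟩

theorem detectsZero_span {n : ℕ} (f : Fin n → A) (hf : Ideal.span (Set.range f) = ⊤) :
    DetectsZero.{u, v} (A := A) (fun i : Fin n => Localization.Away (f i)) := by
  intro M _ _ h
  rw [subsingleton_iff_forall_eq 0]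
  intro x
  refine Module.eq_zero_of_isLocalized_span (Set.range f) hf
    (fun r => Localization.Away r.1 ⊗[A] M)
    (fun r => TensorProduct.mk A (Localization.Away r.1) M 1) x ?_
  rintro ⟨r, i, rfl⟩
  have := h i
  exact Subsingleton.elim _ _

end Groth.Agent.Lib.Helper12.FlatHomBC
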