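import Groth.Agent.Lib.Helper12.DRingPCAbove

/-!
# Stripping the top terms of a bounded above complex; maps to a single module injective on `H^i`
-/

namespace Groth.Agent.Lib.Helper12

open CategoryTheory CategoryTheory.Limits DRing CategoryTheory.Pretriangulated
open DerivedCategory

attribute [local instance] HasDerivedCategory.standard

universe u

variable {A : Type u} [CommRing A]

lemma termwiseFiniteFree_topCoker {E : Cx A} (hff : TermwiseFiniteFree E) (b : ℤ)
    (h : IsZero (E.X (b + 1))) : TermwiseFiniteFree (topCoker E b h) := by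
  intro n
  by_cases hn : n = b
  · subst hn
    have hz := isZero_topCoker_X_self E n h
    have : Subsingleton ((topCoker E n h).X n) := ModuleCat.subsingleton_of_isZero hz
    exact ⟨inferInstance, inferInstance⟩
  · have e := (topCokerXIsoOfNe E b h n hn).toLinearEquiv
    have := (hff n).1
    have := (hff n).2
    exact ⟨Module.Finite.equiv e.symm, Module.Free.of_equiv e.symm⟩

/-- the map `E → σ_{≤ b-1} E` is injective on `H^i` for `i < b` -/
lemma mono_HF_topTriangle_mor₂ (E : Cx A) (b : ℤ) (h : IsZero (E.X (b + 1))) (i : ℤ) (hi : i ≠ b) :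
    Mono ((HF A i).map (topTriangle E b h).mor₂) := by
  rw [HomologySequence.mono_homologyMap_mor₂_iff _ (topTriangle_distinguished E b h)]
  exact (isZero_HF_toD_singleCx b (E.X b) i hi).eq_of_src _ _

/-- strip the terms of a bounded above finite free complex in degrees `> i` -/
theorem exists_strip : ∀ (n : ℕ) (E : Cx A) (b : ℤ), VanishesAbove E b → TermwiseFiniteFree E →
    ∀ i : ℤ, b ≤ i + n → ∃ G : Cx A, VanishesAbove G i ∧ TermwiseFiniteFree G ∧
      ∃ f : toD E ⟶ toD G, Mono ((HF A i).map f) := by
  intro n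
  induction n with
  | zero =>
    intro E b hE hff i hbi
    refine ⟨E, fun j hj => hE j (by omega), hff, 𝟙 _, ?_⟩
    rw [CategoryTheory.Functor.map_id]
    infer_instance
  | succ n ih =>
    intro E b hE hff i hbi
    by_cases hb : b ≤ i
    · refine ⟨E, fun j hj => hE j (by omega), hff, 𝟙 _, ?_⟩
      rw [CategoryTheory.Functor.map_id]
      infer_instance
    · have h0 : IsZero (E.X (b + 1)) := hE (b + 1) (by omega)
      obtain ⟨G, hG, hGff, f, hf⟩ := ih (topCoker E b h0) (b - 1) (vanishesAbove_topCoker hE)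
        (termwiseFiniteFree_topCoker hff b h0) i (by push_cast at hbi; omega)
      have hm := mono_HF_topTriangle_mor₂ E b h0 i (by omega)
      let g : toD E ⟶ toD (topCoker E b h0) := (topTriangle E b h0).mor₂
      have hg : Mono ((HF A i).map g) := hm
      refine ⟨G, hG, hGff, g ≫ f, ?_⟩
      rw [CategoryTheory.Functor.map_comp]
      exact mono_comp _ _

/-- a pseudo-coherent object admits a map to a finitely presented module placed in degree `i`
which is injective on `H^i` -/
theorem exists_hom_to_single_mono (K : Dual.D A) (hK : IsPseudoCoherent' A K) (i : ℤ) :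
    ∃ (M : ModuleCat.{u} A) (_ : Module.FinitePresentation A M)
      (f : K ⟶ (shiftFunctor (Dual.D A) (-i)).obj (Dual.inD A M)), Mono ((HF A i).map f) := by
  obtain ⟨E, b, hE, hff, ⟨e⟩⟩ := hK
  obtain ⟨G, hG, hGff, f, hf⟩ := exists_strip (b - i).toNat E b hE hff i (by omega)
  have hL' : IsPseudoCoherent' A (toD G) := ⟨G, i, hG, hGff, ⟨Iso.refl _⟩⟩
  have hLz : ∀ j : ℤ, i < j → IsZero ((HF A j).obj (toD G)) := fun j hj =>
    isZero_HF_toD_of_vanishesAbove hG j hj
  have hfp : Module.FinitePresentation A ((HF A i).obj (toD G)) := by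
    have h1 := Groth.Agent.S2068.part_b (toD G) (i - 1)
      (isPseudoCoherent_of_isPseudoCoherent' hL' (i - 1)) (fun j hj => hLz j (by omega))
    have h2 : i - 1 + 1 = i := by omega
    rwa [h2] at h1
  obtain ⟨Y, ⟨e'⟩, ⟨eY⟩⟩ := exists_iso_single (truncTriangle (toD G) i).obj₃ i (by
    intro j hj
    rcases lt_or_gt_of_ne hj with hlt | hgt
    · exact isZero_HF_truncGE (toD G) i j hlt
    · exact IsZero.of_iso (hLz j hgt) (HFTruncGEIso (toD G) i j (by omega)).symm)
  have eY' : (HF A i).obj (toD G) ≅ Y := HFTruncGEIso (toD G) i i le_rfl ≪≫ eY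
  have hYfp : Module.FinitePresentation A Y := Module.FinitePresentation.of_equiv eY'.toLinearEquiv
  let g : toD G ⟶ (truncTriangle (toD G) i).obj₃ := (truncTriangle (toD G) i).mor₂
  have hg : IsIso ((HF A i).map g) := isIso_HF_truncGEπ (toD G) i i le_rfl
  refine ⟨Y, hYfp, e.inv ≫ f ≫ g ≫ e'.hom ≫ (singleFunctorShiftIso i Y).hom, ?_⟩
  simp only [CategoryTheory.Functor.map_comp]
  have h1 : Mono ((HF A i).map g ≫ (HF A i).map e'.hom ≫
      (HF A i).map (singleFunctorShiftIso i Y).hom) := inferInstance
  have h2 : Mono ((HF A i).map f ≫ (HF A i).map g ≫ (HF A i).map e'.hom ≫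
      (HF A i).map (singleFunctorShiftIso i Y).hom) := mono_comp _ _
  exact mono_comp _ _

end Groth.Agent.Lib.Helper12
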