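import Mathlib.Algebra.Category.ModuleCat.FilteredColimits
import Mathlib.CategoryTheory.ConcreteCategory.Elementwise
import Mathlib.CategoryTheory.Limits.ConcreteCategory.Basic
import Mathlib.CategoryTheory.Limits.Types.Filtered
import Mathlib.LinearAlgebra.FreeModule.Finite.Basic

/-!
# Maps from a finite free module to a filtered colimit of modules
-/

namespace Groth.Agent.Lib.Helper12

open CategoryTheory CategoryTheory.Limits

universe u

variable {A : Type u} [CommRing A] {J : Type u} [SmallCategory J] [IsFiltered J]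
  {F : J ⥤ ModuleCat.{u} A} {c : Cocone F}

/-- a map from a finite free module to a filtered colimit factors through a stage -/
theorem exists_factor_of_finite_free (hc : IsColimit c) (M : ModuleCat.{u} A)
    [Module.Finite A M] [Module.Free A M] (ψ : M ⟶ c.pt) :
    ∃ (j : J) (ψ' : M ⟶ F.obj j), ψ' ≫ c.ι.app j = ψ := by
  classical
  let b := Module.Free.chooseBasis A M
  have h1 : ∀ i, ∃ (j : J) (m : F.obj j), c.ι.app j m = ψ (b i) := fun i =>
    Concrete.isColimit_exists_rep F hc (ψ (b i))
  choose jf mf hmf using h1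
  obtain ⟨S, hS⟩ := IsFiltered.sup_objs_exists (Finset.univ.image jf)
  have h2 : ∀ i, Nonempty (jf i ⟶ S) := fun i =>
    hS (Finset.mem_image_of_mem jf (Finset.mem_univ i))
  let g : ∀ i, jf i ⟶ S := fun i => (h2 i).some
  refine ⟨S, ModuleCat.ofHom (b.constr A (fun i => F.map (g i) (mf i))), ?_⟩
  apply ModuleCat.hom_ext
  apply b.ext
  intro i
  change c.ι.app S ((b.constr A (fun i => F.map (g i) (mf i))) (b i)) = ψ (b i)
  rw [Module.Basis.constr_basis, ← hmf i]
  have := c.w (g i)
  exact congrArg (fun φ => φ.hom (mf i)) this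

/-- a map from a finite free module to a stage which vanishes in the filtered colimit vanishes at
a later stage -/
theorem exists_eq_zero_of_finite_free (hc : IsColimit c) (M : ModuleCat.{u} A)
    [Module.Finite A M] [Module.Free A M] (j : J) (ψ' : M ⟶ F.obj j)
    (h : ψ' ≫ c.ι.app j = 0) : ∃ (j' : J) (f : j ⟶ j'), ψ' ≫ F.map f = 0 := by
  classical
  let b := Module.Free.chooseBasis A M
  have key : ∀ s : Finset (Module.Free.ChooseBasisIndex A M),
      ∃ (j' : J) (f : j ⟶ j'), ∀ i ∈ s, F.map f (ψ' (b i)) = 0 := by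
    intro s
    induction s using Finset.induction_on with
    | empty => exact ⟨j, 𝟙 j, fun i hi => by simp at hi⟩
    | insert i s hi ih =>
      obtain ⟨j', f, hf⟩ := ih
      have h0 : c.ι.app j' (F.map f (ψ' (b i))) = c.ι.app j' 0 := by
        rw [map_zero]
        have h1 := c.w f
        have h2 : c.ι.app j' (F.map f (ψ' (b i))) = c.ι.app j (ψ' (b i)) :=
          congrArg (fun φ => φ.hom (ψ' (b i))) h1
        rw [h2]
        exact congrArg (fun φ => φ.hom (b i)) h
      obtain ⟨k, f', g', hk⟩ := Concrete.isColimit_exists_of_rep_eq F hc _ _ h0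
      rw [map_zero] at hk
      refine ⟨k, f ≫ f', fun i' hi' => ?_⟩
      rw [F.map_comp]
      change F.map f' (F.map f (ψ' (b i'))) = 0
      rcases Finset.mem_insert.1 hi' with rfl | hi''
      · exact hk
      · rw [hf i' hi'', map_zero]
  obtain ⟨j', f, hf⟩ := key Finset.univ
  refine ⟨j', f, ?_⟩
  apply ModuleCat.hom_ext
  apply b.ext
  intro i
  exact hf i (Finset.mem_univ i)

end Groth.Agent.Lib.Helper12
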