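import Groth.Agent.Lib.Helper12.FilteredHom
import Groth.Agent.Lib.Helper12.ModuleColimFinite
import Groth.Agent.Lib.Helper12.DRingStrip
import Groth.Agent.Lib.Helper12.DRingTower
import Mathlib.Algebra.Homology.DerivedCategory.FullyFaithful

/-!
# `Hom(K, -)` and filtered colimits of modules, for `K` pseudo-coherent
-/

namespace Groth.Agent.Lib.Helper12

open CategoryTheory CategoryTheory.Limits DRing CategoryTheory.Pretriangulated
open DerivedCategory

attribute [local instance] HasDerivedCategory.standard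

universe u

variable {A : Type u} [CommRing A]

/-- the functor `M ↦ M[0]` -/
noncomputable abbrev G0 (A : Type u) [CommRing A] : ModuleCat.{u} A ⥤ Dual.D A :=
  DerivedCategory.singleFunctor (ModuleCat.{u} A) 0

section Single

/-- there are no nonzero morphisms `P[-q] → N[0]` for `P` projective and `q ≠ 0` -/
lemma hom_single_eq_zero (q : ℤ) (hq : q ≠ 0) (P : ModuleCat.{u} A) [Module.Projective A P]
    (N : ModuleCat.{u} A)
    (x : (DerivedCategory.singleFunctor (ModuleCat.{u} A) q).obj P ⟶ (G0 A).obj N) : x = 0 := by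
  have hK : (singleCx q P).IsKProjective :=
    isKProjective_of_vanishesAbove _ q
      (vanishesAbove_of_vanishesOutside (vanishesOutside_singleCx q P))
      (projective_singleCx_X q P inferInstance)
  obtain ⟨φ, hφ⟩ := exists_map_of_isKProjective (singleCx q P) (singleCx 0 N)
    ((toDSingleIso' q P).hom ≫ x ≫ (toDSingleIso' 0 N).inv)
  have hφ0 : φ = 0 := by
    refine HomologicalComplex.hom_ext _ _ (fun j => ?_)
    by_cases hj : j = q
    · subst hj
      exact (isZero_singleCx_X 0 N j hq).eq_of_tgt _ _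
    · exact (isZero_singleCx_X q P j hj).eq_of_src _ _
  rw [hφ0, CategoryTheory.Functor.map_zero] at hφ
  have h1 : (toDSingleIso' q P).hom ≫ x ≫ (toDSingleIso' 0 N).inv = 0 := hφ.symm
  rw [← cancel_epi (toDSingleIso' q P).hom, ← cancel_mono (toDSingleIso' 0 N).inv, Category.assoc,
    h1, comp_zero, zero_comp]

variable {J : Type u} [SmallCategory J] [IsFiltered J] {F : J ⥤ ModuleCat.{u} A} {c : Cocone F}

lemma fSurj_single (hc : IsColimit c) (q : ℤ) (M : ModuleCat.{u} A) [Module.Finite A M]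
    [Module.Free A M] :
    FSurj (G0 A) F c ((DerivedCategory.singleFunctor (ModuleCat.{u} A) q).obj M) := by
  by_cases hq : q = 0
  · subst hq
    intro x
    obtain ⟨ψ, rfl⟩ := (G0 A).map_surjective x
    obtain ⟨j, ψ', hψ'⟩ := exists_factor_of_finite_free hc M ψ
    refine ⟨j, (G0 A).map ψ', ?_⟩
    unfold Gι
    rw [← CategoryTheory.Functor.map_comp, hψ']
  · exact fSurj_of_hom_eq_zero (fun N x => hom_single_eq_zero q hq M N x)

lemma fInj_single (hc : IsColimit c) (q : ℤ) (M : ModuleCat.{u} A) [Module.Finite A M]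
    [Module.Free A M] :
    FInj (G0 A) F c ((DerivedCategory.singleFunctor (ModuleCat.{u} A) q).obj M) := by
  by_cases hq : q = 0
  · subst hq
    intro j y hy
    obtain ⟨ψ', rfl⟩ := (G0 A).map_surjective y
    unfold Gι at hy
    rw [← CategoryTheory.Functor.map_comp] at hy
    have h0 : ψ' ≫ c.ι.app j = 0 := (G0 A).map_injective (by
      rw [hy, CategoryTheory.Functor.map_zero])
    obtain ⟨j', f, hf⟩ := exists_eq_zero_of_finite_free hc M j ψ' h0
    refine ⟨j', f, ?_⟩
    rw [← CategoryTheory.Functor.map_comp, hf, CategoryTheory.Functor.map_zero]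
  · exact fInj_of_hom_eq_zero (fun N x => hom_single_eq_zero q hq M N x)

end Single

section FBij

variable {J : Type u} [SmallCategory J] [IsFiltered J] (F : J ⥤ ModuleCat.{u} A) (c : Cocone F)

/-- both properties, for all shifts of `X` -/
def FBij (X : Dual.D A) : Prop :=
  ∀ k : ℤ, FSurj (G0 A) F c (X⟦k⟧) ∧ FInj (G0 A) F c (X⟦k⟧)

variable {F c}

lemma FBij.of_iso {X Y : Dual.D A} (e : X ≅ Y) (h : FBij F c X) : FBij F c Y := fun k =>
  ⟨(h k).1.of_iso ((shiftFunctor (Dual.D A) k).mapIso e),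
    (h k).2.of_iso ((shiftFunctor (Dual.D A) k).mapIso e)⟩

lemma FBij.shift {X : Dual.D A} (h : FBij F c X) (n : ℤ) : FBij F c (X⟦n⟧) := fun k =>
  ⟨(h (n + k)).1.of_iso ((shiftFunctorAdd' (Dual.D A) n k (n + k) rfl).app X),
    (h (n + k)).2.of_iso ((shiftFunctorAdd' (Dual.D A) n k (n + k) rfl).app X)⟩

lemma fBij_of_isZero {X : Dual.D A} (hX : IsZero X) : FBij F c X := fun k =>
  ⟨fSurj_of_isZero ((shiftFunctor (Dual.D A) k).map_isZero hX),
    fInj_of_isZero ((shiftFunctor (Dual.D A) k).map_isZero hX)⟩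

theorem fBij_of_distTriang (T : Triangle (Dual.D A)) (hT : T ∈ distTriang (Dual.D A))
    (h1 : FBij F c T.obj₁) (h3 : FBij F c T.obj₃) : FBij F c T.obj₂ := by
  intro k
  have hTk := Triangle.shift_distinguished T hT k
  constructor
  · exact fSurj_of_distTriang _ hTk (h1 k).1 (h3 k).1 ((h3.shift k) (-1)).2
  · exact fInj_of_distTriang _ hTk (h1 k).2 (h3 k).2 ((h1.shift k) 1).1

lemma fBij_single (hc : IsColimit c) (q : ℤ) (M : ModuleCat.{u} A) [Module.Finite A M]
    [Module.Free A M] :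
    FBij F c ((DerivedCategory.singleFunctor (ModuleCat.{u} A) q).obj M) := by
  intro k
  have e : ((DerivedCategory.singleFunctor (ModuleCat.{u} A) q).obj M)⟦k⟧ ≅
      (DerivedCategory.singleFunctor (ModuleCat.{u} A) (q - k)).obj M :=
    ((DerivedCategory.singleFunctors (ModuleCat.{u} A)).shiftIso k (q - k) q (by omega)).app M
  exact ⟨(fSurj_single hc (q - k) M).of_iso e.symm, (fInj_single hc (q - k) M).of_iso e.symm⟩

/-- bounded complexes of finite free modules satisfy `FBij` -/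
theorem fBij_toD_of_bounded_ff (hc : IsColimit c) : ∀ (n : ℕ) (E : Cx A) (a b : ℤ),
    VanishesOutside E a b → TermwiseFiniteFree E → b < a + n → FBij F c (toD E) := by
  intro n
  induction n with
  | zero =>
    intro E a b hE _ hab
    refine fBij_of_isZero (isZero_of_forall_isZero_HF _ (fun i => ?_))
    refine isZero_HF_toD_of_isZero_X E i (hE i ?_)
    simp at hab
    omega
  | succ n ih =>
    intro E a b hE hff hab
    by_cases hba : b < a
    · refine fBij_of_isZero (isZero_of_forall_isZero_HF _ (fun i => ?_))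
      exact isZero_HF_toD_of_isZero_X E i (hE i (by omega))
    · have h0 : IsZero (E.X (b + 1)) := hE (b + 1) (Or.inr (by omega))
      have hT := topTriangle_distinguished E b h0
      have h1 : FBij F c (topTriangle E b h0).obj₁ := by
        have := (hff b).1
        have := (hff b).2
        exact (fBij_single hc b (E.X b)).of_iso (toDSingleIso' b (E.X b)).symm
      have h3 : FBij F c (topTriangle E b h0).obj₃ := by
        refine ih (topCoker E b h0) a (b - 1) ?_ (termwiseFiniteFree_topCoker hff b h0)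
          (by push_cast at hab; omega)
        intro i hi
        rcases hi with hi | hi
        · exact isZero_topCoker_X E b h0 i (hE i (Or.inl hi))
        · exact vanishesAbove_topCoker (vanishesAbove_of_vanishesOutside hE) i hi
      exact fBij_of_distTriang _ hT h1 h3

end FBij

section Conn

variable {J : Type u} [SmallCategory J] [IsFiltered J] {F : J ⥤ ModuleCat.{u} A} {c : Cocone F}

lemma isLE_of_isZero_HF (X : Dual.D A) (p : ℤ) (h : ∀ i : ℤ, p < i → IsZero ((HF A i).obj X)) :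
    X.IsLE p := by
  rw [DerivedCategory.isLE_iff]
  exact h

lemma isGE_G0 (N : ModuleCat.{u} A) : ((G0 A).obj N).IsGE 0 := by
  rw [DerivedCategory.isGE_iff]
  intro i hi
  exact isZero_HF_single 0 N i (by omega)

/-- no morphisms from an object with cohomology in negative degrees to a module -/
lemma hom_G0_eq_zero (X : Dual.D A) (h : ∀ i : ℤ, 0 ≤ i → IsZero ((HF A i).obj X))
    (N : ModuleCat.{u} A) (x : X ⟶ (G0 A).obj N) : x = 0 := by
  have h1 : X.IsLE (-1) := isLE_of_isZero_HF X (-1) (fun i hi => h i (by omega))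
  have h2 := isGE_G0 N
  exact (TStructure.t : Triangulated.TStructure (Dual.D A)).zero x (-1) 0 (by omega)

lemma isZero_HF_shift (X : Dual.D A) (n i : ℤ) (h : IsZero ((HF A (n + i)).obj X)) :
    IsZero ((HF A i).obj (X⟦n⟧)) :=
  h.of_iso ((HFShiftIso (A := A) n i (n + i) rfl).app X)

/-- precomposition with a `p`-connected map, `p ≤ 0`, is injective on morphisms to a module -/
lemma IsConn.hom_G0_injective {X Y : Dual.D A} {β : X ⟶ Y} {p : ℤ} (hβ : IsConn p β) (hp : p ≤ 0)
    (N : ModuleCat.{u} A) (y : Y ⟶ (G0 A).obj N) (hy : β ≫ y = 0) : y = 0 := by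
  obtain ⟨C, u, v, hT⟩ := distinguished_cocone_triangle β
  obtain ⟨g, hg⟩ := Triangle.yoneda_exact₂ _ hT y hy
  have hg0 : g = 0 := hom_G0_eq_zero C (fun i hi => IsConn.cone _ hT hβ i (by omega)) N g
  rw [hg, hg0]
  exact comp_zero

/-- precomposition with a `p`-connected map, `p < 0`, is surjective on morphisms to a module -/
lemma IsConn.hom_G0_surjective {X Y : Dual.D A} {β : X ⟶ Y} {p : ℤ} (hβ : IsConn p β) (hp : p < 0)
    (N : ModuleCat.{u} A) (y' : X ⟶ (G0 A).obj N) : ∃ y : Y ⟶ (G0 A).obj N, β ≫ y = y' := by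
  obtain ⟨C, u, v, hT⟩ := distinguished_cocone_triangle β
  have h0 : invRotMor (Triangle.mk β u v) ≫ y' = 0 :=
    hom_G0_eq_zero _ (fun i hi => isZero_HF_shift C (-1) i
      (IsConn.cone _ hT hβ (-1 + i) (by omega))) N _
  obtain ⟨g, hg⟩ := exists_extension _ hT y' h0
  exact ⟨g, hg.symm⟩

/-- the comparison for a pseudo-coherent object -/
theorem fInj_shift_of_isPseudoCoherent (hc : IsColimit c) {m : ℤ} {K : Dual.D A}
    (hK : IsPseudoCoherent A m K) (k : ℤ) (hk : m ≤ k) : FInj (G0 A) F c (K⟦k⟧) := by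
  obtain ⟨E, a, b, α, hE, hff, hα'⟩ := hK
  have hα : IsConn m α := hα'
  have hαk : IsConn (m - k) (α⟦k⟧') := hα.shift k
  have hEb := fBij_toD_of_bounded_ff (F := F) (c := c) hc (b - a + 1).toNat E a b hE hff (by omega)
  intro j y hy
  obtain ⟨j', f, hf⟩ := (hEb k).2 j (α⟦k⟧' ≫ y) (by rw [Category.assoc, hy, comp_zero])
  refine ⟨j', f, ?_⟩
  exact hαk.hom_G0_injective (by omega) _ _ (by rw [← Category.assoc]; exact hf)

theorem fSurj_shift_of_isPseudoCoherent (hc : IsColimit c) {m : ℤ} {K : Dual.D A}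
    (hK : IsPseudoCoherent A m K) (k : ℤ) (hk : m < k) : FSurj (G0 A) F c (K⟦k⟧) := by
  obtain ⟨E, a, b, α, hE, hff, hα'⟩ := hK
  have hα : IsConn m α := hα'
  have hαk : IsConn (m - k) (α⟦k⟧') := hα.shift k
  have hEb := fBij_toD_of_bounded_ff (F := F) (c := c) hc (b - a + 1).toNat E a b hE hff (by omega)
  intro x
  obtain ⟨j, y', hy'⟩ := (hEb k).1 (α⟦k⟧' ≫ x)
  obtain ⟨y, hy⟩ := hαk.hom_G0_surjective (by omega) _ y'
  refine ⟨j, y, ?_⟩
  have h1 : α⟦k⟧' ≫ (y ≫ Gι (G0 A) F c j - x) = 0 := by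
    rw [Preadditive.comp_sub, ← Category.assoc, hy, hy', sub_self]
  have h2 := hαk.hom_G0_injective (by omega) _ _ h1
  exact sub_eq_zero.1 h2

end Conn

section Translate

/-- move a shift from the target to the source -/
noncomputable def shiftHom {K Y : Dual.D A} (n : ℤ) (x : K ⟶ Y⟦n⟧) : K⟦-n⟧ ⟶ Y :=
  x⟦-n⟧' ≫ (shiftFunctorCompIsoId (Dual.D A) n (-n) (add_neg_cancel n)).hom.app Y

lemma shiftHom_comp {K Y Y' : Dual.D A} (n : ℤ) (x : K ⟶ Y⟦n⟧) (g : Y ⟶ Y') :
    shiftHom n (x ≫ g⟦n⟧') = shiftHom n x ≫ g := by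
  unfold shiftHom
  rw [CategoryTheory.Functor.map_comp, Category.assoc, Category.assoc]
  congr 1
  exact (shiftFunctorCompIsoId (Dual.D A) n (-n) (add_neg_cancel n)).hom.naturality g

lemma shiftHom_zero {K Y : Dual.D A} (n : ℤ) : shiftHom n (0 : K ⟶ Y⟦n⟧) = 0 := by
  unfold shiftHom
  rw [CategoryTheory.Functor.map_zero, zero_comp]

lemma shiftHom_injective {K Y : Dual.D A} (n : ℤ) :
    Function.Injective (shiftHom n : (K ⟶ Y⟦n⟧) → (K⟦-n⟧ ⟶ Y)) := by
  intro x x' h
  unfold shiftHom at h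
  rw [cancel_mono] at h
  exact (shiftFunctor (Dual.D A) (-n)).map_injective h

lemma shiftHom_surjective {K Y : Dual.D A} (n : ℤ) :
    Function.Surjective (shiftHom n : (K ⟶ Y⟦n⟧) → (K⟦-n⟧ ⟶ Y)) := by
  intro y
  obtain ⟨x, hx⟩ := (shiftFunctor (Dual.D A) (-n)).map_surjective
    (y ≫ (shiftFunctorCompIsoId (Dual.D A) n (-n) (add_neg_cancel n)).inv.app Y)
  refine ⟨x, ?_⟩
  unfold shiftHom
  rw [hx, Category.assoc, Iso.inv_hom_id_app]
  exact Category.comp_id y

variable {J : Type u} [SmallCategory J] [IsFiltered J] {F : J ⥤ ModuleCat.{u} A} {c : Cocone F}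

/-- **`Ext` out of an `m`-pseudo-coherent object and filtered colimits.** -/
theorem ext_filteredColimit_comparison (hc : IsColimit c) (m : ℤ) (K : Dual.D A)
    (hK : IsPseudoCoherent A m K) :
    (∀ n : ℤ, n < -m → ∀ x : K ⟶ ((G0 A).obj c.pt)⟦n⟧,
      ∃ (j : J) (y : K ⟶ ((G0 A).obj (F.obj j))⟦n⟧), y ≫ ((G0 A).map (c.ι.app j))⟦n⟧' = x) ∧
    (∀ n : ℤ, n ≤ -m → ∀ (j : J) (y : K ⟶ ((G0 A).obj (F.obj j))⟦n⟧),
      y ≫ ((G0 A).map (c.ι.app j))⟦n⟧' = 0 →
      ∃ (j' : J) (f : j ⟶ j'), y ≫ ((G0 A).map (F.map f))⟦n⟧' = 0) := by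
  constructor
  · intro n hn x
    obtain ⟨j, y', hy'⟩ := fSurj_shift_of_isPseudoCoherent (F := F) (c := c) hc hK (-n) (by omega)
      (shiftHom n x)
    obtain ⟨y, rfl⟩ := shiftHom_surjective n y'
    refine ⟨j, y, shiftHom_injective n ?_⟩
    rw [shiftHom_comp]
    exact hy'
  · intro n hn j y hy
    obtain ⟨j', f, hf⟩ := fInj_shift_of_isPseudoCoherent (F := F) (c := c) hc hK (-n) (by omega) j
      (shiftHom n y) (by
        have := shiftHom_comp n y ((G0 A).map (c.ι.app j))
        rw [hy, shiftHom_zero] at this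
        exact this.symm)
    refine ⟨j', f, shiftHom_injective n ?_⟩
    rw [shiftHom_comp, shiftHom_zero]
    exact hf

end Translate

end Groth.Agent.Lib.Helper12
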