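import Groth.Agent.Lib.Helper12.DRingPCModule

/-!
# Peeling off the top term of a bounded-above complex

For `E : Cx A` with `E.X (b+1) = 0`, `fromTop E b h : single_b (E.X b) ⟶ E` is a degreewise
monomorphism, its cokernel `topCoker E b h` has terms `E.X n` for `n ≠ b` and `0` for `n = b`, and
`topTriangle` is the associated distinguished triangle in `D(A)`.
-/

namespace Groth.Agent.Lib.Helper12

open CategoryTheory CategoryTheory.Limits DRing CategoryTheory.Pretriangulated

attribute [local instance] HasDerivedCategory.standard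

universe u

variable {A : Type u} [CommRing A]

/-- inclusion of the top term -/
noncomputable def fromTop (E : Cx A) (b : ℤ) (h : IsZero (E.X (b + 1))) :
    singleCx b (E.X b) ⟶ E :=
  HomologicalComplex.mkHomFromSingle (𝟙 _) (by
    intro i hi
    have hi' : b + 1 = i := hi
    subst hi'
    exact h.eq_of_tgt _ _)

lemma isIso_fromTop_f_self (E : Cx A) (b : ℤ) (h : IsZero (E.X (b + 1))) :
    IsIso ((fromTop E b h).f b) := by
  rw [fromTop, HomologicalComplex.mkHomFromSingle_f]
  infer_instance

instance mono_fromTop (E : Cx A) (b : ℤ) (h : IsZero (E.X (b + 1))) : Mono (fromTop E b h) := by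
  apply HomologicalComplex.mono_of_mono_f
  intro n
  by_cases hn : n = b
  · subst hn
    have := isIso_fromTop_f_self E n h
    infer_instance
  · exact ⟨fun _ _ _ => (isZero_singleCx_X b _ n hn).eq_of_tgt _ _⟩

/-- the cokernel of `fromTop`: brutal truncation `σ_{<b} E` -/
noncomputable def topCoker (E : Cx A) (b : ℤ) (h : IsZero (E.X (b + 1))) : Cx A :=
  cokernel (fromTop E b h)

/-- `(topCoker E b h).X n ≅ cokernel ((fromTop E b h).f n)` -/
noncomputable def topCokerXIso (E : Cx A) (b : ℤ) (h : IsZero (E.X (b + 1))) (n : ℤ) :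
    (topCoker E b h).X n ≅ cokernel ((fromTop E b h).f n) :=
  PreservesCokernel.iso (HomologicalComplex.eval _ _ n) (fromTop E b h)

lemma isZero_topCoker_X_self (E : Cx A) (b : ℤ) (h : IsZero (E.X (b + 1))) :
    IsZero ((topCoker E b h).X b) := by
  have := isIso_fromTop_f_self E b h
  exact IsZero.of_iso (isZero_cokernel_of_epi _) (topCokerXIso E b h b)

/-- for `n ≠ b`, `(topCoker E b h).X n ≅ E.X n` -/
noncomputable def topCokerXIsoOfNe (E : Cx A) (b : ℤ) (h : IsZero (E.X (b + 1))) (n : ℤ)
    (hn : n ≠ b) : (topCoker E b h).X n ≅ E.X n := by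
  have h0 : (fromTop E b h).f n = 0 := (isZero_singleCx_X b _ n hn).eq_of_src _ _
  exact topCokerXIso E b h n ≪≫ cokernel.mapIso _ (0 : (singleCx b (E.X b)).X n ⟶ E.X n)
    (Iso.refl _) (Iso.refl _) (by simp [h0]) ≪≫ cokernelZeroIsoTarget

lemma isZero_topCoker_X (E : Cx A) (b : ℤ) (h : IsZero (E.X (b + 1))) (n : ℤ)
    (hn : IsZero (E.X n)) : IsZero ((topCoker E b h).X n) := by
  by_cases hnb : n = b
  · subst hnb; exact isZero_topCoker_X_self E n h
  · exact IsZero.of_iso hn (topCokerXIsoOfNe E b h n hnb)

/-- the short complex `0 → E^b[-b] → E → σ_{<b}E → 0` -/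
noncomputable def topSC (E : Cx A) (b : ℤ) (h : IsZero (E.X (b + 1))) :
    ShortComplex (Cx A) :=
  ShortComplex.mk (fromTop E b h) (cokernel.π (fromTop E b h)) (cokernel.condition _)

lemma topSC_shortExact (E : Cx A) (b : ℤ) (h : IsZero (E.X (b + 1))) :
    (topSC E b h).ShortExact := by
  have : Mono (topSC E b h).f := by dsimp [topSC]; infer_instance
  have : Epi (topSC E b h).g := by dsimp [topSC]; infer_instance
  exact ShortComplex.ShortExact.mk
    (ShortComplex.exact_of_g_is_cokernel _ (cokernelIsCokernel (fromTop E b h)))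

/-- the distinguished triangle `E^b[-b] → E → σ_{<b}E →` in `D(A)` -/
noncomputable def topTriangle (E : Cx A) (b : ℤ) (h : IsZero (E.X (b + 1))) :
    Triangle (Dual.D A) :=
  DerivedCategory.triangleOfSES (topSC_shortExact E b h)

lemma topTriangle_distinguished (E : Cx A) (b : ℤ) (h : IsZero (E.X (b + 1))) :
    topTriangle E b h ∈ distTriang (Dual.D A) :=
  DerivedCategory.triangleOfSES_distinguished _

lemma topTriangle_obj₁ (E : Cx A) (b : ℤ) (h : IsZero (E.X (b + 1))) :
    (topTriangle E b h).obj₁ = toD (singleCx b (E.X b)) := rfl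

lemma topTriangle_obj₂ (E : Cx A) (b : ℤ) (h : IsZero (E.X (b + 1))) :
    (topTriangle E b h).obj₂ = toD E := rfl

lemma topTriangle_obj₃ (E : Cx A) (b : ℤ) (h : IsZero (E.X (b + 1))) :
    (topTriangle E b h).obj₃ = toD (topCoker E b h) := rfl

lemma vanishesAbove_topCoker {E : Cx A} {b : ℤ} (hE : VanishesAbove E b) :
    VanishesAbove (topCoker E b (hE (b + 1) (by omega))) (b - 1) := by
  intro n hn
  by_cases hnb : n = b
  · subst hnb; exact isZero_topCoker_X_self E n _
  · exact isZero_topCoker_X E b _ n (hE n (by omega))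

/-- `H^i(toD E) = 0` above the bound -/
lemma isZero_HF_toD_of_vanishesAbove {E : Cx A} {b : ℤ} (hE : VanishesAbove E b) (i : ℤ)
    (hi : b < i) : IsZero ((HF A i).obj (toD E)) :=
  isZero_HF_toD_of_isZero_X E i (hE i hi)

/-- Induction principle on bounded-above complexes via peeling off the top term, down to
degree `m`: to prove `Pr (toD E)`, it is enough to know `Pr` for objects with no cohomology
in degrees `≥ m`, for singles of the terms, and closure under extensions. -/
theorem boundedAbove_induction (Pr : Dual.D A → Prop) (m : ℤ)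
    (hiso : ∀ {K K' : Dual.D A}, (K ≅ K') → Pr K → Pr K')
    (hlow : ∀ K : Dual.D A, (∀ i : ℤ, m ≤ i → IsZero ((HF A i).obj K)) → Pr K)
    (hext : ∀ T : Triangle (Dual.D A), T ∈ distTriang (Dual.D A) → Pr T.obj₁ → Pr T.obj₃ →
      Pr T.obj₂)
    (E : Cx A) (b : ℤ) (hE : VanishesAbove E b)
    (hsingle : ∀ i : ℤ, m ≤ i → Pr (toD (singleCx i (E.X i)))) : Pr (toD E) := by
  suffices H : ∀ (n : ℕ) (b : ℤ) (E : Cx A), b < m + n → VanishesAbove E b →
      (∀ i : ℤ, m ≤ i → Pr (toD (singleCx i (E.X i)))) → Pr (toD E) by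
    exact H (b - m + 1).toNat b E (by omega) hE hsingle
  intro n
  induction n with
  | zero =>
    intro b E hb hE _
    apply hlow
    intro i hi
    exact isZero_HF_toD_of_vanishesAbove hE i (by simp at hb; omega)
  | succ n ih =>
    intro b E hb hE hsingle
    by_cases hbm : b < m
    · apply hlow
      intro i hi
      exact isZero_HF_toD_of_vanishesAbove hE i (by omega)
    · have h0 : IsZero (E.X (b + 1)) := hE (b + 1) (by omega)
      have hT := topTriangle_distinguished E b h0
      refine hext _ hT (hsingle b (by omega)) ?_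
      refine ih (b - 1) (topCoker E b h0) (by push_cast at hb; omega) (vanishesAbove_topCoker hE) ?_
      intro i hi
      by_cases hib : i = b
      · subst hib
        apply hlow
        intro j _
        refine (HF A j).map_isZero (DerivedCategory.Q.map_isZero ?_)
        exact (HomologicalComplex.single _ _ i).map_isZero (isZero_topCoker_X_self E i h0)
      · exact hiso (DerivedCategory.Q.mapIso ((HomologicalComplex.single _ _ i).mapIso
          (topCokerXIsoOfNe E b h0 i hib).symm)) (hsingle i hi)

end Groth.Agent.Lib.Helper12
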