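import Groth.Agent.Lib.Helper12.DRingTower
import Mathlib.Algebra.Homology.SingleHomology

/-!
# Morphisms in `D(A)` out of a projective module placed in one degree

For a projective module `M`, morphisms `M[-k] ⟶ Z` in `D(A)` are classified by linear maps
`M ⟶ H^k(Z)`.
-/

namespace Groth.Agent.Lib.Helper12

open CategoryTheory CategoryTheory.Limits DRing CategoryTheory.Pretriangulated
open CochainComplex ZeroObject

attribute [local instance] HasDerivedCategory.standard

universe u

variable {A : Type u} [CommRing A]

section ChainLevel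

variable (k : ℤ) (M : ModuleCat.{u} A) (Z' : Cx A)

/-- the cycle-valued map attached to a chain map from a single complex -/
noncomputable def singleCyc (γ : singleCx k M ⟶ Z') : M ⟶ Z'.cycles k :=
  Z'.liftCycles ((HomologicalComplex.singleObjXSelf (ComplexShape.up ℤ) k M).inv ≫ γ.f k) (k + 1)
    (by simp) (by
      rw [Category.assoc, γ.comm k (k + 1), HomologicalComplex.single_obj_d, zero_comp, comp_zero])

/-- the homology class of a chain map from a single complex -/
noncomputable def singleCls (γ : singleCx k M ⟶ Z') : M ⟶ Z'.homology k :=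
  (HomologicalComplex.singleObjHomologySelfIso (ComplexShape.up ℤ) k M).inv ≫
    HomologicalComplex.homologyMap γ k

lemma singleCls_eq (γ : singleCx k M ⟶ Z') :
    singleCls k M Z' γ = singleCyc k M Z' γ ≫ Z'.homologyπ k := by
  have h1 : (HomologicalComplex.singleObjCyclesSelfIso (ComplexShape.up ℤ) k M).inv ≫
      HomologicalComplex.cyclesMap γ k = singleCyc k M Z' γ := by
    rw [← cancel_mono (Z'.iCycles k), Category.assoc, HomologicalComplex.cyclesMap_i,
      HomologicalComplex.singleObjCyclesSelfIso_inv_iCycles_assoc]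
    exact (Z'.liftCycles_i _ _ _ _).symm
  dsimp only [singleCls]
  rw [← HomologicalComplex.singleObjCyclesSelfIso_inv_homologyπ, Category.assoc,
    HomologicalComplex.homologyπ_naturality, ← Category.assoc, h1]

/-- the chain map from a single complex given by a cycle-valued map -/
noncomputable def singleOfCyc (c : M ⟶ Z'.cycles k) : singleCx k M ⟶ Z' :=
  HomologicalComplex.mkHomFromSingle (c ≫ Z'.iCycles k) (by
    intro j _
    rw [Category.assoc, HomologicalComplex.iCycles_d, comp_zero])

lemma singleCyc_singleOfCyc (c : M ⟶ Z'.cycles k) :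
    singleCyc k M Z' (singleOfCyc k M Z' c) = c := by
  rw [← cancel_mono (Z'.iCycles k)]
  dsimp only [singleCyc, singleOfCyc]
  rw [HomologicalComplex.liftCycles_i, HomologicalComplex.mkHomFromSingle_f,
    Iso.inv_hom_id_assoc]

/-- Claim A: every class is realized by a chain map (for `M` projective). -/
lemma exists_singleCls_eq [Projective M] (φ : M ⟶ Z'.homology k) :
    ∃ γ : singleCx k M ⟶ Z', singleCls k M Z' γ = φ := by
  refine ⟨singleOfCyc k M Z' (Projective.factorThru φ (Z'.homologyπ k)), ?_⟩
  rw [singleCls_eq, singleCyc_singleOfCyc, Projective.factorThru_comp]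

/-- a null-homotopy for a chain map from a single complex factoring through the differential -/
noncomputable def fromSingleNullHomotopy (γ : singleCx k M ⟶ Z') (h : M ⟶ Z'.X (k - 1))
    (hh : h ≫ Z'.d (k - 1) k =
      (HomologicalComplex.singleObjXSelf (ComplexShape.up ℤ) k M).inv ≫ γ.f k) :
    Homotopy γ 0 where
  hom i j := if hij : i = k ∧ j = k - 1 then
      eqToHom (by rw [hij.1]) ≫ (HomologicalComplex.singleObjXSelf (ComplexShape.up ℤ) k M).hom ≫
        h ≫ eqToHom (by rw [hij.2])
    else 0
  zero i j hij := by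
    rw [dif_neg]
    rintro ⟨rfl, rfl⟩
    exact hij (by simp)
  comm i := by
    by_cases hi : i = k
    · subst hi
      rw [dNext_eq _ (show (ComplexShape.up ℤ).Rel i (i + 1) by simp),
        prevD_eq _ (show (ComplexShape.up ℤ).Rel (i - 1) i by simp),
        HomologicalComplex.single_obj_d, zero_comp, zero_add, HomologicalComplex.zero_f, add_zero,
        dif_pos ⟨rfl, rfl⟩]
      simp only [eqToHom_refl, Category.id_comp, Category.comp_id, Category.assoc]
      rw [hh, Iso.hom_inv_id_assoc]
    · exact (isZero_singleCx_X k M i hi).eq_of_src _ _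

/-- Claim B: a chain map from a projective module in one degree with zero class is
null-homotopic. -/
lemma Q_map_eq_zero_of_singleCls_eq_zero [Projective M] (γ : singleCx k M ⟶ Z')
    (h0 : singleCls k M Z' γ = 0) : DerivedCategory.Q.map γ = 0 := by
  rw [singleCls_eq] at h0
  have hex : (ShortComplex.mk (Z'.toCycles (k - 1) k) (Z'.homologyπ k)
      (Z'.toCycles_comp_homologyπ (k - 1) k)).Exact :=
    ShortComplex.exact_of_g_is_cokernel _ (Z'.homologyIsCokernel (k - 1) k (by simp))
  let h : M ⟶ Z'.X (k - 1) := hex.liftFromProjective (singleCyc k M Z' γ) h0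
  have hh : h ≫ Z'.toCycles (k - 1) k = singleCyc k M Z' γ := hex.liftFromProjective_comp _ h0
  have hd : h ≫ Z'.d (k - 1) k =
      (HomologicalComplex.singleObjXSelf (ComplexShape.up ℤ) k M).inv ≫ γ.f k := by
    rw [← Z'.toCycles_i (k - 1) k, ← Category.assoc, hh]
    exact Z'.liftCycles_i _ _ _ _
  rw [DerivedCategory.Q_map_eq_of_homotopy _ (fromSingleNullHomotopy k M Z' γ h hd),
    CategoryTheory.Functor.map_zero]

end ChainLevel

section DLevel

/-- `H^k(Q X) ≅ H^k(X)` with clean types -/
noncomputable def HFQIso (k : ℤ) (X : Cx A) : (HF A k).obj (toD X) ≅ X.homology k :=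
  (DerivedCategory.homologyFunctorFactors (ModuleCat.{u} A) k).app X

lemma HFQIso_hom_naturality (k : ℤ) {X Y : Cx A} (f : X ⟶ Y) :
    (HF A k).map (DerivedCategory.Q.map f) ≫ (HFQIso k Y).hom =
      (HFQIso k X).hom ≫ HomologicalComplex.homologyMap f k :=
  (DerivedCategory.homologyFunctorFactors (ModuleCat.{u} A) k).hom.naturality f

lemma HFQIso_inv_naturality (k : ℤ) {X Y : Cx A} (f : X ⟶ Y) :
    HomologicalComplex.homologyMap f k ≫ (HFQIso k Y).inv =
      (HFQIso k X).inv ≫ (HF A k).map (DerivedCategory.Q.map f) :=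
  (DerivedCategory.homologyFunctorFactors (ModuleCat.{u} A) k).inv.naturality f

variable (k : ℤ) (M : ModuleCat.{u} A)

/-- the tautological class `M ⟶ H^k(M[-k])` -/
noncomputable def singleσ : M ⟶ (HF A k).obj (toD (singleCx k M)) :=
  (HomologicalComplex.singleObjHomologySelfIso (ComplexShape.up ℤ) k M).inv ≫
    (HFQIso k (singleCx k M)).inv

lemma singleσ_naturality {M M' : ModuleCat.{u} A} (u : M ⟶ M') :
    singleσ k M ≫ (HF A k).map (DerivedCategory.Q.map
      ((HomologicalComplex.single (ModuleCat.{u} A) (ComplexShape.up ℤ) k).map u)) =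
    u ≫ singleσ k M' := by
  dsimp only [singleσ]
  have h2 : u ≫ (HomologicalComplex.singleObjHomologySelfIso (ComplexShape.up ℤ) k M').inv =
      (HomologicalComplex.singleObjHomologySelfIso (ComplexShape.up ℤ) k M).inv ≫
        HomologicalComplex.homologyMap
          ((HomologicalComplex.single (ModuleCat.{u} A) (ComplexShape.up ℤ) k).map u) k :=
    (HomologicalComplex.singleObjHomologySelfIso_inv_naturality (ComplexShape.up ℤ) k u).symm
  rw [Category.assoc, ← HFQIso_inv_naturality, ← Category.assoc, ← h2, Category.assoc]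

variable {k M}

/-- the class `M ⟶ H^k(Z)` of a morphism `M[-k] ⟶ Z` in `D(A)` -/
noncomputable def homClass {Z : Dual.D A} (g : toD (singleCx k M) ⟶ Z) : M ⟶ (HF A k).obj Z :=
  singleσ k M ≫ (HF A k).map g

lemma homClass_comp {Z Z' : Dual.D A} (g : toD (singleCx k M) ⟶ Z) (f : Z ⟶ Z') :
    homClass (g ≫ f) = homClass g ≫ (HF A k).map f := by
  dsimp only [homClass]
  rw [CategoryTheory.Functor.map_comp, Category.assoc]

lemma homClass_precomp {M' : ModuleCat.{u} A} (u : M ⟶ M') {Z : Dual.D A}
    (g : toD (singleCx k M') ⟶ Z) :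
    homClass (DerivedCategory.Q.map
      ((HomologicalComplex.single (ModuleCat.{u} A) (ComplexShape.up ℤ) k).map u) ≫ g) =
    u ≫ homClass g := by
  dsimp only [homClass]
  rw [CategoryTheory.Functor.map_comp, ← Category.assoc, singleσ_naturality, Category.assoc]

lemma homClass_Q_map (Z' : Cx A) (γ : singleCx k M ⟶ Z') :
    homClass (DerivedCategory.Q.map γ) = singleCls k M Z' γ ≫ (HFQIso k Z').inv := by
  dsimp only [homClass, singleσ, singleCls]
  rw [Category.assoc, Category.assoc, HFQIso_inv_naturality]

lemma projective_of_moduleProjective (M : ModuleCat.{u} A) [Module.Projective A M] :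
    Projective M :=
  (IsProjective.iff_projective (R := A) (P := M)).1 inferInstance

lemma isKProjective_singleCx_of_projective (k : ℤ) (M : ModuleCat.{u} A)
    [hM : Module.Projective A M] : (singleCx k M).IsKProjective :=
  isKProjective_of_vanishesAbove (singleCx k M) k
    (fun i hi => isZero_singleCx_X k M i (by omega)) (projective_singleCx_X k M hM)

theorem homClass_surjective [Module.Projective A M] (Z : Dual.D A) :
    Function.Surjective (homClass (k := k) (M := M) (Z := Z)) := by
  intro φ
  have := projective_of_moduleProjective M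
  let Z' : Cx A := DerivedCategory.Q.objPreimage Z
  let e : toD Z' ≅ Z := DerivedCategory.Q.objObjPreimageIso Z
  obtain ⟨γ, hγ⟩ := exists_singleCls_eq k M Z' (φ ≫ (HF A k).map e.inv ≫ (HFQIso k Z').hom)
  refine ⟨DerivedCategory.Q.map γ ≫ e.hom, ?_⟩
  rw [homClass_comp, homClass_Q_map, hγ]
  simp only [Category.assoc, Iso.hom_inv_id_assoc]
  rw [← CategoryTheory.Functor.map_comp, e.inv_hom_id, CategoryTheory.Functor.map_id,
    Category.comp_id]

theorem homClass_eq_zero_iff [Module.Projective A M] {Z : Dual.D A}
    (g : toD (singleCx k M) ⟶ Z) : homClass g = 0 ↔ g = 0 := by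
  constructor
  · intro h0
    have := projective_of_moduleProjective M
    let Z' : Cx A := DerivedCategory.Q.objPreimage Z
    let e : toD Z' ≅ Z := DerivedCategory.Q.objObjPreimageIso Z
    have := isKProjective_singleCx_of_projective k M
    obtain ⟨γ, hγ⟩ := exists_map_of_isKProjective (singleCx k M) Z' (g ≫ e.inv)
    have h1 : singleCls k M Z' γ = 0 := by
      have h2 := homClass_Q_map Z' γ
      rw [hγ, homClass_comp, h0, zero_comp] at h2
      rw [← cancel_mono (HFQIso k Z').inv, ← h2, zero_comp]
    have h3 := Q_map_eq_zero_of_singleCls_eq_zero k M Z' γ h1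
    rw [hγ] at h3
    rw [← cancel_mono e.inv, h3, zero_comp]
  · rintro rfl
    dsimp only [homClass]
    rw [CategoryTheory.Functor.map_zero, comp_zero]

theorem homClass_injective [Module.Projective A M] (Z : Dual.D A) :
    Function.Injective (homClass (k := k) (M := M) (Z := Z)) := by
  intro g g' h
  rw [← sub_eq_zero, ← homClass_eq_zero_iff]
  dsimp only [homClass] at h ⊢
  rw [CategoryTheory.Functor.map_sub, Preadditive.comp_sub, h, sub_self]

end DLevel

end Groth.Agent.Lib.Helper12
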