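import Groth.Agent.Lib.Helper12.DRingRestrict
import Mathlib.RingTheory.Localization.BaseChange
import Mathlib.Algebra.Module.LocalizedModule.Basic
import Mathlib.RingTheory.Localization.Away.Basic

/-!
# Base change along a localization commutes with restriction of scalars

For `π : P →+* A` and `g' : P`: `(M|_P) ⊗_P P_{g'} ≅ (M ⊗_A A_{π g'})|_{P_{g'}}`, naturally in the
`A`-module `M`, and the induced isomorphism of complexes.
-/
namespace Groth.Agent.Lib.Helper12

open CategoryTheory TensorProduct

universe u

section Abstract

/-- a semilinear comparison map between localizations at `g'` and at `π g'` is bijective -/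
theorem bijective_of_isLocalizedModule_semilinear
    {P A : Type*} [CommRing P] [CommRing A] (π : P →+* A) (g' : P)
    {N N' : Type*} [AddCommGroup N] [Module P N] [AddCommGroup N'] [Module P N']
    {M M' : Type*} [AddCommGroup M] [Module A M] [AddCommGroup M'] [Module A M']
    (fN : N →ₗ[P] N') [IsLocalizedModule (Submonoid.powers g') fN]
    (fM : M →ₗ[A] M') [IsLocalizedModule (Submonoid.powers (π g')) fM]
    (σ : N → M) (hσ : Function.Bijective σ) (hσsmul : ∀ (p : P) (n : N), σ (p • n) = π p • σ n)
    (Θ : N' →+ M') (hΘsmul : ∀ (p : P) (y : N'), Θ (p • y) = π p • Θ y)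
    (hΘf : ∀ n, Θ (fN n) = fM (σ n)) : Function.Bijective Θ := by
  have hpow : ∀ (k : ℕ) (y : N'), Θ ((g' ^ k) • y) = (π g' ^ k) • Θ y := fun k y => by
    rw [hΘsmul, map_pow]
  have hσ0 : σ 0 = 0 := by
    have := hσsmul 0 0
    simpa using this
  constructor
  · rw [injective_iff_map_eq_zero]
    intro y hy
    obtain ⟨⟨n, ⟨_, k, rfl⟩⟩, hn⟩ := IsLocalizedModule.surj (Submonoid.powers g') fN y
    have hn' : (g' ^ k) • y = fN n := hn
    have h1 : fM (σ n) = 0 := by
      rw [← hΘf, ← hn', hpow, hy, smul_zero]
    obtain ⟨⟨_, j, rfl⟩, hj⟩ := (IsLocalizedModule.eq_zero_iff (Submonoid.powers (π g')) fM).1 h1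
    have hj' : (π g' ^ j) • σ n = 0 := hj
    have h2 : σ ((g' ^ j) • n) = σ 0 := by
      rw [hσsmul, map_pow, hj', hσ0]
    have h3 : (g' ^ j) • n = 0 := hσ.1 h2
    have h4 : fN n = 0 :=
      (IsLocalizedModule.eq_zero_iff (Submonoid.powers g') fN).2 ⟨⟨_, j, rfl⟩, h3⟩
    rw [h4] at hn'
    exact IsLocalizedModule.smul_injective fN (⟨g' ^ k, k, rfl⟩ : Submonoid.powers g') (by
      change (g' ^ k) • y = (g' ^ k) • (0 : N')
      rw [hn', smul_zero])
  · intro z
    obtain ⟨⟨m, ⟨_, k, rfl⟩⟩, hm⟩ := IsLocalizedModule.surj (Submonoid.powers (π g')) fM z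
    have hm' : (π g' ^ k) • z = fM m := hm
    obtain ⟨n, rfl⟩ := hσ.2 m
    let sk : Submonoid.powers g' := ⟨g' ^ k, k, rfl⟩
    refine ⟨IsLocalizedModule.mk' fN n sk, ?_⟩
    have h1 : (g' ^ k) • IsLocalizedModule.mk' fN n sk = fN n :=
      IsLocalizedModule.mk'_cancel' fN n sk
    have h2 : (π g' ^ k) • Θ (IsLocalizedModule.mk' fN n sk) = (π g' ^ k) • z := by
      rw [← hpow, h1, hΘf, hm']
    exact IsLocalizedModule.smul_injective fM (⟨π g' ^ k, k, rfl⟩ : Submonoid.powers (π g')) h2

end Abstract



section Unit

variable {A B : Type u} [CommRing A] [CommRing B] [Algebra A B]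

/-- the `A`-linear identification `B ⊗[A] N ≃ (extSc N)|_A` -/
noncomputable def extScResEquiv (N : ModuleCat.{u} A) :
    (B ⊗[A] N) ≃ₗ[A]
      ((ModuleCat.restrictScalars (algebraMap A B)).obj ((extSc A B).obj N)) where
  toFun := fun z => (extScObjEquiv (A := A) (B := B) N).symm z
  invFun := fun x => extScObjEquiv (A := A) (B := B) N x
  map_add' := fun x y => map_add _ x y
  map_smul' := fun a z => by
    change (extScObjEquiv (A := A) (B := B) N).symm (a • z) =
      (algebraMap A B a) • (extScObjEquiv (A := A) (B := B) N).symm z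
    rw [← map_smul, algebraMap_smul]
  left_inv := fun z => (extScObjEquiv (A := A) (B := B) N).apply_symm_apply z
  right_inv := fun x => (extScObjEquiv (A := A) (B := B) N).symm_apply_apply x

lemma extScObjEquiv_tmul (N : ModuleCat.{u} A) (b : B) (n : N) :
    extScObjEquiv (A := A) (B := B) N (b ⊗ₜ[A] n : (extSc A B).obj N) = b ⊗ₜ[A] n := rfl

lemma extScObjEquiv_symm_tmul (N : ModuleCat.{u} A) (b : B) (n : N) :
    (extScObjEquiv (A := A) (B := B) N).symm (b ⊗ₜ[A] n) = (b ⊗ₜ[A] n : (extSc A B).obj N) := by
  apply (extScObjEquiv (A := A) (B := B) N).injective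
  rw [LinearEquiv.apply_symm_apply]
  rfl

theorem isLocalizedModule_unit (S : Submonoid A) [IsLocalization S B] (N : ModuleCat.{u} A) :
    IsLocalizedModule S
      ((ModuleCat.extendRestrictScalarsAdj (algebraMap A B)).unit.app N).hom := by
  have h : ((ModuleCat.extendRestrictScalarsAdj (algebraMap A B)).unit.app N).hom =
      (extScResEquiv (B := B) N).toLinearMap ∘ₗ (TensorProduct.mk A B N 1) := by
    apply LinearMap.ext
    intro n
    change _ = (extScObjEquiv (A := A) (B := B) N).symm ((1 : B) ⊗ₜ[A] n)
    rw [extScObjEquiv_symm_tmul]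
    rfl
  rw [h]
  have h0 : IsLocalizedModule S (TensorProduct.mk A B N 1) := inferInstance
  exact IsLocalizedModule.of_linearEquiv (S := S) (f := TensorProduct.mk A B N 1)
    (extScResEquiv (B := B) N)


end Unit


section Compat

variable {P A : Type u} [CommRing P] [CommRing A] (π : P →+* A) (g' : P)

/-- the induced map on localizations -/
noncomputable abbrev awayψ : Localization.Away g' →+* Localization.Away (π g') :=
  Localization.awayMap π g'

lemma awayψ_comp :
    (awayψ π g').comp (algebraMap P (Localization.Away g')) =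
      (algebraMap A (Localization.Away (π g'))).comp π := by
  ext x
  simp only [RingHom.comp_apply]
  exact IsLocalization.map_eq (S := Localization.Away g') (Q := Localization.Away (π g')) _ x

/-- `m ↦ 1 ⊗ m` as a `P`-linear map -/
noncomputable def bcβ (M : ModuleCat.{u} A) :
    (resSc π).obj M ⟶ (resSc (algebraMap P (Localization.Away g'))).obj
      ((resSc (awayψ π g')).obj ((extSc A (Localization.Away (π g'))).obj M)) :=
  ModuleCat.ofHom (X := (resSc π).obj M)
    (Y := (resSc (algebraMap P (Localization.Away g'))).obj
      ((resSc (awayψ π g')).obj ((extSc A (Localization.Away (π g'))).obj M)))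
    { toFun := fun m => (ModuleCat.extendRestrictScalarsAdj
        (algebraMap A (Localization.Away (π g')))).unit.app M m
      map_add' := fun x y => map_add _ x y
      map_smul' := fun p m => by
        change (ModuleCat.extendRestrictScalarsAdj
            (algebraMap A (Localization.Away (π g')))).unit.app M (π p • (show M from m)) =
          (awayψ π g') (algebraMap P (Localization.Away g') p) •
            (show ((extSc A (Localization.Away (π g'))).obj M) from
              (ModuleCat.extendRestrictScalarsAdj
                (algebraMap A (Localization.Away (π g')))).unit.app M m)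
        have h := congrArg (fun φ => φ p) (awayψ_comp π g')
        simp only [RingHom.comp_apply] at h
        rw [h, map_smul]
        rfl }

/-- the comparison morphism -/
noncomputable def bcθ (M : ModuleCat.{u} A) :
    (extSc P (Localization.Away g')).obj ((resSc π).obj M) ⟶
      (resSc (awayψ π g')).obj ((extSc A (Localization.Away (π g'))).obj M) :=
  ((ModuleCat.extendRestrictScalarsAdj (algebraMap P (Localization.Away g'))).homEquiv _ _).symm
    (bcβ π g' M)

lemma bcθ_one_tmul (M : ModuleCat.{u} A) (m : M) :
    bcθ π g' M ((1 : Localization.Away g') ⊗ₜ[P] (show (resSc π).obj M from m) :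
      (extSc P (Localization.Away g')).obj ((resSc π).obj M)) = bcβ π g' M m := by
  have h := ModuleCat.extendRestrictScalarsAdj_homEquiv_apply
    (f := algebraMap P (Localization.Away g')) (bcθ π g' M) m
  rw [← h]
  dsimp only [bcθ]
  rw [Equiv.apply_symm_apply]

lemma bcβ_apply (M : ModuleCat.{u} A) (m : M) :
    bcβ π g' M m = ((1 : Localization.Away (π g')) ⊗ₜ[A] m :
      (extSc A (Localization.Away (π g'))).obj M) := rfl

lemma bcθ_naturality {M N : ModuleCat.{u} A} (f : M ⟶ N) :
    (extSc P (Localization.Away g')).map ((resSc π).map f) ≫ bcθ π g' N =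
      bcθ π g' M ≫ (resSc (awayψ π g')).map ((extSc A (Localization.Away (π g'))).map f) := by
  apply ModuleCat.ExtendScalars.hom_ext
  intro m
  refine Eq.trans (bcθ_one_tmul π g' N (f (show M from m))) ?_
  refine Eq.trans ?_ (congrArg ((extSc A (Localization.Away (π g'))).map f)
    (bcθ_one_tmul π g' M m)).symm
  rfl

theorem bcθ_bijective (M : ModuleCat.{u} A) : Function.Bijective (bcθ π g' M) := by
  have hN : IsLocalizedModule (Submonoid.powers g')
      ((ModuleCat.extendRestrictScalarsAdj (algebraMap P (Localization.Away g'))).unit.app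
        ((resSc π).obj M)).hom := isLocalizedModule_unit _ _
  have hM : IsLocalizedModule (Submonoid.powers (π g'))
      ((ModuleCat.extendRestrictScalarsAdj (algebraMap A (Localization.Away (π g')))).unit.app
        M).hom := isLocalizedModule_unit _ _
  have hcomp := congrArg (fun φ => φ) (awayψ_comp π g')
  refine bijective_of_isLocalizedModule_semilinear π g'
    ((ModuleCat.extendRestrictScalarsAdj (algebraMap P (Localization.Away g'))).unit.app
        ((resSc π).obj M)).hom
    ((ModuleCat.extendRestrictScalarsAdj (algebraMap A (Localization.Away (π g')))).unit.app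
        M).hom
    (fun n => (show M from n)) Function.bijective_id (fun p n => rfl)
    (bcθ π g' M).hom.toAddMonoidHom ?_ ?_
  · intro p y
    change (bcθ π g' M).hom ((algebraMap P (Localization.Away g') p) •
        (show (extSc P (Localization.Away g')).obj ((resSc π).obj M) from y)) =
      (algebraMap A (Localization.Away (π g')) (π p)) •
        (show (extSc A (Localization.Away (π g'))).obj M from (bcθ π g' M).hom y)
    rw [map_smul]
    have h := congrArg (fun φ => φ p) (awayψ_comp π g')
    simp only [RingHom.comp_apply] at h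
    rw [← h]
    rfl
  · intro n
    exact bcθ_one_tmul π g' M n

/-- the base change isomorphism on modules -/
noncomputable def bcIso (M : ModuleCat.{u} A) :
    (extSc P (Localization.Away g')).obj ((resSc π).obj M) ≅
      (resSc (awayψ π g')).obj ((extSc A (Localization.Away (π g'))).obj M) :=
  have : IsIso (bcθ π g' M) := (ConcreteCategory.isIso_iff_bijective _).2 (bcθ_bijective π g' M)
  asIso (bcθ π g' M)

/-- the base change isomorphism on complexes -/
noncomputable def bcCxIso (K : DRing.Cx A) :
    ((extSc P (Localization.Away g')).mapHomologicalComplex (ComplexShape.up ℤ)).obj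
        ((DRing.restrictCx π).obj K) ≅
      (DRing.restrictCx (awayψ π g')).obj
        (((extSc A (Localization.Away (π g'))).mapHomologicalComplex (ComplexShape.up ℤ)).obj K) :=
  HomologicalComplex.Hom.isoOfComponents (fun i => bcIso π g' (K.X i))
    (fun i j _ => (bcθ_naturality π g' (K.d i j)).symm)

end Compat

end Groth.Agent.Lib.Helper12
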