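import Mathlib
import Groth.Prelude.Def_DDual2
import Groth.Agent.Lib.Helper12.FlatExtendScalars
import Groth.Agent.Lib.Helper12.LocalizationBaseChange
import Groth.Agent.Lib.Helper12.DerivedSingleHom

/-!
# Flat base change of Hom: module level and the class of a morphism out of a single module
-/

set_option autoImplicit false
universe u
open CategoryTheory CategoryTheory.Limits

attribute [local instance] HasDerivedCategory.standard

namespace Groth.Agent.Lib.Helper12.FlatHomBC
open Groth.Agent.Lib.Helper12 TensorProduct

variable {A B : Type u} [CommRing A] [CommRing B] [Algebra A B]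

open ModuleCat ChangeOfRings in
lemma extSc_map_smul_id (a : A) (M : ModuleCat.{u} A) :
    (extSc A B).map (a • 𝟙 M) = algebraMap A B a • 𝟙 ((extSc A B).obj M) := by
  apply ModuleCat.ExtendScalars.hom_ext
  intro m
  have h1 : ((extSc A B).map (a • 𝟙 M)) ((1 : B) ⊗ₜ[A,algebraMap A B] m) =
      (1 : B) ⊗ₜ[A,algebraMap A B] (a • m) := rfl
  refine h1.trans ?_
  have h3 := ((extendRestrictScalarsAdj (algebraMap A B)).unit.app M).hom.map_smul a m
  rw [extendRestrictScalarsAdj_unit_app_apply] at h3
  exact h3

/-- the `A`-module structure on morphisms of `B`-modules by restriction of scalars -/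
@[reducible] noncomputable def homModAMod (X Y : ModuleCat.{u} B) : Module A (X ⟶ Y) :=
  Module.compHom (X ⟶ Y) (algebraMap A B)

attribute [local instance] homModAMod

instance isScalarTower_homMod (X Y : ModuleCat.{u} B) : IsScalarTower A B (X ⟶ Y) :=
  IsScalarTower.of_algebraMap_smul fun _ _ => rfl

lemma extSc_map_smul' (a : A) {M N : ModuleCat.{u} A} (f : M ⟶ N) :
    (extSc A B).map (a • f) = algebraMap A B a • (extSc A B).map f := by
  have : a • f = (a • 𝟙 M) ≫ f := by rw [Linear.smul_comp, Category.id_comp]
  rw [this, Functor.map_comp, extSc_map_smul_id, Linear.smul_comp, Category.id_comp]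

variable (B) in
/-- extension of scalars on morphisms as an `A`-linear map -/
noncomputable def extScMapLin (M N : ModuleCat.{u} A) :
    (M ⟶ N) →ₗ[A] ((extSc A B).obj M ⟶ (extSc A B).obj N) where
  toFun f := (extSc A B).map f
  map_add' _ _ := Functor.map_add _
  map_smul' a f := extSc_map_smul' a f

/-- conjugation by `extScObjEquiv` -/
noncomputable def conjEquiv (M N : ModuleCat.{u} A) :
    ((extSc A B).obj M ⟶ (extSc A B).obj N) ≃ₗ[B] (B ⊗[A] M →ₗ[B] B ⊗[A] N) :=
  (ModuleCat.homLinearEquiv (S := B)).trans
    (LinearEquiv.arrowCongr (extScObjEquiv (A := A) (B := B) M) (extScObjEquiv (A := A) (B := B) N))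

lemma conjEquiv_extSc_map {M N : ModuleCat.{u} A} (f : M ⟶ N) :
    conjEquiv M N ((extSc A B).map f) = f.hom.baseChange B := by
  apply TensorProduct.AlgebraTensorModule.ext
  intro b m
  show extScObjEquiv N (((extSc A B).map f).hom ((extScObjEquiv M).symm (b ⊗ₜ[A] m))) = _
  rw [extScObjEquiv_symm_tmul]
  rfl

theorem bijective_liftBaseChange_extScMapLin [Module.Flat A B] (M N : ModuleCat.{u} A)
    [Module.FinitePresentation A M] :
    Function.Bijective (LinearMap.liftBaseChange B (extScMapLin B M N)) := by
  have h := Module.FinitePresentation.isBaseChange_map A M N B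
  let e₁ : B ⊗[A] (M ⟶ N) ≃ₗ[B] B ⊗[A] (M →ₗ[A] N) :=
    (ModuleCat.homLinearEquiv (S := A) (M := M) (N := N)).baseChange A B _ _
  have hcomm : ∀ x : B ⊗[A] (M ⟶ N),
      conjEquiv M N (LinearMap.liftBaseChange B (extScMapLin B M N) x) = h.equiv (e₁ x) := by
    intro x
    induction x using TensorProduct.induction_on with
    | zero => simp
    | tmul b f =>
      rw [LinearMap.liftBaseChange_tmul, map_smul]
      show b • conjEquiv M N ((extSc A B).map f) = _
      rw [conjEquiv_extSc_map]
      show _ = h.equiv (b ⊗ₜ[A] f.hom)
      rw [IsBaseChange.equiv_tmul]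
      rfl
    | add x y hx hy => rw [map_add, map_add, map_add, map_add, hx, hy]
  have h2 : Function.Bijective (fun x => conjEquiv M N
      (LinearMap.liftBaseChange B (extScMapLin B M N) x)) := by
    have : (fun x => conjEquiv M N (LinearMap.liftBaseChange B (extScMapLin B M N) x)) =
        (fun x => h.equiv (e₁ x)) := funext hcomm
    rw [this]
    exact h.equiv.bijective.comp e₁.bijective
  exact (Function.Bijective.of_comp_iff' (conjEquiv M N).bijective _).mp h2

end Groth.Agent.Lib.Helper12.FlatHomBC

namespace Groth.Agent.Lib.Helper12.FlatHomBC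
open Groth.Agent.Lib.Helper12 TensorProduct

section Linear
variable {A : Type u} [CommRing A]

instance homologyFunctor_linear' (i : ℤ) :
    (HomologicalComplex.homologyFunctor (ModuleCat.{u} A) (ComplexShape.up ℤ) i).Linear A where
  map_smul {K L} f a := by
    show HomologicalComplex.homologyMap (a • f) i = a • HomologicalComplex.homologyMap f i
    unfold HomologicalComplex.homologyMap
    have : (HomologicalComplex.shortComplexFunctor (ModuleCat.{u} A) (ComplexShape.up ℤ) i).map
        (a • f) =
        a • (HomologicalComplex.shortComplexFunctor (ModuleCat.{u} A) (ComplexShape.up ℤ) i).map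
          f := by
      ext <;> rfl
    rw [this, ShortComplex.homologyMap_smul]
    rfl

instance homologyFunctorD_linear (i : ℤ) :
    (DerivedCategory.homologyFunctor (ModuleCat.{u} A) i).Linear A := by
  have : Localization.Lifting DerivedCategory.Q
      (HomologicalComplex.quasiIso (ModuleCat.{u} A) (ComplexShape.up ℤ))
      (HomologicalComplex.homologyFunctor (ModuleCat.{u} A) (ComplexShape.up ℤ) i)
      (DerivedCategory.homologyFunctor (ModuleCat.{u} A) i) :=
    ⟨DerivedCategory.homologyFunctorFactors _ i⟩
  exact (Localization.functor_linear_iff DerivedCategory.Q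
      (HomologicalComplex.quasiIso (ModuleCat.{u} A) (ComplexShape.up ℤ)) A
      (HomologicalComplex.homologyFunctor (ModuleCat.{u} A) (ComplexShape.up ℤ) i)
      (DerivedCategory.homologyFunctor (ModuleCat.{u} A) i)).mp inferInstance

variable (k : ℤ) (M : ModuleCat.{u} A)

instance isIso_singleσ : IsIso (singleσ k M) := by
  dsimp only [singleσ]
  infer_instance

/-- `homClass` as a linear map -/
noncomputable def homClassLin (Z : Dual.D A) :
    (DRing.toD (singleCx k M) ⟶ Z) →ₗ[A] (M ⟶ (HF A k).obj Z) :=
  Linear.leftComp A _ (singleσ k M) ∘ₗ (HF A k).mapLinearMap A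

lemma homClassLin_apply (Z : Dual.D A) (g : DRing.toD (singleCx k M) ⟶ Z) :
    homClassLin k M Z g = homClass g := rfl

lemma bijective_homClassLin [Module.Projective A M] (Z : Dual.D A) :
    Function.Bijective (homClassLin k M Z) :=
  ⟨homClass_injective Z, homClass_surjective Z⟩

end Linear

end Groth.Agent.Lib.Helper12.FlatHomBC
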