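import Mathlib
import Groth.Prelude.Def_DDual2
import Groth.Agent.Lib.Helper12.FlatHomBCBase
import Groth.Agent.Lib.Helper12.DRingTop

/-!
# Flat base change of Hom in the derived category
`B ⊗_A Hom_{D(A)}(K, L) ≅ Hom_{D(B)}(K_B, L_B)` for `A → B` flat, `K` pseudo-coherent,
`L` bounded below.
-/

set_option autoImplicit false
universe u
open CategoryTheory CategoryTheory.Limits

attribute [local instance] HasDerivedCategory.standard

namespace Groth.Agent.Lib.Helper12.FlatHomBC
open Groth.Agent.Lib.Helper12

variable {A B : Type u} [CommRing A] [CommRing B] [Algebra A B]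

lemma extSc_mapHC_smul_id (a : A) (P : DRing.Cx A) :
    ((extSc A B).mapHomologicalComplex (ComplexShape.up ℤ)).map (a • 𝟙 P) =
      algebraMap A B a • 𝟙 _ := by
  ext i : 1
  exact extSc_map_smul_id a (P.X i)

variable [Module.Flat A B]

lemma extScD_map_smul_id (a : A) (K : Dual.D A) :
    (extScD A B).map (a • 𝟙 K) = algebraMap A B a • 𝟙 ((extScD A B).obj K) := by
  obtain ⟨P, ⟨e⟩⟩ : ∃ P : DRing.Cx A, Nonempty (DerivedCategory.Q.obj P ≅ K) :=
    ⟨_, ⟨DerivedCategory.Q.objObjPreimageIso K⟩⟩
  have h1 : a • 𝟙 K = e.inv ≫ DerivedCategory.Q.map (a • 𝟙 P) ≫ e.hom := by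
    rw [Functor.map_smul, CategoryTheory.Functor.map_id, Linear.smul_comp, Linear.comp_smul, Category.id_comp,
      Iso.inv_hom_id]
  have h2 : (extScD A B).map (DerivedCategory.Q.map (a • 𝟙 P)) =
      algebraMap A B a • 𝟙 _ := by
    have h := (extSc A B).mapDerivedCategoryFactors_hom_naturality (a • 𝟙 P)
    have hQ : DerivedCategory.Q.map (algebraMap A B a •
        𝟙 (((extSc A B).mapHomologicalComplex (ComplexShape.up ℤ)).obj P)) =
        algebraMap A B a • 𝟙 _ := by
      rw [Functor.map_smul, CategoryTheory.Functor.map_id]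
    rw [extSc_mapHC_smul_id, hQ, Linear.comp_smul] at h
    erw [Category.comp_id] at h
    rw [← cancel_mono ((extSc A B).mapDerivedCategoryFactors.hom.app P), h, Linear.smul_comp,
      Category.id_comp]
  rw [h1, Functor.map_comp, Functor.map_comp, h2, Linear.smul_comp, Linear.comp_smul,
    Category.id_comp, ← Functor.map_comp, Iso.inv_hom_id, CategoryTheory.Functor.map_id]

lemma extScD_map_smul (a : A) {K L : Dual.D A} (f : K ⟶ L) :
    (extScD A B).map (a • f) = algebraMap A B a • (extScD A B).map f := by
  have : a • f = (a • 𝟙 K) ≫ f := by rw [Linear.smul_comp, Category.id_comp]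
  rw [this, Functor.map_comp, extScD_map_smul_id, Linear.smul_comp, Category.id_comp]

end Groth.Agent.Lib.Helper12.FlatHomBC

namespace Groth.Agent.Lib.Helper12.FlatHomBC
open Groth.Agent.Lib.Helper12 TensorProduct

variable {A B : Type u} [CommRing A] [CommRing B] [Algebra A B] [Module.Flat A B]

/-- the `A`-module structure on morphisms of `D(B)` by restriction of scalars -/
@[reducible] noncomputable def homModA (X Y : Dual.D B) : Module A (X ⟶ Y) :=
  Module.compHom (X ⟶ Y) (algebraMap A B)

attribute [local instance] homModA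

instance isScalarTower_hom (X Y : Dual.D B) : IsScalarTower A B (X ⟶ Y) :=
  IsScalarTower.of_algebraMap_smul fun _ _ => rfl

variable (B) in
/-- the action of flat extension of scalars on morphisms, as an `A`-linear map -/
noncomputable def mapLin (K L : Dual.D A) :
    (K ⟶ L) →ₗ[A] ((extScD A B).obj K ⟶ (extScD A B).obj L) where
  toFun f := (extScD A B).map f
  map_add' _ _ := Functor.map_add _
  map_smul' a f := extScD_map_smul a f

variable (B) in
/-- the base change comparison map `B ⊗ Hom(K, L) → Hom(K_B, L_B)` -/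
noncomputable def homBC (K L : Dual.D A) :
    B ⊗[A] (K ⟶ L) →ₗ[B] ((extScD A B).obj K ⟶ (extScD A B).obj L) :=
  LinearMap.liftBaseChange B (mapLin B K L)

@[simp]
lemma homBC_tmul (K L : Dual.D A) (b : B) (f : K ⟶ L) :
    homBC B K L (b ⊗ₜ[A] f) = b • (extScD A B).map f :=
  LinearMap.liftBaseChange_tmul _ _ _ _

variable (B) in
/-- the comparison map is bijective -/
def Good (K L : Dual.D A) : Prop := Function.Bijective (homBC B K L)

lemma homBC_naturality {K K' : Dual.D A} (g : K' ⟶ K) (L : Dual.D A) :
    homBC B K' L ∘ₗ (LinearMap.baseChange B (Linear.leftComp A L g)) =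
      (Linear.leftComp B ((extScD A B).obj L) ((extScD A B).map g)) ∘ₗ homBC B K L := by
  ext f
  simp [Linear.leftComp]

lemma bijective_of_comm {α β γ δ : Type*} (f : α → β) (f' : γ → δ) (u : α → γ) (v : β → δ)
    (h : f' ∘ u = v ∘ f) (hu : Function.Bijective u) (hv : Function.Bijective v)
    (hf : Function.Bijective f) : Function.Bijective f' :=
  (Function.Bijective.of_comp_iff f' hu).mp (h ▸ hv.comp hf)

lemma bijective_baseChange_leftComp {K K' : Dual.D A} (e : K ≅ K') (L : Dual.D A) :
    Function.Bijective (LinearMap.baseChange B (Linear.leftComp A L e.hom)) := by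
  rw [Function.bijective_iff_has_inverse]
  refine ⟨LinearMap.baseChange B (Linear.leftComp A L e.inv), fun x => ?_, fun x => ?_⟩
  · rw [← LinearMap.comp_apply, ← LinearMap.baseChange_comp]
    have : Linear.leftComp A L e.inv ∘ₗ Linear.leftComp A L e.hom = LinearMap.id := by
      ext f
      simp [Linear.leftComp]
    rw [this, LinearMap.baseChange_id, LinearMap.id_apply]
  · rw [← LinearMap.comp_apply, ← LinearMap.baseChange_comp]
    have : Linear.leftComp A L e.hom ∘ₗ Linear.leftComp A L e.inv = LinearMap.id := by
      ext f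
      simp [Linear.leftComp]
    rw [this, LinearMap.baseChange_id, LinearMap.id_apply]

lemma bijective_leftComp {X X' : Dual.D B} (e : X ≅ X') (Y : Dual.D B) :
    Function.Bijective (Linear.leftComp B Y e.hom) := by
  rw [Function.bijective_iff_has_inverse]
  refine ⟨Linear.leftComp B Y e.inv, fun x => ?_, fun x => ?_⟩
  · simp [Linear.leftComp]
  · simp [Linear.leftComp]

lemma Good.of_iso {K K' : Dual.D A} (e : K ≅ K') {L : Dual.D A} (h : Good B K L) :
    Good B K' L := by
  have hn := homBC_naturality (B := B) e.inv L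
  refine bijective_of_comm (homBC B K L) (homBC B K' L) _ _ ?_
    (bijective_baseChange_leftComp e.symm L)
    (bijective_leftComp ((extScD A B).mapIso e.symm) _) h
  exact congrArg DFunLike.coe hn

lemma injective_of_comm {α β γ δ : Type*} (f : α → β) (f' : γ → δ) (u : α → γ) (v : β → δ)
    (h : f' ∘ u = v ∘ f) (hu : Function.Bijective u) (hv : Function.Injective v)
    (hf : Function.Injective f) : Function.Injective f' := by
  have h1 : Function.Injective (f' ∘ u) := h ▸ hv.comp hf
  intro x y hxy
  obtain ⟨x', rfl⟩ := hu.2 x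
  obtain ⟨y', rfl⟩ := hu.2 y
  exact congrArg u (h1 hxy)

lemma Good.of_iso_injective {K K' : Dual.D A} (e : K ≅ K') {L : Dual.D A}
    (h : Function.Injective (homBC B K L)) : Function.Injective (homBC B K' L) := by
  have hn := homBC_naturality (B := B) e.inv L
  refine injective_of_comm (homBC B K L) (homBC B K' L) _ _ ?_
    (bijective_baseChange_leftComp e.symm L)
    (bijective_leftComp ((extScD A B).mapIso e.symm) _).1 h
  exact congrArg DFunLike.coe hn

end Groth.Agent.Lib.Helper12.FlatHomBC

namespace Groth.Agent.Lib.Helper12.FlatHomBC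
open Groth.Agent.Lib.Helper12 TensorProduct Pretriangulated

section
variable {C : Type*} [Category C] [Preadditive C] [HasZeroObject C] [HasShift C ℤ]
  [∀ n : ℤ, (shiftFunctor C n).Additive] [Pretriangulated C] {R : Type*} [CommRing R] [Linear R C]

lemma exact_leftComp (T : Triangle C) (hT : T ∈ distTriang C) (Y : C) :
    Function.Exact (Linear.leftComp R Y T.mor₂) (Linear.leftComp R Y T.mor₁) := by
  intro y
  constructor
  · intro hy
    obtain ⟨z, hz⟩ := Triangle.yoneda_exact₂ T hT y hy
    exact ⟨z, hz.symm⟩
  · rintro ⟨z, rfl⟩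
    show T.mor₁ ≫ T.mor₂ ≫ z = 0
    rw [← Category.assoc, comp_distTriang_mor_zero₁₂ T hT, zero_comp]

end

variable {A B : Type u} [CommRing A] [CommRing B] [Algebra A B] [Module.Flat A B]

attribute [local instance] homModA

lemma exact_baseChange_leftComp (T : Triangle (Dual.D A)) (hT : T ∈ distTriang (Dual.D A))
    (L : Dual.D A) :
    Function.Exact (LinearMap.baseChange B (Linear.leftComp A L T.mor₂))
      (LinearMap.baseChange B (Linear.leftComp A L T.mor₁)) := by
  have h := Module.Flat.lTensor_exact B (exact_leftComp (R := A) T hT L)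
  exact h

lemma exact_leftComp_extScD (T : Triangle (Dual.D A)) (hT : T ∈ distTriang (Dual.D A))
    (Y : Dual.D B) :
    Function.Exact (Linear.leftComp B Y ((extScD A B).map T.mor₂))
      (Linear.leftComp B Y ((extScD A B).map T.mor₁)) :=
  exact_leftComp (R := B) ((extScD A B).mapTriangle.obj T) ((extScD A B).map_distinguished T hT) Y

lemma Good.of_triangle (T : Triangle (Dual.D A)) (hT : T ∈ distTriang (Dual.D A)) (L : Dual.D A)
    (h₁' : Function.Surjective (homBC B (T.obj₁⟦(1 : ℤ)⟧) L))
    (h₃ : Good B T.obj₃ L) (h₁ : Good B T.obj₁ L)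
    (h₃' : Function.Injective (homBC B (T.obj₃⟦(-1 : ℤ)⟧) L)) : Good B T.obj₂ L := by
  have hr := rot_of_distTriang T hT
  have hi := inv_rot_of_distTriang T hT
  exact LinearMap.bijective_of_surjective_of_bijective_of_bijective_of_injective
    (LinearMap.baseChange B (Linear.leftComp A L T.mor₃))
    (LinearMap.baseChange B (Linear.leftComp A L T.mor₂))
    (LinearMap.baseChange B (Linear.leftComp A L T.mor₁))
    (LinearMap.baseChange B (Linear.leftComp A L T.invRotate.mor₁))
    (Linear.leftComp B _ ((extScD A B).map T.mor₃))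
    (Linear.leftComp B _ ((extScD A B).map T.mor₂))
    (Linear.leftComp B _ ((extScD A B).map T.mor₁))
    (Linear.leftComp B _ ((extScD A B).map T.invRotate.mor₁))
    (homBC B _ L) (homBC B _ L) (homBC B _ L) (homBC B _ L) (homBC B _ L)
    (homBC_naturality T.mor₃ L).symm (homBC_naturality T.mor₂ L).symm
    (homBC_naturality T.mor₁ L).symm (homBC_naturality T.invRotate.mor₁ L).symm
    (exact_baseChange_leftComp T.rotate hr L) (exact_baseChange_leftComp T hT L)
    (exact_baseChange_leftComp T.invRotate hi L)
    (exact_leftComp_extScD T.rotate hr _) (exact_leftComp_extScD T hT _)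
    (exact_leftComp_extScD T.invRotate hi _)
    h₁' h₃ h₁ h₃'

lemma injective_of_triangle (T : Triangle (Dual.D A)) (hT : T ∈ distTriang (Dual.D A))
    (L : Dual.D A) (h₁' : Function.Surjective (homBC B (T.obj₁⟦(1 : ℤ)⟧) L))
    (h₃ : Function.Injective (homBC B T.obj₃ L)) (h₁ : Function.Injective (homBC B T.obj₁ L)) :
    Function.Injective (homBC B T.obj₂ L) := by
  have hr := rot_of_distTriang T hT
  exact LinearMap.injective_of_surjective_of_injective_of_injective
    (LinearMap.baseChange B (Linear.leftComp A L T.mor₃))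
    (LinearMap.baseChange B (Linear.leftComp A L T.mor₂))
    (LinearMap.baseChange B (Linear.leftComp A L T.mor₁))
    (Linear.leftComp B _ ((extScD A B).map T.mor₃))
    (Linear.leftComp B _ ((extScD A B).map T.mor₂))
    (Linear.leftComp B _ ((extScD A B).map T.mor₁))
    (homBC B _ L) (homBC B _ L) (homBC B _ L) (homBC B _ L)
    (homBC_naturality T.mor₃ L).symm (homBC_naturality T.mor₂ L).symm
    (homBC_naturality T.mor₁ L).symm
    (exact_baseChange_leftComp T.rotate hr L) (exact_baseChange_leftComp T hT L)
    (exact_leftComp_extScD T.rotate hr _)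
    h₁' h₃ h₁

end Groth.Agent.Lib.Helper12.FlatHomBC

namespace Groth.Agent.Lib.Helper12.FlatHomBC
open Groth.Agent.Lib.Helper12 TensorProduct DRing

variable {A B : Type u} [CommRing A] [CommRing B] [Algebra A B] [Module.Flat A B]

attribute [local instance] homModA homModAMod

/-- flat base change of a single module complex -/
noncomputable def extScDSingleIso (k : ℤ) (F : ModuleCat.{u} A) :
    (extScD A B).obj (toD (singleCx k F)) ≅ toD (singleCx k ((extSc A B).obj F)) :=
  extScD_toD (singleCx k F) ≪≫ DerivedCategory.Q.mapIso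
    ((HomologicalComplex.singleMapHomologicalComplex (extSc A B) (ComplexShape.up ℤ) k).app F)

/-- the class map on `D(B)` transported to `E (F[-k])` -/
noncomputable def classB (k : ℤ) (F : ModuleCat.{u} A) (Z : Dual.D B) :
    ((extScD A B).obj (toD (singleCx k F)) ⟶ Z) →ₗ[B] ((extSc A B).obj F ⟶ (HF B k).obj Z) :=
  homClassLin k ((extSc A B).obj F) Z ∘ₗ Linear.leftComp B Z (extScDSingleIso k F).inv

lemma bijective_classB (k : ℤ) (F : ModuleCat.{u} A) [Module.Projective B ((extSc A B).obj F)]
    (Z : Dual.D B) : Function.Bijective (classB k F Z) :=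
  (bijective_homClassLin k _ Z).comp (bijective_leftComp (extScDSingleIso k F).symm Z)

/-- the homology comparison isomorphism -/
noncomputable abbrev ψ (k : ℤ) := mapDerivedCategoryHomologyIso (extSc A B) k

/-- an auxiliary isomorphism of `extSc F` -/
noncomputable def θ₀ (k : ℤ) (F : ModuleCat.{u} A) :
    (extSc A B).obj F ⟶ (extSc A B).obj ((HF A k).obj (toD (singleCx k F))) :=
  singleσ k ((extSc A B).obj F) ≫ (HF B k).map (extScDSingleIso k F).inv ≫
    (ψ k).hom.app (toD (singleCx k F))

instance (k : ℤ) (F : ModuleCat.{u} A) : IsIso (θ₀ (B := B) k F) := by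
  dsimp only [θ₀]
  infer_instance

lemma classB_map (k : ℤ) (F : ModuleCat.{u} A) (L : Dual.D A)
    (g : toD (singleCx k F) ⟶ L) :
    classB k F ((extScD A B).obj L) ((extScD A B).map g) =
      (θ₀ k F ≫ inv ((extSc A B).map (singleσ k F))) ≫
        (extSc A B).map (homClass g) ≫ (ψ k).inv.app L := by
  have hnat := (ψ (A := A) (B := B) k).hom.naturality g
  simp only [Functor.comp_map] at hnat
  show singleσ k _ ≫ (HF B k).map ((extScDSingleIso k F).inv ≫ (extScD A B).map g) = _
  rw [Functor.map_comp]
  have h2 : (HF B k).map ((extScD A B).map g) =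
      (ψ k).hom.app (toD (singleCx k F)) ≫ (extSc A B).map ((HF A k).map g) ≫
        (ψ k).inv.app L := by
    rw [← Category.assoc, ← hnat, Category.assoc, Iso.hom_inv_id_app, Category.comp_id]
  rw [h2]
  dsimp only [θ₀, homClass]
  rw [Functor.map_comp]
  simp only [Category.assoc, IsIso.inv_hom_id_assoc]

/-- conjugation by two isomorphisms, as a linear map -/
noncomputable def conjLin {X X' Y Y' : ModuleCat.{u} B} (a : X' ⟶ X) (b : Y ⟶ Y') :
    (X ⟶ Y) →ₗ[B] (X' ⟶ Y') :=
  Linear.leftComp B Y' a ∘ₗ Linear.rightComp B X b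

lemma bijective_conjLin {X X' Y Y' : ModuleCat.{u} B} (a : X' ⟶ X) (b : Y ⟶ Y') [IsIso a]
    [IsIso b] : Function.Bijective (conjLin a b) := by
  rw [Function.bijective_iff_has_inverse]
  refine ⟨conjLin (inv a) (inv b), fun x => ?_, fun x => ?_⟩
  · simp [conjLin, Linear.leftComp, Linear.rightComp]
  · simp [conjLin, Linear.leftComp, Linear.rightComp]

theorem good_single (k : ℤ) (F : ModuleCat.{u} A) [Module.Finite A F] [Module.Free A F]
    (L : Dual.D A) : Good B (toD (singleCx k F)) L := by
  have hF' := extSc_finite_free (A := A) (B := B) F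
  have := hF'.1
  have := hF'.2
  have hproj : Module.Projective A F := Module.Projective.of_free
  have hproj' : Module.Projective B ((extSc A B).obj F) := Module.Projective.of_free
  have hfp : Module.FinitePresentation A F := Module.finitePresentation_of_projective A F
  let H := (HF A k).obj L
  let e₁ : (toD (singleCx k F) ⟶ L) ≃ₗ[A] (F ⟶ H) :=
    LinearEquiv.ofBijective (homClassLin k F L) (bijective_homClassLin k F L)
  let u₁ : B ⊗[A] (toD (singleCx k F) ⟶ L) ≃ₗ[B] B ⊗[A] (F ⟶ H) := e₁.baseChange A B _ _
  let c := LinearMap.liftBaseChange B (extScMapLin B F H)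
  have hc : Function.Bijective c := bijective_liftBaseChange_extScMapLin F H
  let W := conjLin (θ₀ (B := B) k F ≫ inv ((extSc A B).map (singleσ k F))) ((ψ k).inv.app L)
  have hW : Function.Bijective W := bijective_conjLin _ _
  have hcomm : ∀ x : B ⊗[A] (toD (singleCx k F) ⟶ L),
      classB k F _ (homBC B _ L x) = W (c (u₁ x)) := by
    intro x
    induction x using TensorProduct.induction_on with
    | zero => simp only [map_zero]
    | tmul b g =>
      rw [homBC_tmul, map_smul, classB_map]
      show _ = W (c (b ⊗ₜ[A] homClassLin k F L g))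
      rw [LinearMap.liftBaseChange_tmul, map_smul]
      rfl
    | add x y hx hy => rw [map_add, map_add, map_add, map_add, map_add, hx, hy]
  have h2 : Function.Bijective (fun x => classB k F _ (homBC B _ L x)) := by
    have : (fun x => classB k F _ (homBC B _ L x)) = fun x => W (c (u₁ x)) := funext hcomm
    rw [this]
    exact hW.comp (hc.comp u₁.bijective)
  exact (Function.Bijective.of_comp_iff' (bijective_classB k F _) _).mp h2

end Groth.Agent.Lib.Helper12.FlatHomBC
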