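import Mathlib
import Groth.Agent.Lib.Helper12.FlatHomBC
import Groth.Agent.Lib.Helper12.DRingFFDescent
import Groth.Agent.Lib.Helper12.DRingFilteredExt

/-!
# Flat base change for `Hom` out of pseudo-coherent objects (main theorem)
-/

set_option autoImplicit false
universe u
open CategoryTheory CategoryTheory.Limits

attribute [local instance] HasDerivedCategory.standard

namespace Groth.Agent.Lib.Helper12.FlatHomBC
open Groth.Agent.Lib.Helper12 TensorProduct DRing Pretriangulated

variable {A B : Type u} [CommRing A] [CommRing B] [Algebra A B] [Module.Flat A B]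

attribute [local instance] homModA homModAMod

/-- no morphisms from cohomological degrees `< c` to degrees `≥ c` -/
lemma hom_eq_zero_of_HF {R : Type u} [CommRing R] (X Y : Dual.D R) (c : ℤ)
    (hX : ∀ i : ℤ, c ≤ i → IsZero ((HF R i).obj X))
    (hY : ∀ i : ℤ, i < c → IsZero ((HF R i).obj Y)) (f : X ⟶ Y) : f = 0 := by
  have h1 : X.IsLE (c - 1) := isLE_of_isZero_HF X (c - 1) (fun i hi => hX i (by omega))
  have h2 : Y.IsGE c := by
    rw [DerivedCategory.isGE_iff]
    exact hY
  exact (DerivedCategory.TStructure.t : Triangulated.TStructure (Dual.D R)).zero f (c - 1) c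
    (by omega)

variable (B) in
/-- the induction predicate -/
def Pr (L K : Dual.D A) : Prop :=
  (∀ n : ℤ, 0 ≤ n → Good B (K⟦n⟧) L) ∧ Function.Injective (homBC B (K⟦(-1 : ℤ)⟧) L)

lemma Pr.of_iso {L K K' : Dual.D A} (e : K ≅ K') (h : Pr B L K) : Pr B L K' :=
  ⟨fun n hn => (h.1 n hn).of_iso ((shiftFunctor (Dual.D A) n).mapIso e),
    (Good.of_iso_injective ((shiftFunctor (Dual.D A) (-1 : ℤ)).mapIso e) h.2)⟩

lemma Pr.of_triangle (L : Dual.D A) (T : Triangle (Dual.D A)) (hT : T ∈ distTriang (Dual.D A))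
    (h₁ : Pr B L T.obj₁) (h₃ : Pr B L T.obj₃) : Pr B L T.obj₂ := by
  constructor
  · intro n hn
    have hTn := Triangle.shift_distinguished T hT n
    refine Good.of_triangle ((Triangle.shiftFunctor (Dual.D A) n).obj T) hTn L ?_ (h₃.1 n hn)
      (h₁.1 n hn) ?_
    · exact ((h₁.1 (n + 1) (by omega)).of_iso
        ((shiftFunctorAdd' (Dual.D A) n 1 (n + 1) rfl).app T.obj₁)).2
    · by_cases hn0 : n = 0
      · subst hn0
        exact Good.of_iso_injective
          ((shiftFunctorAdd' (Dual.D A) 0 (-1) (-1) (by omega)).app T.obj₃) h₃.2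
      · exact ((h₃.1 (n - 1) (by omega)).of_iso
          ((shiftFunctorAdd' (Dual.D A) n (-1) (n - 1) (by omega)).app T.obj₃)).1
  · have hTn := Triangle.shift_distinguished T hT (-1)
    refine injective_of_triangle ((Triangle.shiftFunctor (Dual.D A) (-1)).obj T) hTn L ?_ h₃.2 h₁.2
    exact ((h₁.1 0 le_rfl).of_iso
      ((shiftFunctorAdd' (Dual.D A) (-1) 1 0 (by omega)).app T.obj₁)).2

lemma good_of_subsingleton (K L : Dual.D A) (h1 : Subsingleton (K ⟶ L))
    (h2 : Subsingleton ((extScD A B).obj K ⟶ (extScD A B).obj L)) : Good B K L := by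
  have h3 : Subsingleton (B ⊗[A] (K ⟶ L)) := inferInstance
  exact ⟨fun x y _ => Subsingleton.elim x y, fun y => ⟨0, Subsingleton.elim _ _⟩⟩

lemma good_shift_of_low (L K : Dual.D A) (a n : ℤ)
    (hL : ∀ i : ℤ, i < a → IsZero ((HF A i).obj L))
    (hK : ∀ i : ℤ, a + n ≤ i → IsZero ((HF A i).obj K)) : Good B (K⟦n⟧) L := by
  have hKn : ∀ i : ℤ, a ≤ i → IsZero ((HF A i).obj (K⟦n⟧)) := fun i hi =>
    isZero_HF_shift K n i (hK (n + i) (by omega))
  apply good_of_subsingleton
  · exact ⟨fun f g => (hom_eq_zero_of_HF _ _ a hKn hL f).trans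
      (hom_eq_zero_of_HF _ _ a hKn hL g).symm⟩
  · have h1 : ∀ i : ℤ, a ≤ i → IsZero ((HF B i).obj ((extScD A B).obj (K⟦n⟧))) := fun i hi =>
      isZero_HF_extScD _ i (hKn i hi)
    have h2 : ∀ i : ℤ, i < a → IsZero ((HF B i).obj ((extScD A B).obj L)) := fun i hi =>
      isZero_HF_extScD _ i (hL i hi)
    exact ⟨fun f g => (hom_eq_zero_of_HF _ _ a h1 h2 f).trans
      (hom_eq_zero_of_HF _ _ a h1 h2 g).symm⟩

lemma Pr.of_low (L K : Dual.D A) (a : ℤ) (hL : ∀ i : ℤ, i < a → IsZero ((HF A i).obj L))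
    (hK : ∀ i : ℤ, a - 1 ≤ i → IsZero ((HF A i).obj K)) : Pr B L K :=
  ⟨fun n hn => good_shift_of_low L K a n hL (fun i hi => hK i (by omega)),
    (good_shift_of_low L K a (-1) hL (fun i hi => hK i (by omega))).1⟩

/-- shift of a single module complex -/
noncomputable def toDSingleShiftIso (i n : ℤ) (F : ModuleCat.{u} A) :
    (toD (singleCx i F))⟦n⟧ ≅ toD (singleCx (i - n) F) :=
  (toDShiftIso (singleCx i F) n).symm ≪≫ DerivedCategory.Q.mapIso
    (((CochainComplex.singleFunctors (ModuleCat.{u} A)).shiftIso n (i - n) i (by omega)).app F)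

lemma Pr.single (L : Dual.D A) (i : ℤ) (F : ModuleCat.{u} A) [Module.Finite A F]
    [Module.Free A F] : Pr B L (toD (singleCx i F)) :=
  ⟨fun n _ => (good_single (i - n) F L).of_iso (toDSingleShiftIso i n F).symm,
    ((good_single (i - (-1)) F L).of_iso (toDSingleShiftIso i (-1) F).symm).1⟩

/-- **Flat base change for `Hom`** out of a pseudo-coherent object into a bounded below
object. -/
theorem good_of_isPseudoCoherent (K L : Dual.D A) (hK : IsPseudoCoherent' A K) (a : ℤ)
    (hL : ∀ i : ℤ, i < a → IsZero ((HF A i).obj L)) : Good B K L := by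
  obtain ⟨E, b, hEb, hff, ⟨e⟩⟩ := hK
  have h : Pr B L (toD E) := by
    refine boundedAbove_induction (Pr B L) (a - 1) (fun e h => h.of_iso e)
      (fun K hK => Pr.of_low L K a hL hK) (fun T hT h₁ h₃ => Pr.of_triangle L T hT h₁ h₃)
      E b hEb (fun i _ => ?_)
    have := (hff i).1
    have := (hff i).2
    exact Pr.single L i (E.X i)
  exact ((h.1 0 le_rfl).of_iso ((shiftFunctorZero (Dual.D A) ℤ).app (toD E))).of_iso e

end Groth.Agent.Lib.Helper12.FlatHomBC
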