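import Mathlib
import Groth.Agent.Lib.Helper12.FlatHomBCMain

/-!
# Flat base change for `Hom`: shifted version, endomorphisms, and `LBaseChange ≅ extScD`
-/

set_option autoImplicit false
universe u
open CategoryTheory CategoryTheory.Limits

attribute [local instance] HasDerivedCategory.standard

namespace Groth.Agent.Lib.Helper12.FlatHomBC
open Groth.Agent.Lib.Helper12 TensorProduct DRing Pretriangulated

variable {A B : Type u} [CommRing A] [CommRing B] [Algebra A B] [Module.Flat A B]

/-- `baseChangeKh` factors through `Qh` for flat maps -/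
noncomputable def baseChangeKhIso :
    DerivedCategory.Qh ⋙ extScD A B ≅ DRing.baseChangeKh (algebraMap A B) :=
  (extSc A B).mapDerivedCategoryFactorsh

lemma isInvertedBy_baseChangeKh :
    (HomotopyCategory.quasiIso (ModuleCat.{u} A) (ComplexShape.up ℤ)).IsInvertedBy
      (DRing.baseChangeKh (algebraMap A B)) := by
  have h : (HomotopyCategory.quasiIso (ModuleCat.{u} A) (ComplexShape.up ℤ)).IsInvertedBy
      (DerivedCategory.Qh ⋙ extScD A B) :=
    MorphismProperty.IsInvertedBy.of_comp _ _ (Localization.inverts DerivedCategory.Qh _) _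
  exact (MorphismProperty.IsInvertedBy.iff_of_iso _ (baseChangeKhIso (A := A) (B := B))).mp h

/-- for a flat ring map, derived base change is the functor induced by the exact functor
of extension of scalars -/
noncomputable def lBaseChangeIsoExtScD [DRing.HasLBaseChange (algebraMap A B)] :
    DRing.LBaseChange (algebraMap A B) ≅ extScD A B := by
  have hiso : IsIso ((DRing.baseChangeKh (algebraMap A B)).totalLeftDerivedCounit
      DerivedCategory.Qh (HomotopyCategory.quasiIso (ModuleCat.{u} A) (ComplexShape.up ℤ))) :=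
    Functor.isIso_of_isLeftDerivedFunctor_of_inverts _ _ isInvertedBy_baseChangeKh
  let e : DerivedCategory.Qh ⋙ DRing.LBaseChange (algebraMap A B) ≅
      DerivedCategory.Qh ⋙ extScD A B :=
    asIso ((DRing.baseChangeKh (algebraMap A B)).totalLeftDerivedCounit
      DerivedCategory.Qh (HomotopyCategory.quasiIso (ModuleCat.{u} A) (ComplexShape.up ℤ))) ≪≫
      (baseChangeKhIso (A := A) (B := B)).symm
  letI : Localization.Lifting DerivedCategory.Qh
      (HomotopyCategory.quasiIso (ModuleCat.{u} A) (ComplexShape.up ℤ))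
      (DerivedCategory.Qh ⋙ DRing.LBaseChange (algebraMap A B))
      (DRing.LBaseChange (algebraMap A B)) := ⟨Iso.refl _⟩
  letI : Localization.Lifting DerivedCategory.Qh
      (HomotopyCategory.quasiIso (ModuleCat.{u} A) (ComplexShape.up ℤ))
      (DerivedCategory.Qh ⋙ extScD A B) (extScD A B) := ⟨Iso.refl _⟩
  exact Localization.liftNatIso DerivedCategory.Qh
    (HomotopyCategory.quasiIso (ModuleCat.{u} A) (ComplexShape.up ℤ)) _ _ _ _ e

end Groth.Agent.Lib.Helper12.FlatHomBC

namespace Groth.Agent.Lib.Helper12.FlatHomBC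
open Groth.Agent.Lib.Helper12 TensorProduct DRing Pretriangulated

variable {A B : Type u} [CommRing A] [CommRing B] [Algebra A B] [Module.Flat A B]

attribute [local instance] homModA homModAMod

variable (B) in
/-- the shifted base change comparison map -/
noncomputable def homBCShift (K L : Dual.D A) (i : ℤ) :
    B ⊗[A] (K ⟶ L⟦i⟧) →ₗ[B] ((extScD A B).obj K ⟶ ((extScD A B).obj L)⟦i⟧) :=
  Linear.rightComp B _ (((extScD A B).commShiftIso i).hom.app L) ∘ₗ homBC B K (L⟦i⟧)

lemma homBCShift_tmul (K L : Dual.D A) (i : ℤ) (b : B) (f : K ⟶ L⟦i⟧) :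
    homBCShift B K L i (b ⊗ₜ[A] f) =
      b • ((extScD A B).map f ≫ ((extScD A B).commShiftIso i).hom.app L) := by
  simp [homBCShift, Linear.rightComp]

theorem bijective_homBCShift (K L : Dual.D A) (hK : IsPseudoCoherent' A K) (a : ℤ)
    (hL : ∀ j : ℤ, j < a → IsZero ((HF A j).obj L)) (i : ℤ) :
    Function.Bijective (homBCShift B K L i) := by
  have h1 : Good B K (L⟦i⟧) := good_of_isPseudoCoherent K (L⟦i⟧) hK (a - i)
    (fun j hj => isZero_HF_shift L i j (hL (i + j) (by omega)))
  have h2 : Function.Bijective
      (Linear.rightComp B ((extScD A B).obj K) (((extScD A B).commShiftIso i).hom.app L)) := by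
    rw [Function.bijective_iff_has_inverse]
    refine ⟨Linear.rightComp B _ (((extScD A B).commShiftIso i).inv.app L), fun x => ?_,
      fun x => ?_⟩
    · simp [Linear.rightComp]
    · simp [Linear.rightComp]
  exact h2.comp h1

/-- the canonical map `A → End(K)` -/
noncomputable def smulId {R : Type u} [CommRing R] (K : Dual.D R) : R →ₗ[R] (K ⟶ K) :=
  LinearMap.toSpanSingleton R (K ⟶ K) (𝟙 K)

lemma smulId_apply {R : Type u} [CommRing R] (K : Dual.D R) (r : R) : smulId K r = r • 𝟙 K := rfl

lemma homBC_baseChange_smulId (K : Dual.D A) (b : B) :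
    homBC B K K ((smulId K).baseChange B (b ⊗ₜ[A] (1 : A))) = smulId ((extScD A B).obj K) b := by
  rw [LinearMap.baseChange_tmul, homBC_tmul, smulId_apply, smulId_apply, one_smul,
    CategoryTheory.Functor.map_id]

/-- `b ↦ b ⊗ 1` is bijective -/
lemma bijective_tmul_one : Function.Bijective (fun b : B => (b ⊗ₜ[A] (1 : A) : B ⊗[A] A)) := by
  have : (fun b : B => (b ⊗ₜ[A] (1 : A) : B ⊗[A] A)) = (TensorProduct.rid A B).symm := by
    funext b
    rfl
  rw [this]
  exact (TensorProduct.rid A B).symm.bijective

theorem bijective_smulId_extScD_iff (K : Dual.D A) (hG : Good B K K) :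
    Function.Bijective (smulId ((extScD A B).obj K)) ↔
      Function.Bijective ((smulId K).baseChange B) := by
  have hcomp : (fun b : B => smulId ((extScD A B).obj K) b) =
      (homBC B K K) ∘ ((smulId K).baseChange B) ∘ (fun b : B => (b ⊗ₜ[A] (1 : A) : B ⊗[A] A)) := by
    funext b
    exact (homBC_baseChange_smulId K b).symm
  constructor
  · intro h
    have h1 : Function.Bijective ((homBC B K K) ∘ ((smulId K).baseChange B) ∘
        (fun b : B => (b ⊗ₜ[A] (1 : A) : B ⊗[A] A))) := hcomp ▸ h
    have h2 := (Function.Bijective.of_comp_iff' hG _).mp h1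
    exact (Function.Bijective.of_comp_iff _ bijective_tmul_one).mp h2
  · intro h
    show Function.Bijective (fun b : B => smulId ((extScD A B).obj K) b)
    rw [hcomp]
    exact hG.comp (h.comp bijective_tmul_one)

end Groth.Agent.Lib.Helper12.FlatHomBC
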