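import Groth.Agent.Lib.Helper12.DRingPCRep
import Mathlib.Algebra.Homology.DerivedCategory.KInjective
import Mathlib.Algebra.Category.ModuleCat.EnoughInjectives

/-!
# Detecting cohomology by morphisms to shifted (injective) modules; projective amplitude
-/

namespace Groth.Agent.Lib.Helper12

open CategoryTheory CategoryTheory.Limits DRing CategoryTheory.Pretriangulated
open CochainComplex HomComplex ZeroObject

attribute [local instance] HasDerivedCategory.standard

universe u

variable {A : Type u} [CommRing A]

lemma homotopy_of_Q_map_eq_of_isKInjective (E L : Cx A) [L.IsKInjective] (f g : E ⟶ L)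
    (h : DerivedCategory.Q.map f = DerivedCategory.Q.map g) : Nonempty (Homotopy f g) := by
  have h1 : (HomotopyCategory.quotient _ _).map f = (HomotopyCategory.quotient _ _).map g := by
    apply (CochainComplex.IsKInjective.Qh_map_bijective
      ((HomotopyCategory.quotient _ _).obj E) L).injective
    have hf := DerivedCategory.quotientCompQhIso_hom_naturality f
    have hg := DerivedCategory.quotientCompQhIso_hom_naturality g
    rw [h] at hf
    have := hf.trans hg.symm
    exact (cancel_mono ((DerivedCategory.quotientCompQhIso (ModuleCat.{u} A)).hom.app L)).mp this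
  exact ⟨HomotopyCategory.homotopyOfEq _ _ h1⟩

lemma isKInjective_singleCx (n : ℤ) (I : ModuleCat.{u} A) [Injective I] :
    (singleCx n I).IsKInjective := by
  have h1 : (singleCx n I).IsStrictlyGE n := by
    rw [CochainComplex.isStrictlyGE_iff]
    intro i hi
    exact isZero_singleCx_X n I i (by omega)
  have h2 : ∀ i : ℤ, Injective ((singleCx n I).X i) := by
    intro i
    by_cases hi : i = n
    · subst hi
      exact Injective.of_iso (HomologicalComplex.singleObjXSelf (ComplexShape.up ℤ) i I).symm
        inferInstance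
    · exact (isZero_singleCx_X n I i hi).injective
  exact CochainComplex.isKInjective_of_injective _ n

/-- If `K` admits no nonzero morphism to any module placed in degree `n`, then `H^n(K) = 0`. -/
theorem isZero_HF_of_forall_hom_eq_zero (K : Dual.D A) (n : ℤ)
    (h : ∀ (N : ModuleCat.{u} A) (f : K ⟶ (Dual.inD A N)⟦-n⟧), f = 0) :
    IsZero ((HF A n).obj K) := by
  let X : Cx A := DerivedCategory.Q.objPreimage K
  let e : toD X ≅ K := DerivedCategory.Q.objObjPreimageIso K
  let M := X.homology n
  let I := Injective.under M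
  let ι : M ⟶ I := Injective.ι M
  let φ : X.cycles n ⟶ I := X.homologyπ n ≫ ι
  let g : X.X n ⟶ I := Injective.factorThru φ (X.iCycles n)
  have hg : X.iCycles n ≫ g = φ := Injective.comp_factorThru φ (X.iCycles n)
  have hcond : ∀ i : ℤ, (ComplexShape.up ℤ).Rel i n → X.d i n ≫ g = 0 := by
    intro i _
    rw [← X.toCycles_i i n, Category.assoc, hg]
    dsimp only [φ]
    rw [X.toCycles_comp_homologyπ_assoc, zero_comp]
  let gh : X ⟶ singleCx n I := HomologicalComplex.mkHomToSingle g hcond
  have hQ : DerivedCategory.Q.map gh = DerivedCategory.Q.map (0 : X ⟶ singleCx n I) := by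
    rw [CategoryTheory.Functor.map_zero]
    have h0 := h I (e.inv ≫ DerivedCategory.Q.map gh ≫ (toDSingleIso n I).hom)
    rw [← cancel_epi e.inv, ← cancel_mono (toDSingleIso n I).hom, Category.assoc, h0,
      comp_zero, zero_comp]
  have := isKInjective_singleCx n I
  obtain ⟨ho⟩ := homotopy_of_Q_map_eq_of_isKInjective X (singleCx n I) gh 0 hQ
  have hcomm := ho.comm n
  rw [dNext_eq ho.hom (show (ComplexShape.up ℤ).Rel n (n + 1) by simp),
    prevD_eq ho.hom (show (ComplexShape.up ℤ).Rel (n - 1) n by simp),
    HomologicalComplex.single_obj_d, comp_zero, add_zero, HomologicalComplex.zero_f, add_zero,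
    HomologicalComplex.mkHomToSingle_f] at hcomm
  have hφ : φ = 0 := by
    rw [← hg, ← cancel_mono (HomologicalComplex.singleObjXSelf (ComplexShape.up ℤ) n I).inv,
      Category.assoc, hcomm, X.iCycles_d_assoc, zero_comp, zero_comp]
  have hι : ι = 0 := by
    rw [← cancel_epi (X.homologyπ n), comp_zero]
    exact hφ
  have hM : IsZero M := IsZero.of_mono_eq_zero ι hι
  exact hM.of_iso ((HF A n).mapIso e.symm ≪≫
    (DerivedCategory.homologyFunctorFactors (ModuleCat.{u} A) n).app X)

end Groth.Agent.Lib.Helper12

namespace Groth.Agent.Lib.Helper12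

open CategoryTheory CategoryTheory.Limits DRing CategoryTheory.Pretriangulated
open CochainComplex HomComplex ZeroObject

attribute [local instance] HasDerivedCategory.standard

universe u

variable {A : Type u} [CommRing A]

/-- `H^j` of a module placed in degree `n` -/
lemma isZero_HF_inD_shift (N : ModuleCat.{u} A) (n j : ℤ) (hj : j ≠ n) :
    IsZero ((HF A j).obj ((Dual.inD A N)⟦-n⟧)) :=
  (isZero_HF_toD_singleCx n N j hj).of_iso ((HF A j).mapIso (toDSingleIso n N).symm)

/-- no morphisms from a complex of projectives in `[a, b]` to a module placed in a degree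
outside `[a, b]` -/
theorem hom_eq_zero_of_projective_amplitude (P : Cx A) (a b : ℤ) (hP : VanishesOutside P a b)
    (hproj : ∀ i, Module.Projective A (P.X i)) (N : ModuleCat.{u} A) (n : ℤ)
    (hn : n < a ∨ b < n) (f : toD P ⟶ (Dual.inD A N)⟦-n⟧) : f = 0 := by
  rcases hn with hn | hn
  · exact hom_eq_zero_of_projective_of_isLE P a b hP hproj _
      (fun j hj => isZero_HF_inD_shift N n j (by omega)) f
  · have : P.IsKProjective :=
      isKProjective_of_vanishesAbove P b (vanishesAbove_of_vanishesOutside hP) hproj
    obtain ⟨φ, hφ⟩ := exists_map_of_isKProjective P (singleCx n N) (f ≫ (toDSingleIso n N).inv)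
    have hφ0 : φ = 0 := by
      refine HomologicalComplex.hom_ext _ _ (fun j => ?_)
      by_cases hj : j = n
      · subst hj
        exact (hP j (Or.inr hn)).eq_of_src _ _
      · exact (isZero_singleCx_X n N j hj).eq_of_tgt _ _
    rw [hφ0, CategoryTheory.Functor.map_zero] at hφ
    rw [← cancel_mono (toDSingleIso n N).inv, zero_comp, ← hφ]

/-- **Truncation of a bounded above complex of projectives**: if `P` has no cohomology below
`a - 1` and admits no nonzero morphism in `D(A)` to a module placed in degree `a - 1`, then `P` is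
quasi-isomorphic to a complex in degrees `[a, b]` whose terms are retracts of the terms
of `P`. -/
theorem exists_truncation_of_hom_eq_zero (P : Cx A) (a b : ℤ) (hP : VanishesAbove P b)
    (hproj : ∀ i, Module.Projective A (P.X i))
    (hlow : ∀ i : ℤ, i < a - 1 → IsZero ((HF A i).obj (toD P)))
    (hext : ∀ (N : ModuleCat.{u} A) (f : toD P ⟶ (Dual.inD A N)⟦-(a - 1)⟧), f = 0) :
    ∃ P' : Cx A, VanishesOutside P' a b ∧
      (∀ i, ∃ (s : P'.X i ⟶ P.X i) (r : P.X i ⟶ P'.X i), s ≫ r = 𝟙 _) ∧
      Nonempty (toD P' ≅ toD P) := by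
  have hK : P.IsKProjective := isKProjective_of_vanishesAbove P b hP hproj
  -- the key maps
  let B := P.opcycles (a - 1)
  let g : P.X (a - 1) ⟶ B := P.pOpcycles (a - 1)
  let dbar : B ⟶ P.X a := P.fromOpcycles (a - 1) a
  have hgd : g ≫ dbar = P.d (a - 1) a := P.p_fromOpcycles (a - 1) a
  have hcond : ∀ i : ℤ, (ComplexShape.up ℤ).Rel i (a - 1) → P.d i (a - 1) ≫ g = 0 :=
    fun i _ => P.d_pOpcycles i (a - 1)
  let gh : P ⟶ singleCx (a - 1) B := HomologicalComplex.mkHomToSingle g hcond
  have hQ : DerivedCategory.Q.map gh = DerivedCategory.Q.map (0 : P ⟶ singleCx (a - 1) B) := by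
    rw [CategoryTheory.Functor.map_zero]
    have h0 := hext B (DerivedCategory.Q.map gh ≫ (toDSingleIso (a - 1) B).hom)
    rw [← cancel_mono (toDSingleIso (a - 1) B).hom, h0, zero_comp]
  obtain ⟨ho⟩ := homotopy_of_Q_map_eq P (singleCx (a - 1) B) gh 0 hQ
  have hcomm := ho.comm (a - 1)
  rw [dNext_eq ho.hom (show (ComplexShape.up ℤ).Rel (a - 1) a by simp),
    prevD_eq ho.hom (show (ComplexShape.up ℤ).Rel (a - 1 - 1) (a - 1) by simp),
    HomologicalComplex.single_obj_d, comp_zero, add_zero, HomologicalComplex.zero_f, add_zero,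
    HomologicalComplex.mkHomToSingle_f] at hcomm
  let h : P.X a ⟶ B := ho.hom a (a - 1) ≫
    (HomologicalComplex.singleObjXSelf (ComplexShape.up ℤ) (a - 1) B).hom
  have hdh : P.d (a - 1) a ≫ h = g := by
    dsimp only [h]
    rw [← Category.assoc, ← hcomm, Category.assoc, Iso.inv_hom_id, Category.comp_id]
  have hsplit : dbar ≫ h = 𝟙 B := by
    rw [← cancel_epi g, ← Category.assoc, hgd, hdh, Category.comp_id]
  -- exactness at `a - 1`
  have hmono : Mono dbar := mono_of_mono_fac hsplit
  have hex : P.ExactAt (a - 1) := by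
    rw [HomologicalComplex.exactAt_iff_isZero_homology]
    apply IsZero.of_mono_eq_zero (P.homologyι (a - 1))
    rw [← cancel_mono dbar, zero_comp]
    exact P.homologyι_comp_fromOpcycles (a - 1) a
  have hGE : P.IsGE a := by
    rw [CochainComplex.isGE_iff]
    intro i hi
    by_cases hia : i = a - 1
    · subst hia; exact hex
    · rw [HomologicalComplex.exactAt_iff_isZero_homology]
      exact (hlow i (by omega)).of_iso
        ((DerivedCategory.homologyFunctorFactors (ModuleCat.{u} A) i).app P).symm
  have hqi : QuasiIso (P.πTruncGE a) := (P.quasiIso_πTruncGE_iff a).mpr hGE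
  have hiso : IsIso (DerivedCategory.Q.map (P.πTruncGE a)) :=
    (DerivedCategory.isIso_Q_map_iff_quasiIso _ (P.πTruncGE a)).mpr hqi
  -- section of `pOpcycles a`
  have hdp : dbar ≫ P.pOpcycles a = 0 := by
    rw [← cancel_epi g, ← Category.assoc, hgd, comp_zero]
    exact P.d_pOpcycles (a - 1) a
  let s : P.opcycles a ⟶ P.X a := P.descOpcycles (𝟙 _ - h ≫ dbar) (a - 1) (by simp) (by
    rw [Preadditive.comp_sub, Category.comp_id, ← Category.assoc, hdh, hgd, sub_self])
  have hs : s ≫ P.pOpcycles a = 𝟙 _ := by
    rw [← cancel_epi (P.pOpcycles a)]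
    dsimp only [s]
    rw [HomologicalComplex.p_descOpcycles_assoc, Preadditive.sub_comp, Category.id_comp,
      Category.assoc, hdp, comp_zero, sub_zero, Category.comp_id]
  refine ⟨P.truncGE a, ?_, ?_, ⟨(asIso (DerivedCategory.Q.map (P.πTruncGE a))).symm⟩⟩
  · intro i hi
    rcases hi with hi | hi
    · exact (P.truncGE a).isZero_of_isStrictlyGE a i hi
    · by_cases hia : i = a
      · subst hia
        have hz : IsZero (P.X i) := hP i hi
        have : IsZero (P.opcycles i) := by
          rw [IsZero.iff_id_eq_zero, ← cancel_epi (P.pOpcycles i)]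
          exact hz.eq_of_src _ _
        exact this.of_iso (P.truncGEXIsoOpcycles i)
      · by_cases hia' : i < a
        · exact (P.truncGE a).isZero_of_isStrictlyGE a i hia'
        · exact (hP i hi).of_iso (P.truncGEXIso a i (by omega))
  · intro i
    by_cases hia : i = a
    · subst hia
      refine ⟨(P.truncGEXIsoOpcycles i).hom ≫ s, P.pOpcycles i ≫ (P.truncGEXIsoOpcycles i).inv, ?_⟩
      rw [Category.assoc, ← Category.assoc s, hs, Category.id_comp, Iso.hom_inv_id]
    · by_cases hia' : i < a
      · refine ⟨0, 0, ?_⟩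
        exact ((P.truncGE a).isZero_of_isStrictlyGE a i hia').eq_of_src _ _
      · exact ⟨(P.truncGEXIso a i (by omega)).hom, (P.truncGEXIso a i (by omega)).inv,
          Iso.hom_inv_id _⟩

end Groth.Agent.Lib.Helper12
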