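import Groth.Agent.Lib.Helper12.DRingTorAmp

/-!
# Representatives by truncation: `truncGE` with good `opcycles`, `truncLE` with good cycles
-/

namespace Groth.Agent.Lib.Helper12

open CategoryTheory CategoryTheory.Limits DRing CochainComplex

attribute [local instance] HasDerivedCategory.standard

universe u

variable {A : Type u} [CommRing A]

/-- the property is closed under kernels of surjections -/
def ModProp.KerClosed (P : ModProp A) : Prop :=
  ∀ (M N : ModuleCat.{u} A) (f : M ⟶ N), Function.Surjective f.hom → P.P M → P.P N →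
    P.P (ModuleCat.of A (LinearMap.ker f.hom))

lemma flatP_kerClosed : (flatP A).KerClosed := by
  intro M N f hf hM hN
  have : Module.Flat A M := hM
  have : Module.Flat A N := hN
  exact flat_of_exact_left (LinearMap.ker f.hom).subtype f.hom Subtype.val_injective hf
    (LinearMap.exact_subtype_ker_map f.hom)

lemma projectiveP_kerClosed : (projectiveP A).KerClosed := by
  intro M N f hf hM hN
  have : Module.Projective A N := hN
  obtain ⟨s, hs⟩ := Module.projective_lifting_property f.hom LinearMap.id hf
  let r : M →ₗ[A] LinearMap.ker f.hom :=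
    LinearMap.codRestrict (LinearMap.ker f.hom) (LinearMap.id - s ∘ₗ f.hom) (by
      intro x
      have := LinearMap.congr_fun hs (f.hom x)
      simp only [LinearMap.comp_apply, LinearMap.id_apply] at this
      simp [this])
  have hr : r ∘ₗ (LinearMap.ker f.hom).subtype = LinearMap.id := by
    ext ⟨x, hx⟩
    have hx' : f.hom x = 0 := hx
    simp [r, hx']
  have : Module.Projective A M := hM
  exact Module.Projective.of_split _ r hr

lemma finiteProjective_kerClosed : (finiteProjective A).KerClosed := by
  intro M N f hf hM hN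
  have : Module.Finite A M := hM.1
  have : Module.Projective A M := hM.2
  have : Module.Projective A N := hN.2
  exact finite_projective_ker f.hom hf

/-- cycles of a bounded above complex, exact and with terms in `P` above `i` -/
theorem prop_Zc (P : ModProp A) (hP : P.KerClosed) (C : Cx A) (b : ℤ) (hb : VanishesAbove C b) :
    ∀ (n : ℕ) (i : ℤ), b < i + n → (∀ j : ℤ, i < j → C.ExactAt j) →
      (∀ j : ℤ, i ≤ j → P.P (C.X j)) → P.P (ModuleCat.of A (Zc C i)) := by
  intro n
  induction n with
  | zero =>
    intro i hi _ _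
    have : Subsingleton (C.X i) := ModuleCat.subsingleton_of_isZero (hb i (by simpa using hi))
    have : Subsingleton (Zc C i) := inferInstance
    exact P.zero (ModuleCat.isZero_of_subsingleton _)
  | succ n ih =>
    intro i hi hex hterm
    have h1 : P.P (ModuleCat.of A (Zc C (i + 1))) :=
      ih (i + 1) (by push_cast at hi; omega) (fun j hj => hex j (by omega))
        (fun j hj => hterm j (by omega))
    have h2 := hP (C.X i) (ModuleCat.of A (Zc C (i + 1))) (ModuleCat.ofHom (dToZc C i))
      (dToZc_surjective C i (hex _ (by omega))) (hterm i le_rfl) h1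
    have hk : LinearMap.ker (ModuleCat.ofHom (dToZc C i)).hom = Zc C i := by
      rw [ModuleCat.hom_ofHom]
      exact LinearMap.ker_codRestrict _ _ _
    exact P.iso (LinearEquiv.ofEq _ _ hk).toModuleIso h2

/-- the concrete description of `cycles` -/
noncomputable def cyclesIsoZc (C : Cx A) (i : ℤ) : C.cycles i ≅ ModuleCat.of A (Zc C i) :=
  C.cyclesIsoSc' (i - 1) i (i + 1) (by simp) (by simp) ≪≫
    (C.sc' (i - 1) i (i + 1)).moduleCatCyclesIso

lemma isZero_cycles_of_isZero (X : Cx A) (i : ℤ) (h : IsZero (X.X i)) : IsZero (X.cycles i) := by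
  rw [IsZero.iff_id_eq_zero, ← cancel_mono (X.iCycles i)]
  exact h.eq_of_tgt _ _

lemma exactAt_of_isZero_HF (E : Cx A) (i : ℤ) (h : IsZero ((HF A i).obj (toD E))) :
    E.ExactAt i := by
  rw [HomologicalComplex.exactAt_iff_isZero_homology]
  exact h.of_iso ((DerivedCategory.homologyFunctorFactors (ModuleCat.{u} A) i).app E).symm

/-- right truncation -/
theorem exists_truncLE_rep (P : ModProp A) (hP : P.KerClosed) (G : Cx A) (a b c : ℤ)
    (hG : VanishesOutside G a b) (hterm : Termwise P G)
    (hc : ∀ i : ℤ, c < i → IsZero ((HF A i).obj (toD G))) :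
    ∃ G' : Cx A, VanishesOutside G' a c ∧ Termwise P G' ∧ Nonempty (toD G' ≅ toD G) := by
  have hLE : G.IsLE c := by
    rw [CochainComplex.isLE_iff]
    intro i hi
    exact exactAt_of_isZero_HF G i (hc i hi)
  have hqi : QuasiIso (G.ιTruncLE c) := (G.quasiIso_ιTruncLE_iff c).mpr hLE
  have hiso : IsIso (DerivedCategory.Q.map (G.ιTruncLE c)) :=
    (DerivedCategory.isIso_Q_map_iff_quasiIso _ (G.ιTruncLE c)).mpr hqi
  refine ⟨G.truncLE c, ?_, ?_, ⟨asIso (DerivedCategory.Q.map (G.ιTruncLE c))⟩⟩
  · intro i hi
    rcases lt_trichotomy i c with h1 | h1 | h1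
    · rcases hi with hi | hi
      · exact (hG i (Or.inl hi)).of_iso (G.truncLEXIso c i h1)
      · omega
    · subst h1
      rcases hi with hi | hi
      · exact (isZero_cycles_of_isZero G i (hG i (Or.inl hi))).of_iso (G.truncLEXIsoCycles i)
      · omega
    · exact (G.truncLE c).isZero_of_isStrictlyLE c i h1
  · intro i
    rcases lt_trichotomy i c with h1 | h1 | h1
    · exact P.iso (G.truncLEXIso c i h1).symm (hterm i)
    · subst h1
      have hz : P.P (ModuleCat.of A (Zc G i)) :=
        prop_Zc P hP G b (fun j hj => hG j (Or.inr hj)) (b - i + 1).toNat i (by omega)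
          (fun j hj => exactAt_of_isZero_HF G j (hc j hj)) (fun j _ => hterm j)
      exact P.iso ((G.truncLEXIsoCycles i).trans (cyclesIsoZc G i)).symm hz
    · exact P.zero ((G.truncLE c).isZero_of_isStrictlyLE c i h1)

/-- left truncation -/
theorem exists_truncGE_rep (P : ModProp A) (E : Cx A) (a b : ℤ) (hb : VanishesAbove E b)
    (hterm : ∀ j : ℤ, a < j → P.P (E.X j)) (hop : P.P (E.opcycles a))
    (hlow : ∀ i : ℤ, i < a → IsZero ((HF A i).obj (toD E))) :
    ∃ G : Cx A, VanishesOutside G a b ∧ Termwise P G ∧ Nonempty (toD G ≅ toD E) := by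
  have hGE : E.IsGE a := by
    rw [CochainComplex.isGE_iff]
    intro i hi
    exact exactAt_of_isZero_HF E i (hlow i hi)
  have hqi : QuasiIso (E.πTruncGE a) := (E.quasiIso_πTruncGE_iff a).mpr hGE
  have hiso : IsIso (DerivedCategory.Q.map (E.πTruncGE a)) :=
    (DerivedCategory.isIso_Q_map_iff_quasiIso _ (E.πTruncGE a)).mpr hqi
  refine ⟨E.truncGE a, ?_, ?_, ⟨(asIso (DerivedCategory.Q.map (E.πTruncGE a))).symm⟩⟩
  · intro i hi
    rcases hi with hi | hi
    · exact isZero_truncGE_X_of_lt E a i hi
    · exact vanishesAbove_truncGE E a b hb i hi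
  · intro i
    rcases lt_trichotomy i a with h1 | h1 | h1
    · exact P.zero (isZero_truncGE_X_of_lt E a i h1)
    · subst h1
      exact P.iso (E.truncGEXIsoOpcycles i).symm hop
    · exact P.iso (E.truncGEXIso a i h1).symm (hterm i h1)

end Groth.Agent.Lib.Helper12
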