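import Mathlib
import Groth.Prelude.Def_Wider
import Groth.Agent.Lib.Helper12.FlatHomBCShift
import Groth.Agent.Lib.Helper12.DetectsZero
import Groth.Agent.Lib.Helper12.DRingFFDescent
import Groth.Agent.Lib.Helper12.DRingPCHomology
import Groth.Agent.Lib.Helper36.InjAmp

/-!
# Dualizing complexes and flat base change (helper12)

Ascent along localizations and descent along families of flat algebras detecting vanishing.
-/

set_option autoImplicit false
universe u
open CategoryTheory CategoryTheory.Limits

attribute [local instance] HasDerivedCategory.standard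

namespace Groth.Agent.Lib.Helper12.DualizingBC
open Groth.Agent.Lib.Helper12 Groth.Agent.Lib.Helper12.FlatHomBC TensorProduct DRing Pretriangulated
open Groth.Agent.Lib.Helper36.InjAmp

attribute [local instance] homModA homModAMod

section
variable {A : Type u} [CommRing A]

/-- being dualizing is invariant under isomorphism -/
theorem isDualizing_of_iso {ω ω' : Dual.D A} (e : ω ≅ ω') (h : Dual.IsDualizing A ω) :
    Dual.IsDualizing A ω' where
  isNoetherianRing := h.isNoetherianRing
  finite_injective_dimension := by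
    obtain ⟨a, b, hab⟩ := h.finite_injective_dimension
    refine ⟨a, b, fun M _ _ i hi => ?_⟩
    have := hab M i hi
    exact ⟨fun f g => by
      rw [← cancel_mono ((shiftFunctor (Dual.D A) i).mapIso e).inv]
      exact Subsingleton.elim _ _⟩
  finite_cohomology := fun i => by
    have := h.finite_cohomology i
    exact Module.Finite.equiv
      ((DerivedCategory.homologyFunctor (ModuleCat.{u} A) i).mapIso e).toLinearEquiv
  toEnd_bijective := by
    have h1 := h.toEnd_bijective
    have h2 : (fun a : A => a • 𝟙 ω') = (fun f : ω ⟶ ω => e.inv ≫ f ≫ e.hom) ∘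
        (fun a : A => a • 𝟙 ω) := by
      funext a
      simp
    rw [h2]
    refine Function.Bijective.comp ?_ h1
    rw [Function.bijective_iff_has_inverse]
    exact ⟨fun f => e.hom ≫ f ≫ e.inv, fun f => by simp, fun f => by simp⟩
  ext_self_subsingleton := fun i hi => by
    have := h.ext_self_subsingleton i hi
    exact ⟨fun f g => by
      rw [← cancel_mono ((shiftFunctor (Dual.D A) i).mapIso e).inv, ← cancel_epi e.hom]
      exact Subsingleton.elim _ _⟩

/-- over a Noetherian ring, bounded above with finite cohomology implies pseudo-coherent -/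
theorem isPseudoCoherent'_of_finite [IsNoetherianRing A] (K : Dual.D A) (b : ℤ)
    (hb : ∀ i : ℤ, b < i → IsZero ((HF A i).obj K))
    (hfin : ∀ i : ℤ, Module.Finite A ((HF A i).obj K)) : IsPseudoCoherent' A K := by
  rw [← isPseudoCoherent'_iff_forall]
  intro m
  rw [isPseudoCoherent_iff_of_isNoetherianRing]
  exact ⟨⟨b, hb⟩, fun i _ => hfin i⟩

/-- a finite module over a Noetherian ring is pseudo-coherent -/
theorem isPseudoCoherent'_inD [IsNoetherianRing A] (M : Type u) [AddCommGroup M] [Module A M]
    [Module.Finite A M] : IsPseudoCoherent' A (Dual.inD A M) := by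
  rw [← isPseudoCoherent'_iff_forall]
  intro m
  exact isPseudoCoherent_inD_of_finite_of_isNoetherianRing' (ModuleCat.of A M) m

/-- finite injective dimension from the Baer-type test on cyclic modules -/
theorem finite_injective_dimension_of_quotient (ω : Dual.D A) (a b : ℤ)
    (h : ∀ (I : Ideal A) (i : ℤ), (i < a ∨ b < i) → Subsingleton (Dual.inD A (A ⧸ I) ⟶ ω⟦i⟧)) :
    ∀ (M : Type u) [AddCommGroup M] [Module A M] (i : ℤ),
      (i < a ∨ b < i) → Subsingleton (Dual.inD A M ⟶ ω⟦i⟧) := by
  obtain ⟨E, hE, hinj, ⟨e⟩⟩ := hasInjAmplitudeIn_of_hom_quotient_eq_zero ω a b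
    (fun I i hi f => by
      have := h I i hi
      exact Subsingleton.elim _ _)
  intro M _ _ i hi
  refine ⟨fun f g => ?_⟩
  have h0 : ∀ f : Dual.inD A M ⟶ ω⟦i⟧, f = 0 := fun f => by
    have := hom_eq_zero_of_injective_amplitude E a b hE hinj (ModuleCat.of A M) i hi
      (f ≫ ((shiftFunctor (Dual.D A) i).mapIso e).inv)
    rw [← cancel_mono ((shiftFunctor (Dual.D A) i).mapIso e).inv, this, zero_comp]
  rw [h0 f, h0 g]

/-- the representative form of finite injective dimension implies the Hom-vanishing form -/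
theorem finite_injective_dimension_of_hasFiniteInjDim (ω : Dual.D A)
    (h : DRing.HasFiniteInjDim A ω) :
    ∃ a b : ℤ, ∀ (M : Type u) [AddCommGroup M] [Module A M] (i : ℤ),
      (i < a ∨ b < i) → Subsingleton (Dual.inD A M ⟶ ω⟦i⟧) := by
  obtain ⟨a, b, E, hE, hinj, ⟨e⟩⟩ := h
  refine ⟨a, b, fun M _ _ i hi => ⟨fun f g => ?_⟩⟩
  have h0 : ∀ f : Dual.inD A M ⟶ ω⟦i⟧, f = 0 := fun f => by
    have := hom_eq_zero_of_injective_amplitude E a b hE hinj (ModuleCat.of A M) i hi
      (f ≫ ((shiftFunctor (Dual.D A) i).mapIso e).inv)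
    rw [← cancel_mono ((shiftFunctor (Dual.D A) i).mapIso e).inv, this, zero_comp]
  rw [h0 f, h0 g]

/-- the cohomology of an object of finite injective dimension is bounded -/
theorem isZero_HF_of_finite_injective_dimension (ω : Dual.D A) (a b : ℤ)
    (h : ∀ (M : Type u) [AddCommGroup M] [Module A M] (i : ℤ),
      (i < a ∨ b < i) → Subsingleton (Dual.inD A M ⟶ ω⟦i⟧)) (i : ℤ) (hi : i < a ∨ b < i) :
    IsZero ((HF A i).obj ω) := by
  apply isZero_HF_of_hom_ring_eq_zero
  intro f
  have := h A i hi
  exact Subsingleton.elim _ _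

end

section BaseChange

variable {A B : Type u} [CommRing A] [CommRing B] [Algebra A B] [Module.Flat A B]

/-- vanishing of Hom after base change from vanishing of Hom -/
theorem subsingleton_hom_extScD (K L : Dual.D A) (hK : IsPseudoCoherent' A K) (a : ℤ)
    (hL : ∀ j : ℤ, j < a → IsZero ((HF A j).obj L)) (i : ℤ) (h : Subsingleton (K ⟶ L⟦i⟧)) :
    Subsingleton ((extScD A B).obj K ⟶ ((extScD A B).obj L)⟦i⟧) := by
  have hb := bijective_homBCShift (B := B) K L hK a hL i
  refine ⟨fun x y => ?_⟩
  obtain ⟨x', rfl⟩ := hb.2 x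
  obtain ⟨y', rfl⟩ := hb.2 y
  have : Subsingleton (B ⊗[A] (K ⟶ L⟦i⟧)) := inferInstance
  rw [Subsingleton.elim x' y']

/-- finiteness of cohomology after flat base change -/
theorem finite_HF_extScD (K : Dual.D A) (i : ℤ) (h : Module.Finite A ((HF A i).obj K)) :
    Module.Finite B ((HF B i).obj ((extScD A B).obj K)) := by
  have e := (HFExtIso (A := A) (B := B) i).app K
  have h1 : Module.Finite B ((extSc A B).obj ((HF A i).obj K)) :=
    Module.Finite.equiv (extScObjEquiv (A := A) (B := B) ((HF A i).obj K)).symm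
  have h2 : Module.Finite B ((HF A i ⋙ extSc A B).obj K) := h1
  exact Module.Finite.equiv e.symm.toLinearEquiv

/-- ascent of dualizing complexes along a flat map of Noetherian rings all of whose ideals
are extended (e.g. a localization) -/
theorem isDualizing_extScD_of_ideals_extended [IsNoetherianRing A] [IsNoetherianRing B]
    (hext : ∀ J : Ideal B, ∃ I : Ideal A, I.map (algebraMap A B) = J) (ω : Dual.D A)
    (hω : Dual.IsDualizing A ω) : Dual.IsDualizing B ((extScD A B).obj ω) := by
  obtain ⟨a, b, hab⟩ := hω.finite_injective_dimension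
  have hz := isZero_HF_of_finite_injective_dimension ω a b hab
  have hlow : ∀ j : ℤ, j < a → IsZero ((HF A j).obj ω) := fun j hj => hz j (Or.inl hj)
  have hpc : IsPseudoCoherent' A ω :=
    isPseudoCoherent'_of_finite ω b (fun j hj => hz j (Or.inr hj)) hω.finite_cohomology
  refine ⟨inferInstance, ⟨a, b, finite_injective_dimension_of_quotient _ a b ?_⟩, ?_, ?_, ?_⟩
  · intro J i hi
    obtain ⟨I, rfl⟩ := hext J
    have h1 := hab (A ⧸ I) i hi
    have h2 := subsingleton_hom_extScD (B := B) (Dual.inD A (A ⧸ I)) ω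
      (isPseudoCoherent'_inD (A ⧸ I)) a hlow i h1
    let e : (extScD A B).obj (Dual.inD A (A ⧸ I)) ≅ Dual.inD B (B ⧸ I.map (algebraMap A B)) :=
      extScD_inD (A ⧸ I) ≪≫ inDMapIso
        (Algebra.TensorProduct.quotIdealMapEquivTensorQuot B I).toLinearEquiv.symm.toModuleIso
    exact ⟨fun f g => by
      rw [← cancel_epi e.hom]
      exact Subsingleton.elim _ _⟩
  · intro i
    exact finite_HF_extScD ω i (hω.finite_cohomology i)
  · have hG : Good B ω ω := good_of_isPseudoCoherent ω ω hpc a hlow
    have h1 : Function.Bijective (smulId ω) := hω.toEnd_bijective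
    have h2 : Function.Bijective ((smulId ω).baseChange B) := by
      have := ((LinearEquiv.ofBijective (smulId ω) h1).baseChange A B _ _).bijective
      exact this
    exact (bijective_smulId_extScD_iff ω hG).mpr h2
  · intro i hi
    exact subsingleton_hom_extScD ω ω hpc a hlow i (hω.ext_self_subsingleton i hi)

end BaseChange

section Descent

variable {A : Type u} [CommRing A] {ι : Type*} (Bs : ι → Type u) [∀ j, CommRing (Bs j)]
  [∀ j, Algebra A (Bs j)] [∀ j, Module.Flat A (Bs j)]

/-- descent of the endomorphism conditions of a dualizing complex along a family of flat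
algebras detecting vanishing -/
theorem end_conditions_of_detectsZero (hD : DetectsZero.{u, u + 1} (A := A) Bs)
    (hD' : DetectsZero.{u, u} (A := A) Bs) (ω : Dual.D A) (hpc : IsPseudoCoherent' A ω) (a₀ : ℤ)
    (hbdd : ∀ i : ℤ, i < a₀ → IsZero ((HF A i).obj ω))
    (hloc : ∀ j, Function.Bijective (fun b : Bs j => b • 𝟙 ((extScD A (Bs j)).obj ω)) ∧
      ∀ i : ℤ, i ≠ 0 → Subsingleton ((extScD A (Bs j)).obj ω ⟶ ((extScD A (Bs j)).obj ω)⟦i⟧)) :
    Function.Bijective (fun a : A => a • 𝟙 ω) ∧ ∀ i : ℤ, i ≠ 0 → Subsingleton (ω ⟶ ω⟦i⟧) := by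
  constructor
  · have hbij : ∀ j, Function.Bijective ((smulId ω).baseChange (Bs j)) := fun j =>
      (bijective_smulId_extScD_iff ω (good_of_isPseudoCoherent ω ω hpc a₀ hbdd)).mp (hloc j).1
    exact ⟨injective_of_forall_baseChange Bs hD' (smulId ω) (fun j => (hbij j).1),
      surjective_of_forall_baseChange Bs hD (smulId ω) (fun j => (hbij j).2)⟩
  · intro i hi
    apply hD
    intro j
    have hb := bijective_homBCShift (B := Bs j) ω ω hpc a₀ hbdd i
    have := (hloc j).2 i hi
    exact ⟨fun x y => hb.1 (Subsingleton.elim _ _)⟩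

/-- descent of Hom-vanishing from a finite module -/
theorem subsingleton_hom_inD_of_detectsZero [IsNoetherianRing A]
    (hD : DetectsZero.{u, u + 1} (A := A) Bs) (ω : Dual.D A) (a₀ : ℤ)
    (hbdd : ∀ i : ℤ, i < a₀ → IsZero ((HF A i).obj ω))
    (M : Type u) [AddCommGroup M] [Module A M] [Module.Finite A M] (i : ℤ)
    (h : ∀ j, Subsingleton (Dual.inD (Bs j) (Bs j ⊗[A] M) ⟶ ((extScD A (Bs j)).obj ω)⟦i⟧)) :
    Subsingleton (Dual.inD A M ⟶ ω⟦i⟧) := by
  apply hD
  intro j
  have hb := bijective_homBCShift (B := Bs j) (Dual.inD A M) ω (isPseudoCoherent'_inD M) a₀ hbdd i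
  have := h j
  have h2 : Subsingleton ((extScD A (Bs j)).obj (Dual.inD A M) ⟶
      ((extScD A (Bs j)).obj ω)⟦i⟧) :=
    ⟨fun f g => by
      rw [← cancel_epi (extScD_inD (B := Bs j) M).inv]
      exact Subsingleton.elim _ _⟩
  exact ⟨fun x y => hb.1 (Subsingleton.elim _ _)⟩

/-- descent of dualizing complexes along a family of flat algebras detecting vanishing, given
finiteness of cohomology and finite injective dimension globally -/
theorem isDualizing_of_detectsZero [IsNoetherianRing A] (hD : DetectsZero.{u, u + 1} (A := A) Bs)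
    (hD' : DetectsZero.{u, u} (A := A) Bs) (ω : Dual.D A)
    (hfin : ∀ i : ℤ, Module.Finite A ((HF A i).obj ω))
    (hinj : ∃ a b : ℤ, ∀ (M : Type u) [AddCommGroup M] [Module A M] (i : ℤ),
      (i < a ∨ b < i) → Subsingleton (Dual.inD A M ⟶ ω⟦i⟧))
    (hloc : ∀ j, Dual.IsDualizing (Bs j) ((extScD A (Bs j)).obj ω)) : Dual.IsDualizing A ω := by
  obtain ⟨a, b, hab⟩ := hinj
  have hz := isZero_HF_of_finite_injective_dimension ω a b hab
  have hlow : ∀ j : ℤ, j < a → IsZero ((HF A j).obj ω) := fun j hj => hz j (Or.inl hj)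
  have hpc : IsPseudoCoherent' A ω :=
    isPseudoCoherent'_of_finite ω b (fun j hj => hz j (Or.inr hj)) hfin
  have h := end_conditions_of_detectsZero Bs hD hD' ω hpc a hlow
    (fun j => ⟨(hloc j).toEnd_bijective, (hloc j).ext_self_subsingleton⟩)
  exact ⟨inferInstance, ⟨a, b, hab⟩, hfin, h.1, h.2⟩

/-- descent of dualizing complexes along a finite family of flat algebras detecting vanishing
and finiteness -/
theorem isDualizing_of_detectsZero_finite [Finite ι] [IsNoetherianRing A]
    (hD : DetectsZero.{u, u + 1} (A := A) Bs) (hD' : DetectsZero.{u, u} (A := A) Bs)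
    (hfd : ∀ M : ModuleCat.{u} A, (∀ j, Module.Finite (Bs j) ((extSc A (Bs j)).obj M)) →
      Module.Finite A M) (ω : Dual.D A)
    (hloc : ∀ j, Dual.IsDualizing (Bs j) ((extScD A (Bs j)).obj ω)) : Dual.IsDualizing A ω := by
  choose a b hab using fun j => (hloc j).finite_injective_dimension
  obtain ⟨b', hb'⟩ := Finite.exists_le b
  obtain ⟨a', ha'⟩ := Finite.exists_ge a
  have hfin : ∀ i : ℤ, Module.Finite A ((HF A i).obj ω) := fun i => by
    apply hfd
    intro j
    have := (hloc j).finite_cohomology i
    have h2 : Module.Finite (Bs j) ((extScD A (Bs j) ⋙ HF (Bs j) i).obj ω) := this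
    exact Module.Finite.equiv ((HFExtIso (A := A) (B := Bs j) i).app ω).toLinearEquiv
  have hz : ∀ i : ℤ, (i < a' ∨ b' < i) → IsZero ((HF A i).obj ω) := fun i hi => by
    have : Subsingleton ((HF A i).obj ω) := by
      apply hD'
      intro j
      have h1 : IsZero ((HF (Bs j) i).obj ((extScD A (Bs j)).obj ω)) :=
        isZero_HF_of_finite_injective_dimension _ (a j) (b j) (hab j) i (by
          have := ha' j
          have := hb' j
          omega)
      have h2 : IsZero ((extSc A (Bs j)).obj ((HF A i).obj ω)) :=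
        h1.of_iso ((HFExtIso (A := A) (B := Bs j) i).app ω).symm
      have h3 : Subsingleton ((extSc A (Bs j)).obj ((HF A i).obj ω)) :=
        ModuleCat.subsingleton_of_isZero h2
      exact (extScObjEquiv (A := A) (B := Bs j) ((HF A i).obj ω)).symm.toEquiv.subsingleton
    exact ModuleCat.isZero_of_subsingleton _
  have hlow : ∀ j : ℤ, j < a' → IsZero ((HF A j).obj ω) := fun j hj => hz j (Or.inl hj)
  refine isDualizing_of_detectsZero Bs hD hD' ω hfin
    ⟨a', b', finite_injective_dimension_of_quotient ω a' b' (fun I i hi => ?_)⟩ hloc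
  apply subsingleton_hom_inD_of_detectsZero Bs hD ω a' hlow
  intro j
  apply hab j
  have := ha' j
  have := hb' j
  omega

end Descent

end Groth.Agent.Lib.Helper12.DualizingBC
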