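import Groth.Agent.Lib.Helper12.DRingSingle
import Mathlib.Algebra.Homology.DerivedCategory.TStructure
import Mathlib.Algebra.Homology.DerivedCategory.HomologySequence
import Mathlib.CategoryTheory.Triangulated.TStructure.TruncLTGE

/-!
# Canonical truncations in `D(A)` and induction on the cohomological amplitude
-/

namespace Groth.Agent.Lib.Helper12

open CategoryTheory CategoryTheory.Limits DRing CategoryTheory.Pretriangulated
open DerivedCategory

attribute [local instance] HasDerivedCategory.standard

universe u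

variable {A : Type u} [CommRing A]

/-- abbreviation for the homology functor -/
noncomputable abbrev HF (A : Type u) [CommRing A] (i : ℤ) : Dual.D A ⥤ ModuleCat.{u} A :=
  DerivedCategory.homologyFunctor (ModuleCat.{u} A) i

/-- the canonical truncation triangle `τ_{<b} K → K → τ_{≥b} K →` -/
noncomputable abbrev truncTriangle (K : Dual.D A) (b : ℤ) : Triangle (Dual.D A) :=
  ((TStructure.t : Triangulated.TStructure (Dual.D A)).triangleLTGE b).obj K

lemma truncTriangle_distinguished (K : Dual.D A) (b : ℤ) :
    truncTriangle K b ∈ distTriang (Dual.D A) :=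
  Triangulated.TStructure.triangleLTGE_distinguished _ b K

lemma isZero_HF_truncLT (K : Dual.D A) (b i : ℤ) (hi : b ≤ i) :
    IsZero ((HF A i).obj (truncTriangle K b).obj₁) :=
  DerivedCategory.isZero_of_isLE _ (b - 1) i (by omega)

lemma isZero_HF_truncGE (K : Dual.D A) (b i : ℤ) (hi : i < b) :
    IsZero ((HF A i).obj (truncTriangle K b).obj₃) :=
  DerivedCategory.isZero_of_isGE _ b i hi

lemma isIso_HF_truncLTι (K : Dual.D A) (b i : ℤ) (hi : i < b) :
    IsIso ((HF A i).map (truncTriangle K b).mor₁) := by
  have hT := truncTriangle_distinguished K b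
  have h1 : Mono ((HF A i).map (truncTriangle K b).mor₁) := by
    rw [HomologySequence.mono_homologyMap_mor₁_iff _ hT (i - 1) i (by omega)]
    exact (isZero_HF_truncGE K b (i - 1) (by omega)).eq_of_src _ _
  have h2 : Epi ((HF A i).map (truncTriangle K b).mor₁) := by
    rw [HomologySequence.epi_homologyMap_mor₁_iff _ hT]
    exact (isZero_HF_truncGE K b i hi).eq_of_tgt _ _
  exact isIso_of_mono_of_epi _

lemma isIso_HF_truncGEπ (K : Dual.D A) (b i : ℤ) (hi : b ≤ i) :
    IsIso ((HF A i).map (truncTriangle K b).mor₂) := by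
  have hT := truncTriangle_distinguished K b
  have h1 : Mono ((HF A i).map (truncTriangle K b).mor₂) := by
    rw [HomologySequence.mono_homologyMap_mor₂_iff _ hT]
    exact (isZero_HF_truncLT K b i hi).eq_of_src _ _
  have h2 : Epi ((HF A i).map (truncTriangle K b).mor₂) := by
    rw [HomologySequence.epi_homologyMap_mor₂_iff _ hT i (i + 1) rfl]
    exact (isZero_HF_truncLT K b (i + 1) (by omega)).eq_of_tgt _ _
  exact isIso_of_mono_of_epi _

/-- `H^i(τ_{<b} K) ≅ H^i(K)` for `i < b` -/
noncomputable def HFTruncLTIso (K : Dual.D A) (b i : ℤ) (hi : i < b) :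
    (HF A i).obj (truncTriangle K b).obj₁ ≅ (HF A i).obj (truncTriangle K b).obj₂ :=
  have := isIso_HF_truncLTι K b i hi
  asIso ((HF A i).map (truncTriangle K b).mor₁)

/-- `H^i(K) ≅ H^i(τ_{≥b} K)` for `b ≤ i` -/
noncomputable def HFTruncGEIso (K : Dual.D A) (b i : ℤ) (hi : b ≤ i) :
    (HF A i).obj (truncTriangle K b).obj₂ ≅ (HF A i).obj (truncTriangle K b).obj₃ :=
  have := isIso_HF_truncGEπ K b i hi
  asIso ((HF A i).map (truncTriangle K b).mor₂)

/-- An object with all cohomology zero is zero. -/
lemma isZero_of_forall_isZero_HF (K : Dual.D A) (h : ∀ i, IsZero ((HF A i).obj K)) : IsZero K := by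
  have h1 : K.IsLE 0 := by rw [DerivedCategory.isLE_iff]; intro i _; exact h i
  have h2 : K.IsGE 1 := by rw [DerivedCategory.isGE_iff]; intro i _; exact h i
  exact (TStructure.t : Triangulated.TStructure (Dual.D A)).isZero K 0 1

/-- `H^n` of a single complex in degree `n`. -/
noncomputable def HFSingleIso (n : ℤ) (M : ModuleCat.{u} A) :
    (HF A n).obj ((DerivedCategory.singleFunctor (ModuleCat.{u} A) n).obj M) ≅ M :=
  (DerivedCategory.homologyFunctorFactors (ModuleCat.{u} A) n).app _ ≪≫
    (HomologicalComplex.homologyFunctorSingleIso (ModuleCat.{u} A) (ComplexShape.up ℤ) n).app M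

/-- Induction principle on the cohomological amplitude via canonical truncations. -/
theorem homology_induction (Pr : Dual.D A → Prop) (Qm : ModuleCat.{u} A → Prop)
    (hQiso : ∀ {M N : ModuleCat.{u} A}, (M ≅ N) → Qm M → Qm N)
    (hiso : ∀ {K K' : Dual.D A}, (K ≅ K') → Pr K → Pr K')
    (hzero : ∀ K : Dual.D A, IsZero K → Pr K)
    (hsingle : ∀ (M : ModuleCat.{u} A) (a : ℤ), Qm M →
      Pr ((DerivedCategory.singleFunctor (ModuleCat.{u} A) a).obj M))
    (hext : ∀ T : Triangle (Dual.D A), T ∈ distTriang (Dual.D A) → Pr T.obj₁ → Pr T.obj₃ →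
      Pr T.obj₂)
    (K : Dual.D A) (a b : ℤ) (hK : ∀ i, i < a ∨ b < i → IsZero ((HF A i).obj K))
    (hQ : ∀ i, Qm ((HF A i).obj K)) : Pr K := by
  suffices H : ∀ (n : ℕ) (a b : ℤ), b < a + n → ∀ K : Dual.D A,
      (∀ i, i < a ∨ b < i → IsZero ((HF A i).obj K)) → (∀ i, Qm ((HF A i).obj K)) → Pr K by
    obtain ⟨n, hn⟩ : ∃ n : ℕ, b < a + n := ⟨(b - a + 1).toNat, by omega⟩
    exact H n a b hn K hK hQ
  intro n
  induction n with
  | zero =>
    intro a b hab K hK hQ
    apply hzero
    apply isZero_of_forall_isZero_HF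
    intro i
    apply hK
    simp only [Nat.cast_zero, add_zero] at hab
    omega
  | succ n ih =>
    intro a b hab K hK hQ
    have hT := truncTriangle_distinguished K b
    have hK2 : (truncTriangle K b).obj₂ = K := rfl
    refine hK2 ▸ hext (truncTriangle K b) hT ?_ ?_
    · -- τ_{<b} K has amplitude in [a, b-1]
      refine ih a (b - 1) (by push_cast at hab; omega) _ ?_ ?_
      · intro i hi
        by_cases hib : i < b
        · exact IsZero.of_iso (hK i (by omega)) (HFTruncLTIso K b i hib)
        · exact isZero_HF_truncLT K b i (by omega)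
      · intro i
        by_cases hib : i < b
        · exact hQiso (HFTruncLTIso K b i hib).symm (hQ i)
        · exact hQiso ((hK (b + 1) (by omega)).iso (isZero_HF_truncLT K b i (by omega)))
            (hQ (b + 1))
    · -- τ_{≥b} K is a single module in degree b
      have h1 : (truncTriangle K b).obj₃.IsGE b := inferInstance
      have h2 : (truncTriangle K b).obj₃.IsLE b := by
        rw [DerivedCategory.isLE_iff]
        intro i hi
        exact IsZero.of_iso (hK i (by omega)) (HFTruncGEIso K b i (by omega)).symm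
      obtain ⟨Y, ⟨e⟩⟩ := DerivedCategory.exists_iso_singleFunctor_obj_of_isGE_of_isLE
        (truncTriangle K b).obj₃ b
      have eY : (HF A b).obj K ≅ Y :=
        HFTruncGEIso K b b le_rfl ≪≫ (HF A b).mapIso e ≪≫ HFSingleIso b Y
      exact hiso e.symm (hsingle Y b (hQiso eY (hQ b)))

/-- `(singleFunctor a).obj M ≅ M[0][-a]` -/
noncomputable def singleFunctorShiftIso (a : ℤ) (M : ModuleCat.{u} A) :
    (DerivedCategory.singleFunctor (ModuleCat.{u} A) a).obj M ≅ (Dual.inD A M)⟦-a⟧ :=
  (((DerivedCategory.singleFunctors (ModuleCat.{u} A)).shiftIso (-a) a 0 (by omega)).app M).symm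

/-- An object with bounded cohomology all of whose cohomology modules are `RepBounded P`
(in degree 0) is `RepBounded P`. -/
theorem RepBounded.of_homology (P : ModProp A) (hP : ∀ M, P.P M → Module.Projective A M)
    (K : Dual.D A) (a b : ℤ) (hK : ∀ i, i < a ∨ b < i → IsZero ((HF A i).obj K))
    (hQ : ∀ i, RepBounded P (Dual.inD A ((HF A i).obj K))) : RepBounded P K := by
  refine homology_induction (RepBounded P) (fun M => RepBounded P (Dual.inD A M))
    (fun e h => RepBounded.of_iso P (inDMapIso e) h)
    (fun e h => RepBounded.of_iso P e h)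
    (fun K h => RepBounded.of_isZero P h)
    (fun M a h => RepBounded.of_iso P (singleFunctorShiftIso a M).symm (h.shift P (-a)))
    (fun T hT h1 h3 => (RepBounded.two_out_of_three P hP T hT).2.1 h1 h3)
    K a b hK hQ

end Groth.Agent.Lib.Helper12
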