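import Groth.Agent.Lib.Helper12.DRingPC

/-!
# Shifts of `m`-pseudo-coherent objects and the full two-out-of-three
-/

namespace Groth.Agent.Lib.Helper12

open CategoryTheory CategoryTheory.Limits DRing CategoryTheory.Pretriangulated
open DerivedCategory

attribute [local instance] HasDerivedCategory.standard

universe u

variable {A : Type u} [CommRing A]

/-- transport of `IsIso`/`Epi`/`Mono` of `F.map α` along a natural isomorphism -/
lemma map_eq_of_natIso {C D : Type*} [Category C] [Category D] {F G : C ⥤ D} (e : F ≅ G)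
    {X Y : C} (α : X ⟶ Y) : F.map α = e.hom.app X ≫ G.map α ≫ e.inv.app Y := by
  rw [← Category.assoc, ← e.hom.naturality, Category.assoc, Iso.hom_inv_id_app, Category.comp_id]

/-- `H^i(K⟦n⟧) ≅ H^{i+n}(K)`, naturally -/
noncomputable def HFShiftIso (n i j : ℤ) (h : n + i = j) :
    shiftFunctor (Dual.D A) n ⋙ HF A i ≅ HF A j :=
  (DerivedCategory.homologyFunctor (ModuleCat.{u} A) 0).shiftIso n i j h

lemma IsConn.shift {m : ℤ} {X Y : Dual.D A} {α : X ⟶ Y} (h : IsConn m α) (n : ℤ) :
    IsConn (m - n) (α⟦n⟧') := by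
  constructor
  · intro i hi
    have := h.1 (n + i) (by omega)
    have e := map_eq_of_natIso (HFShiftIso (A := A) n i (n + i) rfl) α
    change (HF A i).map (α⟦n⟧') = _ at e
    rw [e]
    infer_instance
  · have := h.2
    have e := map_eq_of_natIso (HFShiftIso (A := A) n (m - n) m (by omega)) α
    change (HF A (m - n)).map (α⟦n⟧') = _ at e
    rw [e]
    infer_instance

/-- shifting an `m`-pseudo-coherent object -/
lemma isPseudoCoherent_shift {m : ℤ} {K : Dual.D A} (hK : IsPseudoCoherent A m K) (n : ℤ) :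
    IsPseudoCoherent A (m - n) (K⟦n⟧) := by
  obtain ⟨E, a, b, α, hE, hff, hα'⟩ := hK
  have hα : IsConn m α := hα'
  refine ⟨E⟦n⟧, a - n, b - n, (toDShiftIso E n).hom ≫ α⟦n⟧', vanishesOutside_shift hE n,
    termwise_shift (finiteFree A) hff n, ?_⟩
  exact IsConn.comp (IsConn.of_isIso (m := m - n) (toDShiftIso E n).hom) (hα.shift n) le_rfl

lemma isPseudoCoherent_of_iso' {m : ℤ} {K K' : Dual.D A} (e : K ≅ K')
    (h : IsPseudoCoherent A m K) : IsPseudoCoherent A m K' := by
  obtain ⟨E, a, b, α, hE, hff, hα'⟩ := h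
  have hα : IsConn m α := hα'
  exact ⟨E, a, b, α ≫ e.hom, hE, hff, IsConn.comp hα (IsConn.of_isIso e.hom) le_rfl⟩

lemma isPseudoCoherent_of_shift {m : ℤ} {K : Dual.D A} (n : ℤ)
    (hK : IsPseudoCoherent A (m - n) (K⟦n⟧)) : IsPseudoCoherent A m K := by
  have h := isPseudoCoherent_shift hK (-n)
  have h' : IsPseudoCoherent A (m - n - -n) K :=
    isPseudoCoherent_of_iso' ((shiftEquiv (Dual.D A) n).unitIso.symm.app K) h
  have : m - n - -n = m := by omega
  rwa [this] at h'

lemma isPseudoCoherent_mono {m m' : ℤ} {K : Dual.D A} (h : IsPseudoCoherent A m K)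
    (hm : m ≤ m') : IsPseudoCoherent A m' K := by
  obtain ⟨E, a, b, α, hE, hff, hα'⟩ := h
  have hα : IsConn m α := hα'
  exact ⟨E, a, b, α, hE, hff, hα.mono hm⟩

/-- Two-out-of-three for `m`-pseudo-coherence in a distinguished triangle. -/
theorem isPseudoCoherent_two_out_of_three (T : Triangle (Dual.D A))
    (hT : T ∈ distTriang (Dual.D A)) (m : ℤ) :
    (IsPseudoCoherent A (m + 1) T.obj₁ → IsPseudoCoherent A m T.obj₂ →
        IsPseudoCoherent A m T.obj₃) ∧
      (IsPseudoCoherent A m T.obj₁ → IsPseudoCoherent A m T.obj₃ →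
        IsPseudoCoherent A m T.obj₂) ∧
      (IsPseudoCoherent A (m + 1) T.obj₂ → IsPseudoCoherent A m T.obj₃ →
        IsPseudoCoherent A (m + 1) T.obj₁) := by
  refine ⟨isPseudoCoherent_cone T hT, fun h1 h3 => ?_, fun h2 h3 => ?_⟩
  · -- invRotate: obj₃[-1] → obj₁ → obj₂
    have h3' : IsPseudoCoherent A (m + 1) (T.obj₃⟦(-1 : ℤ)⟧) := by
      have := isPseudoCoherent_shift h3 (-1)
      have e : m - -1 = m + 1 := by omega
      rwa [e] at this
    exact isPseudoCoherent_cone T.invRotate (inv_rot_of_distTriang T hT) h3' h1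
  · -- rotate: obj₂ → obj₃ → obj₁[1]
    have h : IsPseudoCoherent A m (T.obj₁⟦(1 : ℤ)⟧) :=
      isPseudoCoherent_cone T.rotate (rot_of_distTriang T hT) h2 h3
    refine isPseudoCoherent_of_shift (m := m + 1) 1 ?_
    have e : m + 1 - 1 = m := by omega
    rwa [e]

end Groth.Agent.Lib.Helper12
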