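import Mathlib
import Groth.Agent.Lib.Helper12.FlatHomBCMain
import Groth.Agent.Lib.Helper12.DRingPCHomology
import Groth.Agent.Lib.Helper12.DRingCanTrunc
import Groth.Agent.Lib.Helper36.InjAmp
import Groth.Agent.Lib.Helper12.DRingPCShift

/-!
# Finiteness of `Hom` in `D(A)` over a Noetherian ring (helper12)
-/

set_option autoImplicit false
universe u
open CategoryTheory CategoryTheory.Limits

attribute [local instance] HasDerivedCategory.standard

namespace Groth.Agent.Lib.Helper12.HomFinite
open Groth.Agent.Lib.Helper12 Groth.Agent.Lib.Helper12.FlatHomBC DRing Pretriangulated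

variable {A : Type u} [CommRing A]

/-- the induction predicate -/
def PrF (L K : Dual.D A) : Prop := ∀ n : ℤ, 0 ≤ n → IsNoetherian A (K⟦n⟧ ⟶ L)

lemma isNoetherian_of_iso {K K' L : Dual.D A} (e : K ≅ K') (h : IsNoetherian A (K ⟶ L)) :
    IsNoetherian A (K' ⟶ L) := by
  have hb := bijective_leftComp e L
  exact isNoetherian_of_linearEquiv (LinearEquiv.ofBijective (Linear.leftComp A L e.hom) hb).symm

lemma PrF.of_iso {L K K' : Dual.D A} (e : K ≅ K') (h : PrF L K) : PrF L K' :=
  fun n hn => isNoetherian_of_iso ((shiftFunctor (Dual.D A) n).mapIso e) (h n hn)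

lemma PrF.of_triangle (L : Dual.D A) (T : Triangle (Dual.D A)) (hT : T ∈ distTriang (Dual.D A))
    (h₁ : PrF L T.obj₁) (h₃ : PrF L T.obj₃) : PrF L T.obj₂ := by
  intro n hn
  have hTn := Triangle.shift_distinguished T hT n
  have i1 : IsNoetherian A (((Triangle.shiftFunctor (Dual.D A) n).obj T).obj₁ ⟶ L) := h₁ n hn
  have i3 : IsNoetherian A (((Triangle.shiftFunctor (Dual.D A) n).obj T).obj₃ ⟶ L) := h₃ n hn
  have hex := exact_leftComp (R := A) ((Triangle.shiftFunctor (Dual.D A) n).obj T) hTn L
  exact isNoetherian_of_range_eq_ker _ _ (LinearMap.exact_iff.mp hex).symm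

lemma PrF.of_low (L K : Dual.D A) (a : ℤ) (hL : ∀ i : ℤ, i < a → IsZero ((HF A i).obj L))
    (hK : ∀ i : ℤ, a ≤ i → IsZero ((HF A i).obj K)) : PrF L K := by
  intro n hn
  have hKn : ∀ i : ℤ, a ≤ i → IsZero ((HF A i).obj (K⟦n⟧)) := fun i hi =>
    isZero_HF_shift K n i (hK (n + i) (by omega))
  have : Subsingleton (K⟦n⟧ ⟶ L) :=
    ⟨fun f g => (hom_eq_zero_of_HF _ _ a hKn hL f).trans (hom_eq_zero_of_HF _ _ a hKn hL g).symm⟩
  infer_instance

lemma PrF.single [IsNoetherianRing A] (L : Dual.D A)
    (hfin : ∀ i : ℤ, Module.Finite A ((HF A i).obj L)) (i : ℤ) (F : ModuleCat.{u} A)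
    [Module.Finite A F] [Module.Free A F] : PrF L (toD (singleCx i F)) := by
  intro n _
  apply isNoetherian_of_iso (toDSingleShiftIso i n F).symm
  have hb := bijective_homClassLin (i - n) F L
  have := hfin (i - n)
  have h1 : Module.Finite A (F →ₗ[A] (HF A (i - n)).obj L) := inferInstance
  have h2 : IsNoetherian A (F →ₗ[A] (HF A (i - n)).obj L) := inferInstance
  have h3 : IsNoetherian A (F ⟶ (HF A (i - n)).obj L) :=
    isNoetherian_of_linearEquiv (ModuleCat.homLinearEquiv (S := A)).symm
  exact isNoetherian_of_linearEquiv (LinearEquiv.ofBijective _ hb).symm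

/-- `Hom(K, L)` is a finite module for `K` pseudo-coherent and `L` bounded below with finite
cohomology, over a Noetherian ring -/
theorem isNoetherian_hom [IsNoetherianRing A] (K L : Dual.D A) (hK : IsPseudoCoherent' A K)
    (a : ℤ) (hL : ∀ i : ℤ, i < a → IsZero ((HF A i).obj L))
    (hfin : ∀ i : ℤ, Module.Finite A ((HF A i).obj L)) : IsNoetherian A (K ⟶ L) := by
  obtain ⟨E, b, hEb, hff, ⟨e⟩⟩ := hK
  have h : PrF L (toD E) := by
    refine boundedAbove_induction (PrF L) a (fun e h => h.of_iso e)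
      (fun K hK => PrF.of_low L K a hL hK) (fun T hT h₁ h₃ => PrF.of_triangle L T hT h₁ h₃)
      E b hEb (fun i _ => ?_)
    have := (hff i).1
    have := (hff i).2
    exact PrF.single L hfin i (E.X i)
  exact isNoetherian_of_iso e
    (isNoetherian_of_iso ((shiftFunctorZero (Dual.D A) ℤ).app (toD E)) (h 0 le_rfl))

theorem finite_hom [IsNoetherianRing A] (K L : Dual.D A) (hK : IsPseudoCoherent' A K)
    (a : ℤ) (hL : ∀ i : ℤ, i < a → IsZero ((HF A i).obj L))
    (hfin : ∀ i : ℤ, Module.Finite A ((HF A i).obj L)) : Module.Finite A (K ⟶ L) := by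
  have := isNoetherian_hom K L hK a hL hfin
  infer_instance

open Groth.Agent.Lib.Helper36.InjAmp in
/-- no maps from `D^{>b}` into a complex of injectives concentrated in degrees `≤ b` -/
theorem hom_eq_zero_of_injective_amplitude_above (E : Cx A) (a b : ℤ)
    (hE : VanishesOutside E a b) (hinj : ∀ i, Module.Injective A (E.X i)) (X : Dual.D A)
    (hX : ∀ j : ℤ, j ≤ b → IsZero ((HF A j).obj X)) (f : X ⟶ toD E) : f = 0 := by
  have hGE : E.IsStrictlyGE a := by
    rw [CochainComplex.isStrictlyGE_iff]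
    intro j hj
    exact hE j (Or.inl hj)
  have hinj' : ∀ j, Injective (E.X j) := fun j => by
    have := hinj j
    exact Module.injective_object_of_injective_module A (E.X j)
  have hKI : E.IsKInjective := CochainComplex.isKInjective_of_injective E a
  have hXGE : X.IsGE (b + 1) := by
    rw [DerivedCategory.isGE_iff]
    intro j hj
    exact hX j (by omega)
  obtain ⟨X', hX', ⟨e⟩⟩ := X.exists_iso_Q_obj_of_isGE (b + 1)
  obtain ⟨φ, hφ⟩ := exists_map_of_isKInjective X' E (e.inv ≫ f)
  have hφ0 : φ = 0 := by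
    refine HomologicalComplex.hom_ext _ _ (fun j => ?_)
    by_cases hj : j ≤ b
    · exact (CochainComplex.isZero_of_isStrictlyGE X' (b + 1) j (by omega)).eq_of_src _ _
    · exact (hE j (Or.inr (by omega))).eq_of_tgt _ _
  rw [hφ0, CategoryTheory.Functor.map_zero] at hφ
  rw [← cancel_epi e.inv, ← hφ, comp_zero]

lemma finite_HF_shift (X : Dual.D A) (n i : ℤ) (h : Module.Finite A ((HF A (n + i)).obj X)) :
    Module.Finite A ((HF A i).obj (X⟦n⟧)) := by
  have e := (HFShiftIso (A := A) n i (n + i) rfl).app X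
  have h2 : Module.Finite A ((shiftFunctor (Dual.D A) n ⋙ HF A i).obj X) :=
    Module.Finite.equiv e.symm.toLinearEquiv
  exact h2

/-- over a Noetherian ring, bounded above with finite cohomology implies pseudo-coherent -/
theorem isPseudoCoherent'_of_finite_HF [IsNoetherianRing A] (K : Dual.D A) (b : ℤ)
    (hb : ∀ i : ℤ, b < i → IsZero ((HF A i).obj K))
    (hfin : ∀ i : ℤ, Module.Finite A ((HF A i).obj K)) : IsPseudoCoherent' A K := by
  rw [← isPseudoCoherent'_iff_forall]
  intro m
  rw [isPseudoCoherent_iff_of_isNoetherianRing]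
  exact ⟨⟨b, hb⟩, fun i _ => hfin i⟩

open Groth.Agent.Lib.Helper36.InjAmp in
/-- `Hom(K, L[i])` is finite for `K`, `L` with finite cohomology and `L` of finite injective
dimension -/
theorem finite_hom_shift_of_hasFiniteInjDim [IsNoetherianRing A] (K L : Dual.D A)
    (hK : ∀ i : ℤ, Module.Finite A ((HF A i).obj K))
    (hL : ∀ i : ℤ, Module.Finite A ((HF A i).obj L))
    (hLi : HasFiniteInjDim A L) (i : ℤ) : Module.Finite A (K ⟶ L⟦i⟧) := by
  obtain ⟨a, b, E, hE, hinj, ⟨e⟩⟩ := hLi
  have hLlow : ∀ j : ℤ, j < a → IsZero ((HF A j).obj L) := fun j hj =>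
    (isZero_HF_toD_of_isZero_X E j (hE j (Or.inl hj))).of_iso ((HF A j).mapIso e.symm)
  set c : ℤ := b - i + 1 with hc
  have hT := truncTriangle_distinguished K c
  -- the truncation is pseudo-coherent
  have hfin1 : ∀ j : ℤ, Module.Finite A ((HF A j).obj (truncTriangle K c).obj₁) := fun j => by
    by_cases hj : j < c
    · have h2 : Module.Finite A ((HF A j).obj (truncTriangle K c).obj₂) := hK j
      exact Module.Finite.equiv (HFTruncLTIso K c j hj).symm.toLinearEquiv
    · have : Subsingleton ((HF A j).obj (truncTriangle K c).obj₁) :=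
        ModuleCat.subsingleton_of_isZero (isZero_HF_truncLT K c j (by omega))
      infer_instance
  have hpc : IsPseudoCoherent' A (truncTriangle K c).obj₁ :=
    isPseudoCoherent'_of_finite_HF _ (c - 1) (fun j hj => isZero_HF_truncLT K c j (by omega)) hfin1
  have hfinite : Module.Finite A ((truncTriangle K c).obj₁ ⟶ L⟦i⟧) :=
    finite_hom _ (L⟦i⟧) hpc (a - i) (fun j hj => isZero_HF_shift L i j (hLlow _ (by omega)))
      (fun j => finite_HF_shift L i j (hL _))
  -- no maps from the upper truncation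
  have hzero : ∀ f : (truncTriangle K c).obj₃ ⟶ L⟦i⟧, f = 0 := by
    rw [hom_shift_eq_zero_iff]
    intro g
    have := hom_eq_zero_of_injective_amplitude_above E a b hE hinj
      (((truncTriangle K c).obj₃)⟦-i⟧)
      (fun j hj => isZero_HF_shift _ (-i) j (isZero_HF_truncGE K c _ (by omega))) (g ≫ e.inv)
    rw [← cancel_mono e.inv, this, zero_comp]
  have hex := exact_leftComp (R := A) (truncTriangle K c) hT (L⟦i⟧)
  have hinj' : Function.Injective (Linear.leftComp A (L⟦i⟧) (truncTriangle K c).mor₁) := by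
    rw [← LinearMap.ker_eq_bot, (LinearMap.exact_iff.mp hex)]
    rw [LinearMap.range_eq_bot]
    ext f
    rw [hzero f]
    simp
  exact Module.Finite.of_injective _ hinj'

end Groth.Agent.Lib.Helper12.HomFinite
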