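import Mathlib
import Groth.Agent.Lib.Helper12.HomFinite
import Groth.Agent.Lib.Helper12.DualizingBC

/-!
# Bass's criterion: injective dimension is detected on residue fields (helper12)
-/

set_option autoImplicit false
universe u
open CategoryTheory CategoryTheory.Limits

attribute [local instance] HasDerivedCategory.standard

namespace Groth.Agent.Lib.Helper12.Bass
open Groth.Agent.Lib.Helper12 Groth.Agent.Lib.Helper12.FlatHomBC DRing Pretriangulated

variable {A : Type u} [CommRing A] (K : Dual.D A)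

/-- vanishing of `Ext^i(M, K)` for `i > b` -/
def VanishAbove (b : ℤ) (M : Type u) [AddCommGroup M] [Module A M] : Prop :=
  ∀ i : ℤ, b < i → Subsingleton (Dual.inD A M ⟶ K⟦i⟧)

variable {K}

lemma VanishAbove.of_linearEquiv {b : ℤ} {M M' : Type u} [AddCommGroup M] [Module A M]
    [AddCommGroup M'] [Module A M'] (e : M ≃ₗ[A] M') (h : VanishAbove K b M) :
    VanishAbove K b M' := by
  intro i hi
  have := h i hi
  exact ⟨fun f g => by
    rw [← cancel_epi (inDMapIso e.toModuleIso).hom]
    exact Subsingleton.elim _ _⟩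

lemma VanishAbove.of_subsingleton {b : ℤ} (M : Type u) [AddCommGroup M] [Module A M]
    [Subsingleton M] : VanishAbove K b M := by
  intro i _
  have hz : IsZero (Dual.inD A M) :=
    isZero_inD (M := ModuleCat.of A M) (ModuleCat.isZero_of_subsingleton _)
  exact ⟨fun f g => hz.eq_of_src f g⟩

lemma VanishAbove.of_exact {b : ℤ} {M₁ M₂ M₃ : Type u} [AddCommGroup M₁] [Module A M₁]
    [AddCommGroup M₂] [Module A M₂] [AddCommGroup M₃] [Module A M₃]
    (f : M₁ →ₗ[A] M₂) (g : M₂ →ₗ[A] M₃) (hf : Function.Injective f)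
    (hg : Function.Surjective g) (hfg : Function.Exact f g)
    (h₁ : VanishAbove K b M₁) (h₃ : VanishAbove K b M₃) : VanishAbove K b M₂ := by
  intro i hi
  let S : ShortComplex (ModuleCat.{u} A) :=
    ShortComplex.mk (ModuleCat.ofHom f) (ModuleCat.ofHom g) (by
      refine ModuleCat.hom_ext (LinearMap.ext fun x => ?_)
      exact hfg.apply_apply_eq_zero x)
  have hS : S.ShortExact := by
    have hmono : Mono S.f := (ModuleCat.mono_iff_injective _).mpr hf
    have hepi : Epi S.g := (ModuleCat.epi_iff_surjective _).mpr hg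
    refine ShortComplex.ShortExact.mk ?_
    rw [ShortComplex.moduleCat_exact_iff_range_eq_ker]
    exact (LinearMap.exact_iff.mp hfg).symm
  have hT := hS.singleTriangle_distinguished
  have i1 : Subsingleton (hS.singleTriangle.obj₁ ⟶ K⟦i⟧) := h₁ i hi
  have i3 : Subsingleton (hS.singleTriangle.obj₃ ⟶ K⟦i⟧) := h₃ i hi
  refine ⟨fun y y' => ?_⟩
  have h0 : ∀ y : Dual.inD A M₂ ⟶ K⟦i⟧, y = 0 := fun y => by
    obtain ⟨z, hz⟩ := Triangle.yoneda_exact₂ _ hT y (Subsingleton.elim _ _)
    rw [hz, Subsingleton.elim z 0]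
    exact comp_zero
  rw [h0 y, h0 y']

/-- dévissage: vanishing for all `A ⧸ q`, `q ⊇ J` prime, implies vanishing for all finite modules
killed by `J` -/
theorem vanishAbove_of_forall_prime_ge [IsNoetherianRing A] {b : ℤ} (J : Ideal A)
    (IH : ∀ q : Ideal A, q.IsPrime → J ≤ q → VanishAbove K b (A ⧸ q))
    (N : Type u) [AddCommGroup N] [Module A N] [hN : Module.Finite A N]
    (hkill : ∀ y ∈ J, ∀ n : N, y • n = 0) : VanishAbove K b N := by
  revert hkill
  refine IsNoetherianRing.induction_on_isQuotientEquivQuotientPrime A hN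
    (motive := fun N _ _ _ => (∀ y ∈ J, ∀ n : N, y • n = 0) → VanishAbove K b N) ?_ ?_ ?_
  · intro N _ _ _ _ _
    exact VanishAbove.of_subsingleton N
  · intro N _ _ _ q e hkill
    have hJq : J ≤ q.asIdeal := by
      intro y hy
      have h1 := hkill y hy (e.symm 1)
      have h2 : y • (1 : A ⧸ q.asIdeal) = 0 := by
        rw [← e.apply_symm_apply 1, ← map_smul, h1, map_zero]
      rw [← Ideal.Quotient.eq_zero_iff_mem]
      rw [← h2]
      simp [Algebra.smul_def]
    exact (IH q.asIdeal q.isPrime hJq).of_linearEquiv e.symm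
  · intro N₁ _ _ _ N₂ _ _ _ N₃ _ _ _ f g hf hg hfg h₁ h₃ hkill
    refine VanishAbove.of_exact f g hf hg hfg (h₁ ?_) (h₃ ?_)
    · intro y hy n
      apply hf
      rw [map_smul, hkill y hy, map_zero]
    · intro y hy n
      obtain ⟨n', rfl⟩ := hg n
      rw [← map_smul, hkill y hy, map_zero]

/-- precomposition with multiplication by `x` is multiplication by `x` -/
lemma map_lsmul_comp (x : A) (M : Type u) [AddCommGroup M] [Module A M] {Y : Dual.D A}
    (f : Dual.inD A M ⟶ Y) :
    (DerivedCategory.singleFunctor (ModuleCat.{u} A) 0).map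
      (ModuleCat.ofHom (LinearMap.lsmul A M x)) ≫ f = x • f := by
  have h1 : ModuleCat.ofHom (LinearMap.lsmul A M x) = x • 𝟙 (ModuleCat.of A M) := by
    refine ModuleCat.hom_ext (LinearMap.ext fun y => ?_)
    rfl
  rw [h1, Functor.map_smul, CategoryTheory.Functor.map_id, Linear.smul_comp, Category.id_comp]

open Groth.Agent.Lib.Helper36.InjAmp in
/-- shifting a vanishing statement -/
lemma hom_shift_neg_one_eq_zero (X Y : Dual.D A) (i : ℤ) (h : ∀ f : X ⟶ Y⟦i + 1⟧, f = 0)
    (g : X⟦(-1 : ℤ)⟧ ⟶ Y⟦i⟧) : g = 0 := by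
  have h1 : ∀ f : X ⟶ (Y⟦i⟧)⟦(1 : ℤ)⟧, f = 0 := fun f => by
    have := h (f ≫ ((shiftFunctorAdd' (Dual.D A) i 1 (i + 1) rfl).app Y).inv)
    rw [← cancel_mono ((shiftFunctorAdd' (Dual.D A) i 1 (i + 1) rfl).app Y).inv, this, zero_comp]
  exact (hom_shift_eq_zero_iff X (Y⟦i⟧) 1).mp h1 g

/-- **Bass's lemma**, the inductive step over primes -/
theorem vanishAbove_quotient_prime [IsNoetherianRing A] {b : ℤ} (a₀ : ℤ)
    (hlow : ∀ j : ℤ, j < a₀ → IsZero ((HF A j).obj K))
    (hfin : ∀ j : ℤ, Module.Finite A ((HF A j).obj K))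
    (hmax : ∀ m : Ideal A, m.IsMaximal → VanishAbove K b (A ⧸ m)) :
    ∀ p : Ideal A, p.IsPrime → VanishAbove K b (A ⧸ p) := by
  intro p
  refine IsNoetherian.induction
    (P := fun p : Ideal A => p.IsPrime → VanishAbove K b (A ⧸ p)) ?_ p
  intro (p : Ideal A) IH (hp : p.IsPrime)
  by_cases hpm : p.IsMaximal
  · exact hmax p hpm
  intro i hi
  by_contra hns
  rw [not_subsingleton_iff_nontrivial] at hns
  have hTfin : Module.Finite A (Dual.inD A (A ⧸ p) ⟶ K⟦i⟧) :=
    HomFinite.finite_hom _ (K⟦i⟧) (DualizingBC.isPseudoCoherent'_inD (A ⧸ p)) (a₀ - i)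
      (fun j hj => isZero_HF_shift K i j (hlow _ (by omega)))
      (fun j => HomFinite.finite_HF_shift K i j (hfin _))
  have hann : Module.annihilator A (Dual.inD A (A ⧸ p) ⟶ K⟦i⟧) ≠ ⊤ := by
    rw [Ne, Module.annihilator_eq_top_iff]
    exact not_subsingleton _
  obtain ⟨m, hm, hle⟩ := Ideal.exists_le_maximal _ hann
  have hpann : p ≤ Module.annihilator A (Dual.inD A (A ⧸ p) ⟶ K⟦i⟧) := by
    intro y hy
    rw [Module.mem_annihilator]
    intro f
    rw [← map_lsmul_comp y (A ⧸ p) f]
    have h0 : ModuleCat.ofHom (LinearMap.lsmul A (A ⧸ p) y) = 0 := by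
      refine ModuleCat.hom_ext (LinearMap.ext fun z => ?_)
      show y • z = 0
      obtain ⟨z, rfl⟩ := Ideal.Quotient.mk_surjective z
      rw [← Ideal.Quotient.mk_eq_mk, ← Submodule.Quotient.mk_smul, Submodule.Quotient.mk_eq_zero]
      exact p.mul_mem_right z hy
    rw [h0, CategoryTheory.Functor.map_zero, zero_comp]
  have hpm' : p < m := lt_of_le_of_ne (hpann.trans hle) (fun h => hpm (h ▸ hm))
  obtain ⟨x, hxm, hxp⟩ := SetLike.exists_of_lt hpm'
  let R : Submodule A (A ⧸ p) := LinearMap.range (LinearMap.lsmul A (A ⧸ p) x)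
  have hN : VanishAbove K b ((A ⧸ p) ⧸ R) := by
    refine vanishAbove_of_forall_prime_ge (p ⊔ Ideal.span {x}) ?_ _ ?_
    · intro q hq hJq
      have hpq : p < q := by
        refine lt_of_le_of_ne (le_sup_left.trans hJq) ?_
        intro h
        apply hxp
        rw [h]
        exact hJq (Ideal.mem_sup_right (Ideal.mem_span_singleton_self x))
      exact IH q hpq hq
    · intro y hy n
      obtain ⟨n, rfl⟩ := Submodule.mkQ_surjective R n
      obtain ⟨n, rfl⟩ := Ideal.Quotient.mk_surjective n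
      obtain ⟨y₁, hy₁, y₂, hy₂, rfl⟩ := Submodule.mem_sup.mp hy
      obtain ⟨c, rfl⟩ := Ideal.mem_span_singleton'.mp hy₂
      rw [← map_smul, Submodule.mkQ_apply, Submodule.Quotient.mk_eq_zero]
      refine ⟨c • Ideal.Quotient.mk p n, ?_⟩
      show x • (c • Ideal.Quotient.mk p n) = (y₁ + c * x) • Ideal.Quotient.mk p n
      rw [add_smul]
      have : y₁ • Ideal.Quotient.mk p n = 0 := by
        rw [← Ideal.Quotient.mk_eq_mk, ← Submodule.Quotient.mk_smul, Submodule.Quotient.mk_eq_zero]
        exact p.mul_mem_right n hy₁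
      rw [this, zero_add, smul_smul, mul_comm]
  have hsurj : ∀ f : Dual.inD A (A ⧸ p) ⟶ K⟦i⟧,
      ∃ z : Dual.inD A (A ⧸ p) ⟶ K⟦i⟧, f = x • z := by
    intro f
    let S : ShortComplex (ModuleCat.{u} A) :=
      ShortComplex.mk (ModuleCat.ofHom (LinearMap.lsmul A (A ⧸ p) x)) (ModuleCat.ofHom R.mkQ) (by
        refine ModuleCat.hom_ext (LinearMap.ext fun z => ?_)
        show R.mkQ (LinearMap.lsmul A (A ⧸ p) x z) = 0
        rw [Submodule.mkQ_apply, Submodule.Quotient.mk_eq_zero]
        exact ⟨z, rfl⟩)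
    have hS : S.ShortExact := by
      have hmono : Mono S.f := by
        rw [ModuleCat.mono_iff_injective]
        show Function.Injective (LinearMap.lsmul A (A ⧸ p) x)
        rw [← LinearMap.ker_eq_bot, LinearMap.ker_eq_bot']
        intro z hz
        obtain ⟨z, rfl⟩ := Ideal.Quotient.mk_surjective z
        have h1 : Ideal.Quotient.mk p (x * z) = 0 := by
          rw [map_mul]
          exact hz
        rw [Ideal.Quotient.eq_zero_iff_mem] at h1 ⊢
        exact (hp.mem_or_mem h1).resolve_left hxp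
      have hepi : Epi S.g := (ModuleCat.epi_iff_surjective _).mpr R.mkQ_surjective
      refine ShortComplex.ShortExact.mk ?_
      rw [ShortComplex.moduleCat_exact_iff_range_eq_ker]
      show R = LinearMap.ker R.mkQ
      rw [Submodule.ker_mkQ]
    have hT := inv_rot_of_distTriang _ hS.singleTriangle_distinguished
    obtain ⟨z, hz⟩ := Triangle.yoneda_exact₂ _ hT f
      (hom_shift_neg_one_eq_zero _ _ i (fun g => by
        have i3 : Subsingleton (hS.singleTriangle.obj₃ ⟶ K⟦i + 1⟧) := hN (i + 1) (by omega)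
        exact Subsingleton.elim _ _) _)
    exact ⟨z, hz.trans (map_lsmul_comp x _ z)⟩
  obtain ⟨r, hr1, hr2⟩ := Submodule.exists_sub_one_mem_and_smul_eq_zero_of_fg_of_le_smul
    (Ideal.span {x}) (⊤ : Submodule A (Dual.inD A (A ⧸ p) ⟶ K⟦i⟧)) hTfin.fg_top (by
      intro f _
      obtain ⟨z, rfl⟩ := hsurj f
      exact Submodule.smul_mem_smul (Ideal.mem_span_singleton_self x) trivial)
  have hrm : r ∈ m := hle (by
    rw [Module.mem_annihilator]
    intro f
    exact hr2 f trivial)
  have hxm' : r - 1 ∈ m := ((Ideal.span_singleton_le_iff_mem m).mpr hxm) hr1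
  have h1 : (1 : A) ∈ m := by
    have := m.sub_mem hrm hxm'
    simpa using this
  exact hm.ne_top ((Ideal.eq_top_iff_one m).mpr h1)

/-- **Bass's criterion**: vanishing of `Ext^i(A/m, K)`, `i > b`, for all maximal ideals implies
vanishing of `Ext^i(M, K)`, `i > b`, for all finite modules -/
theorem vanishAbove_of_maximal [IsNoetherianRing A] {b : ℤ} (a₀ : ℤ)
    (hlow : ∀ j : ℤ, j < a₀ → IsZero ((HF A j).obj K))
    (hfin : ∀ j : ℤ, Module.Finite A ((HF A j).obj K))
    (hmax : ∀ m : Ideal A, m.IsMaximal → VanishAbove K b (A ⧸ m))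
    (M : Type u) [AddCommGroup M] [Module A M] [Module.Finite A M] : VanishAbove K b M :=
  vanishAbove_of_forall_prime_ge ⊥
    (fun q hq _ => vanishAbove_quotient_prime a₀ hlow hfin hmax q hq) M (by
      intro y hy n
      rw [Ideal.mem_bot] at hy
      rw [hy, zero_smul])

/-- maps from a module to a negative shift of a bounded below object vanish -/
lemma subsingleton_hom_inD_of_lt (a : ℤ) (hlow : ∀ j : ℤ, j < a → IsZero ((HF A j).obj K))
    (M : Type u) [AddCommGroup M] [Module A M] (i : ℤ) (hi : i < a) :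
    Subsingleton (Dual.inD A M ⟶ K⟦i⟧) := by
  have h0 : ∀ f : Dual.inD A M ⟶ K⟦i⟧, f = 0 := fun f =>
    hom_eq_zero_of_HF _ _ 1
      (fun j hj => DerivedCategory.isZero_of_isLE _ 0 j (by omega))
      (fun j hj => isZero_HF_shift K i j (hlow _ (by omega))) f
  exact ⟨fun f g => (h0 f).trans (h0 g).symm⟩

/-- **finite injective dimension via residue fields** -/
theorem finite_injective_dimension_of_maximal [IsNoetherianRing A] (K : Dual.D A) (a b : ℤ)
    (hlow : ∀ j : ℤ, j < a → IsZero ((HF A j).obj K))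
    (hfin : ∀ j : ℤ, Module.Finite A ((HF A j).obj K))
    (hmax : ∀ m : Ideal A, m.IsMaximal → ∀ i : ℤ, b < i →
      Subsingleton (Dual.inD A (A ⧸ m) ⟶ K⟦i⟧)) :
    ∀ (M : Type u) [AddCommGroup M] [Module A M] (i : ℤ),
      (i < a ∨ b < i) → Subsingleton (Dual.inD A M ⟶ K⟦i⟧) := by
  refine DualizingBC.finite_injective_dimension_of_quotient K a b (fun I i hi => ?_)
  rcases hi with hi | hi
  · exact subsingleton_hom_inD_of_lt a hlow _ i hi
  · exact vanishAbove_of_maximal a hlow hfin hmax (A ⧸ I) i hi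

end Groth.Agent.Lib.Helper12.Bass
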