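import Mathlib
import Groth.Agent.Lib.Helper12.BassCriterion

/-!
# Dévissage of `Hom(N, ω[i])` to modules (helper12)
-/

set_option autoImplicit false
universe u
open CategoryTheory CategoryTheory.Limits

attribute [local instance] HasDerivedCategory.standard

namespace Groth.Agent.Lib.Helper12.Bass
open Groth.Agent.Lib.Helper12 Groth.Agent.Lib.Helper12.FlatHomBC DRing Pretriangulated
open Groth.Agent.Lib.Helper36.InjAmp

variable {A : Type u} [CommRing A]

/-- vanishing of `Hom(Y[-b], ω[i])` from vanishing of `Hom(Y, ω[i+b])` -/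
lemma hom_single_shift_eq_zero (ω : Dual.D A) (Y : ModuleCat.{u} A) (b i : ℤ)
    (h : ∀ f : Dual.inD A Y ⟶ ω⟦i + b⟧, f = 0)
    (g : (DerivedCategory.singleFunctor (ModuleCat.{u} A) b).obj Y ⟶ ω⟦i⟧) : g = 0 := by
  have h1 : ∀ f : Dual.inD A Y ⟶ (ω⟦i⟧)⟦b⟧, f = 0 := fun f => by
    have := h (f ≫ ((shiftFunctorAdd' (Dual.D A) i b (i + b) rfl).app ω).inv)
    rw [← cancel_mono ((shiftFunctorAdd' (Dual.D A) i b (i + b) rfl).app ω).inv, this, zero_comp]
  have h2 := (hom_shift_eq_zero_iff (Dual.inD A Y) (ω⟦i⟧) b).mp h1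
    ((singleFunctorShiftIso b Y).inv ≫ g)
  rw [← cancel_epi (singleFunctorShiftIso b Y).inv, h2, comp_zero]

/-- dévissage: if `Ext^k(M, ω) = 0` for all finite modules `M` and `k > c`, then
`Hom(N, ω[i]) = 0` for `N` bounded with finite cohomology in degrees `≥ a` and `i + a > c` -/
theorem subsingleton_hom_of_vanishAbove (ω : Dual.D A) (c : ℤ)
    (hvan : ∀ (M : ModuleCat.{u} A), Module.Finite A M → ∀ k : ℤ, c < k →
      Subsingleton (Dual.inD A M ⟶ ω⟦k⟧)) (a : ℤ) (i : ℤ) (hi : c < i + a) :
    ∀ (n : ℕ) (b : ℤ), b < a + n → ∀ N : Dual.D A,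
      (∀ j : ℤ, Module.Finite A ((HF A j).obj N)) →
      (∀ j : ℤ, j < a ∨ b < j → IsZero ((HF A j).obj N)) → Subsingleton (N ⟶ ω⟦i⟧) := by
  intro n
  induction n with
  | zero =>
    intro b hab N _ hN
    have hz : IsZero N := by
      apply isZero_of_forall_isZero_HF
      intro j
      apply hN
      simp only [Nat.cast_zero, add_zero] at hab
      omega
    exact ⟨fun f g => hz.eq_of_src f g⟩
  | succ n ih =>
    intro b hab N hfin hN
    by_cases hba : b < a
    · have hz : IsZero N := by
        apply isZero_of_forall_isZero_HF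
        intro j
        apply hN
        omega
      exact ⟨fun f g => hz.eq_of_src f g⟩
    have hT := truncTriangle_distinguished N b
    have h1 : Subsingleton ((truncTriangle N b).obj₁ ⟶ ω⟦i⟧) := by
      refine ih (b - 1) (by push_cast at hab; omega) _ ?_ ?_
      · intro j
        by_cases hjb : j < b
        · have h2 : Module.Finite A ((HF A j).obj (truncTriangle N b).obj₂) := hfin j
          exact Module.Finite.equiv (HFTruncLTIso N b j hjb).symm.toLinearEquiv
        · have : Subsingleton ((HF A j).obj (truncTriangle N b).obj₁) :=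
            ModuleCat.subsingleton_of_isZero (isZero_HF_truncLT N b j (by omega))
          infer_instance
      · intro j hj
        by_cases hjb : j < b
        · exact IsZero.of_iso (hN j (by omega)) (HFTruncLTIso N b j hjb)
        · exact isZero_HF_truncLT N b j (by omega)
    have h3 : ∀ g : (truncTriangle N b).obj₃ ⟶ ω⟦i⟧, g = 0 := by
      have hGE : (truncTriangle N b).obj₃.IsGE b := inferInstance
      have hLE : (truncTriangle N b).obj₃.IsLE b := by
        rw [DerivedCategory.isLE_iff]
        intro j hj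
        exact IsZero.of_iso (hN j (by omega)) (HFTruncGEIso N b j (by omega)).symm
      obtain ⟨Y, ⟨e⟩⟩ := DerivedCategory.exists_iso_singleFunctor_obj_of_isGE_of_isLE
        (truncTriangle N b).obj₃ b
      have eY : (HF A b).obj N ≅ Y :=
        HFTruncGEIso N b b le_rfl ≪≫ (HF A b).mapIso e ≪≫ HFSingleIso b Y
      have hYfin : Module.Finite A Y := by
        have := hfin b
        exact Module.Finite.equiv eY.toLinearEquiv
      intro g
      have hv := hvan Y hYfin (i + b) (by omega)
      have := hom_single_shift_eq_zero ω Y b i (fun f => Subsingleton.elim _ _) (e.inv ≫ g)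
      rw [← cancel_epi e.inv, this, comp_zero]
    refine ⟨fun f g => ?_⟩
    have h0 : ∀ f : N ⟶ ω⟦i⟧, f = 0 := fun f => by
      obtain ⟨z, hz⟩ := Triangle.yoneda_exact₂ _ hT f (Subsingleton.elim _ _)
      rw [hz, h3 z]
      exact comp_zero
    rw [h0 f, h0 g]

end Groth.Agent.Lib.Helper12.Bass
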