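import Mathlib
import Groth.Agent.Lib.Helper12.BassDevissage

/-!
# Single-degree dévissage lemmas for `Hom(-, K[i])` (helper12)
-/

set_option autoImplicit false
universe u
open CategoryTheory CategoryTheory.Limits

attribute [local instance] HasDerivedCategory.standard

namespace Groth.Agent.Lib.Helper12.Bass
open Groth.Agent.Lib.Helper12 Groth.Agent.Lib.Helper12.FlatHomBC DRing Pretriangulated
open Groth.Agent.Lib.Helper36.InjAmp

variable {A : Type u} [CommRing A] (K : Dual.D A)

/-- vanishing of `Ext^k(M, K)` in a single degree -/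
def VanishAt (k : ℤ) (M : Type u) [AddCommGroup M] [Module A M] : Prop :=
  Subsingleton (Dual.inD A M ⟶ K⟦k⟧)

variable {K}

lemma VanishAt.of_linearEquiv {k : ℤ} {M M' : Type u} [AddCommGroup M] [Module A M]
    [AddCommGroup M'] [Module A M'] (e : M ≃ₗ[A] M') (h : VanishAt K k M) :
    VanishAt K k M' := by
  have : Subsingleton (Dual.inD A M ⟶ K⟦k⟧) := h
  exact ⟨fun f g => by
    rw [← cancel_epi (inDMapIso e.toModuleIso).hom]
    exact Subsingleton.elim _ _⟩

lemma VanishAt.of_subsingleton {k : ℤ} (M : Type u) [AddCommGroup M] [Module A M]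
    [Subsingleton M] : VanishAt K k M := by
  have hz : IsZero (Dual.inD A M) :=
    isZero_inD (M := ModuleCat.of A M) (ModuleCat.isZero_of_subsingleton _)
  exact ⟨fun f g => hz.eq_of_src f g⟩

lemma VanishAt.of_exact {k : ℤ} {M₁ M₂ M₃ : Type u} [AddCommGroup M₁] [Module A M₁]
    [AddCommGroup M₂] [Module A M₂] [AddCommGroup M₃] [Module A M₃]
    (f : M₁ →ₗ[A] M₂) (g : M₂ →ₗ[A] M₃) (hf : Function.Injective f)
    (hg : Function.Surjective g) (hfg : Function.Exact f g)
    (h₁ : VanishAt K k M₁) (h₃ : VanishAt K k M₃) : VanishAt K k M₂ := by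
  let S : ShortComplex (ModuleCat.{u} A) :=
    ShortComplex.mk (ModuleCat.ofHom f) (ModuleCat.ofHom g) (by
      refine ModuleCat.hom_ext (LinearMap.ext fun x => ?_)
      exact hfg.apply_apply_eq_zero x)
  have hS : S.ShortExact := by
    have hmono : Mono S.f := (ModuleCat.mono_iff_injective _).mpr hf
    have hepi : Epi S.g := (ModuleCat.epi_iff_surjective _).mpr hg
    refine ShortComplex.ShortExact.mk ?_
    rw [ShortComplex.moduleCat_exact_iff_range_eq_ker]
    exact (LinearMap.exact_iff.mp hfg).symm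
  have hT := hS.singleTriangle_distinguished
  have i1 : Subsingleton (hS.singleTriangle.obj₁ ⟶ K⟦k⟧) := h₁
  have i3 : Subsingleton (hS.singleTriangle.obj₃ ⟶ K⟦k⟧) := h₃
  refine ⟨fun y y' => ?_⟩
  have h0 : ∀ y : Dual.inD A M₂ ⟶ K⟦k⟧, y = 0 := fun y => by
    obtain ⟨z, hz⟩ := Triangle.yoneda_exact₂ _ hT y (Subsingleton.elim _ _)
    rw [hz, Subsingleton.elim z 0]
    exact comp_zero
  rw [h0 y, h0 y']

/-- dévissage in a single degree: vanishing for `A ⧸ m` implies vanishing for all finite
modules killed by the maximal ideal `m` -/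
theorem vanishAt_of_killed [IsNoetherianRing A] {k : ℤ} (m : Ideal A) [hm : m.IsMaximal]
    (h : VanishAt K k (A ⧸ m))
    (N : Type u) [AddCommGroup N] [Module A N] [hN : Module.Finite A N]
    (hkill : ∀ y ∈ m, ∀ n : N, y • n = 0) : VanishAt K k N := by
  revert hkill
  refine IsNoetherianRing.induction_on_isQuotientEquivQuotientPrime A hN
    (motive := fun N _ _ _ => (∀ y ∈ m, ∀ n : N, y • n = 0) → VanishAt K k N) ?_ ?_ ?_
  · intro N _ _ _ _ _
    exact VanishAt.of_subsingleton N
  · intro N _ _ _ q e hkill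
    have hJq : m ≤ q.asIdeal := by
      intro y hy
      have h1 := hkill y hy (e.symm 1)
      have h2 : y • (1 : A ⧸ q.asIdeal) = 0 := by
        rw [← e.apply_symm_apply 1, ← map_smul, h1, map_zero]
      rw [← Ideal.Quotient.eq_zero_iff_mem]
      rw [← h2]
      simp [Algebra.smul_def]
    have hq : m = q.asIdeal := hm.eq_of_le q.isPrime.ne_top hJq
    have h' : VanishAt K k (A ⧸ q.asIdeal) := hq ▸ h
    exact h'.of_linearEquiv e.symm
  · intro N₁ _ _ _ N₂ _ _ _ N₃ _ _ _ f g hf hg hfg h₁ h₃ hkill
    refine VanishAt.of_exact f g hf hg hfg (h₁ ?_) (h₃ ?_)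
    · intro y hy n
      apply hf
      rw [map_smul, hkill y hy, map_zero]
    · intro y hy n
      obtain ⟨n', rfl⟩ := hg n
      rw [← map_smul, hkill y hy, map_zero]

/-- dévissage over the cohomology modules: if `Hom(H^j(N), K[i+j]) = 0` for all `j`, then
`Hom(N, K[i]) = 0`, for `N` with bounded cohomology -/
theorem hom_eq_zero_of_cohomology (i : ℤ) (a : ℤ) :
    ∀ (n : ℕ) (b : ℤ), b < a + n → ∀ N : Dual.D A,
      (∀ j : ℤ, j < a ∨ b < j → IsZero ((HF A j).obj N)) →
      (∀ j : ℤ, ∀ f : Dual.inD A ((HF A j).obj N) ⟶ K⟦i + j⟧, f = 0) →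
      ∀ g : N ⟶ K⟦i⟧, g = 0 := by
  intro n
  induction n with
  | zero =>
    intro b hab N hN _ g
    have hz : IsZero N := by
      apply isZero_of_forall_isZero_HF
      intro j
      apply hN
      simp only [Nat.cast_zero, add_zero] at hab
      omega
    exact hz.eq_of_src _ _
  | succ n ih =>
    intro b hab N hN hvan g
    by_cases hba : b < a
    · have hz : IsZero N := by
        apply isZero_of_forall_isZero_HF
        intro j
        apply hN
        omega
      exact hz.eq_of_src _ _
    have hT := truncTriangle_distinguished N b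
    have h1 : ∀ f : (truncTriangle N b).obj₁ ⟶ K⟦i⟧, f = 0 := by
      refine ih (b - 1) (by push_cast at hab; omega) _ ?_ ?_
      · intro j hj
        by_cases hjb : j < b
        · exact IsZero.of_iso (hN j (by omega)) (HFTruncLTIso N b j hjb)
        · exact isZero_HF_truncLT N b j (by omega)
      · intro j f
        by_cases hjb : j < b
        · have h2 := hvan j ((inDMapIso (HFTruncLTIso N b j hjb)).inv ≫ f)
          exact (cancel_epi (inDMapIso (HFTruncLTIso N b j hjb)).inv).mp
            (h2.trans comp_zero.symm)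
        · exact (isZero_inD (isZero_HF_truncLT N b j (by omega))).eq_of_src _ _
    have h3 : ∀ g : (truncTriangle N b).obj₃ ⟶ K⟦i⟧, g = 0 := by
      have hGE : (truncTriangle N b).obj₃.IsGE b := inferInstance
      have hLE : (truncTriangle N b).obj₃.IsLE b := by
        rw [DerivedCategory.isLE_iff]
        intro j hj
        exact IsZero.of_iso (hN j (by omega)) (HFTruncGEIso N b j (by omega)).symm
      obtain ⟨Y, ⟨e⟩⟩ := DerivedCategory.exists_iso_singleFunctor_obj_of_isGE_of_isLE
        (truncTriangle N b).obj₃ b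
      have eY : (HF A b).obj N ≅ Y :=
        HFTruncGEIso N b b le_rfl ≪≫ (HF A b).mapIso e ≪≫ HFSingleIso b Y
      intro g
      have hv : ∀ f : Dual.inD A Y ⟶ K⟦i + b⟧, f = 0 := fun f => by
        have h2 := hvan b ((inDMapIso eY).hom ≫ f)
        exact (cancel_epi (inDMapIso eY).hom).mp (h2.trans comp_zero.symm)
      have := hom_single_shift_eq_zero K Y b i hv (e.inv ≫ g)
      rw [← cancel_epi e.inv, this, comp_zero]
    obtain ⟨z, hz⟩ := Triangle.yoneda_exact₂ _ hT g (h1 _)
    rw [hz, h3 z]
    exact comp_zero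

end Groth.Agent.Lib.Helper12.Bass
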