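import Mathlib

/-!
# Exactness lemmas for `Hom(-, W)` on distinguished triangles (helper12)
-/

set_option autoImplicit false
open CategoryTheory CategoryTheory.Limits CategoryTheory.Pretriangulated

namespace Groth.Agent.Lib.Helper12.TriSqueeze

variable {C : Type*} [Category C] [Preadditive C] [HasZeroObject C] [HasShift C ℤ]
  [∀ n : ℤ, (shiftFunctor C n).Additive] [Pretriangulated C]

/-- exactness at the first vertex: a map out of `T.obj₁` extends to `T.obj₂` if there are no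
maps from `T.obj₃⟦-1⟧` -/
lemma exists_factor₁ (T : Triangle C) (hT : T ∈ distTriang C) {W : C} (g : T.obj₁ ⟶ W)
    (h : ∀ z : T.obj₃⟦(-1 : ℤ)⟧ ⟶ W, z = 0) : ∃ y : T.obj₂ ⟶ W, g = T.mor₁ ≫ y :=
  Triangle.yoneda_exact₂ _ (inv_rot_of_distTriang _ hT) g (h _)

/-- a map out of `T.obj₁⟦1⟧` killed by `T.mor₃` vanishes if there are no maps from `T.obj₂⟦1⟧` -/
lemma eq_zero_of_rot (T : Triangle C) (hT : T ∈ distTriang C) {W : C}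
    (g : T.obj₁⟦(1 : ℤ)⟧ ⟶ W) (hg : T.mor₃ ≫ g = 0)
    (h : ∀ y : T.obj₂⟦(1 : ℤ)⟧ ⟶ W, y = 0) : g = 0 := by
  obtain ⟨y, hy⟩ := Triangle.yoneda_exact₃ _ (rot_of_distTriang _ hT) g hg
  have hy0 : y = 0 := h y
  subst hy0
  rw [hy]
  exact comp_zero

/-- `Hom(X⟦k⟧, W)` is squeezed between `Hom(Z⟦k-1⟧, W)` and `Hom(Y⟦k⟧, W)` -/
lemma eq_zero_of_squeeze (T : Triangle C) (hT : T ∈ distTriang C) (k : ℤ) {W : C}
    (hZ : ∀ z : T.obj₃⟦k - 1⟧ ⟶ W, z = 0) (hY : ∀ y : T.obj₂⟦k⟧ ⟶ W, y = 0)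
    (g : T.obj₁⟦k⟧ ⟶ W) : g = 0 := by
  have hT' := Triangle.shift_distinguished T hT (k - 1)
  let e₁ : T.obj₁⟦k⟧ ≅ (T.obj₁⟦k - 1⟧)⟦(1 : ℤ)⟧ :=
    (shiftFunctorAdd' C (k - 1) 1 k (by omega)).app T.obj₁
  let e₂ : T.obj₂⟦k⟧ ≅ (T.obj₂⟦k - 1⟧)⟦(1 : ℤ)⟧ :=
    (shiftFunctorAdd' C (k - 1) 1 k (by omega)).app T.obj₂
  have h1 : e₁.inv ≫ g = 0 := eq_zero_of_rot _ hT' (W := W) (e₁.inv ≫ g) (hZ _)
    (fun (y : (T.obj₂⟦k - 1⟧)⟦(1 : ℤ)⟧ ⟶ W) => by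
    have h2 := hY (e₂.hom ≫ y)
    have h3 : e₂.inv ≫ (e₂.hom ≫ y) = 0 := by rw [h2, comp_zero]
    rwa [Iso.inv_hom_id_assoc] at h3)
  calc g = e₁.hom ≫ e₁.inv ≫ g := by rw [Iso.hom_inv_id_assoc]
    _ = 0 := by rw [h1, comp_zero]

/-- `Hom(Y⟦k⟧, W)` is squeezed between `Hom(X⟦k⟧, W)` and `Hom(Z⟦k⟧, W)` -/
lemma eq_zero_of_squeeze₂ (T : Triangle C) (hT : T ∈ distTriang C) (k : ℤ) {W : C}
    (hX : ∀ x : T.obj₁⟦k⟧ ⟶ W, x = 0) (hZ : ∀ z : T.obj₃⟦k⟧ ⟶ W, z = 0)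
    (g : T.obj₂⟦k⟧ ⟶ W) : g = 0 := by
  have hT' := Triangle.shift_distinguished T hT k
  obtain ⟨z, hz⟩ := Triangle.yoneda_exact₂ _ hT' g (hX _)
  have hz0 : z = 0 := hZ z
  subst hz0
  rw [hz]
  exact comp_zero

end Groth.Agent.Lib.Helper12.TriSqueeze
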