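import Mathlib
import Groth.Agent.Lib.Helper12.DerivedSingleHom
import Groth.Agent.Lib.Helper12.TriSqueeze

/-!
# The complex `Hom_A(M, E)` for a module `M` and a complex `E` (helper12)

Contravariant functoriality in `M`, exactness for termwise injective `E`, and the induced
distinguished triangles in `D(A)`.
-/

set_option autoImplicit false
universe u
open CategoryTheory CategoryTheory.Limits

attribute [local instance] HasDerivedCategory.standard

namespace Groth.Agent.Lib.Helper12.ModDual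
open Groth.Agent.Lib.Helper12 DRing Pretriangulated

variable {A : Type u} [CommRing A] (E : Cx A)

/-- `Hom_A(M, -)` as a functor on modules -/
noncomputable abbrev homF (M : ModuleCat.{u} A) : ModuleCat.{u} A ⥤ ModuleCat.{u} A :=
  (linearCoyoneda A (ModuleCat.{u} A)).obj (Opposite.op M)

/-- the complex `Hom_A(M, E)` -/
noncomputable def D₀ (M : ModuleCat.{u} A) : Cx A :=
  ((homF M).mapHomologicalComplex (ComplexShape.up ℤ)).obj E

/-- contravariant functoriality -/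
noncomputable def D₀map {M N : ModuleCat.{u} A} (g : M ⟶ N) : D₀ E N ⟶ D₀ E M :=
  (NatTrans.mapHomologicalComplex ((linearCoyoneda A (ModuleCat.{u} A)).map g.op)
    (ComplexShape.up ℤ)).app E

lemma D₀map_f_apply {M N : ModuleCat.{u} A} (g : M ⟶ N) (i : ℤ) (f : N ⟶ E.X i) :
    ((D₀map E g).f i).hom f = g ≫ f := rfl

@[simp]
lemma D₀map_id (M : ModuleCat.{u} A) : D₀map E (𝟙 M) = 𝟙 _ := by
  refine HomologicalComplex.hom_ext _ _ (fun i => ModuleCat.hom_ext
    (LinearMap.ext fun (f : M ⟶ E.X i) => ?_))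
  exact Category.id_comp f

lemma D₀map_comp {M N P : ModuleCat.{u} A} (g : M ⟶ N) (h : N ⟶ P) :
    D₀map E (g ≫ h) = D₀map E h ≫ D₀map E g := by
  refine HomologicalComplex.hom_ext _ _ (fun i => ModuleCat.hom_ext
    (LinearMap.ext fun (f : P ⟶ E.X i) => ?_))
  exact Category.assoc g h f

@[simp]
lemma D₀map_zero (M N : ModuleCat.{u} A) : D₀map E (0 : M ⟶ N) = 0 := by
  refine HomologicalComplex.hom_ext _ _ (fun i => ModuleCat.hom_ext
    (LinearMap.ext fun (f : N ⟶ E.X i) => ?_))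
  exact zero_comp (f := f)

lemma D₀map_add {M N : ModuleCat.{u} A} (g h : M ⟶ N) :
    D₀map E (g + h) = D₀map E g + D₀map E h := by
  refine HomologicalComplex.hom_ext _ _ (fun i => ModuleCat.hom_ext
    (LinearMap.ext fun (f : N ⟶ E.X i) => ?_))
  exact Preadditive.add_comp _ _ _ g h f

lemma D₀map_smul {M N : ModuleCat.{u} A} (a : A) (g : M ⟶ N) :
    D₀map E (a • g) = a • D₀map E g := by
  refine HomologicalComplex.hom_ext _ _ (fun i => ModuleCat.hom_ext
    (LinearMap.ext fun (f : N ⟶ E.X i) => ?_))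
  exact Linear.smul_comp _ _ _ a g f

/-- the short complex `Hom(X₃, E) ⟶ Hom(X₂, E) ⟶ Hom(X₁, E)` -/
noncomputable def dualSC (S : ShortComplex (ModuleCat.{u} A)) : ShortComplex (Cx A) :=
  ShortComplex.mk (D₀map E S.g) (D₀map E S.f) (by
    rw [← D₀map_comp, S.zero, D₀map_zero])

lemma dualSC_shortExact (hinj : ∀ i, Injective (E.X i)) (S : ShortComplex (ModuleCat.{u} A))
    (hS : S.ShortExact) : (dualSC E S).ShortExact := by
  have := hS.mono_f
  have := hS.epi_g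
  refine HomologicalComplex.shortExact_of_degreewise_shortExact _ (fun i => ?_)
  have := hinj i
  refine ShortComplex.ShortExact.mk' ?_ ?_ ?_
  · rw [ShortComplex.moduleCat_exact_iff]
    intro (f₂ : S.X₂ ⟶ E.X i) (h : S.f ≫ f₂ = 0)
    exact ⟨hS.exact.desc f₂ h, hS.exact.g_desc f₂ h⟩
  · rw [ModuleCat.mono_iff_injective]
    intro (f₃ : S.X₃ ⟶ E.X i) (f₃' : S.X₃ ⟶ E.X i) (h : S.g ≫ f₃ = S.g ≫ f₃')
    exact (cancel_epi S.g).mp h
  · rw [ModuleCat.epi_iff_surjective]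
    intro (f₁ : S.X₁ ⟶ E.X i)
    exact ⟨Injective.factorThru f₁ S.f, Injective.comp_factorThru f₁ S.f⟩

/-- the dual object in `D(A)` -/
noncomputable def D (M : ModuleCat.{u} A) : Dual.D A := toD (D₀ E M)

/-- contravariant functoriality in `D(A)` -/
noncomputable def Dmap {M N : ModuleCat.{u} A} (g : M ⟶ N) : D E N ⟶ D E M :=
  DerivedCategory.Q.map (D₀map E g)

@[simp]
lemma Dmap_id (M : ModuleCat.{u} A) : Dmap E (𝟙 M) = 𝟙 _ := by
  rw [Dmap, D₀map_id, CategoryTheory.Functor.map_id]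
  rfl

lemma Dmap_comp {M N P : ModuleCat.{u} A} (g : M ⟶ N) (h : N ⟶ P) :
    Dmap E (g ≫ h) = Dmap E h ≫ Dmap E g := by
  rw [Dmap, D₀map_comp, Functor.map_comp]
  rfl

@[simp]
lemma Dmap_zero (M N : ModuleCat.{u} A) : Dmap E (0 : M ⟶ N) = 0 := by
  rw [Dmap, D₀map_zero, Functor.map_zero]
  rfl

lemma Dmap_add {M N : ModuleCat.{u} A} (g h : M ⟶ N) :
    Dmap E (g + h) = Dmap E g + Dmap E h := by
  rw [Dmap, D₀map_add, Functor.map_add]
  rfl

lemma Dmap_smul {M N : ModuleCat.{u} A} (a : A) (g : M ⟶ N) :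
    Dmap E (a • g) = a • Dmap E g := by
  rw [Dmap, D₀map_smul, Functor.map_smul]
  rfl

/-- the distinguished triangle `D(X₃) ⟶ D(X₂) ⟶ D(X₁) ⟶` of a short exact sequence -/
noncomputable def dualTriangle (hinj : ∀ i, Injective (E.X i))
    (S : ShortComplex (ModuleCat.{u} A)) (hS : S.ShortExact) : Triangle (Dual.D A) :=
  DerivedCategory.triangleOfSES (dualSC_shortExact E hinj S hS)

lemma dualTriangle_distinguished (hinj : ∀ i, Injective (E.X i))
    (S : ShortComplex (ModuleCat.{u} A)) (hS : S.ShortExact) :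
    dualTriangle E hinj S hS ∈ distTriang (Dual.D A) :=
  DerivedCategory.triangleOfSES_distinguished _

lemma dualTriangle_obj₁ (hinj : ∀ i, Injective (E.X i))
    (S : ShortComplex (ModuleCat.{u} A)) (hS : S.ShortExact) :
    (dualTriangle E hinj S hS).obj₁ = D E S.X₃ := rfl

lemma dualTriangle_obj₂ (hinj : ∀ i, Injective (E.X i))
    (S : ShortComplex (ModuleCat.{u} A)) (hS : S.ShortExact) :
    (dualTriangle E hinj S hS).obj₂ = D E S.X₂ := rfl

lemma dualTriangle_obj₃ (hinj : ∀ i, Injective (E.X i))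
    (S : ShortComplex (ModuleCat.{u} A)) (hS : S.ShortExact) :
    (dualTriangle E hinj S hS).obj₃ = D E S.X₁ := rfl

lemma dualTriangle_mor₁ (hinj : ∀ i, Injective (E.X i))
    (S : ShortComplex (ModuleCat.{u} A)) (hS : S.ShortExact) :
    (dualTriangle E hinj S hS).mor₁ = Dmap E S.g := rfl

lemma dualTriangle_mor₂ (hinj : ∀ i, Injective (E.X i))
    (S : ShortComplex (ModuleCat.{u} A)) (hS : S.ShortExact) :
    (dualTriangle E hinj S hS).mor₂ = Dmap E S.f := rfl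

section Exactness

variable (hinj : ∀ i, Injective (E.X i)) (S : ShortComplex (ModuleCat.{u} A)) (hS : S.ShortExact)

/-- the connecting morphism -/
noncomputable def δ : D E S.X₁ ⟶ (D E S.X₃)⟦(1 : ℤ)⟧ := (dualTriangle E hinj S hS).mor₃

lemma Dmap_f_comp_δ : Dmap E S.f ≫ δ E hinj S hS = 0 :=
  comp_distTriang_mor_zero₂₃ _ (dualTriangle_distinguished E hinj S hS)

include hinj hS in
lemma dual_exact₂ {W : Dual.D A} (y : D E S.X₂ ⟶ W) (hy : Dmap E S.g ≫ y = 0) :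
    ∃ z : D E S.X₁ ⟶ W, y = Dmap E S.f ≫ z :=
  Triangle.yoneda_exact₂ _ (dualTriangle_distinguished E hinj S hS) y hy

lemma dual_exact₃ {W : Dual.D A} (z : D E S.X₁ ⟶ W) (hz : Dmap E S.f ≫ z = 0) :
    ∃ x : (D E S.X₃)⟦(1 : ℤ)⟧ ⟶ W, z = δ E hinj S hS ≫ x :=
  Triangle.yoneda_exact₃ _ (dualTriangle_distinguished E hinj S hS) z hz

include hinj hS in
lemma dual_factor₁ {W : Dual.D A} (g : D E S.X₃ ⟶ W)
    (h : ∀ z : (D E S.X₁)⟦(-1 : ℤ)⟧ ⟶ W, z = 0) : ∃ y : D E S.X₂ ⟶ W, g = Dmap E S.g ≫ y :=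
  TriSqueeze.exists_factor₁ _ (dualTriangle_distinguished E hinj S hS) g h

lemma dual_rot {W : Dual.D A} (g : (D E S.X₃)⟦(1 : ℤ)⟧ ⟶ W) (hg : δ E hinj S hS ≫ g = 0)
    (h : ∀ y : (D E S.X₂)⟦(1 : ℤ)⟧ ⟶ W, y = 0) : g = 0 :=
  TriSqueeze.eq_zero_of_rot _ (dualTriangle_distinguished E hinj S hS) g hg h

include hinj hS in
lemma dual_squeeze (k : ℤ) {W : Dual.D A} (hZ : ∀ z : (D E S.X₁)⟦k - 1⟧ ⟶ W, z = 0)
    (hY : ∀ y : (D E S.X₂)⟦k⟧ ⟶ W, y = 0) (g : (D E S.X₃)⟦k⟧ ⟶ W) : g = 0 :=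
  TriSqueeze.eq_zero_of_squeeze _ (dualTriangle_distinguished E hinj S hS) k hZ hY g

include hinj hS in
lemma dual_squeeze₂ (k : ℤ) {W : Dual.D A} (hX : ∀ x : (D E S.X₃)⟦k⟧ ⟶ W, x = 0)
    (hZ : ∀ z : (D E S.X₁)⟦k⟧ ⟶ W, z = 0) (g : (D E S.X₂)⟦k⟧ ⟶ W) : g = 0 :=
  TriSqueeze.eq_zero_of_squeeze₂ _ (dualTriangle_distinguished E hinj S hS) k hX hZ g

end Exactness

end Groth.Agent.Lib.Helper12.ModDual
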