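import Mathlib
import Groth.Agent.Lib.Helper12.ModDual
import Groth.Agent.Lib.Helper12.TriSqueeze

/-!
# Biduality for finite modules with respect to a complex of injectives (helper12)

`E` a complex of injective `A`-modules with `A ≃ End(E)` in `D(A)`, no self-maps of nonzero
degree, and `Hom(D(M)⟦k⟧, E) = 0` for `k ≪ 0` where `D(M) = Hom_A(M, E)`.  Then for every finite
module `M` over the Noetherian ring `A`, `M ≃ Hom(D(M), E)` and `Hom(D(M)⟦k⟧, E) = 0`, `k ≠ 0`.
-/

set_option autoImplicit false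
universe u
open CategoryTheory CategoryTheory.Limits

attribute [local instance] HasDerivedCategory.standard

namespace Groth.Agent.Lib.Helper12.ModDual
open Groth.Agent.Lib.Helper12 DRing Pretriangulated TriSqueeze

variable {A : Type u} [CommRing A] (E : Cx A)

/-- the map `A ⟶ M` picking out `m` -/
noncomputable def mHom (M : ModuleCat.{u} A) (m : M) : ModuleCat.of A A ⟶ M :=
  ModuleCat.ofHom (LinearMap.toSpanSingleton A M m)

lemma mHom_comp {M N : ModuleCat.{u} A} (g : M ⟶ N) (m : M) :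
    mHom M m ≫ g = mHom N (g.hom m) := by
  refine ModuleCat.hom_ext (LinearMap.ext_ring ?_)
  simp [mHom]

lemma mHom_add (M : ModuleCat.{u} A) (m m' : M) : mHom M (m + m') = mHom M m + mHom M m' := by
  refine ModuleCat.hom_ext (LinearMap.ext_ring ?_)
  simp [mHom]

lemma mHom_smul (M : ModuleCat.{u} A) (a : A) (m : M) : mHom M (a • m) = a • mHom M m := by
  refine ModuleCat.hom_ext (LinearMap.ext_ring ?_)
  simp [mHom]

lemma mHom_zero (M : ModuleCat.{u} A) : mHom M 0 = 0 := by
  refine ModuleCat.hom_ext (LinearMap.ext_ring ?_)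
  simp [mHom]

lemma mHom_self (a : A) : mHom (ModuleCat.of A A) a = a • 𝟙 _ := by
  refine ModuleCat.hom_ext (LinearMap.ext_ring ?_)
  simp [mHom]

variable (u : D E (ModuleCat.of A A) ≅ toD E)

/-- the biduality map `M → Hom(D(M), E)` -/
noncomputable def η (M : ModuleCat.{u} A) (m : M) : D E M ⟶ toD E :=
  Dmap E (mHom M m) ≫ u.hom

lemma η_naturality {M N : ModuleCat.{u} A} (g : M ⟶ N) (m : M) :
    η E u N (g.hom m) = Dmap E g ≫ η E u M m := by
  rw [η, ← mHom_comp, Dmap_comp, Category.assoc]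
  rfl

lemma η_add (M : ModuleCat.{u} A) (m m' : M) : η E u M (m + m') = η E u M m + η E u M m' := by
  rw [η, mHom_add, Dmap_add, Preadditive.add_comp]
  rfl

lemma η_smul (M : ModuleCat.{u} A) (a : A) (m : M) : η E u M (a • m) = a • η E u M m := by
  rw [η, mHom_smul, Dmap_smul, Linear.smul_comp]
  rfl

lemma η_zero (M : ModuleCat.{u} A) : η E u M 0 = 0 := by
  rw [η, mHom_zero, Dmap_zero, zero_comp]

/-- the biduality map as a linear map -/
noncomputable def ηL (M : ModuleCat.{u} A) : M →ₗ[A] (D E M ⟶ toD E) where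
  toFun := η E u M
  map_add' := η_add E u M
  map_smul' := η_smul E u M

/-- reflexivity of a module -/
def Refl (M : ModuleCat.{u} A) : Prop :=
  Function.Bijective (η E u M) ∧ ∀ k : ℤ, k ≠ 0 → ∀ g : (D E M)⟦k⟧ ⟶ toD E, g = 0

variable {E u}

lemma η_injective_iff (M : ModuleCat.{u} A) :
    Function.Injective (η E u M) ↔ ∀ m : M, η E u M m = 0 → m = 0 :=
  injective_iff_map_eq_zero (ηL E u M)

/-- the ring itself is reflexive -/
lemma refl_self (hEnd : Function.Bijective (fun a : A => a • 𝟙 (toD E)))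
    (hExt : ∀ k : ℤ, k ≠ 0 → ∀ g : (toD E)⟦k⟧ ⟶ toD E, g = 0) :
    Refl E u (ModuleCat.of A A) := by
  constructor
  · have h1 : ∀ a : A, η E u (ModuleCat.of A A) a = u.hom ≫ (a • 𝟙 (toD E)) := by
      intro a
      rw [η, mHom_self, Dmap_smul, Dmap_id, Linear.smul_comp, Category.id_comp,
        Linear.comp_smul, Category.comp_id]
    constructor
    · intro a b hab
      rw [h1, h1] at hab
      exact hEnd.1 ((cancel_epi u.hom).mp hab)
    · intro f
      obtain ⟨a, ha⟩ := hEnd.2 (u.inv ≫ f)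
      refine ⟨a, ?_⟩
      have ha' : a • 𝟙 (toD E) = u.inv ≫ f := ha
      rw [h1, ha', Iso.hom_inv_id_assoc]
  · intro k hk g
    have h1 := hExt k hk ((u.inv)⟦k⟧' ≫ g)
    have h2 : (u.hom)⟦k⟧' ≫ (u.inv)⟦k⟧' ≫ g = 0 := by rw [h1, comp_zero]
    rwa [← Functor.map_comp_assoc, Iso.hom_inv_id, CategoryTheory.Functor.map_id,
      Category.id_comp] at h2

/-- zero modules are reflexive -/
lemma Refl.of_isZero {M : ModuleCat.{u} A} (hM : IsZero M) : Refl E u M := by
  have hD : IsZero (D E M) := by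
    rw [IsZero.iff_id_eq_zero, ← Dmap_id, hM.eq_of_src (𝟙 M) 0, Dmap_zero]
  have : Subsingleton M := ModuleCat.subsingleton_of_isZero hM
  refine ⟨⟨fun a b _ => Subsingleton.elim a b, fun y => ⟨0, hD.eq_of_src _ _⟩⟩, ?_⟩
  intro k _ g
  exact ((shiftFunctor (Dual.D A) k).map_isZero hD).eq_of_src _ _

/-- reflexivity is invariant under isomorphism -/
lemma Refl.of_iso {M N : ModuleCat.{u} A} (e : M ≅ N) (h : Refl E u M) : Refl E u N := by
  have hcomp : Dmap E e.hom ≫ Dmap E e.inv = 𝟙 _ := by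
    rw [← Dmap_comp, e.inv_hom_id, Dmap_id]
  constructor
  · constructor
    · intro n n' hn
      have h1 : η E u M (e.inv.hom n) = η E u M (e.inv.hom n') := by
        rw [η_naturality, η_naturality, hn]
      have h2 := h.1.1 h1
      have h3 : e.hom.hom (e.inv.hom n) = e.hom.hom (e.inv.hom n') := by rw [h2]
      simpa using h3
    · intro y
      obtain ⟨m, hm⟩ := h.1.2 (Dmap E e.inv ≫ y)
      refine ⟨e.hom.hom m, ?_⟩
      rw [η_naturality, hm, ← Category.assoc, hcomp, Category.id_comp]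
  · intro k hk g
    have h1 := h.2 k hk ((Dmap E e.inv)⟦k⟧' ≫ g)
    have h2 : (Dmap E e.hom)⟦k⟧' ≫ (Dmap E e.inv)⟦k⟧' ≫ g = 0 := by rw [h1, comp_zero]
    rwa [← Functor.map_comp_assoc, hcomp, CategoryTheory.Functor.map_id, Category.id_comp] at h2

/-- reflexivity is closed under extensions -/
lemma Refl.of_shortExact (hinj : ∀ i, Injective (E.X i)) (S : ShortComplex (ModuleCat.{u} A))
    (hS : S.ShortExact) (h₁ : Refl E u S.X₁) (h₃ : Refl E u S.X₃) : Refl E u S.X₂ := by
  constructor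
  · constructor
    · rw [η_injective_iff]
      intro m hm
      have h1 : η E u S.X₃ (S.g.hom m) = 0 := by rw [η_naturality, hm, comp_zero]
      have h2 : S.g.hom m = 0 := (η_injective_iff S.X₃).mp h₃.1.1 _ h1
      obtain ⟨m₁, rfl⟩ := (ShortComplex.moduleCat_exact_iff S).mp hS.exact m h2
      have h3 : Dmap E S.f ≫ η E u S.X₁ m₁ = 0 := by
        rw [← η_naturality]
        exact hm
      obtain ⟨z, hz⟩ := dual_exact₃ E hinj S hS (η E u S.X₁ m₁) h3
      have hz0 : z = 0 := h₃.2 1 one_ne_zero z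
      have h4 : η E u S.X₁ m₁ = 0 := by
        rw [hz, hz0, comp_zero]
      rw [(η_injective_iff S.X₁).mp h₁.1.1 _ h4, map_zero]
    · intro y
      obtain ⟨m₃, hm₃⟩ := h₃.1.2 (Dmap E S.g ≫ y)
      have := hS.epi_g
      obtain ⟨m₂, rfl⟩ := (ModuleCat.epi_iff_surjective S.g).mp inferInstance m₃
      have h1 : Dmap E S.g ≫ (y - η E u S.X₂ m₂) = 0 := by
        rw [Preadditive.comp_sub, ← hm₃, ← η_naturality]
        exact sub_self _
      obtain ⟨z, hz⟩ := dual_exact₂ E hinj S hS _ h1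
      obtain ⟨m₁, hm₁⟩ := h₁.1.2 z
      refine ⟨m₂ + S.f.hom m₁, ?_⟩
      rw [η_add, η_naturality, hm₁, ← hz]
      abel
  · intro k hk g
    exact dual_squeeze₂ E hinj S hS k (h₃.2 k hk) (h₁.2 k hk) g

/-- finite free modules are reflexive -/
lemma refl_free (hinj : ∀ i, Injective (E.X i))
    (hEnd : Function.Bijective (fun a : A => a • 𝟙 (toD E)))
    (hExt : ∀ k : ℤ, k ≠ 0 → ∀ g : (toD E)⟦k⟧ ⟶ toD E, g = 0) (r : ℕ) :
    Refl E u (ModuleCat.of A (Fin r → A)) := by
  induction r with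
  | zero => exact Refl.of_isZero (ModuleCat.isZero_of_subsingleton _)
  | succ r ih =>
    let S : ShortComplex (ModuleCat.{u} A) :=
      ShortComplex.mk (ModuleCat.ofHom (LinearMap.inl A A (Fin r → A)))
        (ModuleCat.ofHom (LinearMap.snd A A (Fin r → A))) (by
          refine ModuleCat.hom_ext (LinearMap.ext fun x => ?_)
          rfl)
    have hS : S.ShortExact := by
      have hmono : Mono S.f := (ModuleCat.mono_iff_injective _).mpr LinearMap.inl_injective
      have hepi : Epi S.g := (ModuleCat.epi_iff_surjective _).mpr LinearMap.snd_surjective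
      refine ShortComplex.ShortExact.mk ?_
      rw [ShortComplex.moduleCat_exact_iff]
      rintro ⟨a, x⟩ (h : x = 0)
      exact ⟨a, by subst h; rfl⟩
    have h2 : Refl E u (ModuleCat.of A (A × (Fin r → A))) :=
      Refl.of_shortExact hinj S hS (refl_self hEnd hExt) ih
    exact h2.of_iso (Fin.consLinearEquiv A (fun _ : Fin (r + 1) => A)).toModuleIso

/-- a finite module over a Noetherian ring is the cokernel of an injection of a finite module
into a finite free module -/
lemma exists_presentation [IsNoetherianRing A] (M : ModuleCat.{u} A) [Module.Finite A M] :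
    ∃ (r : ℕ) (M' : ModuleCat.{u} A) (_ : Module.Finite A M')
      (i : M' ⟶ ModuleCat.of A (Fin r → A)) (p : ModuleCat.of A (Fin r → A) ⟶ M)
      (w : i ≫ p = 0), (ShortComplex.mk i p w).ShortExact := by
  obtain ⟨r, p, hp⟩ := Module.Finite.exists_fin' A M
  refine ⟨r, ModuleCat.of A (LinearMap.ker p), inferInstance,
    ModuleCat.ofHom (LinearMap.ker p).subtype, ModuleCat.ofHom p, ?_, ?_⟩
  · refine ModuleCat.hom_ext (LinearMap.ext fun x => ?_)
    exact x.2
  · have hmono : Mono (ModuleCat.ofHom (LinearMap.ker p).subtype) :=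
      (ModuleCat.mono_iff_injective _).mpr (Submodule.injective_subtype _)
    have hepi : Epi (ModuleCat.ofHom p) := (ModuleCat.epi_iff_surjective _).mpr hp
    refine ShortComplex.ShortExact.mk ?_
    rw [ShortComplex.moduleCat_exact_iff]
    intro x hx
    exact ⟨⟨x, hx⟩, rfl⟩

/-- **Biduality for finite modules.** -/
theorem refl_of_finite [IsNoetherianRing A] (hinj : ∀ i, Injective (E.X i))
    (hEnd : Function.Bijective (fun a : A => a • 𝟙 (toD E)))
    (hExt : ∀ k : ℤ, k ≠ 0 → ∀ g : (toD E)⟦k⟧ ⟶ toD E, g = 0)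
    (hfar : ∃ c : ℤ, ∀ (M : ModuleCat.{u} A) (k : ℤ), k < c →
      ∀ g : (D E M)⟦k⟧ ⟶ toD E, g = 0)
    (M : ModuleCat.{u} A) [Module.Finite A M] : Refl E u M := by
  have hF := refl_free (u := u) hinj hEnd hExt
  have step : ∀ k : ℤ, k ≠ 0 →
      (∀ (N : ModuleCat.{u} A) [Module.Finite A N], ∀ g : (D E N)⟦k - 1⟧ ⟶ toD E, g = 0) →
      ∀ (N : ModuleCat.{u} A) [Module.Finite A N], ∀ g : (D E N)⟦k⟧ ⟶ toD E, g = 0 := by
    intro k hk IH N _ g
    obtain ⟨r, M', hM', i, p, w, hS⟩ := exists_presentation N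
    exact dual_squeeze E hinj _ hS k (IH M') ((hF r).2 k hk) g
  obtain ⟨c, hc⟩ := hfar
  have hneg : ∀ n : ℕ, ∀ k : ℤ, k < c + n → k ≤ -1 →
      ∀ (N : ModuleCat.{u} A) [Module.Finite A N], ∀ g : (D E N)⟦k⟧ ⟶ toD E, g = 0 := by
    intro n
    induction n with
    | zero =>
      intro k hk _ N _ g
      exact hc N k (by simpa using hk) g
    | succ n ih =>
      intro k hk hk1 N _ g
      exact step k (by omega) (fun N' _ g' => ih (k - 1) (by push_cast at hk; omega) (by omega)
        N' g') N g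
  have hneg' : ∀ k : ℤ, k ≤ -1 →
      ∀ (N : ModuleCat.{u} A) [Module.Finite A N], ∀ g : (D E N)⟦k⟧ ⟶ toD E, g = 0 :=
    fun k hk => hneg (k - c + 1).toNat k (by omega) hk
  have hsurj : ∀ (N : ModuleCat.{u} A) [Module.Finite A N], Function.Surjective (η E u N) := by
    intro N _ y
    obtain ⟨r, M', hM', i, p, w, hS⟩ := exists_presentation N
    obtain ⟨y', hy'⟩ := dual_factor₁ E hinj _ hS y (hneg' (-1) le_rfl M')
    obtain ⟨f, hf⟩ := (hF r).1.2 y'
    exact ⟨p.hom f, by rw [η_naturality, hf, hy']⟩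
  have hinj' : ∀ (N : ModuleCat.{u} A) [Module.Finite A N], Function.Injective (η E u N) := by
    intro N _
    rw [η_injective_iff]
    intro m hm
    obtain ⟨r, M', hM', i, p, w, hS⟩ := exists_presentation N
    have := hS.epi_g
    obtain ⟨f, rfl⟩ := (ModuleCat.epi_iff_surjective p).mp inferInstance m
    have h1 : Dmap E p ≫ η E u _ f = 0 := by
      rw [← η_naturality]
      exact hm
    obtain ⟨z, hz⟩ := dual_exact₂ E hinj _ hS (η E u _ f) h1
    obtain ⟨m', rfl⟩ := hsurj M' z
    have h2 : f = i.hom m' := (hF r).1.1 (by rw [hz, ← η_naturality])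
    rw [h2]
    exact congr($w m')
  have hone : ∀ (N : ModuleCat.{u} A) [Module.Finite A N],
      ∀ g : (D E N)⟦(1 : ℤ)⟧ ⟶ toD E, g = 0 := by
    intro N _ g
    obtain ⟨r, M', hM', i, p, w, hS⟩ := exists_presentation N
    refine dual_rot E hinj _ hS g ?_ ((hF r).2 1 one_ne_zero)
    obtain ⟨m', hm'⟩ := hsurj M' (δ E hinj _ hS ≫ g)
    have h0 : Dmap E i ≫ δ E hinj _ hS = 0 := Dmap_f_comp_δ E hinj _ hS
    have h1 : η E u _ (i.hom m') = 0 := by
      rw [η_naturality, hm', ← Category.assoc, h0, zero_comp]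
    have h2 : i.hom m' = 0 := (η_injective_iff _).mp (hF r).1.1 _ h1
    have := hS.mono_f
    have h3 : m' = 0 := (ModuleCat.mono_iff_injective i).mp inferInstance (by rw [h2, map_zero])
    rw [← hm', h3, η_zero]
  have hpos : ∀ n : ℕ, ∀ k : ℤ, k = n + 1 →
      ∀ (N : ModuleCat.{u} A) [Module.Finite A N], ∀ g : (D E N)⟦k⟧ ⟶ toD E, g = 0 := by
    intro n
    induction n with
    | zero =>
      intro k hk N _ g
      have hk1 : k = 1 := by simpa using hk
      subst hk1
      exact hone N g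
    | succ n ih =>
      intro k hk N _ g
      exact step k (by omega) (fun N' _ g' => ih (k - 1) (by push_cast at hk; omega) N' g') N g
  refine ⟨⟨hinj' M, hsurj M⟩, fun k hk g => ?_⟩
  by_cases hk1 : k ≤ -1
  · exact hneg' k hk1 M g
  · exact hpos (k - 1).toNat k (by omega) M g

end Groth.Agent.Lib.Helper12.ModDual
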