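import Mathlib
import Groth.Agent.Lib.Helper12.ModBidual
import Groth.Agent.Lib.Helper12.HomFinite
import Groth.Agent.Lib.Helper12.DualizingBC

/-!
# Biduality of finite modules with respect to a dualizing complex (helper12)
-/

set_option autoImplicit false
universe u
open CategoryTheory CategoryTheory.Limits

attribute [local instance] HasDerivedCategory.standard

namespace Groth.Agent.Lib.Helper12.ModDual
open Groth.Agent.Lib.Helper12 DRing Pretriangulated
open Groth.Agent.Lib.Helper36.InjAmp

variable {A : Type u} [CommRing A]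

/-- evaluation at `1` -/
noncomputable def evalOne (N : ModuleCat.{u} A) : (ModuleCat.of A A ⟶ N) ≃ₗ[A] N where
  toFun f := f.hom (1 : A)
  invFun n := mHom N n
  map_add' f g := rfl
  map_smul' a f := rfl
  left_inv f := by
    refine ModuleCat.hom_ext (LinearMap.ext_ring ?_)
    simp [mHom]
  right_inv n := by simp [mHom]

/-- `Hom_A(A, -)` is the identity functor -/
noncomputable def homFUnitIso : homF (ModuleCat.of A A) ≅ 𝟭 (ModuleCat.{u} A) :=
  NatIso.ofComponents (fun N => (evalOne N).toModuleIso) (by
    intro N N' g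
    refine ModuleCat.hom_ext (LinearMap.ext fun (f : ModuleCat.of A A ⟶ N) => ?_)
    rfl)

/-- `Hom_A(A, E) ≅ E` -/
noncomputable def unitIso (E : Cx A) : D₀ E (ModuleCat.of A A) ≅ E :=
  (NatIso.mapHomologicalComplex homFUnitIso (ComplexShape.up ℤ)).app E ≪≫
    (Functor.mapHomologicalComplexIdIso (ModuleCat.{u} A) (ComplexShape.up ℤ)).app E

/-- `D(A) ≅ E` in the derived category -/
noncomputable def unitIsoD (E : Cx A) : D E (ModuleCat.of A A) ≅ toD E :=
  DerivedCategory.Q.mapIso (unitIso E)

lemma isZero_D₀_X (E : Cx A) (M : ModuleCat.{u} A) (i : ℤ) (h : IsZero (E.X i)) :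
    IsZero ((D₀ E M).X i) :=
  (homF M).map_isZero h

/-- far vanishing: no maps from `D(M)⟦k⟧` to `E` for `k ≪ 0` -/
lemma far_vanishing (E : Cx A) (a b : ℤ) (hE : VanishesOutside E a b)
    (hinj : ∀ i, Module.Injective A (E.X i)) (M : ModuleCat.{u} A) (k : ℤ) (hk : k < a - b)
    (g : (D E M)⟦k⟧ ⟶ toD E) : g = 0 := by
  refine HomFinite.hom_eq_zero_of_injective_amplitude_above E a b hE hinj _ (fun j hj => ?_) g
  apply isZero_HF_shift
  apply isZero_HF_toD_of_isZero_X
  exact isZero_D₀_X E M _ (hE _ (Or.inl (by omega)))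

/-- a dualizing complex is represented by a bounded complex of injectives -/
theorem exists_injective_model (ω : Dual.D A) (hω : Dual.IsDualizing A ω) :
    ∃ (a b : ℤ) (E : Cx A), VanishesOutside E a b ∧ (∀ i, Module.Injective A (E.X i)) ∧
      Nonempty (toD E ≅ ω) := by
  obtain ⟨a, b, hab⟩ := hω.finite_injective_dimension
  obtain ⟨E, hE, hinj, he⟩ := hasInjAmplitudeIn_of_hom_quotient_eq_zero ω a b
    (fun I i hi f => by
      have := hab (A ⧸ I) i hi
      exact Subsingleton.elim _ _)
  exact ⟨a, b, E, hE, hinj, he⟩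

/-- **biduality for finite modules** with respect to a dualizing complex given by a bounded
complex of injectives -/
theorem refl_dualizing [IsNoetherianRing A] (E : Cx A) (a b : ℤ) (hE : VanishesOutside E a b)
    (hinj : ∀ i, Module.Injective A (E.X i)) (hω : Dual.IsDualizing A (toD E))
    (M : ModuleCat.{u} A) [Module.Finite A M] : Refl E (unitIsoD E) M := by
  refine refl_of_finite (fun i => Module.injective_object_of_injective_module A (E.X i))
    hω.toEnd_bijective ?_ ⟨a - b, fun M k hk g => far_vanishing E a b hE hinj M k hk g⟩ M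
  intro k hk g
  have h1 := (hom_shift_eq_zero_iff (toD E) (toD E) (-k)).mp (fun f => by
    have := hω.ext_self_subsingleton (-k) (by omega)
    exact Subsingleton.elim _ _)
  rw [neg_neg] at h1
  exact h1 g

end Groth.Agent.Lib.Helper12.ModDual
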