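import Mathlib
import Groth.Agent.Lib.Helper12.DualizingBidual
import Groth.Agent.Lib.Helper12.DRingExt

/-!
# The cohomology of `Hom_A(M, E)` and `Ext(M, E)` for a K-injective `E` (helper12)
-/

set_option autoImplicit false
universe u
open CategoryTheory CategoryTheory.Limits

attribute [local instance] HasDerivedCategory.standard

namespace Groth.Agent.Lib.Helper12.ModDual
open Groth.Agent.Lib.Helper12 DRing Pretriangulated
open Groth.Agent.Lib.Helper36.InjAmp

variable {A : Type u} [CommRing A] (E : Cx A)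

/-- cocycles of degree `i` of `Hom_A(M, E)` are coboundaries -/
def CocyclesAreCoboundaries (M : ModuleCat.{u} A) (i : ℤ) : Prop :=
  ∀ f : M ⟶ E.X i, f ≫ E.d i (i + 1) = 0 → ∃ h : M ⟶ E.X (i - 1), h ≫ E.d (i - 1) i = f

lemma isZero_HF_D_iff (M : ModuleCat.{u} A) (i : ℤ) :
    IsZero ((HF A i).obj (D E M)) ↔ CocyclesAreCoboundaries E M i := by
  have e := HFQIso i (D₀ E M)
  have h1 : IsZero ((HF A i).obj (D E M)) ↔ IsZero ((D₀ E M).homology i) :=
    ⟨fun h => h.of_iso e.symm, fun h => h.of_iso e⟩
  rw [h1, ← HomologicalComplex.exactAt_iff_isZero_homology,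
    HomologicalComplex.exactAt_iff' _ (i - 1) i (i + 1) (by simp) (by simp),
    ShortComplex.moduleCat_exact_iff]
  rfl

lemma hom_single_eq_zero_iff [E.IsKInjective] (M : ModuleCat.{u} A) (i : ℤ) :
    (∀ α : toD (singleCx i M) ⟶ toD E, α = 0) ↔ CocyclesAreCoboundaries E M i := by
  constructor
  · intro h f hf
    let γ : singleCx i M ⟶ E := HomologicalComplex.mkHomFromSingle f (by
      intro j hj
      have hj' : i + 1 = j := hj
      subst hj'
      exact hf)
    have hγ : DerivedCategory.Q.map γ = DerivedCategory.Q.map 0 := by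
      rw [h (DerivedCategory.Q.map γ), CategoryTheory.Functor.map_zero]
    obtain ⟨H⟩ := homotopy_of_Q_map_eq_of_isKInjective _ E γ 0 hγ
    have hc := H.comm i
    rw [dNext_eq _ (show (ComplexShape.up ℤ).Rel i (i + 1) by simp),
      prevD_eq _ (show (ComplexShape.up ℤ).Rel (i - 1) i by simp),
      HomologicalComplex.single_obj_d, zero_comp, zero_add, HomologicalComplex.zero_f, add_zero,
      HomologicalComplex.mkHomFromSingle_f] at hc
    refine ⟨(HomologicalComplex.singleObjXSelf (ComplexShape.up ℤ) i M).inv ≫ H.hom i (i - 1), ?_⟩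
    rw [Category.assoc, ← hc, Iso.inv_hom_id_assoc]
  · intro h α
    obtain ⟨γ, rfl⟩ := exists_map_of_isKInjective (singleCx i M) E α
    have hcoc : ((HomologicalComplex.singleObjXSelf (ComplexShape.up ℤ) i M).inv ≫ γ.f i) ≫
        E.d i (i + 1) = 0 := by
      rw [Category.assoc, γ.comm i (i + 1), HomologicalComplex.single_obj_d, zero_comp, comp_zero]
    obtain ⟨g, hg⟩ := h _ hcoc
    rw [DerivedCategory.Q_map_eq_of_homotopy _ (fromSingleNullHomotopy i M E γ g hg),
      CategoryTheory.Functor.map_zero]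

end Groth.Agent.Lib.Helper12.ModDual
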