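import Mathlib
import Groth.Agent.Lib.Helper12.ModDualExt

/-!
# Finiteness of the cohomology of `Hom_A(M, E)` (helper12)
-/

set_option autoImplicit false
universe u
open CategoryTheory CategoryTheory.Limits

attribute [local instance] HasDerivedCategory.standard

namespace Groth.Agent.Lib.Helper12.ModDual
open Groth.Agent.Lib.Helper12 DRing Pretriangulated
open Groth.Agent.Lib.Helper36.InjAmp

variable {A : Type u} [CommRing A] (E : Cx A)

/-- the middle term of an exact sequence of finite modules over a Noetherian ring is finite -/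
lemma finite_of_exact [IsNoetherianRing A] (S : ShortComplex (ModuleCat.{u} A)) (hS : S.Exact)
    (h₁ : Module.Finite A S.X₁) (h₃ : Module.Finite A S.X₃) : Module.Finite A S.X₂ := by
  have i1 : IsNoetherian A S.X₁ := inferInstance
  have i3 : IsNoetherian A S.X₃ := inferInstance
  have := isNoetherian_of_range_eq_ker S.f.hom S.g.hom
    ((ShortComplex.moduleCat_exact_iff_range_eq_ker S).mp hS)
  infer_instance

/-- induction over finite free modules -/
lemma free_induction (P : ModuleCat.{u} A → Prop)
    (hiso : ∀ {M N : ModuleCat.{u} A}, (M ≅ N) → P M → P N)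
    (hzero : ∀ M : ModuleCat.{u} A, IsZero M → P M) (hA : P (ModuleCat.of A A))
    (hext : ∀ S : ShortComplex (ModuleCat.{u} A), S.ShortExact → P S.X₁ → P S.X₃ → P S.X₂)
    (r : ℕ) : P (ModuleCat.of A (Fin r → A)) := by
  induction r with
  | zero => exact hzero _ (ModuleCat.isZero_of_subsingleton _)
  | succ r ih =>
    let S : ShortComplex (ModuleCat.{u} A) :=
      ShortComplex.mk (ModuleCat.ofHom (LinearMap.inl A A (Fin r → A)))
        (ModuleCat.ofHom (LinearMap.snd A A (Fin r → A))) (by
          refine ModuleCat.hom_ext (LinearMap.ext fun x => ?_)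
          rfl)
    have hS : S.ShortExact := by
      have hmono : Mono S.f := (ModuleCat.mono_iff_injective _).mpr LinearMap.inl_injective
      have hepi : Epi S.g := (ModuleCat.epi_iff_surjective _).mpr LinearMap.snd_surjective
      refine ShortComplex.ShortExact.mk ?_
      rw [ShortComplex.moduleCat_exact_iff]
      rintro ⟨a, x⟩ (h : x = 0)
      exact ⟨a, by subst h; rfl⟩
    have h2 : P (ModuleCat.of A (A × (Fin r → A))) := hext S hS hA ih
    exact hiso (Fin.consLinearEquiv A (fun _ : Fin (r + 1) => A)).toModuleIso h2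

/-- the isomorphism `D(N) ≅ D(M)` induced by `M ≅ N` -/
noncomputable def DmapIso {M N : ModuleCat.{u} A} (e : M ≅ N) : D E N ≅ D E M where
  hom := Dmap E e.hom
  inv := Dmap E e.inv
  hom_inv_id := by rw [← Dmap_comp, e.inv_hom_id, Dmap_id]
  inv_hom_id := by rw [← Dmap_comp, e.hom_inv_id, Dmap_id]

lemma isZero_D {M : ModuleCat.{u} A} (hM : IsZero M) : IsZero (D E M) := by
  rw [IsZero.iff_id_eq_zero, ← Dmap_id, hM.eq_of_src (𝟙 M) 0, Dmap_zero]

/-- finiteness of all cohomology modules of `D(M)` -/
def FinD (M : ModuleCat.{u} A) : Prop := ∀ j : ℤ, Module.Finite A ((HF A j).obj (D E M))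

lemma finD_free [IsNoetherianRing A] (hinj : ∀ i, Injective (E.X i))
    (hfin : ∀ j : ℤ, Module.Finite A ((HF A j).obj (toD E))) (r : ℕ) :
    FinD E (ModuleCat.of A (Fin r → A)) := by
  refine free_induction (FinD E) ?_ ?_ ?_ ?_ r
  · intro M N e h j
    have := h j
    exact Module.Finite.equiv ((HF A j).mapIso (DmapIso E e)).symm.toLinearEquiv
  · intro M hM j
    have : Subsingleton ((HF A j).obj (D E M)) :=
      ModuleCat.subsingleton_of_isZero ((HF A j).map_isZero (isZero_D E hM))
    infer_instance
  · intro j
    have := hfin j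
    exact Module.Finite.equiv ((HF A j).mapIso (unitIsoD E)).symm.toLinearEquiv
  · intro S hS h₁ h₃ j
    exact finite_of_exact _ (DerivedCategory.HomologySequence.exact₂ _
      (dualTriangle_distinguished E hinj S hS) j) (h₃ j) (h₁ j)

/-- the cohomology modules of `Hom_A(M, E)` are finite for finite `M` -/
theorem finD_of_finite [IsNoetherianRing A] (hinj : ∀ i, Injective (E.X i))
    (hfin : ∀ j : ℤ, Module.Finite A ((HF A j).obj (toD E))) (a : ℤ)
    (hE : ∀ i : ℤ, i < a → IsZero (E.X i)) (M : ModuleCat.{u} A) [Module.Finite A M] :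
    FinD E M := by
  have hF := finD_free E hinj hfin
  suffices H : ∀ (n : ℕ) (j : ℤ), j < a + n → ∀ (N : ModuleCat.{u} A) [Module.Finite A N],
      Module.Finite A ((HF A j).obj (D E N)) from fun j => H (j - a + 1).toNat j (by omega) M
  intro n
  induction n with
  | zero =>
    intro j hj N _
    have : Subsingleton ((HF A j).obj (D E N)) :=
      ModuleCat.subsingleton_of_isZero (isZero_HF_toD_of_isZero_X _ j
        (isZero_D₀_X E N j (hE j (by simpa using hj))))
    infer_instance
  | succ n ih =>
    intro j hj N _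
    obtain ⟨r, M', hM', i, p, w, hS⟩ := exists_presentation N
    have h1 := ih (j - 1) (by push_cast at hj; omega) M'
    exact finite_of_exact _ (DerivedCategory.HomologySequence.exact₁ _
      (dualTriangle_distinguished E hinj _ hS) (j - 1) j (by omega)) h1 (hF r j)

end Groth.Agent.Lib.Helper12.ModDual
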