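import Mathlib
import Groth.Agent.Lib.Helper12.ModDualFinite
import Groth.Agent.Lib.Helper12.BidualDevissage

/-!
# `Ext(κ, ω)` for a dualizing complex `ω` and a residue field `κ = A/m` (helper12)
-/

set_option autoImplicit false
universe u
open CategoryTheory CategoryTheory.Limits

attribute [local instance] HasDerivedCategory.standard

namespace Groth.Agent.Lib.Helper12.ResExt
open Groth.Agent.Lib.Helper12 DRing Pretriangulated ModDual Bass
open Groth.Agent.Lib.Helper36.InjAmp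

variable {A : Type u} [CommRing A]

/-- the shift bijection `Hom(Y[0], K[c]) → Hom(Y[-b], K[i])`, `i = c - b`, as a linear map -/
noncomputable def σ (K : Dual.D A) (Y : ModuleCat.{u} A) (b i c : ℤ) (h : c + (-b) = i) :
    (Dual.inD A Y ⟶ K⟦c⟧) →ₗ[A]
      ((DerivedCategory.singleFunctor (ModuleCat.{u} A) b).obj Y ⟶ K⟦i⟧) :=
  Linear.leftComp A _ (singleFunctorShiftIso b Y).hom ∘ₗ
    Linear.rightComp A _ ((shiftFunctorAdd' (Dual.D A) c (-b) i h).app K).inv ∘ₗ
    (shiftFunctor (Dual.D A) (-b)).mapLinearMap A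

lemma σ_apply (K : Dual.D A) (Y : ModuleCat.{u} A) (b i c : ℤ) (h : c + (-b) = i)
    (f : Dual.inD A Y ⟶ K⟦c⟧) :
    σ K Y b i c h f = (singleFunctorShiftIso b Y).hom ≫ f⟦-b⟧' ≫
      ((shiftFunctorAdd' (Dual.D A) c (-b) i h).app K).inv := rfl

lemma σ_injective (K : Dual.D A) (Y : ModuleCat.{u} A) (b i c : ℤ) (h : c + (-b) = i) :
    Function.Injective (σ K Y b i c h) := by
  intro f g hfg
  rw [σ_apply, σ_apply, cancel_epi, cancel_mono] at hfg
  exact (shiftFunctor (Dual.D A) (-b)).map_injective hfg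

/-- the residue field is a retract of every nonzero module killed by the maximal ideal -/
lemma exists_retract (m : Ideal A) [hm : m.IsMaximal] (Y : ModuleCat.{u} A) [Nontrivial Y]
    (hkill : ∀ x ∈ m, ∀ y : Y, x • y = 0) :
    ∃ (s : ModuleCat.of A (A ⧸ m) ⟶ Y) (r : Y ⟶ ModuleCat.of A (A ⧸ m)), s ≫ r = 𝟙 _ := by
  let _ : Field (A ⧸ m) := Ideal.Quotient.field m
  have htors : Module.IsTorsionBySet A Y (m : Set A) := fun y x => hkill x.1 x.2 y
  let _ : Module (A ⧸ m) Y := htors.module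
  have : IsScalarTower A (A ⧸ m) Y := htors.isScalarTower
  obtain ⟨y, hy⟩ := exists_ne (0 : Y)
  let f : (A ⧸ m) →ₗ[A ⧸ m] Y := LinearMap.toSpanSingleton (A ⧸ m) Y y
  have hf : LinearMap.ker f = ⊥ := LinearMap.ker_toSpanSingleton (A ⧸ m) hy
  obtain ⟨g, hg⟩ := LinearMap.exists_leftInverse_of_injective f hf
  refine ⟨ModuleCat.ofHom (f.restrictScalars A), ModuleCat.ofHom (g.restrictScalars A), ?_⟩
  refine ModuleCat.hom_ext (LinearMap.ext fun x => ?_)
  exact LinearMap.congr_fun hg x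

/-- the cohomology of `Hom_A(A/m, E)` is killed by `m` -/
lemma smul_HF_D_eq_zero (E : Cx A) (m : Ideal A) (j : ℤ) (x : A) (hx : x ∈ m)
    (g : (HF A j).obj (D E (ModuleCat.of A (A ⧸ m)))) : x • g = 0 := by
  have h0 : x • 𝟙 (ModuleCat.of A (A ⧸ m)) = 0 := by
    refine ModuleCat.hom_ext (LinearMap.ext fun z => ?_)
    show x • z = 0
    obtain ⟨z, rfl⟩ := Ideal.Quotient.mk_surjective z
    rw [← Ideal.Quotient.mk_eq_mk, ← Submodule.Quotient.mk_smul, Submodule.Quotient.mk_eq_zero]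
    exact m.mul_mem_right z hx
  have h1 : x • 𝟙 (D E (ModuleCat.of A (A ⧸ m))) = 0 := by
    rw [← Dmap_id, ← Dmap_smul, h0, Dmap_zero]
  have h2 : x • 𝟙 ((HF A j).obj (D E (ModuleCat.of A (A ⧸ m)))) = 0 := by
    rw [← CategoryTheory.Functor.map_id, ← Functor.map_smul, h1, Functor.map_zero]
  have h3 := congrArg (fun φ => φ.hom g) h2
  exact h3

/-- `Ext^i(M, E) = 0` iff `H^i(Hom_A(M, E)) = 0`, for `E` K-injective -/
lemma hom_inD_eq_zero_iff (E : Cx A) [E.IsKInjective] (M : ModuleCat.{u} A) (i : ℤ) :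
    (∀ f : Dual.inD A M ⟶ (toD E)⟦i⟧, f = 0) ↔ IsZero ((HF A i).obj (D E M)) := by
  rw [isZero_HF_D_iff, ← hom_single_eq_zero_iff]
  constructor
  · intro h α
    exact Groth.Agent.Lib.Helper36.InjAmp.hom_single_eq_zero (toD E) M i h α
  · intro h
    rw [hom_shift_eq_zero_iff]
    intro g
    have h1 := h ((toDSingleIso i M).hom ≫ g)
    exact (cancel_epi (toDSingleIso i M).hom).mp (h1.trans comp_zero.symm)

lemma hom_shift_one_eq_zero' (X Y : Dual.D A) (i : ℤ) (h : ∀ f : X ⟶ Y⟦i - 1⟧, f = 0)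
    (g : X⟦(1 : ℤ)⟧ ⟶ Y⟦i⟧) : g = 0 := by
  have h1 : ∀ f : X ⟶ (Y⟦i⟧)⟦(-1 : ℤ)⟧, f = 0 := fun f => by
    have := h (f ≫ ((shiftFunctorAdd' (Dual.D A) i (-1) (i - 1) (by omega)).app Y).inv)
    rw [← cancel_mono ((shiftFunctorAdd' (Dual.D A) i (-1) (i - 1) (by omega)).app Y).inv, this,
      Limits.zero_comp]
  exact (hom_shift_eq_zero_iff X (Y⟦i⟧) (-1)).mp h1 g

/-- maps out of the top truncation vanish if maps out of the object and out of the lower
truncation do -/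
lemma hom_truncGE_eq_zero (K V : Dual.D A) (hi n : ℤ) (h3 : ∀ f : V ⟶ K⟦n⟧, f = 0)
    (hτ : ∀ f : (truncTriangle V hi).obj₁ ⟶ K⟦n - 1⟧, f = 0)
    (g : (truncTriangle V hi).obj₃ ⟶ K⟦n⟧) : g = 0 := by
  have hT := truncTriangle_distinguished V hi
  obtain ⟨y, hy⟩ := Triangle.yoneda_exact₃ _ hT g (h3 _)
  have hy0 : y = 0 := hom_shift_one_eq_zero' _ _ n hτ y
  rw [hy, hy0]
  exact comp_zero

/-- an object with cohomology in a single degree is a shifted module -/
lemma exists_iso_single (N : Dual.D A) (d : ℤ)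
    (h : ∀ j : ℤ, j ≠ d → IsZero ((HF A j).obj N)) :
    ∃ Y : ModuleCat.{u} A,
      Nonempty (N ≅ (DerivedCategory.singleFunctor (ModuleCat.{u} A) d).obj Y) ∧
      Nonempty ((HF A d).obj N ≅ Y) := by
  have hGE : N.IsGE d := by
    rw [DerivedCategory.isGE_iff]
    intro j hj
    exact h j (by omega)
  have hLE : N.IsLE d := by
    rw [DerivedCategory.isLE_iff]
    intro j hj
    exact h j (by omega)
  obtain ⟨Y, ⟨e⟩⟩ := DerivedCategory.exists_iso_singleFunctor_obj_of_isGE_of_isLE N d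
  exact ⟨Y, ⟨e⟩, ⟨(HF A d).mapIso e ≪≫ HFSingleIso d Y⟩⟩

end Groth.Agent.Lib.Helper12.ResExt
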