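import Mathlib
import Groth.Agent.Lib.Helper12.ResidueExt

/-!
# `Ext(κ, ω)` is `κ` in exactly one degree (helper12)
-/

set_option autoImplicit false
universe u
open CategoryTheory CategoryTheory.Limits

attribute [local instance] HasDerivedCategory.standard

namespace Groth.Agent.Lib.Helper12.ResExt
open Groth.Agent.Lib.Helper12 DRing Pretriangulated ModDual Bass
open Groth.Agent.Lib.Helper36.InjAmp

variable {A : Type u} [CommRing A]

lemma smul_eq_zero_of_iso {M N : ModuleCat.{u} A} (e : M ≅ N) (x : A)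
    (h : ∀ n : N, x • n = 0) (y : M) : x • y = 0 := by
  have h1 : e.hom.hom (x • y) = 0 := by
    rw [map_smul]
    exact h _
  have h3 : e.inv.hom (e.hom.hom (x • y)) = x • y := by
    rw [← LinearMap.comp_apply, ← ModuleCat.hom_comp, e.hom_inv_id]
    rfl
  rw [← h3, h1, map_zero]

set_option maxHeartbeats 1600000 in
theorem main_E [IsNoetherianRing A] (E : Cx A) (a b : ℤ) (hE : VanishesOutside E a b)
    (hinj : ∀ i, Module.Injective A (E.X i)) (hω : Dual.IsDualizing A (toD E))
    (m : Ideal A) [hm : m.IsMaximal] :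
    ∃ d : ℤ, (∀ i : ℤ, i ≠ d → ∀ f : Dual.inD A (A ⧸ m) ⟶ (toD E)⟦i⟧, f = 0) ∧
      Nonempty ((Dual.inD A (A ⧸ m) ⟶ (toD E)⟦d⟧) ≃ₗ[A] (A ⧸ m)) := by
  have hinj' : ∀ i, Injective (E.X i) := fun i =>
    Module.injective_object_of_injective_module A (E.X i)
  have hGE : E.IsStrictlyGE a := by
    rw [CochainComplex.isStrictlyGE_iff]
    intro j hj
    exact hE j (Or.inl hj)
  have hKI : E.IsKInjective := CochainComplex.isKInjective_of_injective E a
  have hrefl := refl_dualizing E a b hE hinj hω (ModuleCat.of A (A ⧸ m))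
  -- vanishing of `Hom(V, E[n])`, `n ≠ 0`
  have h3 : ∀ n : ℤ, n ≠ 0 → ∀ f : D E (ModuleCat.of A (A ⧸ m)) ⟶ (toD E)⟦n⟧, f = 0 :=
    fun n hn => (hom_shift_eq_zero_iff _ (toD E) n).mpr (hrefl.2 (-n) (by omega))
  have hW := hom_inD_eq_zero_iff E (ModuleCat.of A (A ⧸ m))
  have hfin : ∀ j : ℤ, Module.Finite A ((HF A j).obj (D E (ModuleCat.of A (A ⧸ m)))) :=
    finD_of_finite E hinj' hω.finite_cohomology a (fun i hi => hE i (Or.inl hi)) _
  have hkill := smul_HF_D_eq_zero E m
  have hbdd : ∀ j : ℤ, j < a ∨ b < j →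
      IsZero ((HF A j).obj (D E (ModuleCat.of A (A ⧸ m)))) := fun j hj =>
    isZero_HF_toD_of_isZero_X _ j (isZero_D₀_X E _ j (hE j hj))
  have hne : ∃ j : ℤ, ¬ IsZero ((HF A j).obj (D E (ModuleCat.of A (A ⧸ m)))) := by
    by_contra hcon
    push Not at hcon
    have hz : IsZero (D E (ModuleCat.of A (A ⧸ m))) := isZero_of_forall_isZero_HF _ hcon
    have hsub : Subsingleton (A ⧸ m) := ⟨fun x y => hrefl.1.1 (hz.eq_of_src _ _)⟩
    have : Nontrivial (A ⧸ m) := Ideal.Quotient.nontrivial_iff.mpr hm.ne_top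
    exact not_subsingleton _ hsub
  obtain ⟨lo, hlo, hlo_min⟩ := Int.exists_least_of_bdd (P := fun j =>
    ¬ IsZero ((HF A j).obj (D E (ModuleCat.of A (A ⧸ m))))) ⟨a, fun j hj => by
      by_contra hcon
      exact hj (hbdd j (Or.inl (by omega)))⟩ hne
  obtain ⟨hi, hhi, hhi_max⟩ := Int.exists_greatest_of_bdd (P := fun j =>
    ¬ IsZero ((HF A j).obj (D E (ModuleCat.of A (A ⧸ m))))) ⟨b, fun j hj => by
      by_contra hcon
      exact hj (hbdd j (Or.inr (by omega)))⟩ hne
  -- vanishing of `Ext^k(Y, E)` for `k < lo` and `Y` finite killed by `m`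
  have hlow : ∀ (k : ℤ), k < lo → ∀ (Y : ModuleCat.{u} A), Module.Finite A Y →
      (∀ x ∈ m, ∀ y : Y, x • y = 0) → ∀ f : Dual.inD A Y ⟶ (toD E)⟦k⟧, f = 0 := by
    intro k hk Y hY hYk f
    have h1 : VanishAt (toD E) k (A ⧸ m) := by
      have hz : IsZero ((HF A k).obj (D E (ModuleCat.of A (A ⧸ m)))) := by
        by_contra hcon
        have := hlo_min k hcon
        omega
      exact ⟨fun f g => ((hW k).mpr hz f).trans ((hW k).mpr hz g).symm⟩
    have h2 : VanishAt (toD E) k Y := vanishAt_of_killed m h1 Y hYk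
    have : Subsingleton (Dual.inD A Y ⟶ (toD E)⟦k⟧) := h2
    exact Subsingleton.elim _ _
  -- `lo = hi`
  have hlohi : lo = hi := by
    by_contra hne'
    have hlt : lo < hi := lt_of_le_of_ne (hlo_min hi hhi) hne'
    -- a nonzero class in degree `lo`
    have hx : ¬ ∀ f : Dual.inD A (A ⧸ m) ⟶ (toD E)⟦lo⟧, f = 0 := fun h => hlo ((hW lo).mp h)
    push Not at hx
    obtain ⟨x, hx⟩ := hx
    -- the top truncation
    have hall : ∀ g : (truncTriangle (D E (ModuleCat.of A (A ⧸ m))) hi).obj₃ ⟶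
        (toD E)⟦lo - hi⟧, g = 0 := by
      refine hom_truncGE_eq_zero (toD E) _ hi (lo - hi) (h3 _ (by omega)) ?_
      refine hom_eq_zero_of_cohomology (K := toD E) (lo - hi - 1) a (hi - a).toNat (hi - 1)
        (by omega) _ ?_ ?_
      · intro j hj
        by_cases hjb : j < hi
        · exact IsZero.of_iso (hbdd j (Or.inl (by omega))) (HFTruncLTIso _ hi j hjb)
        · exact isZero_HF_truncLT _ hi j (by omega)
      · intro j f
        by_cases hjb : j < hi
        · let e := HFTruncLTIso (D E (ModuleCat.of A (A ⧸ m))) hi j hjb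
          refine hlow _ (by omega) _ ?_ ?_ f
          · have hf : Module.Finite A
                ((HF A j).obj (truncTriangle (D E (ModuleCat.of A (A ⧸ m))) hi).obj₂) := hfin j
            exact Module.Finite.equiv e.symm.toLinearEquiv
          · intro x hx y
            exact smul_eq_zero_of_iso e x (fun n => hkill j x hx n) y
        · exact (isZero_inD (isZero_HF_truncLT _ hi j (by omega))).eq_of_src _ _
    obtain ⟨Y, ⟨e⟩, ⟨eY⟩⟩ : ∃ Y : ModuleCat.{u} A,
        Nonempty ((truncTriangle (D E (ModuleCat.of A (A ⧸ m))) hi).obj₃ ≅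
          (DerivedCategory.singleFunctor (ModuleCat.{u} A) hi).obj Y) ∧
        Nonempty ((HF A hi).obj (D E (ModuleCat.of A (A ⧸ m))) ≅ Y) := by
      have hGE' : (truncTriangle (D E (ModuleCat.of A (A ⧸ m))) hi).obj₃.IsGE hi :=
        inferInstance
      have hLE' : (truncTriangle (D E (ModuleCat.of A (A ⧸ m))) hi).obj₃.IsLE hi := by
        rw [DerivedCategory.isLE_iff]
        intro j hj
        refine IsZero.of_iso ?_ (HFTruncGEIso _ hi j (by omega)).symm
        by_contra hcon
        have := hhi_max j hcon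
        omega
      obtain ⟨Y, ⟨e⟩⟩ := DerivedCategory.exists_iso_singleFunctor_obj_of_isGE_of_isLE
        (truncTriangle (D E (ModuleCat.of A (A ⧸ m))) hi).obj₃ hi
      exact ⟨Y, ⟨e⟩, ⟨HFTruncGEIso _ hi hi le_rfl ≪≫ (HF A hi).mapIso e ≪≫ HFSingleIso hi Y⟩⟩
    have hYnt : Nontrivial Y := by
      by_contra hcon
      rw [not_nontrivial_iff_subsingleton] at hcon
      exact hhi (IsZero.of_iso (ModuleCat.isZero_of_subsingleton Y) eY)
    have hYk : ∀ x ∈ m, ∀ y : Y, x • y = 0 := by
      intro x hx y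
      exact smul_eq_zero_of_iso eY.symm x (fun n => hkill hi x hx n) y
    obtain ⟨s, r, hsr⟩ := exists_retract m Y hYk
    let x' : Dual.inD A Y ⟶ (toD E)⟦lo⟧ :=
      (DerivedCategory.singleFunctor (ModuleCat.{u} A) 0).map r ≫ x
    have hx' : x' ≠ 0 := by
      intro h0
      apply hx
      have h1 : (DerivedCategory.singleFunctor (ModuleCat.{u} A) 0).map s ≫ x' = x := by
        dsimp only [x']
        rw [← Category.assoc, ← Functor.map_comp, hsr, CategoryTheory.Functor.map_id,
          Category.id_comp]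
      rw [← h1, h0, comp_zero]
    have h4 := hall (e.hom ≫ σ (toD E) Y hi (lo - hi) lo (by omega) x')
    have h5 : σ (toD E) Y hi (lo - hi) lo (by omega) x' = 0 := by
      have h6 : e.inv ≫ e.hom ≫ σ (toD E) Y hi (lo - hi) lo (by omega) x' = 0 := by
        rw [h4, comp_zero]
      rwa [Iso.inv_hom_id_assoc] at h6
    exact hx' (σ_injective (toD E) Y hi (lo - hi) lo (by omega) (h5.trans (map_zero _).symm))
  subst hlohi
  refine ⟨lo, ?_, ?_⟩
  · intro i hi' 
    refine (hW i).mpr ?_
    by_contra hcon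
    have h1 := hlo_min i hcon
    have h2 := hhi_max i hcon
    omega
  · -- the structure of `V`
    obtain ⟨Y, ⟨e⟩, ⟨eY⟩⟩ := exists_iso_single (D E (ModuleCat.of A (A ⧸ m))) lo (by
      intro j hj
      by_contra hcon
      have h1 := hlo_min j hcon
      have h2 := hhi_max j hcon
      omega)
    have hYnt : Nontrivial Y := by
      by_contra hcon
      rw [not_nontrivial_iff_subsingleton] at hcon
      exact hlo (IsZero.of_iso (ModuleCat.isZero_of_subsingleton Y) eY)
    have hYk : ∀ x ∈ m, ∀ y : Y, x • y = 0 := by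
      intro x hx y
      exact smul_eq_zero_of_iso eY.symm x (fun n => hkill lo x hx n) y
    obtain ⟨s, r, hsr⟩ := exists_retract m Y hYk
    let Φ : (Dual.inD A (A ⧸ m) ⟶ (toD E)⟦lo⟧) →ₗ[A]
        (D E (ModuleCat.of A (A ⧸ m)) ⟶ toD E) :=
      Linear.leftComp A _ e.hom ∘ₗ
        Linear.rightComp A _ ((shiftFunctorZero (Dual.D A) ℤ).hom.app (toD E)) ∘ₗ
        σ (toD E) Y lo 0 lo (by omega) ∘ₗ
        Linear.leftComp A _ ((DerivedCategory.singleFunctor (ModuleCat.{u} A) 0).map r)
    have hΦ : Function.Injective Φ := by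
      intro f g hfg
      have h1 : e.hom ≫ σ (toD E) Y lo 0 lo (by omega)
          ((DerivedCategory.singleFunctor (ModuleCat.{u} A) 0).map r ≫ f) ≫
            (shiftFunctorZero (Dual.D A) ℤ).hom.app (toD E) =
          e.hom ≫ σ (toD E) Y lo 0 lo (by omega)
          ((DerivedCategory.singleFunctor (ModuleCat.{u} A) 0).map r ≫ g) ≫
            (shiftFunctorZero (Dual.D A) ℤ).hom.app (toD E) := hfg
      rw [cancel_epi, cancel_mono] at h1
      have h2 := σ_injective _ _ _ _ _ _ h1
      have h3 : (DerivedCategory.singleFunctor (ModuleCat.{u} A) 0).map s ≫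
          (DerivedCategory.singleFunctor (ModuleCat.{u} A) 0).map r ≫ f =
          (DerivedCategory.singleFunctor (ModuleCat.{u} A) 0).map s ≫
          (DerivedCategory.singleFunctor (ModuleCat.{u} A) 0).map r ≫ g := by rw [h2]
      rwa [← Category.assoc, ← Category.assoc, ← Functor.map_comp, hsr,
        CategoryTheory.Functor.map_id, Category.id_comp, Category.id_comp] at h3
    let ηe : (A ⧸ m) ≃ₗ[A] (D E (ModuleCat.of A (A ⧸ m)) ⟶ toD E) :=
      LinearEquiv.ofBijective (ηL E (unitIsoD E) (ModuleCat.of A (A ⧸ m))) hrefl.1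
    let Ψ : (Dual.inD A (A ⧸ m) ⟶ (toD E)⟦lo⟧) →ₗ[A] (A ⧸ m) := ηe.symm.toLinearMap ∘ₗ Φ
    have hΨ : Function.Injective Ψ := ηe.symm.injective.comp hΦ
    have hnt : Nontrivial (Dual.inD A (A ⧸ m) ⟶ (toD E)⟦lo⟧) := by
      by_contra hcon
      rw [not_nontrivial_iff_subsingleton] at hcon
      exact hlo ((hW lo).mp (fun f => Subsingleton.elim _ _))
    have hsimple : IsSimpleModule A (A ⧸ m) := by
      rw [isSimpleModule_iff_isCoatom]
      exact Ideal.isMaximal_def.mp hm
    have hΨs : Function.Surjective Ψ := by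
      rcases LinearMap.surjective_or_eq_zero Ψ with h | h
      · exact h
      · exfalso
        obtain ⟨f, g, hfg⟩ := hnt
        apply hfg
        apply hΨ
        rw [h]
        rfl
    exact ⟨LinearEquiv.ofBijective Ψ ⟨hΨ, hΨs⟩⟩

end Groth.Agent.Lib.Helper12.ResExt
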