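import Mathlib
import Groth.Agent.Lib.Helper12.ResidueExtMain
import Groth.Agent.Lib.Helper12.BidualDevissage
import Groth.Agent.Lib.Helper12.DualizingBC

/-!
# The dualizing complex at a minimal prime has a single nonzero cohomology module (helper12)
-/

set_option autoImplicit false
universe u
open CategoryTheory CategoryTheory.Limits

attribute [local instance] HasDerivedCategory.standard

namespace Groth.Agent.Lib.Helper12.MinPrime
open Groth.Agent.Lib.Helper12 DRing Groth.Agent.Lib.Helper12.FlatHomBC
open Groth.Agent.Lib.Helper36.InjAmp Groth.Agent.Lib.Helper12.Bass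

variable {A : Type u} [CommRing A]

/-- over a Noetherian ring in which `m` is the only prime ideal, vanishing of `Ext^k(A/m, K)`
propagates to all finite modules -/
theorem vanishAt_of_unique_prime [IsNoetherianRing A] {K : Dual.D A} {k : ℤ} (m : Ideal A)
    (hprime : ∀ q : PrimeSpectrum A, q.asIdeal = m) (h : VanishAt K k (A ⧸ m))
    (N : Type u) [AddCommGroup N] [Module A N] [hN : Module.Finite A N] : VanishAt K k N := by
  refine IsNoetherianRing.induction_on_isQuotientEquivQuotientPrime A hN
    (motive := fun N _ _ _ => VanishAt K k N) ?_ ?_ ?_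
  · intro N _ _ _ _
    exact VanishAt.of_subsingleton N
  · intro N _ _ _ q e
    have h' : VanishAt K k (A ⧸ q.asIdeal) := (hprime q).symm ▸ h
    exact h'.of_linearEquiv e.symm
  · intro N₁ _ _ _ N₂ _ _ _ N₃ _ _ _ f g hf hg hfg h₁ h₃
    exact VanishAt.of_exact f g hf hg hfg h₁ h₃

/-- over a nontrivial Noetherian ring with a unique prime ideal, a dualizing complex has exactly one
nonzero cohomology module -/
theorem single_cohomology_of_unique_prime [IsNoetherianRing A] [Nontrivial A] (m : Ideal A)
    [hm : m.IsMaximal] (hprime : ∀ q : PrimeSpectrum A, q.asIdeal = m) (ω : Dual.D A)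
    (hω : Dual.IsDualizing A ω) :
    ∃ d : ℤ, (∀ i : ℤ, i ≠ d → IsZero ((HF A i).obj ω)) ∧ ¬ IsZero ((HF A d).obj ω) := by
  obtain ⟨a, b, E, hE, hinj, ⟨e⟩⟩ := ModDual.exists_injective_model ω hω
  have hωE : Dual.IsDualizing A (toD E) := DualizingBC.isDualizing_of_iso e.symm hω
  obtain ⟨d, hd, -⟩ := ResExt.main_E E a b hE hinj hωE m
  have hz : ∀ i : ℤ, i ≠ d → IsZero ((HF A i).obj ω) := by
    intro i hi
    have h1 : VanishAt (toD E) i (A ⧸ m) := ⟨fun f g => (hd i hi f).trans (hd i hi g).symm⟩
    have h2 : VanishAt (toD E) i A := vanishAt_of_unique_prime m hprime h1 A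
    have h3 : IsZero ((HF A i).obj (toD E)) :=
      isZero_HF_of_hom_ring_eq_zero (toD E) i (fun f => by
        have : Subsingleton (Dual.inD A A ⟶ (toD E)⟦i⟧) := h2
        exact Subsingleton.elim _ _)
    exact h3.of_iso ((HF A i).mapIso e.symm)
  refine ⟨d, hz, fun hzd => ?_⟩
  have h0 : IsZero ω := isZero_of_forall_isZero_HF ω (fun i => by
    by_cases hi : i = d
    · subst hi
      exact hzd
    · exact hz i hi)
  have h1 : (1 : A) • 𝟙 ω = (0 : A) • 𝟙 ω := h0.eq_of_src _ _
  exact one_ne_zero (hω.toEnd_bijective.1 h1)

/-- cohomology of the localized complex vs localized cohomology -/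
lemma nontrivial_localizedModule_iff (S : Submonoid A) (ω : Dual.D A) (i : ℤ) :
    Nontrivial (LocalizedModule S (Dual.HD A ω i)) ↔
      ¬ IsZero ((HF (Localization S) i).obj ((extScD A (Localization S)).obj ω)) := by
  haveI : Module.Flat A (Localization S) := IsLocalization.flat _ S
  let e1 := ((HFExtIso (A := A) (B := Localization S) i).app ω).toLinearEquiv
  let e2 := extScObjEquiv (A := A) (B := Localization S) ((HF A i).obj ω)
  let e3 := (IsLocalizedModule.isBaseChange S (Localization S)
    (LocalizedModule.mkLinearMap S ((HF A i).obj ω))).equiv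
  let e : (HF (Localization S) i).obj ((extScD A (Localization S)).obj ω) ≃
      LocalizedModule S (Dual.HD A ω i) := (e1.toEquiv.trans e2.toEquiv).trans e3.toEquiv
  rw [← not_subsingleton_iff_nontrivial, not_iff_not]
  constructor
  · intro h
    have : Subsingleton ((HF (Localization S) i).obj ((extScD A (Localization S)).obj ω)) :=
      e.subsingleton
    exact ModuleCat.isZero_of_subsingleton _
  · intro h
    have := ModuleCat.subsingleton_of_isZero h
    exact e.symm.subsingleton


/-- **at a minimal prime, exactly one cohomology module of a dualizing complex survives** -/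
theorem existsUnique_nontrivial_localized [IsNoetherianRing A] (ω : Dual.D A)
    (hω : Dual.IsDualizing A ω) (p : Ideal A) (hp : p ∈ minimalPrimes A) :
    ∃! i : ℤ, Nontrivial (LocalizedModule (Ideal.primeCompl p (hp := hp.1.1))
      (Dual.HD A ω i)) := by
  haveI : p.IsPrime := hp.1.1
  let S : Submonoid A := p.primeCompl
  haveI : IsNoetherianRing (Localization S) :=
    IsLocalization.isNoetherianRing S _ inferInstance
  have hωB : Dual.IsDualizing (Localization S) ((extScD A (Localization S)).obj ω) :=
    DualizingBC.isDualizing_extScD_of_ideals_extended (B := Localization S)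
      (fun J => ⟨J.under A, IsLocalization.map_under S _ J⟩) ω hω
  haveI : IsLocalRing (Localization S) := inferInstanceAs (IsLocalRing (Localization.AtPrime p))
  have hprime : ∀ q : PrimeSpectrum (Localization S),
      q.asIdeal = IsLocalRing.maximalIdeal (Localization S) := by
    intro q
    have h1 : q.asIdeal.comap (algebraMap A (Localization S)) ≤ p := by
      have := IsLocalRing.le_maximalIdeal q.isPrime.ne_top
      intro x hx
      have h2 : algebraMap A (Localization S) x ∈ IsLocalRing.maximalIdeal (Localization S) :=
        this hx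
      exact (IsLocalization.AtPrime.to_map_mem_maximal_iff (Localization.AtPrime p) p x).mp h2
    have h2 : p ≤ q.asIdeal.comap (algebraMap A (Localization S)) :=
      hp.2 ⟨Ideal.comap_isPrime _ _, bot_le⟩ h1
    have h3 : q.asIdeal.comap (algebraMap A (Localization S)) = p := le_antisymm h1 h2
    have h4 : q.asIdeal = (q.asIdeal.comap (algebraMap A (Localization S))).map
        (algebraMap A (Localization S)) := (IsLocalization.map_under S _ _).symm
    rw [h4, h3]
    exact Localization.AtPrime.map_eq_maximalIdeal
  obtain ⟨d, hd, hdd⟩ := single_cohomology_of_unique_prime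
    (IsLocalRing.maximalIdeal (Localization S)) hprime _ hωB
  refine ⟨d, (nontrivial_localizedModule_iff S ω d).mpr hdd, fun i hi => ?_⟩
  by_contra hne
  exact (nontrivial_localizedModule_iff S ω i).mp hi (hd i hne)

end Groth.Agent.Lib.Helper12.MinPrime
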