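import Mathlib
import Groth.Agent.Lib.Helper12.MinimalPrimeDualizing
import Groth.Agent.Lib.Helper2.InjHull2

/-!
# A normalized dualizing complex over an Artinian local ring is the injective hull of the
residue field (helper12)
-/

set_option autoImplicit false
universe u
open CategoryTheory CategoryTheory.Limits

attribute [local instance] HasDerivedCategory.standard

namespace Groth.Agent.Lib.Helper12.ArtDual
open Groth.Agent.Lib.Helper12 DRing Groth.Agent.Lib.Helper12.FlatHomBC
open Groth.Agent.Lib.Helper36.InjAmp Groth.Agent.Lib.Helper12.Bass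

variable {A : Type u} [CommRing A]

/-- a complex concentrated in degree `0` is its degree-`0` term, in `D(A)` -/
theorem nonempty_iso_inD_of_vanishesOutside (E : Cx A) (hE : VanishesOutside E 0 0) :
    Nonempty (toD E ≅ Dual.inD A (E.X 0)) := by
  obtain ⟨Y, ⟨e⟩, ⟨e'⟩⟩ := ResExt.exists_iso_single (toD E) 0
    (fun j hj => isZero_HF_toD_of_isZero_X E j (hE j (by omega)))
  have h1 : E.d (-1) 0 = 0 := (hE (-1) (by omega)).eq_of_src _ _
  have h2 : E.d 0 1 = 0 := (hE 1 (by omega)).eq_of_tgt _ _
  let e2 : E.homology 0 ≅ E.X 0 :=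
    (E.isoHomologyπ (-1) 0 (by simp) h1).symm ≪≫ E.iCyclesIso 0 1 (by simp) h2
  exact ⟨e ≪≫ inDMapIso (e'.symm ≪≫ HFQIso 0 E ≪≫ e2)⟩

/-- a module all of whose `D(A)`-endomorphisms are scalars, bijectively, over a local ring is
indecomposable -/
theorem isIndecomposable_of_toEnd_bijective [IsLocalRing A] (W : ModuleCat.{u} A)
    (h : Function.Bijective (fun a : A => a • 𝟙 (Dual.inD A W))) :
    InjHull.IsIndecomposable A W := by
  constructor
  · by_contra hW
    rw [not_nontrivial_iff_subsingleton] at hW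
    have hz : IsZero (Dual.inD A W) := isZero_inD (ModuleCat.isZero_of_subsingleton W)
    have h1 : (1 : A) • 𝟙 (Dual.inD A W) = (0 : A) • 𝟙 (Dual.inD A W) := hz.eq_of_src _ _
    exact one_ne_zero (h.1 h1)
  · intro N N' hc
    let p : W →ₗ[A] W := N.subtype ∘ₗ Submodule.projectionOnto N N' hc
    obtain ⟨a, ha⟩ := h.2 ((DerivedCategory.singleFunctor (ModuleCat.{u} A) 0).map
      (ModuleCat.ofHom p))
    have ha' : (DerivedCategory.singleFunctor (ModuleCat.{u} A) 0).map (a • 𝟙 W) =
        (DerivedCategory.singleFunctor (ModuleCat.{u} A) 0).map (ModuleCat.ofHom p) := by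
      rw [Functor.map_smul, CategoryTheory.Functor.map_id]
      exact ha
    have hp : a • 𝟙 W = ModuleCat.ofHom p :=
      (DerivedCategory.singleFunctor (ModuleCat.{u} A) 0).map_injective ha'
    have hpw : ∀ w : W, a • w = p w := fun w => by
      have := congrArg (fun f => f.hom w) hp
      simpa using this
    rcases IsLocalRing.isUnit_or_isUnit_one_sub_self a with hu | hu
    · right
      rw [Submodule.eq_bot_iff]
      intro w hw
      have h1 : p w = 0 := by
        change (N.subtype ∘ₗ Submodule.projectionOnto N N' hc) w = 0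
        have := Submodule.projectionOnto_apply_right hc (⟨w, hw⟩ : N')
        rw [LinearMap.comp_apply]
        erw [this, map_zero]
      have h2 : a • w = 0 := by rw [hpw, h1]
      have h3 := congrArg (fun x => (hu.unit⁻¹ : Aˣ) • x) h2
      simpa [Units.smul_def, smul_smul] using h3
    · left
      rw [Submodule.eq_bot_iff]
      intro w hw
      have h1 : p w = w := by
        change (N.subtype ∘ₗ Submodule.projectionOnto N N' hc) w = w
        have := Submodule.projectionOnto_apply_left hc (⟨w, hw⟩ : N)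
        rw [LinearMap.comp_apply]
        erw [this]
        rfl
      have h2 : (1 - a) • w = 0 := by rw [sub_smul, one_smul, hpw, h1, sub_self]
      have h3 := congrArg (fun x => (hu.unit⁻¹ : Aˣ) • x) h2
      simpa [Units.smul_def, smul_smul] using h3


/-- **over a Noetherian local ring of dimension `0`, a normalized dualizing complex is an
injective hull of the residue field in degree `0`** -/
theorem nonempty_iso_inD_injectiveHull [IsLocalRing A] [IsNoetherianRing A]
    (h0 : ringKrullDim A = 0) (ω : Dual.D A) (hω : Dual.IsDualizing A ω)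
    (hn : Dual.IsNormalized A ω) (E : Type u) [AddCommGroup E] [Module A E]
    (f : IsLocalRing.ResidueField A →ₗ[A] E) (hf : InjHull.IsInjectiveHull f) :
    Nonempty (ω ≅ Dual.inD A E) := by
  have hK : Ring.KrullDimLE 0 A := Ring.krullDimLE_iff.mpr h0.le
  have hprime : ∀ q : PrimeSpectrum A, q.asIdeal = IsLocalRing.maximalIdeal A := fun q =>
    IsLocalRing.eq_maximalIdeal (Ideal.isMaximal_of_isPrime q.asIdeal)
  have hv : ∀ i : ℤ, i ≠ 0 → ∀ (I : Ideal A) (g : Dual.inD A (A ⧸ I) ⟶ ω⟦i⟧), g = 0 := by
    intro i hi I g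
    have h1 : VanishAt ω i (A ⧸ IsLocalRing.maximalIdeal A) := hn i hi
    have h2 : Subsingleton (Dual.inD A (A ⧸ I) ⟶ ω⟦i⟧) :=
      MinPrime.vanishAt_of_unique_prime _ hprime h1 (A ⧸ I)
    exact Subsingleton.elim _ _
  obtain ⟨E', hE', hinj', ⟨e'⟩⟩ := hasInjAmplitudeIn_of_hom_quotient_eq_zero ω 0 0
    (fun I i hi g => hv i (by omega) I g)
  obtain ⟨e3⟩ := nonempty_iso_inD_of_vanishesOutside E' hE'
  have eW : ω ≅ Dual.inD A (E'.X 0) := e'.symm ≪≫ e3
  have hωW : Dual.IsDualizing A (Dual.inD A (E'.X 0)) := DualizingBC.isDualizing_of_iso eW hω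
  have hind := isIndecomposable_of_toEnd_bijective (E'.X 0) hωW.toEnd_bijective
  obtain ⟨p, hp, g, hg⟩ :=
    Groth.Agent.Lib.Helper2.exists_isInjectiveHull_quotient_prime_of_indecomposable hind (hinj' 0)
  have hpm : p = IsLocalRing.maximalIdeal A := hprime ⟨p, hp⟩
  subst hpm
  obtain ⟨el, -⟩ := Groth.Agent.Lib.Helper2.injectiveHull_unique
    (M := IsLocalRing.ResidueField A) g hg f hf
  exact ⟨eW ≪≫ inDMapIso el.toModuleIso⟩

end Groth.Agent.Lib.Helper12.ArtDual
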