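import Groth.Agent.Lib.Helper12.DRingPerfect
import Groth.Agent.Lib.Helper12.FlatExtendScalars
import Groth.Prelude.Def_DDual2
import Mathlib.Algebra.Category.ModuleCat.ChangeOfRingsExact

/-!
# Restriction of scalars on derived categories and pseudo-coherence
-/

namespace Groth.Agent.Lib.Helper12

open CategoryTheory CategoryTheory.Limits DRing CategoryTheory.Pretriangulated

attribute [local instance] HasDerivedCategory.standard

universe u

variable {A B : Type u} [CommRing A] [CommRing B] (φ : A →+* B)

/-- restriction of scalars -/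
noncomputable abbrev resSc : ModuleCat.{u} B ⥤ ModuleCat.{u} A := ModuleCat.restrictScalars.{u} φ

/-- restriction of scalars of the image of a complex -/
noncomputable def restrictD_toD (E : Cx B) :
    (restrictD φ).obj (toD E) ≅ toD ((restrictCx φ).obj E) :=
  (resSc φ).mapDerivedCategoryFactors.app E

/-- restriction of scalars commutes with cohomology -/
noncomputable def HFRestrictIso (i : ℤ) : restrictD φ ⋙ HF A i ≅ HF B i ⋙ resSc φ :=
  mapDerivedCategoryHomologyIso (resSc φ) i

lemma isZero_resSc_iff (M : ModuleCat.{u} B) : IsZero ((resSc φ).obj M) ↔ IsZero M := by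
  constructor
  · intro h
    have : Subsingleton ((resSc φ).obj M) := ModuleCat.subsingleton_of_isZero h
    have : Subsingleton M := this
    exact ModuleCat.isZero_of_subsingleton M
  · intro h
    exact (resSc φ).map_isZero h

lemma isZero_HF_restrictD_iff (K : Dual.D B) (i : ℤ) :
    IsZero ((HF A i).obj ((restrictD φ).obj K)) ↔ IsZero ((HF B i).obj K) := by
  rw [← isZero_resSc_iff φ]
  exact ((HFRestrictIso φ i).app K).isZero_iff

lemma epi_resSc_map_iff {M N : ModuleCat.{u} B} (f : M ⟶ N) :
    Epi ((resSc φ).map f) ↔ Epi f := by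
  rw [ModuleCat.epi_iff_surjective, ModuleCat.epi_iff_surjective]
  rfl

lemma mono_resSc_map_iff {M N : ModuleCat.{u} B} (f : M ⟶ N) :
    Mono ((resSc φ).map f) ↔ Mono f := by
  rw [ModuleCat.mono_iff_injective, ModuleCat.mono_iff_injective]
  rfl

lemma isIso_resSc_map_iff {M N : ModuleCat.{u} B} (f : M ⟶ N) :
    IsIso ((resSc φ).map f) ↔ IsIso f := by
  constructor
  · intro h
    have h1 : Mono f := (mono_resSc_map_iff φ f).mp inferInstance
    have h2 : Epi f := (epi_resSc_map_iff φ f).mp inferInstance
    exact isIso_of_mono_of_epi f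
  · intro h
    infer_instance

lemma isIso_HF_restrictD_map_iff {K L : Dual.D B} (α : K ⟶ L) (i : ℤ) :
    IsIso ((HF A i).map ((restrictD φ).map α)) ↔ IsIso ((HF B i).map α) := by
  rw [← isIso_resSc_map_iff φ]
  exact NatIso.isIso_map_iff (HFRestrictIso φ i) α

lemma epi_HF_restrictD_map_iff {K L : Dual.D B} (α : K ⟶ L) (i : ℤ) :
    Epi ((HF A i).map ((restrictD φ).map α)) ↔ Epi ((HF B i).map α) := by
  rw [← epi_resSc_map_iff φ]
  have e := map_eq_of_natIso (HFRestrictIso φ i) α
  change (HF A i).map ((restrictD φ).map α) = _ at e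
  rw [e]
  constructor
  · intro h
    have h' : Epi (((HFRestrictIso φ i).inv.app K ≫ ((HFRestrictIso φ i).hom.app K ≫
        (HF B i ⋙ resSc φ).map α ≫ (HFRestrictIso φ i).inv.app L)) ≫
        (HFRestrictIso φ i).hom.app L) := inferInstance
    simpa using h'
  · intro h
    have : Epi ((HF B i ⋙ resSc φ).map α) := h
    infer_instance

lemma isConn_restrictD_iff {m : ℤ} {K L : Dual.D B} (α : K ⟶ L) :
    IsConn m ((restrictD φ).map α) ↔ IsConn m α := by
  constructor
  · intro h
    exact ⟨fun i hi => (isIso_HF_restrictD_map_iff φ α i).mp (h.1 i hi),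
      (epi_HF_restrictD_map_iff φ α m).mp h.2⟩
  · intro h
    exact ⟨fun i hi => (isIso_HF_restrictD_map_iff φ α i).mpr (h.1 i hi),
      (epi_HF_restrictD_map_iff φ α m).mpr h.2⟩

/-- a module which is finite after restriction of scalars is finite -/
lemma finite_of_finite_resSc (M : ModuleCat.{u} B) (h : Module.Finite A ((resSc φ).obj M)) :
    Module.Finite B M := by
  obtain ⟨s, hs⟩ := h.fg_top
  refine ⟨⟨s, ?_⟩⟩
  rw [eq_top_iff]
  rintro x -
  have hx : x ∈ Submodule.span A (s : Set ((resSc φ).obj M)) := by rw [hs]; trivial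
  induction hx using Submodule.span_induction with
  | mem y hy => exact Submodule.subset_span hy
  | zero => exact Submodule.zero_mem _
  | add y z _ _ hy hz => exact Submodule.add_mem _ hy hz
  | smul a y _ hy => exact Submodule.smul_mem _ (φ a) hy

end Groth.Agent.Lib.Helper12

namespace Groth.Agent.Lib.Helper12

open CategoryTheory CategoryTheory.Limits DRing CategoryTheory.Pretriangulated

attribute [local instance] HasDerivedCategory.standard

universe u

variable {A B : Type u} [CommRing A] [CommRing B] (φ : A →+* B)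

/-- `B`, as a module over `A` via `φ`, placed in degree zero, is pseudo-coherent in all degrees -/
def ResPC : Prop :=
  ∀ m : ℤ, IsPseudoCoherent A m (Dual.inD A ((resSc φ).obj (ModuleCat.of B B)))

lemma isPseudoCoherent_of_isConn {m : ℤ} {L K : Dual.D A} (β : L ⟶ K) (hβ : IsConn m β)
    (hL : IsPseudoCoherent A m L) : IsPseudoCoherent A m K := by
  obtain ⟨E, a, b, α, hE, hff, hα'⟩ := hL
  have hα : IsConn m α := hα'
  exact ⟨E, a, b, α ≫ β, hE, hff, IsConn.comp hα hβ le_rfl⟩

instance preservesBinaryBiproducts_resSc : PreservesBinaryBiproducts (resSc φ) :=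
  preservesBinaryBiproducts_of_preservesBiproducts _

/-- restriction of a product -/
noncomputable def inD_resSc_prod (M N : ModuleCat.{u} B) :
    Dual.inD A ((resSc φ).obj (ModuleCat.of B (M × N))) ≅
      Dual.inD A ((resSc φ).obj M) ⊞ Dual.inD A ((resSc φ).obj N) :=
  inDMapIso ((resSc φ).mapIso (ModuleCat.biprodIsoProd M N).symm ≪≫ (resSc φ).mapBiprod M N) ≪≫
    (DerivedCategory.singleFunctor (ModuleCat.{u} A) 0).mapBiprod _ _

variable {φ}

lemma isPseudoCoherent_inD_resSc_pi (h : ResPC φ) (n : ℕ) (m : ℤ) :
    IsPseudoCoherent A m (Dual.inD A ((resSc φ).obj (ModuleCat.of B (Fin n → B)))) := by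
  induction n with
  | zero =>
    apply isPseudoCoherent_of_isZero_HF
    intro i _
    refine (HF A i).map_isZero (isZero_inD ((resSc φ).map_isZero ?_))
    exact ModuleCat.isZero_of_subsingleton _
  | succ n ih =>
    let e : ModuleCat.of B (Fin (n + 1) → B) ≅
        ModuleCat.of B ((ModuleCat.of B B) × (ModuleCat.of B (Fin n → B))) :=
      (Fin.consLinearEquiv B (fun _ : Fin (n + 1) => B)).symm.toModuleIso
    refine isPseudoCoherent_of_iso' (inDMapIso ((resSc φ).mapIso e) ≪≫
      inD_resSc_prod φ _ _).symm ?_
    exact isPseudoCoherent_biprod (h m) ih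

lemma isPseudoCoherent_inD_resSc_of_finite_free (h : ResPC φ) (M : ModuleCat.{u} B)
    [Module.Finite B M] [Module.Free B M] (m : ℤ) :
    IsPseudoCoherent A m (Dual.inD A ((resSc φ).obj M)) := by
  rcases subsingleton_or_nontrivial B with hB | hB
  · apply isPseudoCoherent_of_isZero_HF
    intro i _
    refine (HF A i).map_isZero (isZero_inD ((resSc φ).map_isZero ?_))
    have : Subsingleton M := Module.subsingleton B M
    exact ModuleCat.isZero_of_subsingleton _
  · let e : M ≅ ModuleCat.of B (Fin (Module.finrank B M) → B) :=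
      (Module.finBasis B M).equivFun.toModuleIso
    exact isPseudoCoherent_of_iso' (inDMapIso ((resSc φ).mapIso e)).symm
      (isPseudoCoherent_inD_resSc_pi h _ m)

/-- the restriction of a bounded above complex of finite free modules is pseudo-coherent in all
degrees -/
lemma isPseudoCoherent_restrictD_toD_of_finiteFree (h : ResPC φ) (E : Cx B) (b : ℤ)
    (hE : VanishesAbove E b) (hff : TermwiseFiniteFree E) (m : ℤ) :
    IsPseudoCoherent A m ((restrictD φ).obj (toD E)) := by
  refine isPseudoCoherent_of_iso' (restrictD_toD φ E).symm ?_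
  refine isPseudoCoherent_toD_of_termwise m _ b (fun i hi => (resSc φ).map_isZero (hE i hi))
    (fun i => ?_)
  have : Module.Finite B (E.X i) := (hff i).1
  have : Module.Free B (E.X i) := (hff i).2
  exact isPseudoCoherent_inD_resSc_of_finite_free h (E.X i) _

/-- `m`-pseudo-coherence passes to the restriction of scalars -/
theorem isPseudoCoherent_restrictD (h : ResPC φ) {m : ℤ} {K : Dual.D B}
    (hK : IsPseudoCoherent B m K) : IsPseudoCoherent A m ((restrictD φ).obj K) := by
  obtain ⟨E, a, b, α, hE, hff, hα'⟩ := hK
  have hα : IsConn m α := hα'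
  exact isPseudoCoherent_of_isConn ((restrictD φ).map α) ((isConn_restrictD_iff φ α).mpr hα)
    (isPseudoCoherent_restrictD_toD_of_finiteFree h E b (vanishesAbove_of_vanishesOutside hE) hff m)

theorem isPseudoCoherent_of_restrictD_aux (h : ResPC φ) (m : ℤ) : ∀ (n : ℕ) (b : ℤ), b < m + n →
    ∀ (K : Dual.D B), IsPseudoCoherent A m ((restrictD φ).obj K) →
    (∀ j : ℤ, b < j → IsZero ((HF B j).obj K)) → IsPseudoCoherent B m K := by
  intro n
  induction n with
  | zero =>
    intro b hb K _ hz
    exact isPseudoCoherent_of_isZero_HF m K (fun i hi => hz i (by simp at hb; omega))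
  | succ n ih =>
    intro b hb K hK hz
    by_cases hbm : b < m
    · exact isPseudoCoherent_of_isZero_HF m K (fun i hi => hz i (by omega))
    · have hfinA : Module.Finite A ((HF A b).obj ((restrictD φ).obj K)) :=
        Groth.Agent.S2068.part_a _ b (isPseudoCoherent_mono hK (by omega))
          (fun i hi => (isZero_HF_restrictD_iff φ K i).mpr (hz i hi))
      have hfinA'' : Module.Finite A ((restrictD φ ⋙ HF A b).obj K) := hfinA
      have hfinA' : Module.Finite A ((resSc φ).obj ((HF B b).obj K)) :=
        Module.Finite.equiv ((HFRestrictIso φ b).app K).toLinearEquiv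
      have hfinB : Module.Finite B ((HF B b).obj K) := finite_of_finite_resSc φ _ hfinA'
      obtain ⟨r, p, hp⟩ := Module.Finite.exists_fin' B ((HF B b).obj K)
      let F : ModuleCat.{u} B := ModuleCat.of B (Fin r → B)
      have hFfin : Module.Finite B F := inferInstanceAs (Module.Finite B (Fin r → B))
      have hFfree : Module.Free B F := inferInstanceAs (Module.Free B (Fin r → B))
      have hFproj : Module.Projective B F := inferInstance
      obtain ⟨γ, hγ⟩ := exists_hom_from_single_epi K b hz F hFproj (ModuleCat.ofHom p)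
        ((ModuleCat.epi_iff_surjective _).mpr hp)
      have hγconn : IsConn b γ := by
        refine ⟨fun i hi => ?_, hγ⟩
        exact ⟨⟨0, (isZero_HF_toD_singleCx b F i (by omega)).eq_of_src _ _,
          (hz i hi).eq_of_src _ _⟩⟩
      obtain ⟨C, c, d, hT⟩ := distinguished_cocone_triangle γ
      have hCz : ∀ j : ℤ, b - 1 < j → IsZero ((HF B j).obj C) := fun j hj =>
        IsConn.cone _ hT hγconn j (by omega)
      have hSff : TermwiseFiniteFree (singleCx b F) := by
        intro i
        by_cases hi : i = b
        · subst hi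
          exact (finiteFree B).iso
            (HomologicalComplex.singleObjXSelf (ComplexShape.up ℤ) i F).symm ⟨hFfin, hFfree⟩
        · exact (finiteFree B).zero (isZero_singleCx_X b F i hi)
      have hT' := (restrictD φ).map_distinguished _ hT
      have h1 : IsPseudoCoherent A (m + 1) ((restrictD φ).obj (toD (singleCx b F))) :=
        isPseudoCoherent_restrictD_toD_of_finiteFree h _ b
          (vanishesAbove_of_vanishesOutside (vanishesOutside_singleCx b F)) hSff _
      have h3 : IsPseudoCoherent A m ((restrictD φ).obj C) :=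
        (isPseudoCoherent_two_out_of_three _ hT' m).1 h1 hK
      have hC : IsPseudoCoherent B m C := ih (b - 1) (by push_cast at hb; omega) C h3 hCz
      exact (isPseudoCoherent_two_out_of_three _ hT m).2.1
        (isPseudoCoherent_toD_of_bounded_ff _ b b (vanishesOutside_singleCx b F) hSff m) hC

/-- `m`-pseudo-coherence descends along restriction of scalars -/
theorem isPseudoCoherent_of_restrictD (h : ResPC φ) {m : ℤ} {K : Dual.D B}
    (hK : IsPseudoCoherent A m ((restrictD φ).obj K)) : IsPseudoCoherent B m K := by
  obtain ⟨b, hb⟩ := exists_bound_of_isPseudoCoherent hK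
  exact isPseudoCoherent_of_restrictD_aux h m (b - m + 1).toNat b (by omega) K hK
    (fun j hj => (isZero_HF_restrictD_iff φ K j).mp (hb j hj))

theorem isPseudoCoherent_restrictD_iff (h : ResPC φ) (m : ℤ) (K : Dual.D B) :
    IsPseudoCoherent B m K ↔ IsPseudoCoherent A m ((restrictD φ).obj K) :=
  ⟨isPseudoCoherent_restrictD h, isPseudoCoherent_of_restrictD h⟩

theorem isPseudoCoherent'_restrictD_iff (h : ResPC φ) (K : Dual.D B) :
    IsPseudoCoherent' B K ↔ IsPseudoCoherent' A ((restrictD φ).obj K) := by
  rw [← isPseudoCoherent'_iff_forall, ← isPseudoCoherent'_iff_forall]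
  exact forall_congr' (fun m => isPseudoCoherent_restrictD_iff h m K)

end Groth.Agent.Lib.Helper12
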