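import Mathlib
import Groth.Agent.Lib.Helper12.BassCriterion

/-!
# Ascent of dualizing complexes along flat maps controlled on residue fields (helper12)
-/

set_option autoImplicit false
universe u
open CategoryTheory CategoryTheory.Limits

attribute [local instance] HasDerivedCategory.standard

namespace Groth.Agent.Lib.Helper12.DualizingAscent
open Groth.Agent.Lib.Helper12 Groth.Agent.Lib.Helper12.FlatHomBC TensorProduct DRing Pretriangulated
open Groth.Agent.Lib.Helper12.DualizingBC

attribute [local instance] homModA homModAMod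

variable {A B : Type u} [CommRing A] [CommRing B] [Algebra A B] [Module.Flat A B]

/-- transport of Hom-vanishing from a finite `A`-module to a `B`-module isomorphic to its base
change -/
theorem subsingleton_hom_inD_extScD_of_equiv [IsNoetherianRing A] (ω : Dual.D A) (a : ℤ)
    (hlow : ∀ j : ℤ, j < a → IsZero ((HF A j).obj ω))
    (M : Type u) [AddCommGroup M] [Module A M] [Module.Finite A M]
    (N : Type u) [AddCommGroup N] [Module B N] (e : N ≃ₗ[B] B ⊗[A] M) (i : ℤ)
    (h : Subsingleton (Dual.inD A M ⟶ ω⟦i⟧)) :
    Subsingleton (Dual.inD B N ⟶ ((extScD A B).obj ω)⟦i⟧) := by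
  have h2 := subsingleton_hom_extScD (B := B) (Dual.inD A M) ω (isPseudoCoherent'_inD M) a hlow i h
  let e' : (extScD A B).obj (Dual.inD A M) ≅ Dual.inD B N :=
    extScD_inD M ≪≫ inDMapIso e.symm.toModuleIso
  exact ⟨fun f g => by
    rw [← cancel_epi e'.hom]
    exact Subsingleton.elim _ _⟩

/-- ascent of dualizing complexes along a flat map of Noetherian rings, given finite injective
dimension of the base change -/
theorem isDualizing_extScD_of_injDim [IsNoetherianRing A] [IsNoetherianRing B] (ω : Dual.D A)
    (hω : Dual.IsDualizing A ω)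
    (h2 : ∃ a b : ℤ, ∀ (M : Type u) [AddCommGroup M] [Module B M] (i : ℤ),
      (i < a ∨ b < i) → Subsingleton (Dual.inD B M ⟶ ((extScD A B).obj ω)⟦i⟧)) :
    Dual.IsDualizing B ((extScD A B).obj ω) := by
  obtain ⟨a, b, hab⟩ := hω.finite_injective_dimension
  have hz := isZero_HF_of_finite_injective_dimension ω a b hab
  have hlow : ∀ j : ℤ, j < a → IsZero ((HF A j).obj ω) := fun j hj => hz j (Or.inl hj)
  have hpc : IsPseudoCoherent' A ω :=
    isPseudoCoherent'_of_finite ω b (fun j hj => hz j (Or.inr hj)) hω.finite_cohomology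
  refine ⟨inferInstance, h2, ?_, ?_, ?_⟩
  · intro i
    exact finite_HF_extScD ω i (hω.finite_cohomology i)
  · have hG : Good B ω ω := good_of_isPseudoCoherent ω ω hpc a hlow
    have h1 : Function.Bijective (smulId ω) := hω.toEnd_bijective
    have h2 : Function.Bijective ((smulId ω).baseChange B) := by
      have := ((LinearEquiv.ofBijective (smulId ω) h1).baseChange A B _ _).bijective
      exact this
    exact (bijective_smulId_extScD_iff ω hG).mpr h2
  · intro i hi
    exact subsingleton_hom_extScD ω ω hpc a hlow i (hω.ext_self_subsingleton i hi)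

/-- ascent of dualizing complexes along a flat map of Noetherian rings such that every residue
field of `B` at a maximal ideal is the base change of a cyclic `A`-module -/
theorem isDualizing_extScD_of_maximal [IsNoetherianRing A] [IsNoetherianRing B] (ω : Dual.D A)
    (hω : Dual.IsDualizing A ω)
    (hmax : ∀ n : Ideal B, n.IsMaximal →
      ∃ m : Ideal A, Nonempty ((B ⧸ n) ≃ₗ[B] B ⊗[A] (A ⧸ m))) :
    Dual.IsDualizing B ((extScD A B).obj ω) := by
  obtain ⟨a, b, hab⟩ := hω.finite_injective_dimension
  have hz := isZero_HF_of_finite_injective_dimension ω a b hab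
  have hlow : ∀ j : ℤ, j < a → IsZero ((HF A j).obj ω) := fun j hj => hz j (Or.inl hj)
  refine isDualizing_extScD_of_injDim ω hω ⟨a, b, ?_⟩
  refine Bass.finite_injective_dimension_of_maximal _ a b
    (fun j hj => isZero_HF_extScD ω j (hlow j hj))
    (fun j => finite_HF_extScD ω j (hω.finite_cohomology j)) ?_
  intro n hn i hi
  obtain ⟨m, ⟨e⟩⟩ := hmax n hn
  exact subsingleton_hom_inD_extScD_of_equiv ω a hlow (A ⧸ m) (B ⧸ n) e i
    (hab (A ⧸ m) i (Or.inr hi))

/-- ascent along a flat map `A → B` with `A → B/IB` surjective and `IB` in the Jacobson radical -/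
theorem isDualizing_extScD_of_surjective_mod [IsNoetherianRing A] [IsNoetherianRing B]
    (I : Ideal A)
    (hs : Function.Surjective ((Ideal.Quotient.mk (I.map (algebraMap A B))).comp (algebraMap A B)))
    (hJ : I.map (algebraMap A B) ≤ (⊥ : Ideal B).jacobson) (ω : Dual.D A)
    (hω : Dual.IsDualizing A ω) : Dual.IsDualizing B ((extScD A B).obj ω) := by
  refine isDualizing_extScD_of_maximal ω hω (fun n hn => ?_)
  have hIn : I.map (algebraMap A B) ≤ n := hJ.trans (sInf_le ⟨bot_le, hn⟩)
  refine ⟨n.comap (algebraMap A B), ⟨?_⟩⟩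
  have hmap : (n.comap (algebraMap A B)).map (algebraMap A B) = n := by
    refine le_antisymm Ideal.map_comap_le (fun y hy => ?_)
    obtain ⟨x, hx⟩ := hs (Ideal.Quotient.mk _ y)
    have hxy : algebraMap A B x - y ∈ I.map (algebraMap A B) := by
      rw [← Ideal.Quotient.eq]
      exact hx
    have hxn : algebraMap A B x ∈ n := by
      have := n.add_mem (hIn hxy) hy
      simpa using this
    have hIm : I.map (algebraMap A B) ≤ (n.comap (algebraMap A B)).map (algebraMap A B) :=
      Ideal.map_mono (Ideal.map_le_iff_le_comap.mp hIn)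
    have h1 : algebraMap A B x ∈ (n.comap (algebraMap A B)).map (algebraMap A B) :=
      Ideal.mem_map_of_mem _ (Ideal.mem_comap.mpr hxn)
    have := Ideal.sub_mem _ h1 (hIm hxy)
    simpa using this
  exact (Submodule.quotEquivOfEq _ _ hmap.symm) ≪≫ₗ
    (Algebra.TensorProduct.quotIdealMapEquivTensorQuot B
      (n.comap (algebraMap A B))).toLinearEquiv

end Groth.Agent.Lib.Helper12.DualizingAscent
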