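import Mathlib

/-!
# An adjunction between additive functors induces an adjunction on homotopy categories
-/

set_option autoImplicit false

open CategoryTheory

namespace Groth.Agent.Lib.Helper12

universe v₁ v₂ u₁ u₂

variable {V : Type u₁} {W : Type u₂} [Category.{v₁} V] [Category.{v₂} W] [Preadditive V]
  [Preadditive W] {ι : Type*} (c : ComplexShape ι) {G : V ⥤ W} {F : W ⥤ V} [G.Additive]
  [F.Additive] (adj : G ⊣ F)

/-- the unit of the termwise adjunction on complexes -/
@[simps]
def unitCx (K : HomologicalComplex V c) :
    K ⟶ (F.mapHomologicalComplex c).obj ((G.mapHomologicalComplex c).obj K) where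
  f i := adj.unit.app (K.X i)
  comm' i j _ := by
    have := adj.unit.naturality (K.d i j)
    dsimp at this ⊢
    exact this.symm

/-- the counit of the termwise adjunction on complexes -/
@[simps]
def counitCx (K : HomologicalComplex W c) :
    (G.mapHomologicalComplex c).obj ((F.mapHomologicalComplex c).obj K) ⟶ K where
  f i := adj.counit.app (K.X i)
  comm' i j _ := by
    have := adj.counit.naturality (K.d i j)
    dsimp at this ⊢
    exact this.symm

lemma unitCx_naturality {K K' : HomologicalComplex V c} (f : K ⟶ K') :
    f ≫ unitCx c adj K' =
      unitCx c adj K ≫ (F.mapHomologicalComplex c).map ((G.mapHomologicalComplex c).map f) := by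
  ext i
  exact adj.unit.naturality (f.f i)

lemma counitCx_naturality {K K' : HomologicalComplex W c} (f : K ⟶ K') :
    (G.mapHomologicalComplex c).map ((F.mapHomologicalComplex c).map f) ≫ counitCx c adj K' =
      counitCx c adj K ≫ f := by
  ext i
  exact adj.counit.naturality (f.f i)

lemma left_triangle_cx (K : HomologicalComplex V c) :
    (G.mapHomologicalComplex c).map (unitCx c adj K) ≫
      counitCx c adj ((G.mapHomologicalComplex c).obj K) = 𝟙 _ := by
  ext i
  exact adj.left_triangle_components (K.X i)

lemma right_triangle_cx (K : HomologicalComplex W c) :
    unitCx c adj ((F.mapHomologicalComplex c).obj K) ≫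
      (F.mapHomologicalComplex c).map (counitCx c adj K) = 𝟙 _ := by
  ext i
  exact adj.right_triangle_components (K.X i)

lemma map_map_quotient_map {K K' : HomologicalComplex V c} (f : K ⟶ K') :
    (F.mapHomotopyCategory c).map ((G.mapHomotopyCategory c).map
      ((HomotopyCategory.quotient V c).map f)) =
      (HomotopyCategory.quotient V c).map
        ((F.mapHomologicalComplex c).map ((G.mapHomologicalComplex c).map f)) :=
  (congrArg (F.mapHomotopyCategory c).map (Functor.mapHomotopyCategory_map G f)).trans
    (Functor.mapHomotopyCategory_map F _)

lemma map_map_quotient_map' {K K' : HomologicalComplex W c} (f : K ⟶ K') :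
    (G.mapHomotopyCategory c).map ((F.mapHomotopyCategory c).map
      ((HomotopyCategory.quotient W c).map f)) =
      (HomotopyCategory.quotient W c).map
        ((G.mapHomologicalComplex c).map ((F.mapHomologicalComplex c).map f)) :=
  (congrArg (G.mapHomotopyCategory c).map (Functor.mapHomotopyCategory_map F f)).trans
    (Functor.mapHomotopyCategory_map G _)

/-- the adjunction on homotopy categories induced by an adjunction between additive functors -/
noncomputable def mapHomotopyCategoryAdj :
    G.mapHomotopyCategory c ⊣ F.mapHomotopyCategory c where
  unit :=
    { app := fun K => (HomotopyCategory.quotient V c).map (unitCx c adj K.as)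
      naturality := fun K K' f => by
        obtain ⟨K, rfl⟩ := HomotopyCategory.quotient_obj_surjective K
        obtain ⟨K', rfl⟩ := HomotopyCategory.quotient_obj_surjective K'
        obtain ⟨f', rfl⟩ := (HomotopyCategory.quotient V c).map_surjective f
        refine ((HomotopyCategory.quotient V c).map_comp f' (unitCx c adj K')).symm.trans ?_
        refine (congrArg (HomotopyCategory.quotient V c).map (unitCx_naturality c adj f')).trans ?_
        refine ((HomotopyCategory.quotient V c).map_comp _ _).trans ?_
        exact congrArg ((HomotopyCategory.quotient V c).map (unitCx c adj K) ≫ ·)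
          (map_map_quotient_map (G := G) (F := F) c f').symm }
  counit :=
    { app := fun K => (HomotopyCategory.quotient W c).map (counitCx c adj K.as)
      naturality := fun K K' f => by
        obtain ⟨K, rfl⟩ := HomotopyCategory.quotient_obj_surjective K
        obtain ⟨K', rfl⟩ := HomotopyCategory.quotient_obj_surjective K'
        obtain ⟨f', rfl⟩ := (HomotopyCategory.quotient W c).map_surjective f
        refine (congrArg (· ≫ (HomotopyCategory.quotient W c).map (counitCx c adj K'))
          (map_map_quotient_map' (G := G) (F := F) c f')).trans ?_
        refine ((HomotopyCategory.quotient W c).map_comp _ _).symm.trans ?_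
        refine (congrArg (HomotopyCategory.quotient W c).map (counitCx_naturality c adj f')).trans ?_
        exact (HomotopyCategory.quotient W c).map_comp _ _ }
  left_triangle_components K := by
    obtain ⟨K, rfl⟩ := HomotopyCategory.quotient_obj_surjective K
    refine (congrArg (· ≫ (HomotopyCategory.quotient W c).map
      (counitCx c adj ((G.mapHomologicalComplex c).obj K)))
      (Functor.mapHomotopyCategory_map G (unitCx c adj K))).trans ?_
    refine ((HomotopyCategory.quotient W c).map_comp _ _).symm.trans ?_
    refine (congrArg (HomotopyCategory.quotient W c).map (left_triangle_cx c adj K)).trans ?_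
    exact CategoryTheory.Functor.map_id _ _
  right_triangle_components K := by
    obtain ⟨K, rfl⟩ := HomotopyCategory.quotient_obj_surjective K
    refine (congrArg ((HomotopyCategory.quotient V c).map
      (unitCx c adj ((F.mapHomologicalComplex c).obj K)) ≫ ·)
      (Functor.mapHomotopyCategory_map F (counitCx c adj K))).trans ?_
    refine ((HomotopyCategory.quotient V c).map_comp _ _).symm.trans ?_
    refine (congrArg (HomotopyCategory.quotient V c).map (right_triangle_cx c adj K)).trans ?_
    exact CategoryTheory.Functor.map_id _ _

lemma mapHomotopyCategoryAdj_unit_app (K : HomologicalComplex V c) :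
    (mapHomotopyCategoryAdj c adj).unit.app ((HomotopyCategory.quotient V c).obj K) =
      (HomotopyCategory.quotient V c).map (unitCx c adj K) := rfl

lemma mapHomotopyCategoryAdj_counit_app (K : HomologicalComplex W c) :
    (mapHomotopyCategoryAdj c adj).counit.app ((HomotopyCategory.quotient W c).obj K) =
      (HomotopyCategory.quotient W c).map (counitCx c adj K) := rfl

end Groth.Agent.Lib.Helper12
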