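import Mathlib
import Groth.Agent.Lib.Helper36.KanAdjunction

/-!
# Right Kan extensions along a functor with a left adjoint are absolute

If `L : C ⥤ D` has a left adjoint `R`, then for every `F : C ⥤ H` the functor `R ⋙ F` is a right
Kan extension of `F` along `L`; consequently any right Kan extension `(LF, α)` of `F` along `L` is
preserved by post-composition with an arbitrary functor `T : H ⥤ H'`.
-/

set_option autoImplicit false
universe v₁ v₂ v₃ v₄ u₁ u₂ u₃ u₄

open CategoryTheory

namespace Groth.Agent.Lib.Helper12.KanAbs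

open Groth.Agent.Lib.Helper36

variable {C : Type u₁} {D : Type u₂} {H : Type u₃} {H' : Type u₄} [Category.{v₁} C]
  [Category.{v₂} D] [Category.{v₃} H] [Category.{v₄} H'] {L : C ⥤ D} {R : D ⥤ C} (adj : R ⊣ L)
  (F : C ⥤ H)

/-- `R ⋙ F` is a right Kan extension of `F` along `L` when `R ⊣ L`. -/
theorem isRightKanExtension_of_adjunction :
    (R ⋙ F).IsRightKanExtension (KanAdj.β adj (F := F)) := by
  refine ⟨⟨Limits.IsTerminal.ofUniqueHom (fun Y => ?_) (fun Y m => ?_)⟩⟩
  · refine CostructuredArrow.homMk (KanAdj.δ adj Y.left Y.hom) ?_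
    ext X
    show (Y.left.map (adj.unit.app (L.obj X)) ≫ Y.hom.app (R.obj (L.obj X))) ≫
      F.map (adj.counit.app X) = Y.hom.app X
    have h1 := Y.hom.naturality (adj.counit.app X)
    have h2 : Y.left.map (L.map (adj.counit.app X)) ≫ Y.hom.app X =
      Y.hom.app (R.obj (L.obj X)) ≫ F.map (adj.counit.app X) := h1
    rw [Category.assoc, ← h2, ← Category.assoc, ← Y.left.map_comp, adj.right_triangle_components]
    exact (congrArg (· ≫ Y.hom.app X) (Y.left.map_id _)).trans (Category.id_comp _)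
  · apply CostructuredArrow.hom_ext
    ext Z
    obtain ⟨a, ha⟩ : ∃ a : (Y.left.obj Z ⟶ F.obj (R.obj Z)), a = m.left.app Z := ⟨_, rfl⟩
    obtain ⟨b, hb⟩ : ∃ b : (Y.left.obj (L.obj (R.obj Z)) ⟶ F.obj (R.obj (L.obj (R.obj Z)))),
      b = m.left.app (L.obj (R.obj Z)) := ⟨_, rfl⟩
    show m.left.app Z = Y.left.map (adj.unit.app Z) ≫ Y.hom.app (R.obj Z)
    have hw := CostructuredArrow.w m
    have hw' : b ≫ F.map (adj.counit.app (R.obj Z)) = Y.hom.app (R.obj Z) := by
      rw [hb]; exact congrArg (fun t => t.app (R.obj Z)) hw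
    have hn := m.left.naturality (adj.unit.app Z)
    have hn' : Y.left.map (adj.unit.app Z) ≫ b = a ≫ F.map (R.map (adj.unit.app Z)) := by
      rw [ha, hb]; exact hn
    rw [← ha, ← hw', ← Category.assoc, hn', Category.assoc, ← F.map_comp,
      adj.left_triangle_components, F.map_id, Category.comp_id]

variable {F}
omit adj

/-- A right Kan extension along a functor admitting a left adjoint is absolute. -/
theorem isRightKanExtension_comp {R : D ⥤ C} (adj : R ⊣ L) (LF : D ⥤ H) (α : L ⋙ LF ⟶ F) [LF.IsRightKanExtension α]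
    (T : H ⥤ H') :
    (LF ⋙ T).IsRightKanExtension ((Functor.associator _ _ _).inv ≫ Functor.whiskerRight α T) := by
  have h0 := isRightKanExtension_of_adjunction adj (F ⋙ T)
  let φ : LF ⋙ T ⟶ R ⋙ (F ⋙ T) :=
    Functor.whiskerRight (inv (KanAdj.γ adj LF α)) T ≫ (Functor.associator _ _ _).hom
  have hφ : IsIso φ := by infer_instance
  refine (Functor.isRightKanExtension_iff_isIso φ (KanAdj.β adj (F := F ⋙ T))
    ((Functor.associator _ _ _).inv ≫ Functor.whiskerRight α T) ?_).mpr hφ
  ext X
  show (T.map ((inv (KanAdj.γ adj LF α)).app (L.obj X)) ≫ 𝟙 _) ≫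
    T.map (F.map (adj.counit.app X)) = 𝟙 _ ≫ T.map (α.app X)
  rw [Category.comp_id, Category.id_comp, ← T.map_comp]
  congr 1
  have h1 := KanAdj.γ_fac adj LF α X
  rw [← h1, ← Category.assoc, ← NatTrans.comp_app, IsIso.inv_hom_id]
  exact Category.id_comp _

end Groth.Agent.Lib.Helper12.KanAbs
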