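import Mathlib
import Groth.Prelude.Def_DDual2
import Groth.Agent.Lib.Helper12.KanAbsolute
import Groth.Agent.Lib.Helper12.HomotopyAdjunction
import Groth.Agent.Lib.Helper36.QhAdjoint

/-!
# Derived base change is left adjoint to restriction of scalars
-/

set_option autoImplicit false

open CategoryTheory

namespace Groth.Agent.Lib.Helper12

open DRing Groth.Agent.Lib.Helper36

attribute [local instance] HasDerivedCategory.standard

universe u

variable {A B : Type u} [CommRing A] [CommRing B] (φ : A →+* B) [HasLBaseChange φ]

/-- quasi-isomorphisms in the homotopy category of `A`-modules -/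
abbrev WK (A : Type u) [CommRing A] :
    MorphismProperty (HomotopyCategory (ModuleCat.{u} A) (ComplexShape.up ℤ)) :=
  HomotopyCategory.quasiIso (ModuleCat.{u} A) (ComplexShape.up ℤ)

/-- the adjunction `- ⊗_A B ⊣ restriction` on homotopy categories -/
noncomputable abbrev baseChangeKAdj :
    (ModuleCat.extendScalars.{u, u, u} φ).mapHomotopyCategory (ComplexShape.up ℤ) ⊣
      (ModuleCat.restrictScalars.{u} φ).mapHomotopyCategory (ComplexShape.up ℤ) :=
  mapHomotopyCategoryAdj (ComplexShape.up ℤ) (ModuleCat.extendRestrictScalarsAdj.{u, u, u} φ)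

/-- the counit of the derived base change -/
noncomputable abbrev lBaseChangeCounit :
    DerivedCategory.Qh ⋙ LBaseChange φ ⟶
      (ModuleCat.extendScalars.{u, u, u} φ).mapHomotopyCategory (ComplexShape.up ℤ) ⋙
        DerivedCategory.Qh :=
  (baseChangeKh φ).totalLeftDerivedCounit DerivedCategory.Qh (WK A)

/-- the comparison for the (exact) restriction of scalars -/
noncomputable abbrev restrictDFac :
    DerivedCategory.Qh ⋙ restrictD φ ≅
      (ModuleCat.restrictScalars.{u} φ).mapHomotopyCategory (ComplexShape.up ℤ) ⋙
        DerivedCategory.Qh :=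
  (ModuleCat.restrictScalars.{u} φ).mapDerivedCategoryFactorsh

instance isRightDerivedFunctor_restrictD :
    (restrictD φ).IsRightDerivedFunctor (restrictDFac φ).inv (WK B) :=
  Functor.isRightDerivedFunctor_of_inverts (WK B) _ (restrictDFac φ)

instance isLeftDerivedFunctor_lBaseChange_comp_restrictD :
    (LBaseChange φ ⋙ restrictD φ).IsLeftDerivedFunctor
      ((Functor.associator _ _ _).inv ≫ Functor.whiskerRight (lBaseChangeCounit φ) (restrictD φ))
      (WK A) :=
  have : (LBaseChange φ).IsRightKanExtension (lBaseChangeCounit φ) :=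
    Functor.IsLeftDerivedFunctor.isRightKanExtension _ _ (WK A)
  ⟨KanAbs.isRightKanExtension_comp (LT.resAdj (A := A)) (LBaseChange φ) (lBaseChangeCounit φ)
    (restrictD φ)⟩

instance isRightDerivedFunctor_restrictD_comp_lBaseChange :
    (restrictD φ ⋙ LBaseChange φ).IsRightDerivedFunctor
      (Functor.whiskerRight (restrictDFac φ).inv (LBaseChange φ) ≫ (Functor.associator _ _ _).hom)
      (WK B) := by
  let e : DerivedCategory.Qh ⋙ (restrictD φ ⋙ LBaseChange φ) ≅
      (ModuleCat.restrictScalars.{u} φ).mapHomotopyCategory (ComplexShape.up ℤ) ⋙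
        DerivedCategory.Qh ⋙ LBaseChange φ :=
    (Functor.associator _ _ _).symm ≪≫ Functor.isoWhiskerRight (restrictDFac φ) (LBaseChange φ) ≪≫
      Functor.associator _ _ _
  have h := Functor.isRightDerivedFunctor_of_inverts (WK B) (restrictD φ ⋙ LBaseChange φ) e
  have he : e.inv = Functor.whiskerRight (restrictDFac φ).inv (LBaseChange φ) ≫
      (Functor.associator _ _ _).hom := by
    ext X
    simp [e]
  rw [← he]
  exact h

/-- **derived base change is left adjoint to restriction of scalars** -/
noncomputable def lBaseChangeAdj : LBaseChange φ ⊣ restrictD φ :=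
  (baseChangeKAdj φ).derived (WK A) (WK B) (lBaseChangeCounit φ) (restrictDFac φ).inv

end Groth.Agent.Lib.Helper12
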