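import Mathlib
import Groth.Agent.Lib.Helper12.FlatHomBCShift
import Groth.Agent.Lib.Helper12.DerivedAdjunction

/-!
# The adjunction between flat extension and restriction of scalars on derived categories
-/

set_option autoImplicit false
universe u
open CategoryTheory CategoryTheory.Limits

attribute [local instance] HasDerivedCategory.standard

namespace Groth.Agent.Lib.Helper12.FlatAdj
open Groth.Agent.Lib.Helper12 Groth.Agent.Lib.Helper12.FlatHomBC TensorProduct DRing

variable {A B : Type u} [CommRing A] [CommRing B] [Algebra A B] [Module.Flat A B]

/-- derived base change exists along a flat ring map -/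
theorem hasLBaseChange_of_flat : DRing.HasLBaseChange (algebraMap A B) := by
  have := Functor.hasPointwiseLeftDerivedFunctor_of_inverts
    (DRing.baseChangeKh (algebraMap A B)) (isInvertedBy_baseChangeKh (A := A) (B := B))
  infer_instance

/-- flat extension of scalars is left adjoint to restriction of scalars on derived categories -/
noncomputable def extScDAdj : extScD A B ⊣ DRing.restrictD (algebraMap A B) :=
  haveI := hasLBaseChange_of_flat (A := A) (B := B)
  (lBaseChangeAdj (algebraMap A B)).ofNatIsoLeft lBaseChangeIsoExtScD

/-- transfer of Hom-vanishing across the adjunction -/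
theorem subsingleton_hom_extScD_of_restrictD (X : Dual.D A) (Y : Dual.D B) (i : ℤ)
    (h : Subsingleton (X ⟶ ((DRing.restrictD (algebraMap A B)).obj Y)⟦i⟧)) :
    Subsingleton ((extScD A B).obj X ⟶ Y⟦i⟧) := by
  have e := (extScDAdj (A := A) (B := B)).homEquiv X (Y⟦i⟧)
  let c := ((DRing.restrictD (algebraMap A B)).commShiftIso i).app Y
  refine ⟨fun f g => e.injective ?_⟩
  rw [← cancel_mono c.hom]
  exact h.elim _ _

end Groth.Agent.Lib.Helper12.FlatAdj
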