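import Mathlib

/-!
# The exact sequence `0 → A[X] ⊗ N → A[X] ⊗ N → N → 0` for an `A[X]`-module `N` (helper12)
-/

set_option autoImplicit false
universe u
open Polynomial TensorProduct

namespace Groth.Agent.Lib.Helper12.PolySeq

variable {A : Type u} [CommRing A] (N : Type u) [AddCommGroup N] [Module A N]

lemma basisMonomials_repr_apply (b : A[X]) (k : ℕ) :
    (Polynomial.basisMonomials A).repr b k = b.coeff k := by
  induction b using Polynomial.induction_on' with
  | add p q hp hq => simp [hp, hq]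
  | monomial n a =>
    have : (monomial n a : A[X]) = a • (Polynomial.basisMonomials A) n := by
      simp [Polynomial.smul_monomial]
    rw [this, map_smul, Module.Basis.repr_self]
    simp [Polynomial.coeff_monomial, Finsupp.single_apply]

/-- `A[X] ⊗ N ≃ (ℕ →₀ N)` as `A`-modules -/
noncomputable def Φ : A[X] ⊗[A] N ≃ₗ[A] (ℕ →₀ N) :=
  (LinearEquiv.rTensor N (Polynomial.basisMonomials A).repr) ≪≫ₗ
    TensorProduct.finsuppScalarLeft A N ℕ

lemma Φ_tmul_apply (b : A[X]) (n : N) (k : ℕ) : Φ N (b ⊗ₜ[A] n) k = b.coeff k • n := by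
  simp [Φ, TensorProduct.finsuppScalarLeft_apply_tmul_apply, basisMonomials_repr_apply]

variable [Module A[X] N] [IsScalarTower A A[X] N]

/-- multiplication by `X` as an `A`-linear endomorphism -/
noncomputable def T : N →ₗ[A] N where
  toFun n := (X : A[X]) • n
  map_add' := smul_add _
  map_smul' a n := by
    simp only [RingHom.id_apply]
    exact smul_comm _ _ _

lemma T_apply (n : N) : T (A := A) N n = (X : A[X]) • n := rfl

/-- the multiplication map `A[X] ⊗ N → N` -/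
noncomputable def μ : A[X] ⊗[A] N →ₗ[A[X]] N :=
  LinearMap.liftBaseChange A[X] (LinearMap.id : N →ₗ[A] N)

lemma μ_tmul (b : A[X]) (n : N) : μ N (b ⊗ₜ[A] n) = b • n := by
  simp [μ]

/-- the map `X ⊗ 1 - 1 ⊗ X` -/
noncomputable def ψ : A[X] ⊗[A] N →ₗ[A[X]] A[X] ⊗[A] N :=
  (X : A[X]) • LinearMap.id - LinearMap.baseChange A[X] (T (A := A) N)

lemma ψ_tmul (b : A[X]) (n : N) :
    ψ N (b ⊗ₜ[A] n) = (X * b) ⊗ₜ[A] n - b ⊗ₜ[A] ((X : A[X]) • n) := by
  simp [ψ, T_apply, TensorProduct.smul_tmul']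

lemma μ_ψ (m : A[X] ⊗[A] N) : μ N (ψ N m) = 0 := by
  induction m using TensorProduct.induction_on with
  | zero => simp
  | tmul b n => rw [ψ_tmul, map_sub, μ_tmul, μ_tmul, mul_smul, smul_comm, sub_self]
  | add x y hx hy => rw [map_add, map_add, hx, hy, add_zero]

lemma μ_surjective : Function.Surjective (μ (A := A) N) := fun n =>
  ⟨1 ⊗ₜ[A] n, by rw [μ_tmul, one_smul]⟩

lemma Φ_ψ_succ (m : A[X] ⊗[A] N) (k : ℕ) :
    Φ N (ψ N m) (k + 1) = Φ N m k - (X : A[X]) • Φ N m (k + 1) := by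
  induction m using TensorProduct.induction_on with
  | zero => simp
  | tmul b n =>
    rw [ψ_tmul, map_sub, Finsupp.sub_apply, Φ_tmul_apply, Φ_tmul_apply, Φ_tmul_apply, Φ_tmul_apply,
      Polynomial.coeff_X_mul, smul_comm]
  | add x y hx hy =>
    simp only [map_add, Finsupp.add_apply, hx, hy, smul_add]
    abel

lemma ψ_injective : Function.Injective (ψ (A := A) N) := by
  rw [← LinearMap.ker_eq_bot, LinearMap.ker_eq_bot']
  intro m hm
  have h1 : ∀ k, Φ N m k = (X : A[X]) • Φ N m (k + 1) := fun k => by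
    have := Φ_ψ_succ N m k
    rw [hm, map_zero] at this
    have h2 : (0 : ℕ →₀ N) (k + 1) = 0 := rfl
    rw [h2] at this
    exact (sub_eq_zero.mp this.symm)
  have h2 : ∀ j k, Φ N m k = (X : A[X]) ^ j • Φ N m (k + j) := by
    intro j
    induction j with
    | zero => intro k; simp
    | succ j ih =>
      intro k
      rw [ih k, h1 (k + j), pow_succ, mul_smul, add_assoc]
  apply (Φ N).injective
  rw [map_zero]
  ext k
  obtain ⟨d, hd⟩ : ∃ d, ∀ k, d ≤ k → Φ N m k = 0 := by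
    refine ⟨(Φ N m).support.sup id + 1, fun k hk => ?_⟩
    by_contra hne
    have := Finset.le_sup (f := id) (Finsupp.mem_support_iff.mpr hne)
    simp only [id] at this
    omega
  rw [h2 d k, hd (k + d) (by omega), smul_zero]
  rfl

lemma sub_mem_range_ψ (k : ℕ) : ∀ n : N,
    ((X : A[X]) ^ k) ⊗ₜ[A] n - (1 : A[X]) ⊗ₜ[A] ((X : A[X]) ^ k • n) ∈ LinearMap.range (ψ N) := by
  induction k with
  | zero => intro n; simp
  | succ k ih =>
    intro n
    have h1 : ((X : A[X]) ^ (k + 1)) ⊗ₜ[A] n - (1 : A[X]) ⊗ₜ[A] ((X : A[X]) ^ (k + 1) • n) =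
        ψ N ((X ^ k) ⊗ₜ[A] n) +
          ((X ^ k) ⊗ₜ[A] ((X : A[X]) • n) - (1 : A[X]) ⊗ₜ[A] ((X : A[X]) ^ k • (X : A[X]) • n)) := by
      rw [ψ_tmul, ← pow_succ', pow_succ, mul_smul]
      abel
    rw [h1]
    exact Submodule.add_mem _ ⟨_, rfl⟩ (ih _)

lemma sub_μ_mem_range_ψ (m : A[X] ⊗[A] N) :
    m - (1 : A[X]) ⊗ₜ[A] (μ N m) ∈ LinearMap.range (ψ N) := by
  induction m using TensorProduct.induction_on with
  | zero => simp
  | tmul b n =>
    rw [μ_tmul]
    induction b using Polynomial.induction_on' with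
    | add p q hp hq =>
      have : (p + q) ⊗ₜ[A] n - (1 : A[X]) ⊗ₜ[A] ((p + q) • n) =
          (p ⊗ₜ[A] n - (1 : A[X]) ⊗ₜ[A] (p • n)) + (q ⊗ₜ[A] n - (1 : A[X]) ⊗ₜ[A] (q • n)) := by
        rw [add_tmul, add_smul, tmul_add]
        abel
      rw [this]
      exact Submodule.add_mem _ hp hq
    | monomial k a =>
      have h1 : (monomial k a : A[X]) = a • (X : A[X]) ^ k := by
        rw [← Polynomial.C_mul_X_pow_eq_monomial, Polynomial.smul_eq_C_mul]
      have h2 : (monomial k a : A[X]) ⊗ₜ[A] n - (1 : A[X]) ⊗ₜ[A] ((monomial k a : A[X]) • n) =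
          ((X : A[X]) ^ k) ⊗ₜ[A] (a • n) - (1 : A[X]) ⊗ₜ[A] ((X : A[X]) ^ k • (a • n)) := by
        rw [h1, TensorProduct.smul_tmul, smul_assoc, smul_comm a (X ^ k : A[X]) n]
      rw [h2]
      exact sub_mem_range_ψ N k _
  | add x y hx hy =>
    have : x + y - (1 : A[X]) ⊗ₜ[A] (μ N (x + y)) =
        (x - (1 : A[X]) ⊗ₜ[A] (μ N x)) + (y - (1 : A[X]) ⊗ₜ[A] (μ N y)) := by
      rw [map_add, tmul_add]
      abel
    rw [this]
    exact Submodule.add_mem _ hx hy

lemma exact_ψ_μ : Function.Exact (ψ (A := A) N) (μ N) := by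
  intro m
  constructor
  · intro hm
    have := sub_μ_mem_range_ψ N m
    rw [hm, tmul_zero, sub_zero] at this
    exact this
  · rintro ⟨m', rfl⟩
    exact μ_ψ N m'

end Groth.Agent.Lib.Helper12.PolySeq

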