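import Mathlib
import Groth.Agent.Lib.Helper12.PolySeq

/-!
# Direct sums of injective modules over a Noetherian ring (helper12)
-/

set_option autoImplicit false
universe u
open Polynomial TensorProduct

namespace Groth.Agent.Lib.Helper12.PolySeq

variable {A : Type u} [CommRing A]

/-- over a Noetherian ring, direct sums of injective modules are injective (Baer form) -/
theorem baer_finsupp [IsNoetherianRing A] (ι : Type*) (E : Type u) [AddCommGroup E] [Module A E]
    (hE : Module.Baer A E) : Module.Baer A (ι →₀ E) := by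
  classical
  intro I g
  obtain ⟨n, f, hf⟩ := (Submodule.fg_iff_exists_fin_generating_family).1 (IsNoetherian.noetherian I)
  have hfI : ∀ j, f j ∈ I := fun j => hf ▸ Submodule.subset_span ⟨j, rfl⟩
  let S : Finset ι := Finset.univ.biUnion fun j : Fin n => (g ⟨f j, hfI j⟩).support
  have hS : ∀ x : A, x ∈ I → ∃ hx : x ∈ I, (g ⟨x, hx⟩).support ⊆ S := by
    intro x hx
    rw [← hf] at hx
    induction hx using Submodule.span_induction with
    | mem x hx =>
      obtain ⟨j, rfl⟩ := hx
      exact ⟨hfI j, Finset.subset_biUnion_of_mem (fun j : Fin n => (g ⟨f j, hfI j⟩).support)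
        (Finset.mem_univ j)⟩
    | zero =>
      refine ⟨I.zero_mem, ?_⟩
      have : g ⟨0, I.zero_mem⟩ = 0 := map_zero g
      rw [this, Finsupp.support_zero]
      exact Finset.empty_subset _
    | add x y _ _ hx hy =>
      obtain ⟨hx1, hx2⟩ := hx
      obtain ⟨hy1, hy2⟩ := hy
      refine ⟨I.add_mem hx1 hy1, ?_⟩
      have : g ⟨x + y, I.add_mem hx1 hy1⟩ = g ⟨x, hx1⟩ + g ⟨y, hy1⟩ := map_add g ⟨x, hx1⟩ ⟨y, hy1⟩
      rw [this]
      exact Finsupp.support_add.trans (Finset.union_subset hx2 hy2)
    | smul a x _ hx =>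
      obtain ⟨hx1, hx2⟩ := hx
      refine ⟨I.smul_mem a hx1, ?_⟩
      have : g ⟨a • x, I.smul_mem a hx1⟩ = a • g ⟨x, hx1⟩ := map_smul g a ⟨x, hx1⟩
      rw [this]
      exact Finsupp.support_smul.trans hx2
  choose g' hg' using fun i : ι => hE I ((Finsupp.lapply i) ∘ₗ g)
  refine ⟨∑ i ∈ S, (Finsupp.lsingle i) ∘ₗ (g' i), fun x hx => ?_⟩
  obtain ⟨_, hsupp⟩ := hS x hx
  ext j
  simp only [LinearMap.coe_sum, Finset.sum_apply, LinearMap.coe_comp, Function.comp_apply,
    Finsupp.lsingle_apply, Finsupp.finsetSum_apply, Finsupp.single_apply]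
  rw [Finset.sum_ite_eq' S j]
  by_cases hj : j ∈ S
  · rw [if_pos hj, hg' j x hx]
    rfl
  · rw [if_neg hj]
    have : j ∉ (g ⟨x, hx⟩).support := fun h => hj (hsupp h)
    rw [Finsupp.notMem_support_iff] at this
    exact this.symm

/-- `A[X] ⊗ E` is an injective `A`-module for `E` injective and `A` Noetherian -/
theorem injective_polynomial_tensor [IsNoetherianRing A] (E : Type u) [AddCommGroup E]
    [Module A E] [Module.Injective A E] : Module.Injective A (A[X] ⊗[A] E) := by
  have h1 : Module.Baer A E := Module.Baer.of_injective inferInstance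
  have h2 : Module.Baer A (ℕ →₀ E) := baer_finsupp ℕ E h1
  exact (Module.Baer.of_equiv (Φ E).symm h2).injective

end Groth.Agent.Lib.Helper12.PolySeq
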