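import Groth.Agent.Lib.Helper12.DRingFinite
import Mathlib.Algebra.Homology.DerivedCategory.SingleTriangle

/-!
# Pseudo-coherence of modules and of objects with few cohomology modules
-/

namespace Groth.Agent.Lib.Helper12

open CategoryTheory CategoryTheory.Limits DRing CategoryTheory.Pretriangulated
open DerivedCategory ZeroObject

attribute [local instance] HasDerivedCategory.standard

universe u

variable {A : Type u} [CommRing A]

/-- `H^n ∘ single_n ≅ id`, naturally -/
noncomputable def HFSingleNatIso (n : ℤ) :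
    DerivedCategory.singleFunctor (ModuleCat.{u} A) n ⋙ HF A n ≅ 𝟭 (ModuleCat.{u} A) :=
  Functor.isoWhiskerRight (DerivedCategory.singleFunctorIsoCompQ (ModuleCat.{u} A) n) (HF A n) ≪≫
    Functor.associator _ _ _ ≪≫
    Functor.isoWhiskerLeft _ (DerivedCategory.homologyFunctorFactors (ModuleCat.{u} A) n) ≪≫
    (HomologicalComplex.homologyFunctorSingleIso (ModuleCat.{u} A) (ComplexShape.up ℤ) n)

lemma isZero_HF_single (n : ℤ) (M : ModuleCat.{u} A) (i : ℤ) (hi : i ≠ n) :
    IsZero ((HF A i).obj ((DerivedCategory.singleFunctor (ModuleCat.{u} A) n).obj M)) :=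
  (isZero_HF_toD_singleCx n M i hi).of_iso ((HF A i).mapIso (toDSingleIso' n M).symm)

/-- an object with no cohomology in degrees `≥ m` is `m`-pseudo-coherent -/
lemma isPseudoCoherent_of_isZero_HF (m : ℤ) (K : Dual.D A)
    (h : ∀ i : ℤ, m ≤ i → IsZero ((HF A i).obj K)) : IsPseudoCoherent A m K := by
  refine ⟨0, 0, 0, 0, fun i _ => ?_, fun i => (finiteFree A).zero ?_, fun i hi => ?_, ?_⟩
  · exact (HomologicalComplex.eval _ _ i).map_isZero (isZero_zero _)
  · exact (HomologicalComplex.eval _ _ i).map_isZero (isZero_zero _)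
  · have h1 : IsZero ((HF A i).obj (toD (0 : Cx A))) :=
      (HF A i).map_isZero (DerivedCategory.Q.map_isZero (isZero_zero _))
    exact ⟨⟨0, h1.eq_of_src _ _, (h i (by omega)).eq_of_src _ _⟩⟩
  · exact ⟨fun _ _ _ => (h m le_rfl).eq_of_src _ _⟩

/-- a finite module is `0`-pseudo-coherent -/
lemma isPseudoCoherent_inD_of_finite (M : ModuleCat.{u} A) [Module.Finite A M] :
    IsPseudoCoherent A 0 (Dual.inD A M) := by
  obtain ⟨n, p, hp⟩ := Module.Finite.exists_fin' A M
  let F : ModuleCat.{u} A := ModuleCat.of A (Fin n → A)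
  let φ : F ⟶ M := ModuleCat.ofHom p
  refine ⟨singleCx 0 F, 0, 0,
    (toDSingleIso' 0 F).hom ≫ (DerivedCategory.singleFunctor (ModuleCat.{u} A) 0).map φ,
    fun i hi => isZero_singleCx_X 0 F i (by omega), fun i => ?_, fun i hi => ?_, ?_⟩
  · by_cases hi : i = 0
    · subst hi
      refine (finiteFree A).iso
        (HomologicalComplex.singleObjXSelf (ComplexShape.up ℤ) 0 F).symm ?_
      exact ⟨inferInstanceAs (Module.Finite A (Fin n → A)),
        inferInstanceAs (Module.Free A (Fin n → A))⟩
    · exact (finiteFree A).zero (isZero_singleCx_X 0 F i hi)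
  · have h1 : IsZero ((HF A i).obj (toD (singleCx 0 F))) :=
      isZero_HF_toD_singleCx 0 F i (by omega)
    have h2 : IsZero ((HF A i).obj (Dual.inD A M)) := isZero_HF_single 0 M i (by omega)
    exact ⟨⟨0, h1.eq_of_src _ _, h2.eq_of_src _ _⟩⟩
  · rw [Functor.map_comp]
    have h3 : Epi ((HF A 0).map
        ((DerivedCategory.singleFunctor (ModuleCat.{u} A) 0).map φ)) := by
      have e := map_eq_of_natIso (HFSingleNatIso (A := A) 0) φ
      change (HF A 0).map ((DerivedCategory.singleFunctor (ModuleCat.{u} A) 0).map φ) = _ at e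
      rw [e]
      have : Epi φ := (ModuleCat.epi_iff_surjective φ).mpr hp
      simp only [Functor.id_map]
      infer_instance
    infer_instance

/-- a finitely presented module is `(-1)`-pseudo-coherent -/
lemma isPseudoCoherent_inD_of_finitePresentation (M : ModuleCat.{u} A)
    [Module.FinitePresentation A M] : IsPseudoCoherent A (-1) (Dual.inD A M) := by
  obtain ⟨n, p, hp⟩ := Module.Finite.exists_fin' A M
  have hker : (LinearMap.ker p).FG := Module.FinitePresentation.fg_ker p hp
  let F : ModuleCat.{u} A := ModuleCat.of A (Fin n → A)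
  let N : ModuleCat.{u} A := ModuleCat.of A (LinearMap.ker p)
  let S : ShortComplex (ModuleCat.{u} A) :=
    ShortComplex.mk (ModuleCat.ofHom (LinearMap.ker p).subtype) (ModuleCat.ofHom p) (by
      ext x
      exact x.2)
  have hS : S.ShortExact := by
    refine ShortComplex.ShortExact.mk' ?_ ?_ ?_
    · rw [ShortComplex.ShortExact.moduleCat_exact_iff_function_exact]
      exact LinearMap.exact_subtype_ker_map p
    · exact (ModuleCat.mono_iff_injective _).mpr (Submodule.injective_subtype _)
    · exact (ModuleCat.epi_iff_surjective _).mpr hp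
  have hT := hS.singleTriangle_distinguished
  have hN : Module.Finite A N := Module.Finite.iff_fg.mpr hker
  have h1 : IsPseudoCoherent A 0 (Dual.inD A N) := isPseudoCoherent_inD_of_finite N
  have hF : Module.Finite A F := inferInstanceAs (Module.Finite A (Fin n → A))
  have h2 : IsPseudoCoherent A (-1) (Dual.inD A F) :=
    isPseudoCoherent_mono (m := -1) (m' := -1) (by
      -- `F[0]` is the image of a single finite free complex
      refine ⟨singleCx 0 F, 0, 0, (toDSingleIso' 0 F).hom,
        fun i hi => isZero_singleCx_X 0 F i (by omega), fun i => ?_,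
        IsConn.of_isIso (toDSingleIso' 0 F).hom⟩
      by_cases hi : i = 0
      · subst hi
        refine (finiteFree A).iso
          (HomologicalComplex.singleObjXSelf (ComplexShape.up ℤ) 0 F).symm ?_
        exact ⟨inferInstanceAs (Module.Finite A (Fin n → A)),
          inferInstanceAs (Module.Free A (Fin n → A))⟩
      · exact (finiteFree A).zero (isZero_singleCx_X 0 F i hi)) le_rfl
  exact (isPseudoCoherent_two_out_of_three hS.singleTriangle hT (-1)).1 h1 h2

/-- single-degree versions -/
lemma isPseudoCoherent_single_of_finite (a : ℤ) (M : ModuleCat.{u} A) [Module.Finite A M] :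
    IsPseudoCoherent A a ((DerivedCategory.singleFunctor (ModuleCat.{u} A) a).obj M) := by
  have h := isPseudoCoherent_shift (isPseudoCoherent_inD_of_finite M) (-a)
  have e : (0 : ℤ) - -a = a := by omega
  rw [e] at h
  exact isPseudoCoherent_of_iso' (singleFunctorShiftIso a M).symm h

lemma isPseudoCoherent_single_of_finitePresentation (a : ℤ) (M : ModuleCat.{u} A)
    [Module.FinitePresentation A M] :
    IsPseudoCoherent A (a - 1) ((DerivedCategory.singleFunctor (ModuleCat.{u} A) a).obj M) := by
  have h := isPseudoCoherent_shift (isPseudoCoherent_inD_of_finitePresentation M) (-a)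
  have e : (-1 : ℤ) - -a = a - 1 := by omega
  rw [e] at h
  exact isPseudoCoherent_of_iso' (singleFunctorShiftIso a M).symm h

/-- an object with cohomology concentrated in one degree is a single -/
lemma exists_iso_single (K : Dual.D A) (b : ℤ)
    (h : ∀ i : ℤ, i ≠ b → IsZero ((HF A i).obj K)) :
    ∃ (Y : ModuleCat.{u} A), Nonempty (K ≅ (DerivedCategory.singleFunctor (ModuleCat.{u} A) b).obj Y) ∧
      Nonempty ((HF A b).obj K ≅ Y) := by
  have h1 : K.IsGE b := by
    rw [DerivedCategory.isGE_iff]; intro i hi; exact h i (by omega)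
  have h2 : K.IsLE b := by
    rw [DerivedCategory.isLE_iff]; intro i hi; exact h i (by omega)
  obtain ⟨Y, ⟨e⟩⟩ := DerivedCategory.exists_iso_singleFunctor_obj_of_isGE_of_isLE K b
  exact ⟨Y, ⟨e⟩, ⟨(HF A b).mapIso e ≪≫ HFSingleIso b Y⟩⟩

/-- `H^i(K) = 0` for `i > m` and `H^m(K)` finite implies `K` is `m`-pseudo-coherent -/
theorem isPseudoCoherent_of_finite_top (m : ℤ) (K : Dual.D A)
    (hz : ∀ i : ℤ, m < i → IsZero ((HF A i).obj K))
    (hfin : Module.Finite A ((HF A m).obj K)) : IsPseudoCoherent A m K := by
  have hT := truncTriangle_distinguished K m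
  have h1 : IsPseudoCoherent A m (truncTriangle K m).obj₁ :=
    isPseudoCoherent_of_isZero_HF m _ (fun i hi => isZero_HF_truncLT K m i hi)
  have h3 : IsPseudoCoherent A m (truncTriangle K m).obj₃ := by
    obtain ⟨Y, ⟨e⟩, ⟨eY⟩⟩ := exists_iso_single (truncTriangle K m).obj₃ m (by
      intro i hi
      rcases lt_or_gt_of_ne hi with hlt | hgt
      · exact isZero_HF_truncGE K m i hlt
      · exact IsZero.of_iso (hz i hgt) (HFTruncGEIso K m i (by omega)).symm)
    have eY' : (HF A m).obj K ≅ Y := HFTruncGEIso K m m le_rfl ≪≫ eY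
    have : Module.Finite A Y := Module.Finite.equiv eY'.toLinearEquiv
    exact isPseudoCoherent_of_iso' e.symm (isPseudoCoherent_single_of_finite m Y)
  exact (isPseudoCoherent_two_out_of_three _ hT m).2.1 h1 h3

/-- `H^i(K) = 0` for `i > m + 1`, `H^{m+1}(K)` finitely presented and `H^m(K)` finite implies
`K` is `m`-pseudo-coherent -/
theorem isPseudoCoherent_of_fp_top (m : ℤ) (K : Dual.D A)
    (hz : ∀ i : ℤ, m + 1 < i → IsZero ((HF A i).obj K))
    (hfp : Module.FinitePresentation A ((HF A (m + 1)).obj K))
    (hfin : Module.Finite A ((HF A m).obj K)) : IsPseudoCoherent A m K := by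
  have hT := truncTriangle_distinguished K (m + 1)
  have h1 : IsPseudoCoherent A m (truncTriangle K (m + 1)).obj₁ := by
    apply isPseudoCoherent_of_finite_top
    · intro i hi
      exact isZero_HF_truncLT K (m + 1) i (by omega)
    · have : Module.Finite A ((HF A m).obj (truncTriangle K (m + 1)).obj₂) := hfin
      exact Module.Finite.equiv (HFTruncLTIso K (m + 1) m (by omega)).symm.toLinearEquiv
  have h3 : IsPseudoCoherent A m (truncTriangle K (m + 1)).obj₃ := by
    obtain ⟨Y, ⟨e⟩, ⟨eY⟩⟩ := exists_iso_single (truncTriangle K (m + 1)).obj₃ (m + 1) (by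
      intro i hi
      rcases lt_or_gt_of_ne hi with hlt | hgt
      · exact isZero_HF_truncGE K (m + 1) i hlt
      · exact IsZero.of_iso (hz i hgt) (HFTruncGEIso K (m + 1) i (by omega)).symm)
    have eY' : (HF A (m + 1)).obj K ≅ Y := HFTruncGEIso K (m + 1) (m + 1) le_rfl ≪≫ eY
    have : Module.FinitePresentation A Y := Module.FinitePresentation.of_equiv eY'.toLinearEquiv
    have := isPseudoCoherent_single_of_finitePresentation (m + 1) Y
    have e' : m + 1 - 1 = m := by omega
    rw [e'] at this
    exact isPseudoCoherent_of_iso' e.symm this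
  exact (isPseudoCoherent_two_out_of_three _ hT m).2.1 h1 h3

end Groth.Agent.Lib.Helper12
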