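import Mathlib
import Groth.Agent.Lib.Helper12.PolyInjective
import Groth.Agent.Lib.Helper12.FlatAdj
import Groth.Agent.Lib.Helper12.DualizingAscent
import Groth.Agent.Lib.Helper12.DRingRestrict
import Groth.Agent.Lib.Helper33.DualizingSelf

/-!
# Injective dimension over a polynomial ring (helper12)
-/

set_option autoImplicit false
universe u
open CategoryTheory CategoryTheory.Limits Polynomial

attribute [local instance] HasDerivedCategory.standard

namespace Groth.Agent.Lib.Helper12.PolyDual
open Groth.Agent.Lib.Helper12 Groth.Agent.Lib.Helper12.FlatHomBC TensorProduct DRing Pretriangulated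
open Groth.Agent.Lib.Helper36.InjAmp

section general
variable {A : Type u} [CommRing A]

/-- `Ext^j(N, Q) = 0` for `j > 0` and `Q` injective -/
lemma subsingleton_hom_inD_injective (N Q : ModuleCat.{u} A) [Injective Q] (j : ℤ) (hj : 0 < j) :
    Subsingleton (Dual.inD A N ⟶ (Dual.inD A Q)⟦j⟧) := by
  have h := (Groth.Agent.Lib.Helper33.DualizingSelf.hasInjectiveDimensionLT_iff_hom A Q 1).mp
    inferInstance j.toNat (by omega) N
  have h2 : ((j.toNat : ℕ) : ℤ) = j := Int.toNat_of_nonneg hj.le
  rw [h2] at h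
  exact h

/-- shifting a vanishing statement -/
lemma hom_shift_one_eq_zero (X Y : Dual.D A) (i : ℤ) (h : ∀ f : X ⟶ Y⟦i - 1⟧, f = 0)
    (g : X⟦(1 : ℤ)⟧ ⟶ Y⟦i⟧) : g = 0 := by
  have h1 : ∀ f : X ⟶ (Y⟦i⟧)⟦(-1 : ℤ)⟧, f = 0 := fun f => by
    have := h (f ≫ ((shiftFunctorAdd' (Dual.D A) i (-1) (i - 1) (by omega)).app Y).inv)
    rw [← cancel_mono ((shiftFunctorAdd' (Dual.D A) i (-1) (i - 1) (by omega)).app Y).inv, this,
      Limits.zero_comp]
  exact (hom_shift_eq_zero_iff X (Y⟦i⟧) (-1)).mp h1 g

/-- one step of the long exact sequence -/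
lemma subsingleton_hom_of_shortExact {M₁ M₂ M₃ : Type u} [AddCommGroup M₁] [Module A M₁]
    [AddCommGroup M₂] [Module A M₂] [AddCommGroup M₃] [Module A M₃]
    (f : M₁ →ₗ[A] M₂) (g : M₂ →ₗ[A] M₃) (hf : Function.Injective f)
    (hg : Function.Surjective g) (hfg : Function.Exact f g) (Y : Dual.D A) (i : ℤ)
    (h₂ : Subsingleton (Dual.inD A M₂ ⟶ Y⟦i⟧)) (h₁ : Subsingleton (Dual.inD A M₁ ⟶ Y⟦i - 1⟧)) :
    Subsingleton (Dual.inD A M₃ ⟶ Y⟦i⟧) := by
  let S : ShortComplex (ModuleCat.{u} A) :=
    ShortComplex.mk (ModuleCat.ofHom f) (ModuleCat.ofHom g) (by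
      refine ModuleCat.hom_ext (LinearMap.ext fun x => ?_)
      exact hfg.apply_apply_eq_zero x)
  have hS : S.ShortExact := by
    have hmono : Mono S.f := (ModuleCat.mono_iff_injective _).mpr hf
    have hepi : Epi S.g := (ModuleCat.epi_iff_surjective _).mpr hg
    refine ShortComplex.ShortExact.mk ?_
    rw [ShortComplex.moduleCat_exact_iff_range_eq_ker]
    exact (LinearMap.exact_iff.mp hfg).symm
  have hT := hS.singleTriangle_distinguished
  have i2 : Subsingleton (hS.singleTriangle.obj₂ ⟶ Y⟦i⟧) := h₂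
  have h0 : ∀ y : Dual.inD A M₃ ⟶ Y⟦i⟧, y = 0 := fun y => by
    obtain ⟨z, hz⟩ := Triangle.yoneda_exact₃ _ hT y (Subsingleton.elim _ _)
    have hz0 : z = 0 := hom_shift_one_eq_zero _ _ i (fun f => by
      have i1 : Subsingleton (hS.singleTriangle.obj₁ ⟶ Y⟦i - 1⟧) := h₁
      exact Subsingleton.elim _ _) z
    rw [hz, hz0]
    exact comp_zero
  exact ⟨fun y y' => (h0 y).trans (h0 y').symm⟩

end general

section poly
variable {A : Type u} [CommRing A]

/-- from vanishing of `Ext_A^j(N', Y|_A)` for `j > c` to vanishing of `Ext_{A[X]}^i(N, Y)` for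
`i > c + 1` -/
theorem subsingleton_hom_inD_polynomial (Y : Dual.D A[X]) (c : ℤ)
    (h : ∀ (N' : ModuleCat.{u} A) (j : ℤ), c < j →
      Subsingleton (Dual.inD A N' ⟶ ((DRing.restrictD (algebraMap A A[X])).obj Y)⟦j⟧))
    (N : Type u) [AddCommGroup N] [Module A[X] N] (i : ℤ) (hi : c + 1 < i) :
    Subsingleton (Dual.inD A[X] N ⟶ Y⟦i⟧) := by
  letI : Module A N := Module.compHom N (algebraMap A A[X])
  haveI : IsScalarTower A A[X] N := IsScalarTower.of_algebraMap_smul fun _ _ => rfl
  have hZ : ∀ j : ℤ, c < j → Subsingleton (Dual.inD A[X] (A[X] ⊗[A] N) ⟶ Y⟦j⟧) := fun j hj => by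
    have h1 := FlatAdj.subsingleton_hom_extScD_of_restrictD (B := A[X]) (Dual.inD A N) Y j
      (h (ModuleCat.of A N) j hj)
    exact ⟨fun f g => by
      rw [← cancel_epi (extScD_inD (B := A[X]) N).hom]
      exact Subsingleton.elim _ _⟩
  exact subsingleton_hom_of_shortExact (PolySeq.ψ N) (PolySeq.μ N) (PolySeq.ψ_injective N)
    (PolySeq.μ_surjective N) (PolySeq.exact_ψ_μ N) Y i (hZ i (by omega)) (hZ (i - 1) (by omega))

/-- the underlying `A`-module of a restriction of scalars -/
noncomputable def resScEquiv {B : Type u} [CommRing B] [Algebra A B] (Q : Type u)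
    [AddCommGroup Q] [Module B Q] [Module A Q] [IsScalarTower A B Q] :
    ((resSc (algebraMap A B)).obj (ModuleCat.of B Q)) ≃ₗ[A] Q where
  toFun x := x
  invFun x := x
  map_add' _ _ := rfl
  map_smul' a x := by
    rw [ModuleCat.restrictScalars.smul_def]
    exact algebraMap_smul B a _
  left_inv _ := rfl
  right_inv _ := rfl

/-- restriction of scalars of `A[X] ⊗ E` is an injective `A`-module -/
lemma injective_resSc_polynomial_tensor [IsNoetherianRing A] (E : Type u) [AddCommGroup E]
    [Module A E] [Module.Injective A E] :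
    Injective ((resSc (algebraMap A A[X])).obj (ModuleCat.of A[X] (A[X] ⊗[A] E))) := by
  have h1 : Module.Injective A (A[X] ⊗[A] E) := PolySeq.injective_polynomial_tensor E
  have h2 : Injective (ModuleCat.of A (A[X] ⊗[A] E)) :=
    Module.injective_object_of_injective_module A _
  exact Injective.of_iso (resScEquiv (B := A[X]) (A[X] ⊗[A] E)).toModuleIso.symm h2

/-- **`A[X] ⊗ E` has injective amplitude `[0, 1]` over `A[X]`** -/
theorem hasInjAmplitudeIn_polynomial_tensor [IsNoetherianRing A] (E : Type u) [AddCommGroup E]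
    [Module A E] [Module.Injective A E] :
    DRing.HasInjAmplitudeIn A[X] 0 1 (Dual.inD A[X] (A[X] ⊗[A] E)) := by
  have hinj := injective_resSc_polynomial_tensor (A := A) E
  let e : (DRing.restrictD (algebraMap A A[X])).obj (Dual.inD A[X] (A[X] ⊗[A] E)) ≅
      Dual.inD A ((resSc (algebraMap A A[X])).obj (ModuleCat.of A[X] (A[X] ⊗[A] E))) :=
    ((resSc (algebraMap A A[X])).mapDerivedCategorySingleFunctor 0).app
      (ModuleCat.of A[X] (A[X] ⊗[A] E))
  apply hasInjAmplitudeIn_of_hom_quotient_eq_zero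
  intro I i hi f
  rcases hi with hi | hi
  · have := Bass.subsingleton_hom_inD_of_lt (K := Dual.inD A[X] (A[X] ⊗[A] E)) 0
      (fun j hj => DerivedCategory.isZero_of_isGE _ 0 j hj) (A[X] ⧸ I) i hi
    exact Subsingleton.elim _ _
  · have := subsingleton_hom_inD_polynomial (Dual.inD A[X] (A[X] ⊗[A] E)) 0 (fun N' j hj => by
      have := subsingleton_hom_inD_injective N'
        ((resSc (algebraMap A A[X])).obj (ModuleCat.of A[X] (A[X] ⊗[A] E))) j hj
      exact ⟨fun f g => by
        rw [← cancel_mono ((shiftFunctor (Dual.D A) j).mapIso e).hom]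
        exact Subsingleton.elim _ _⟩) (A[X] ⧸ I) i (by omega)
    exact Subsingleton.elim _ _

/-- injectivity of a module isomorphic to an injective object -/
lemma module_injective_of_iso {X Y : ModuleCat.{u} A} (e : X ≅ Y) (hY : Injective Y) :
    Module.Injective A X := by
  have : Injective (ModuleCat.of A X) := Injective.of_iso e.symm hY
  exact Module.injective_module_of_injective_object A X

/-- **a dualizing complex base changes to a dualizing complex over the polynomial ring** -/
theorem isDualizing_extScD_polynomial [IsNoetherianRing A] (ω : Dual.D A)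
    (hω : Dual.IsDualizing A ω) : Dual.IsDualizing A[X] ((extScD A A[X]).obj ω) := by
  obtain ⟨a, b, hab⟩ := hω.finite_injective_dimension
  have hz := DualizingBC.isZero_HF_of_finite_injective_dimension ω a b hab
  have hlow : ∀ j : ℤ, j < a → IsZero ((HF A j).obj ω) := fun j hj => hz j (Or.inl hj)
  obtain ⟨I, hI, hIinj, ⟨e⟩⟩ := hasInjAmplitudeIn_of_hom_quotient_eq_zero ω a b
    (fun J i hi f => by
      have := hab (A ⧸ J) i hi
      exact Subsingleton.elim _ _)
  let I' : Cx A[X] := ((extSc A A[X]).mapHomologicalComplex (ComplexShape.up ℤ)).obj I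
  let J : Cx A := (DRing.restrictCx (algebraMap A A[X])).obj I'
  have eJ : (DRing.restrictD (algebraMap A A[X])).obj ((extScD A A[X]).obj ω) ≅ toD J :=
    (DRing.restrictD (algebraMap A A[X])).mapIso
      ((extScD A A[X]).mapIso e.symm ≪≫ extScD_toD I) ≪≫ restrictD_toD (algebraMap A A[X]) I'
  have hJ : VanishesOutside J a b := fun i hi =>
    (resSc (algebraMap A A[X])).map_isZero ((extSc A A[X]).map_isZero (hI i hi))
  refine DualizingAscent.isDualizing_extScD_of_injDim ω hω ⟨a, b + 1, fun M _ _ i hi => ?_⟩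
  rcases hi with hi | hi
  · exact Bass.subsingleton_hom_inD_of_lt a (fun j hj => isZero_HF_extScD ω j (hlow j hj)) M i hi
  · refine subsingleton_hom_inD_polynomial _ b (fun N' j hj => ?_) M i hi
    have h0 : ∀ f : Dual.inD A N' ⟶
        ((DRing.restrictD (algebraMap A A[X])).obj ((extScD A A[X]).obj ω))⟦j⟧, f = 0 := fun f => by
      have := hom_eq_zero_of_injective_amplitude J a b hJ
        (fun k => by
          have := hIinj k
          exact module_injective_of_iso
            ((resSc (algebraMap A A[X])).mapIso (extScObjIso (B := A[X]) (I.X k)))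
            (injective_resSc_polynomial_tensor (A := A) (I.X k)))
        N' j (Or.inr hj) (f ≫ ((shiftFunctor (Dual.D A) j).mapIso eJ).hom)
      rw [← cancel_mono ((shiftFunctor (Dual.D A) j).mapIso eJ).hom, this, Limits.zero_comp]
    exact ⟨fun f g => (h0 f).trans (h0 g).symm⟩

end poly

end Groth.Agent.Lib.Helper12.PolyDual
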