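import Mathlib
import Groth.Agent.Lib.Helper12.HomFinite
import Groth.Agent.Lib.Helper12.DRingRestrict
import Groth.Agent.Lib.Helper12.PolyDualizing

/-!
# Right adjoints of restriction of scalars along finite ring maps (helper12)
-/

set_option autoImplicit false
universe u
open CategoryTheory CategoryTheory.Limits

attribute [local instance] HasDerivedCategory.standard

namespace Groth.Agent.Lib.Helper12.FinAdj
open Groth.Agent.Lib.Helper12 Groth.Agent.Lib.Helper12.FlatHomBC DRing

variable {A B : Type u} [CommRing A] [CommRing B] [Algebra A B]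

lemma resSc_map_smul_id (a : A) (M : ModuleCat.{u} B) :
    (resSc (algebraMap A B)).map (algebraMap A B a • 𝟙 M) = a • 𝟙 _ := by
  refine ModuleCat.hom_ext (LinearMap.ext fun x => ?_)
  rfl

lemma restrictCx_map_smul_id (a : A) (P : DRing.Cx B) :
    ((resSc (algebraMap A B)).mapHomologicalComplex (ComplexShape.up ℤ)).map
      (algebraMap A B a • 𝟙 P) = a • 𝟙 _ := by
  ext i : 1
  exact resSc_map_smul_id a (P.X i)

lemma restrictD_map_smul_id (a : A) (K : Dual.D B) :
    (DRing.restrictD (algebraMap A B)).map (algebraMap A B a • 𝟙 K) =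
      a • 𝟙 ((DRing.restrictD (algebraMap A B)).obj K) := by
  obtain ⟨P, ⟨e⟩⟩ : ∃ P : DRing.Cx B, Nonempty (DerivedCategory.Q.obj P ≅ K) :=
    ⟨_, ⟨DerivedCategory.Q.objObjPreimageIso K⟩⟩
  have h1 : algebraMap A B a • 𝟙 K =
      e.inv ≫ DerivedCategory.Q.map (algebraMap A B a • 𝟙 P) ≫ e.hom := by
    rw [Functor.map_smul, CategoryTheory.Functor.map_id, Linear.smul_comp, Linear.comp_smul,
      Category.id_comp, Iso.inv_hom_id]
  have h2 : (DRing.restrictD (algebraMap A B)).map
      (DerivedCategory.Q.map (algebraMap A B a • 𝟙 P)) = a • 𝟙 _ := by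
    have h := (resSc (algebraMap A B)).mapDerivedCategoryFactors_hom_naturality
      (algebraMap A B a • 𝟙 P)
    have hQ : DerivedCategory.Q.map (a •
        𝟙 (((resSc (algebraMap A B)).mapHomologicalComplex (ComplexShape.up ℤ)).obj P)) =
        a • 𝟙 _ := by
      rw [Functor.map_smul, CategoryTheory.Functor.map_id]
    rw [restrictCx_map_smul_id, hQ, Linear.comp_smul] at h
    erw [Category.comp_id] at h
    rw [← cancel_mono ((resSc (algebraMap A B)).mapDerivedCategoryFactors.hom.app P), h,
      Linear.smul_comp, Category.id_comp]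
  rw [h1, Functor.map_comp, Functor.map_comp, h2, Linear.smul_comp, Linear.comp_smul,
    Category.id_comp, ← Functor.map_comp, Iso.inv_hom_id, CategoryTheory.Functor.map_id]

lemma restrictD_map_smul (a : A) {K L : Dual.D B} (f : K ⟶ L) :
    (DRing.restrictD (algebraMap A B)).map (algebraMap A B a • f) =
      a • (DRing.restrictD (algebraMap A B)).map f := by
  have : algebraMap A B a • f = (algebraMap A B a • 𝟙 K) ≫ f := by
    rw [Linear.smul_comp, Category.id_comp]
  rw [this, Functor.map_comp, restrictD_map_smul_id, Linear.smul_comp, Category.id_comp]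

/-- the `A`-module structure on morphisms of `D(B)` by restriction of scalars (no flatness) -/
@[reducible] noncomputable def homModA' (X Y : Dual.D B) : Module A (X ⟶ Y) :=
  Module.compHom (X ⟶ Y) (algebraMap A B)

attribute [local instance] homModA'

instance isScalarTower_hom' (X Y : Dual.D B) : IsScalarTower A B (X ⟶ Y) :=
  IsScalarTower.of_algebraMap_smul fun _ _ => rfl

/-- the adjunction bijection as an `A`-linear equivalence -/
noncomputable def adjLinearEquiv (R : Dual.D A ⥤ Dual.D B)
    (adj : DRing.restrictD (algebraMap A B) ⊣ R) (X : Dual.D B) (K : Dual.D A) :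
    (X ⟶ R.obj K) ≃ₗ[A] ((DRing.restrictD (algebraMap A B)).obj X ⟶ K) where
  toFun g := (adj.homEquiv X K).symm g
  invFun f := adj.homEquiv X K f
  left_inv g := (adj.homEquiv X K).apply_symm_apply g
  right_inv f := (adj.homEquiv X K).symm_apply_apply f
  map_add' g g' := by
    simp only [Adjunction.homEquiv_counit, Functor.map_add, Preadditive.add_comp]
  map_smul' a g := by
    simp only [Adjunction.homEquiv_counit, RingHom.id_apply]
    have : a • g = algebraMap A B a • g := rfl
    rw [this, restrictD_map_smul, Linear.smul_comp]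

open HomFinite in
/-- **finiteness of the cohomology of the right adjoint of restriction along a finite map** -/
theorem finite_HF_rightAdjoint [IsNoetherianRing A] [Module.Finite A B]
    (R : Dual.D A ⥤ Dual.D B) (adj : DRing.restrictD (algebraMap A B) ⊣ R) (K : Dual.D A) (a : ℤ)
    (hlow : ∀ j : ℤ, j < a → IsZero ((HF A j).obj K))
    (hfin : ∀ j : ℤ, Module.Finite A ((HF A j).obj K)) (i : ℤ) :
    Module.Finite B ((HF B i).obj (R.obj K)) := by
  let X : Dual.D B := toD (singleCx i (ModuleCat.of B B))
  -- the restriction of `X` is pseudo-coherent over `A`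
  have hX : ∀ j : ℤ, j ≠ i → IsZero ((HF B j).obj X) := fun j hj =>
    isZero_HF_toD_of_isZero_X _ j (isZero_singleCx_X i _ j hj)
  have hρX : ∀ j : ℤ, (HF A j).obj ((DRing.restrictD (algebraMap A B)).obj X) ≅
      (resSc (algebraMap A B)).obj ((HF B j).obj X) := fun j =>
    (HFRestrictIso (algebraMap A B) j).app X
  have hpc : IsPseudoCoherent' A ((DRing.restrictD (algebraMap A B)).obj X) := by
    refine isPseudoCoherent'_of_finite_HF _ i (fun j hj => ?_) (fun j => ?_)
    · exact ((resSc (algebraMap A B)).map_isZero (hX j (by omega))).of_iso (hρX j)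
    · by_cases hj : j = i
      · subst hj
        have e2 : (HF B j).obj X ≅ ModuleCat.of B B :=
          (HF B j).mapIso (toDSingleIso' j _) ≪≫ HFSingleIso j _
        have e3 := hρX j ≪≫ (resSc (algebraMap A B)).mapIso e2 ≪≫
          (PolyDual.resScEquiv (A := A) (B := B) B).toModuleIso
        exact Module.Finite.equiv e3.symm.toLinearEquiv
      · have : Subsingleton ((HF A j).obj ((DRing.restrictD (algebraMap A B)).obj X)) :=
          ModuleCat.subsingleton_of_isZero
            (((resSc (algebraMap A B)).map_isZero (hX j hj)).of_iso (hρX j))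
        infer_instance
  have h1 : Module.Finite A ((DRing.restrictD (algebraMap A B)).obj X ⟶ K) :=
    finite_hom _ K hpc a hlow hfin
  have h2 : Module.Finite A (X ⟶ R.obj K) :=
    Module.Finite.equiv (adjLinearEquiv R adj X K).symm
  have h3 : Module.Finite B (X ⟶ R.obj K) := Module.Finite.of_restrictScalars_finite A B _
  have e1 : (X ⟶ R.obj K) ≃ₗ[B] (ModuleCat.of B B ⟶ (HF B i).obj (R.obj K)) :=
    LinearEquiv.ofBijective (homClassLin i (ModuleCat.of B B) (R.obj K))
      (bijective_homClassLin i _ _)
  have e2 : (ModuleCat.of B B ⟶ (HF B i).obj (R.obj K)) ≃ₗ[B] (HF B i).obj (R.obj K) :=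
    (ModuleCat.homLinearEquiv (S := B)) ≪≫ₗ LinearMap.ringLmapEquivSelf B B _
  exact Module.Finite.equiv (e1 ≪≫ₗ e2)

end Groth.Agent.Lib.Helper12.FinAdj
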