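import Mathlib
import Groth.Agent.Lib.Helper12.FiniteAdjoint
import Groth.Agent.Lib.Helper12.ModDualExt

/-!
# The coextended complex `Hom_A(B, E)` as a complex of `B`-modules (helper12)

Chain-level adjunction between restriction and coextension of scalars, and the
comparison with the `A`-complex `Hom_A(B, E)` of `ModDual`.
-/

set_option autoImplicit false
universe u
open CategoryTheory CategoryTheory.Limits

attribute [local instance] HasDerivedCategory.standard

namespace Groth.Agent.Lib.Helper12.CoextCx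
open Groth.Agent.Lib.Helper12 DRing Groth.Agent.Lib.Helper12.ModDual
open Groth.Agent.Lib.Helper36.InjAmp

variable {A B : Type u} [CommRing A] [CommRing B] (φ : A →+* B)

/-- coextension of scalars -/
noncomputable abbrev coext : ModuleCat.{u} A ⥤ ModuleCat.{u} B :=
  ModuleCat.coextendScalars.{u, u, u} φ

instance coext_additive : (coext φ).Additive := ⟨by
  intro M N f g
  rfl⟩

/-- the adjunction between restriction and coextension -/
noncomputable abbrev rcAdj : resSc φ ⊣ coext φ := ModuleCat.restrictCoextendScalarsAdj.{u, u, u} φ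

/-- the coextended complex `Hom_A(B, E)` over `B` -/
noncomputable def W (E : Cx A) : Cx B :=
  ((coext φ).mapHomologicalComplex (ComplexShape.up ℤ)).obj E

/-- evaluation at `1` -/
noncomputable def ev (E : Cx A) : (restrictCx φ).obj (W φ E) ⟶ E where
  f i := (rcAdj φ).counit.app (E.X i)
  comm' i j _ := ((rcAdj φ).counit.naturality (E.d i j)).symm

/-- components of a chain map out of a restricted complex, with clean types -/
def cmp {X : Cx B} {E : Cx A} (γ : (restrictCx φ).obj X ⟶ E) (i : ℤ) :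
    (resSc φ).obj (X.X i) ⟶ E.X i := γ.f i

lemma cmp_comm {X : Cx B} {E : Cx A} (γ : (restrictCx φ).obj X ⟶ E) (i j : ℤ) :
    cmp φ γ i ≫ E.d i j = (resSc φ).map (X.d i j) ≫ cmp φ γ j := γ.comm i j

/-- the chain-level adjunction -/
noncomputable def adjMap {X : Cx B} {E : Cx A} (γ : (restrictCx φ).obj X ⟶ E) : X ⟶ W φ E where
  f i := (rcAdj φ).homEquiv _ _ (cmp φ γ i)
  comm' i j _ := by
    change (rcAdj φ).homEquiv _ _ (cmp φ γ i) ≫ (coext φ).map (E.d i j) =
      X.d i j ≫ (rcAdj φ).homEquiv _ _ (cmp φ γ j)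
    rw [← Adjunction.homEquiv_naturality_right, ← Adjunction.homEquiv_naturality_left,
      cmp_comm]

lemma restrict_adjMap_ev {X : Cx B} {E : Cx A} (γ : (restrictCx φ).obj X ⟶ E) :
    (restrictCx φ).map (adjMap φ γ) ≫ ev φ E = γ := by
  ext i : 1
  change (resSc φ).map ((rcAdj φ).homEquiv _ _ (cmp φ γ i)) ≫ (rcAdj φ).counit.app (E.X i) =
    cmp φ γ i
  exact ((rcAdj φ).homEquiv_counit _ _ _).symm.trans
    (((rcAdj φ).homEquiv _ _).symm_apply_apply (cmp φ γ i))

/-- `B` as an `A`-module -/
noncomputable abbrev BA : ModuleCat.{u} A := (resSc φ).obj (ModuleCat.of B B)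

/-- `Hom_A(B, N)` restricted to `A` is `Hom_A(B, N)` -/
noncomputable def νlin (N : ModuleCat.{u} A) :
    ((resSc φ).obj ((coext φ).obj N)) ≃ₗ[A] (BA φ ⟶ N) where
  toFun := fun g => ModuleCat.ofHom (X := BA φ) (Y := N) (ModuleCat.CoextendScalars.equiv φ N g)
  invFun := fun f => (ModuleCat.CoextendScalars.equiv φ N).symm f.hom
  left_inv := fun g => rfl
  right_inv := fun f => rfl
  map_add' := fun g g' => rfl
  map_smul' := fun a g => by
    refine ModuleCat.hom_ext (LinearMap.ext fun (x : B) => ?_)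
    let g' : (BA φ) →ₗ[A] N :=
      ModuleCat.CoextendScalars.equiv φ N (show ((coext φ).obj N) from g)
    have h : g' (a • (show (BA φ) from x)) = a • g' x := g'.map_smul a x
    change g' (x * φ a) = a • g' x
    rw [← h]
    congr 1
    exact mul_comm (x : B) (φ a)

/-- `coext ⋙ resSc ≅ Hom_A(B, -)` -/
noncomputable def ν : coext φ ⋙ resSc φ ≅ homF (BA φ) :=
  NatIso.ofComponents (fun N => (νlin φ N).toModuleIso) (by
    intro N N' f
    refine ModuleCat.hom_ext (LinearMap.ext fun g => ?_)
    rfl)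

/-- the restriction of the coextended complex is the `A`-complex `Hom_A(B, E)` -/
noncomputable def νE (E : Cx A) : (restrictCx φ).obj (W φ E) ≅ D₀ E (BA φ) :=
  (NatIso.mapHomologicalComplex (ν φ) (ComplexShape.up ℤ)).app E

/-- multiplication by `b` on the coextended complex, evaluated at `1`, is `Hom_A(b, E)` followed
by the identification `Hom_A(A, E) = E` -/
lemma restrict_smul_ev (E : Cx A) (b : B) :
    (restrictCx φ).map (b • 𝟙 (W φ E)) ≫ ev φ E =
      (νE φ E).hom ≫ D₀map E (mHom (BA φ) b) ≫ (unitIso E).hom := by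
  ext i : 1
  refine ModuleCat.hom_ext (LinearMap.ext fun g => ?_)
  let g' : (BA φ) →ₗ[A] (E.X i) :=
    ModuleCat.CoextendScalars.equiv φ (E.X i) (show ((coext φ).obj (E.X i)) from g)
  change g' ((1 : B) * b) = g' ((1 : A) • (show (BA φ) from b))
  rw [one_mul, one_smul]

/-- the candidate counit `ρ(Hom_A(B, E)) ⟶ E` -/
noncomputable def c₀ (E : Cx A) : (restrictD φ).obj (toD (W φ E)) ⟶ toD E :=
  (restrictD_toD φ (W φ E)).hom ≫ DerivedCategory.Q.map (ev φ E)

lemma restrictD_map_Q_comp {X Y : Cx B} (γ : X ⟶ Y) :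
    (restrictD φ).map (DerivedCategory.Q.map γ) ≫ (restrictD_toD φ Y).hom =
      (restrictD_toD φ X).hom ≫ DerivedCategory.Q.map ((restrictCx φ).map γ) :=
  (resSc φ).mapDerivedCategoryFactors_hom_naturality γ

lemma restrictD_map_Q_comp_c₀ {X : Cx B} (E : Cx A) (γ : X ⟶ W φ E) :
    (restrictD φ).map (DerivedCategory.Q.map γ) ≫ c₀ φ E =
      (restrictD_toD φ X).hom ≫ DerivedCategory.Q.map ((restrictCx φ).map γ ≫ ev φ E) := by
  rw [c₀, ← Category.assoc, restrictD_map_Q_comp, Category.assoc, ← Functor.map_comp]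


lemma restrictCx_single_d (n : ℤ) (M : ModuleCat.{u} B) (i j : ℤ) :
    ((restrictCx φ).obj (singleCx n M)).d i j = 0 := by
  change (resSc φ).map ((singleCx n M).d i j) = 0
  rw [HomologicalComplex.single_obj_d, CategoryTheory.Functor.map_zero]

/-- injectivity of the test map -/
lemma test_injective (E : Cx A) [E.IsKInjective] [(W φ E).IsKInjective] (n : ℤ)
    (y : toD (singleCx n (ModuleCat.of B B)) ⟶ toD (W φ E))
    (hy : (restrictD φ).map y ≫ c₀ φ E = 0) : y = 0 := by
  obtain ⟨γ, rfl⟩ := exists_map_of_isKInjective _ (W φ E) y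
  rw [restrictD_map_Q_comp_c₀] at hy
  have h1 : DerivedCategory.Q.map ((restrictCx φ).map γ ≫ ev φ E) = DerivedCategory.Q.map 0 := by
    rw [CategoryTheory.Functor.map_zero]
    exact (cancel_epi _).mp (hy.trans comp_zero.symm)
  obtain ⟨H⟩ := homotopy_of_Q_map_eq_of_isKInjective _ E _ 0 h1
  have hc := H.comm n
  rw [dNext_eq _ (show (ComplexShape.up ℤ).Rel n (n + 1) by simp),
    prevD_eq _ (show (ComplexShape.up ℤ).Rel (n - 1) n by simp),
    restrictCx_single_d, zero_comp, zero_add, HomologicalComplex.zero_f, add_zero] at hc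
  let S : Cx B := singleCx n (ModuleCat.of B B)
  let h₀ : (resSc φ).obj (S.X n) ⟶ E.X (n - 1) := H.hom n (n - 1)
  let γn : S.X n ⟶ (coext φ).obj (E.X n) := γ.f n
  have hc' : (resSc φ).map γn ≫ (rcAdj φ).counit.app (E.X n) = h₀ ≫ E.d (n - 1) n := hc
  have h3 : (rcAdj φ).homEquiv _ _ ((resSc φ).map γn ≫ (rcAdj φ).counit.app (E.X n)) = γn :=
    (congrArg ((rcAdj φ).homEquiv _ _) ((rcAdj φ).homEquiv_counit _ _ γn).symm).trans
      (((rcAdj φ).homEquiv _ _).apply_symm_apply γn)
  have h2 : γn = (rcAdj φ).homEquiv _ _ h₀ ≫ (coext φ).map (E.d (n - 1) n) := by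
    rw [← h3, hc', Adjunction.homEquiv_naturality_right]
  have h4 : ((HomologicalComplex.singleObjXSelf (ComplexShape.up ℤ) n (ModuleCat.of B B)).inv ≫
      (rcAdj φ).homEquiv _ _ h₀) ≫ (W φ E).d (n - 1) n =
      (HomologicalComplex.singleObjXSelf (ComplexShape.up ℤ) n (ModuleCat.of B B)).inv ≫ γ.f n :=
    (Category.assoc _ _ _).trans (congrArg (_ ≫ ·) h2.symm)
  rw [DerivedCategory.Q_map_eq_of_homotopy _ (fromSingleNullHomotopy n _ (W φ E) γ _ h4),
    CategoryTheory.Functor.map_zero]

/-- surjectivity of the test map (for any source complex) -/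
lemma test_surjective (E : Cx A) [E.IsKInjective] (X : Cx B)
    (g : (restrictD φ).obj (toD X) ⟶ toD E) :
    ∃ y : toD X ⟶ toD (W φ E), (restrictD φ).map y ≫ c₀ φ E = g := by
  obtain ⟨γ, hγ⟩ := exists_map_of_isKInjective _ E ((restrictD_toD φ X).inv ≫ g)
  refine ⟨DerivedCategory.Q.map (adjMap φ γ), ?_⟩
  rw [restrictD_map_Q_comp_c₀, restrict_adjMap_ev, hγ, Iso.hom_inv_id_assoc]

lemma isKInjective_W (E : Cx A) (a : ℤ) (hE : ∀ j : ℤ, j < a → IsZero (E.X j))
    (hinj : ∀ i, Injective (E.X i)) : (W φ E).IsKInjective := by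
  have hGE : (W φ E).IsStrictlyGE a := by
    rw [CochainComplex.isStrictlyGE_iff]
    intro j hj
    exact (coext φ).map_isZero (hE j hj)
  have hinj' : ∀ j, Injective ((W φ E).X j) := fun j => by
    have := hinj j
    exact Injective.injective_of_adjoint (rcAdj φ) (E.X j)
  exact CochainComplex.isKInjective_of_injective (W φ E) a

/-- a morphism of `D(B)` inducing bijections on morphisms from all shifts of `B` is an
isomorphism -/
theorem isIso_of_bijective_on_singles {K L : Dual.D B} (θ : K ⟶ L)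
    (h : ∀ n : ℤ, Function.Bijective
      (fun y : toD (singleCx n (ModuleCat.of B B)) ⟶ K => y ≫ θ)) : IsIso θ := by
  rw [DerivedCategory.isIso_iff]
  intro n
  change IsIso ((HF B n).map θ)
  have hb : Function.Bijective
      (fun g : ModuleCat.of B B ⟶ (HF B n).obj K => g ≫ (HF B n).map θ) := by
    constructor
    · intro g g' hgg
      obtain ⟨y, rfl⟩ := homClass_surjective (k := n) (M := ModuleCat.of B B) K g
      obtain ⟨y', rfl⟩ := homClass_surjective (k := n) (M := ModuleCat.of B B) K g'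
      simp only [← homClass_comp] at hgg
      rw [(h n).1 (homClass_injective _ hgg)]
    · intro g
      obtain ⟨z, rfl⟩ := homClass_surjective (k := n) (M := ModuleCat.of B B) L g
      obtain ⟨y, rfl⟩ := (h n).2 z
      exact ⟨homClass y, (homClass_comp y θ).symm⟩
  have hmono : Mono ((HF B n).map θ) := by
    rw [ModuleCat.mono_iff_injective, injective_iff_map_eq_zero]
    intro x hx
    have h1 : mHom _ x ≫ (HF B n).map θ = 0 ≫ (HF B n).map θ := by
      rw [mHom_comp, hx, mHom_zero, zero_comp]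
    have h2 := hb.1 h1
    have h3 := congrArg (fun f => f.hom (1 : B)) h2
    simpa [mHom] using h3
  have hepi : Epi ((HF B n).map θ) := by
    rw [ModuleCat.epi_iff_surjective]
    intro z
    obtain ⟨g, hg⟩ := hb.2 (mHom _ z)
    refine ⟨g.hom (1 : B), ?_⟩
    have h3 := congrArg (fun f => f.hom (1 : B)) hg
    simpa [mHom] using h3
  exact isIso_of_mono_of_epi _

end Groth.Agent.Lib.Helper12.CoextCx
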