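import Mathlib
import Groth.Agent.Lib.Helper12.CoextCx
import Groth.Agent.Lib.Helper12.DualizingBC

/-!
# The right adjoint of restriction along a finite map preserves dualizing complexes (helper12)
-/

set_option autoImplicit false
universe u
open CategoryTheory CategoryTheory.Limits
attribute [local instance] HasDerivedCategory.standard
namespace Groth.Agent.Lib.Helper12.FinDual
open Groth.Agent.Lib.Helper12 DRing Groth.Agent.Lib.Helper12.ModDual
open Groth.Agent.Lib.Helper36.InjAmp Groth.Agent.Lib.Helper12.CoextCx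
variable {A B : Type u} [CommRing A] [CommRing B] (φ : A →+* B)
variable (R : Dual.D A ⥤ Dual.D B) (adj : DRing.restrictD φ ⊣ R)

/-- the comparison map from the coextended complex to the right adjoint -/
noncomputable def θ (E : Cx A) : toD (W φ E) ⟶ R.obj (toD E) := adj.homEquiv _ _ (c₀ φ E)

lemma comp_θ (E : Cx A) {X : Dual.D B} (y : X ⟶ toD (W φ E)) :
    y ≫ θ φ R adj E = adj.homEquiv _ _ ((restrictD φ).map y ≫ c₀ φ E) :=
  (adj.homEquiv_naturality_left y (c₀ φ E)).symm

lemma homEquiv_symm_comp_θ (E : Cx A) {X : Dual.D B} (y : X ⟶ toD (W φ E)) :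
    (adj.homEquiv _ _).symm (y ≫ θ φ R adj E) = (restrictD φ).map y ≫ c₀ φ E := by
  rw [comp_θ, Equiv.symm_apply_apply]

theorem isIso_θ (E : Cx A) (a : ℤ) (hE : ∀ j : ℤ, j < a → IsZero (E.X j))
    (hinj : ∀ i, Injective (E.X i)) : IsIso (θ φ R adj E) := by
  have hGE : E.IsStrictlyGE a := by
    rw [CochainComplex.isStrictlyGE_iff]
    exact hE
  have hKI : E.IsKInjective := CochainComplex.isKInjective_of_injective E a
  have hKW := isKInjective_W φ E a hE hinj
  refine isIso_of_bijective_on_singles _ (fun n => ⟨?_, ?_⟩)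
  · intro y y' hyy
    have h1 : (y - y') ≫ θ φ R adj E = 0 := by
      rw [Preadditive.sub_comp]
      exact sub_eq_zero.mpr hyy
    have h2 := homEquiv_symm_comp_θ φ R adj E (y - y')
    rw [h1] at h2
    have h3 : (adj.homEquiv _ _).symm (0 : toD (singleCx n (ModuleCat.of B B)) ⟶ R.obj (toD E)) = 0 := by
      rw [Adjunction.homEquiv_counit, CategoryTheory.Functor.map_zero, zero_comp]
    rw [h3] at h2
    exact sub_eq_zero.mp (test_injective φ E n (y - y') h2.symm)
  · intro g
    obtain ⟨y, hy⟩ := test_surjective φ E (singleCx n (ModuleCat.of B B)) ((adj.homEquiv _ _).symm g)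
    refine ⟨y, ?_⟩
    change y ≫ θ φ R adj E = g
    rw [comp_θ, hy, Equiv.apply_symm_apply]


/-- the restriction of the coextended complex is `RHom_A(B, E)` -/
noncomputable def ι (E : Cx A) : (restrictD φ).obj (toD (W φ E)) ≅ D E (BA φ) :=
  restrictD_toD φ (W φ E) ≪≫ DerivedCategory.Q.mapIso (νE φ E)

/-- the key formula: the action of `b` on `Hom_A(B, E)`, transported by the adjunction, is the
biduality map at `b` -/
lemma map_smul_comp_c₀ (E : Cx A) (b : B) :
    (restrictD φ).map (b • 𝟙 (toD (W φ E))) ≫ c₀ φ E =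
      (ι φ E).hom ≫ η E (unitIsoD E) (BA φ) b := by
  change _ = ((restrictD_toD φ (W φ E)).hom ≫ DerivedCategory.Q.map (νE φ E).hom) ≫
        η E (unitIsoD E) (BA φ) b
  have h1 : b • 𝟙 (toD (W φ E)) = DerivedCategory.Q.map (b • 𝟙 (W φ E)) := by
    rw [Functor.map_smul, CategoryTheory.Functor.map_id]
  rw [h1, restrictD_map_Q_comp_c₀, restrict_smul_ev, Functor.map_comp, Functor.map_comp]
  exact (Category.assoc _ _ _).symm


section Main

variable [IsNoetherianRing A] (E : Cx A) (a b : ℤ) (hE : VanishesOutside E a b)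
  (hinj : ∀ i, Module.Injective A (E.X i)) (hω : Dual.IsDualizing A (toD E))
  [Module.Finite A (BA φ)]

include hE hinj hω adj

/-- **`B → End(R ω)` is bijective** -/
theorem toEnd_bijective :
    Function.Bijective (fun x : B => x • 𝟙 (R.obj (toD E))) := by
  have hinj' : ∀ j, Injective (E.X j) := fun j => by
    have := hinj j
    exact Module.injective_object_of_injective_module A (E.X j)
  have hθ : IsIso (θ φ R adj E) :=
    isIso_θ φ R adj E a (fun j hj => hE j (Or.inl hj)) hinj'
  have hrefl := refl_dualizing E a b hE hinj hω (BA φ)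
  -- the bijection `End(Rω) ≅ Hom(ρ T, E)`
  let Φ : (R.obj (toD E) ⟶ R.obj (toD E)) → ((restrictD φ).obj (toD (W φ E)) ⟶ toD E) :=
    fun f => (adj.homEquiv _ _).symm (θ φ R adj E ≫ f)
  have hΦ : Function.Injective Φ := by
    intro f f' hff
    have h1 := (adj.homEquiv _ _).symm.injective hff
    exact (cancel_epi _).mp h1
  have hΦb : ∀ x : B, Φ (x • 𝟙 _) = (ι φ E).hom ≫ η E (unitIsoD E) (BA φ) x := by
    intro x
    have h1 : θ φ R adj E ≫ (x • 𝟙 (R.obj (toD E))) = (x • 𝟙 (toD (W φ E))) ≫ θ φ R adj E := by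
      rw [Linear.comp_smul, Linear.smul_comp, Category.comp_id, Category.id_comp]
    change (adj.homEquiv _ _).symm (θ φ R adj E ≫ (x • 𝟙 (R.obj (toD E)))) = _
    rw [h1, homEquiv_symm_comp_θ, map_smul_comp_c₀]
  constructor
  · intro x x' hxx
    have h1 : Φ (x • 𝟙 _) = Φ (x' • 𝟙 _) := congrArg Φ hxx
    rw [hΦb, hΦb] at h1
    exact hrefl.1.1 ((cancel_epi _).mp h1)
  · intro f
    obtain ⟨x, hx⟩ := hrefl.1.2 ((ι φ E).inv ≫ Φ f)
    let x' : B := x
    have hx' : η E (unitIsoD E) (BA φ) x' = (ι φ E).inv ≫ Φ f := hx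
    refine ⟨x', hΦ ?_⟩
    change Φ (x' • 𝟙 _) = Φ f
    rw [hΦb, hx', Iso.hom_inv_id_assoc]

/-- **`R ω` has no self-maps of nonzero degree** -/
theorem ext_self_eq_zero (n : ℤ) (hn : n ≠ 0)
    (f : R.obj (toD E) ⟶ (R.obj (toD E))⟦n⟧) : f = 0 := by
  have hinj' : ∀ j, Injective (E.X j) := fun j => by
    have := hinj j
    exact Module.injective_object_of_injective_module A (E.X j)
  have hθ : IsIso (θ φ R adj E) :=
    isIso_θ φ R adj E a (fun j hj => hE j (Or.inl hj)) hinj'
  have hrefl := refl_dualizing E a b hE hinj hω (BA φ)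
  refine (hom_shift_eq_zero_iff _ _ n).mpr (fun g => ?_) f
  have h1 : (adj.homEquiv _ _).symm g = 0 := by
    let κ : (restrictD φ).obj ((R.obj (toD E))⟦-n⟧) ≅ (D E (BA φ))⟦-n⟧ :=
      ((restrictD φ).commShiftIso (-n)).app _ ≪≫
        (shiftFunctor _ (-n)).mapIso ((restrictD φ).mapIso (asIso (θ φ R adj E)).symm ≪≫ ι φ E)
    have h2 := hrefl.2 (-n) (by omega) (κ.inv ≫ (adj.homEquiv _ _).symm g)
    exact (cancel_epi κ.inv).mp (h2.trans comp_zero.symm)
  have h0 : (adj.homEquiv ((R.obj (toD E))⟦-n⟧) (toD E)).symm 0 = 0 := by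
    rw [Adjunction.homEquiv_counit, CategoryTheory.Functor.map_zero, zero_comp]
  exact (adj.homEquiv _ _).symm.injective (h1.trans h0.symm)

end Main

include adj in
/-- **finite injective dimension of `R K`** -/
theorem hom_inD_shift_eq_zero (K : Dual.D A) (a' b' : ℤ)
    (hab : ∀ (M : Type u) [AddCommGroup M] [Module A M] (i : ℤ),
      (i < a' ∨ b' < i) → Subsingleton (Dual.inD A M ⟶ K⟦i⟧))
    (N : Type u) [AddCommGroup N] [Module B N] (i : ℤ) (hi : i < a' ∨ b' < i)
    (f : Dual.inD B N ⟶ (R.obj K)⟦i⟧) : f = 0 := by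
  refine (hom_shift_eq_zero_iff _ _ i).mpr (fun g => ?_) f
  have h1 : (adj.homEquiv _ _).symm g = 0 := by
    let κ : (restrictD φ).obj ((Dual.inD B N)⟦-i⟧) ≅
        (Dual.inD A ((resSc φ).obj (ModuleCat.of B N)))⟦-i⟧ :=
      ((restrictD φ).commShiftIso (-i)).app _ ≪≫
        (shiftFunctor _ (-i)).mapIso
          (((resSc φ).mapDerivedCategorySingleFunctor 0).app (ModuleCat.of B N))
    have h2 : ∀ g' : (Dual.inD A ((resSc φ).obj (ModuleCat.of B N)))⟦-i⟧ ⟶ K, g' = 0 :=
      (hom_shift_eq_zero_iff _ _ i).mp (fun f' => by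
        have := hab ((resSc φ).obj (ModuleCat.of B N)) i hi
        exact Subsingleton.elim _ _)
    exact (cancel_epi κ.inv).mp ((h2 _).trans comp_zero.symm)
  have h0 : (adj.homEquiv ((Dual.inD B N)⟦-i⟧) K).symm 0 = 0 := by
    rw [Adjunction.homEquiv_counit, CategoryTheory.Functor.map_zero, zero_comp]
  exact (adj.homEquiv _ _).symm.injective (h1.trans h0.symm)


/-- **the right adjoint of restriction of scalars along a finite ring map sends dualizing
complexes to dualizing complexes** -/
theorem isDualizing_rightAdjoint {A B : Type u} [CommRing A] [CommRing B] [Algebra A B]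
    [IsNoetherianRing A] [IsNoetherianRing B] [Module.Finite A B]
    (R : Dual.D A ⥤ Dual.D B) (adj : DRing.restrictD (algebraMap A B) ⊣ R) (ω : Dual.D A)
    (hω : Dual.IsDualizing A ω) : Dual.IsDualizing B (R.obj ω) := by
  obtain ⟨a, b, E, hE, hinj, ⟨e⟩⟩ := exists_injective_model ω hω
  have hωE : Dual.IsDualizing A (toD E) := DualizingBC.isDualizing_of_iso e.symm hω
  have hfin : Module.Finite A (BA (algebraMap A B)) :=
    Module.Finite.equiv (PolyDual.resScEquiv (A := A) (B := B) B).symm
  refine DualizingBC.isDualizing_of_iso (R.mapIso e) ?_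
  obtain ⟨a', b', hab⟩ := hωE.finite_injective_dimension
  exact
    { isNoetherianRing := inferInstance
      finite_injective_dimension := ⟨a', b', fun N _ _ i hi => ⟨fun f g => by
        rw [hom_inD_shift_eq_zero (algebraMap A B) R adj (toD E) a' b' hab N i hi f,
          hom_inD_shift_eq_zero (algebraMap A B) R adj (toD E) a' b' hab N i hi g]⟩⟩
      finite_cohomology := fun i =>
        FinAdj.finite_HF_rightAdjoint R adj (toD E) a
          (fun j hj => isZero_HF_toD_of_isZero_X _ j (hE j (Or.inl hj)))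
          hωE.finite_cohomology i
      toEnd_bijective := toEnd_bijective (algebraMap A B) R adj E a b hE hinj hωE
      ext_self_subsingleton := fun i hi => ⟨fun f g => by
        rw [ext_self_eq_zero (algebraMap A B) R adj E a b hE hinj hωE i hi f,
          ext_self_eq_zero (algebraMap A B) R adj E a b hE hinj hωE i hi g]⟩ }

end Groth.Agent.Lib.Helper12.FinDual
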