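import Mathlib
import Groth.Agent.Lib.Helper12.FiniteDualizing
import Groth.Agent.Lib.Helper12.BidualDevissage

/-!
# The right adjoint of restriction along a finite local map preserves normalized complexes
(helper12)
-/

set_option autoImplicit false
universe u
open CategoryTheory CategoryTheory.Limits

attribute [local instance] HasDerivedCategory.standard

namespace Groth.Agent.Lib.Helper12.FinDual
open Groth.Agent.Lib.Helper12 DRing Groth.Agent.Lib.Helper12.ModDual
open Groth.Agent.Lib.Helper36.InjAmp Groth.Agent.Lib.Helper12.CoextCx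

/-- degreewise version: `Hom_B(N, (R K)[i]) = 0` if `Hom_A(N_A, K[i]) = 0` -/
theorem hom_inD_shift_eq_zero' {A B : Type u} [CommRing A] [CommRing B] (φ : A →+* B)
    (R : Dual.D A ⥤ Dual.D B) (adj : DRing.restrictD φ ⊣ R) (K : Dual.D A)
    (N : Type u) [AddCommGroup N] [Module B N] (i : ℤ)
    (hN : ∀ f' : Dual.inD A ((resSc φ).obj (ModuleCat.of B N)) ⟶ K⟦i⟧, f' = 0)
    (f : Dual.inD B N ⟶ (R.obj K)⟦i⟧) : f = 0 := by
  refine (hom_shift_eq_zero_iff _ _ i).mpr (fun g => ?_) f
  have h1 : (adj.homEquiv _ _).symm g = 0 := by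
    let κ : (restrictD φ).obj ((Dual.inD B N)⟦-i⟧) ≅
        (Dual.inD A ((resSc φ).obj (ModuleCat.of B N)))⟦-i⟧ :=
      ((restrictD φ).commShiftIso (-i)).app _ ≪≫
        (shiftFunctor _ (-i)).mapIso
          (((resSc φ).mapDerivedCategorySingleFunctor 0).app (ModuleCat.of B N))
    have h2 : ∀ g' : (Dual.inD A ((resSc φ).obj (ModuleCat.of B N)))⟦-i⟧ ⟶ K, g' = 0 :=
      (hom_shift_eq_zero_iff _ _ i).mp hN
    exact (cancel_epi κ.inv).mp ((h2 _).trans comp_zero.symm)
  have h0 : (adj.homEquiv ((Dual.inD B N)⟦-i⟧) K).symm 0 = 0 := by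
    rw [Adjunction.homEquiv_counit, CategoryTheory.Functor.map_zero, zero_comp]
  exact (adj.homEquiv _ _).symm.injective (h1.trans h0.symm)

/-- **the right adjoint of restriction along a finite local map preserves normalized
complexes** -/
theorem isNormalized_rightAdjoint {A B : Type u} [CommRing A] [CommRing B] [IsLocalRing A]
    [IsLocalRing B] [Algebra A B] [IsLocalHom (algebraMap A B)] [IsNoetherianRing A]
    [Module.Finite A B]
    (R : Dual.D A ⥤ Dual.D B) (adj : DRing.restrictD (algebraMap A B) ⊣ R) (ω : Dual.D A)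
    (hn : Dual.IsNormalized A ω) : Dual.IsNormalized B (R.obj ω) := by
  intro i hi
  refine ⟨fun f g => ?_⟩
  have : IsScalarTower A B (IsLocalRing.ResidueField B) := inferInstance
  have hfin : Module.Finite A (IsLocalRing.ResidueField B) := Module.Finite.trans B _
  have hfin' : Module.Finite A
      ((resSc (algebraMap A B)).obj (ModuleCat.of B (IsLocalRing.ResidueField B))) :=
    Module.Finite.equiv
      (PolyDual.resScEquiv (A := A) (B := B) (IsLocalRing.ResidueField B)).symm
  have hv : Bass.VanishAt ω i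
      ((resSc (algebraMap A B)).obj (ModuleCat.of B (IsLocalRing.ResidueField B))) := by
    refine Bass.vanishAt_of_killed (IsLocalRing.maximalIdeal A) (hn i hi) _ ?_
    intro y hy n
    obtain ⟨x, rfl⟩ := Ideal.Quotient.mk_surjective (I := IsLocalRing.maximalIdeal B) n
    change (algebraMap A B y) • (Ideal.Quotient.mk (IsLocalRing.maximalIdeal B) x) = 0
    have h1 : algebraMap A B y ∈ IsLocalRing.maximalIdeal B :=
      (IsLocalRing.mem_maximalIdeal _).mpr (fun hu =>
        (IsLocalRing.mem_maximalIdeal _).mp hy (isUnit_of_map_unit (algebraMap A B) y hu))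
    have h2 : (algebraMap A B y) • (Ideal.Quotient.mk (IsLocalRing.maximalIdeal B) x) =
        Ideal.Quotient.mk (IsLocalRing.maximalIdeal B) (algebraMap A B y * x) := rfl
    rw [h2, Ideal.Quotient.eq_zero_iff_mem]
    exact Ideal.mul_mem_right _ _ h1
  have hz : ∀ f' : Dual.inD A
      ((resSc (algebraMap A B)).obj (ModuleCat.of B (IsLocalRing.ResidueField B))) ⟶ ω⟦i⟧,
      f' = 0 := fun f' => by
    have : Subsingleton (Dual.inD A
      ((resSc (algebraMap A B)).obj (ModuleCat.of B (IsLocalRing.ResidueField B))) ⟶ ω⟦i⟧) := hv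
    exact Subsingleton.elim _ _
  rw [hom_inD_shift_eq_zero' (algebraMap A B) R adj ω _ i hz f,
    hom_inD_shift_eq_zero' (algebraMap A B) R adj ω _ i hz g]

end Groth.Agent.Lib.Helper12.FinDual
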