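import Mathlib
import Groth.Agent.Lib.Helper12.FiniteNormalized
import Groth.Agent.Lib.Helper12.DualizingAscent
import Groth.Agent.Lib.Helper12.BassCriterion
import Groth.Prelude.Def_DualSh

/-!
# Upper shriek along a presentation: boundedness and finiteness of cohomology (helper12)
-/

set_option autoImplicit false
universe u
open CategoryTheory CategoryTheory.Limits

attribute [local instance] HasDerivedCategory.standard

namespace Groth.Agent.Lib.Helper12.Shriek
open Groth.Agent.Lib.Helper12 DRing Groth.Agent.Lib.Helper12.FlatHomBC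
open Groth.Agent.Lib.Helper36.InjAmp

/-- the right adjoint of restriction preserves lower bounds of cohomology -/
theorem isZero_HF_rightAdjoint_of_lt {A B : Type u} [CommRing A] [CommRing B] (φ : A →+* B)
    (R : Dual.D A ⥤ Dual.D B) (adj : DRing.restrictD φ ⊣ R) (K : Dual.D A) (a : ℤ)
    (hlow : ∀ j : ℤ, j < a → IsZero ((HF A j).obj K)) (i : ℤ) (hi : i < a) :
    IsZero ((HF B i).obj (R.obj K)) := by
  refine isZero_HF_of_hom_ring_eq_zero (R.obj K) i (fun f => ?_)
  refine FinDual.hom_inD_shift_eq_zero' φ R adj K B i (fun f' => ?_) f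
  have := Bass.subsingleton_hom_inD_of_lt (K := K) a hlow
    ((resSc φ).obj (ModuleCat.of B B)) i hi
  exact Subsingleton.elim _ _

/-- finiteness of cohomology of the right adjoint, for a finite ring homomorphism -/
theorem finite_HF_rightAdjoint' {A B : Type u} [CommRing A] [CommRing B] [IsNoetherianRing A]
    (φ : A →+* B) (hφ : φ.Finite)
    (R : Dual.D A ⥤ Dual.D B) (adj : DRing.restrictD φ ⊣ R) (K : Dual.D A) (a : ℤ)
    (hlow : ∀ j : ℤ, j < a → IsZero ((HF A j).obj K))
    (hfin : ∀ j : ℤ, Module.Finite A ((HF A j).obj K)) (i : ℤ) :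
    Module.Finite B ((HF B i).obj (R.obj K)) := by
  letI : Algebra A B := φ.toAlgebra
  have : Module.Finite A B := hφ
  exact FinAdj.finite_HF_rightAdjoint R adj K a hlow hfin i


/-- **boundedness below and finiteness of the cohomology of `φ^!(K)`** -/
theorem shriek_cohomology (R A : Type u) [CommRing R] [CommRing A] [IsNoetherianRing R]
    [IsNoetherianRing A] [Algebra R A] (n : ℕ) (ψ : MvPolynomial (Fin n) R →ₐ[R] A)
    (hψ : Function.Surjective ψ) [DRing.HasLBaseChange (algebraMap R (MvPolynomial (Fin n) R))]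
    (Rψ : Dual.D (MvPolynomial (Fin n) R) ⥤ Dual.D A)
    (adj : DRing.restrictD ψ.toRingHom ⊣ Rψ) (K : Dual.D R) (a : ℤ)
    (hKa : ∀ i : ℤ, i < a → Subsingleton (Dual.HD R K i)) :
    (∃ b : ℤ, ∀ i : ℤ, i < b → Subsingleton (Dual.HD A (Dual2.shriekVia n Rψ K) i)) ∧
      ((∀ i : ℤ, Module.Finite R (Dual.HD R K i)) →
        ∀ i : ℤ, Module.Finite A (Dual.HD A (Dual2.shriekVia n Rψ K) i)) := by
  let e : (DRing.LBaseChange (algebraMap R (MvPolynomial (Fin n) R))).obj K ≅
      (extScD R (MvPolynomial (Fin n) R)).obj K :=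
    (lBaseChangeIsoExtScD (A := R) (B := MvPolynomial (Fin n) R)).app K
  have hlow : ∀ j : ℤ, j < a → IsZero ((HF R j).obj K) := fun j hj => by
    have := hKa j hj
    exact ModuleCat.isZero_of_subsingleton _
  have hlow' : ∀ j : ℤ, j < a → IsZero ((HF (MvPolynomial (Fin n) R) j).obj
      ((extScD R (MvPolynomial (Fin n) R)).obj K)) := fun j hj =>
    isZero_HF_extScD K j (hlow j hj)
  have hψf : ψ.toRingHom.Finite := RingHom.Finite.of_surjective ψ.toRingHom hψ
  constructor
  · refine ⟨a - n, fun i hi => ?_⟩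
    have h1 : IsZero ((HF A (n + i)).obj (Rψ.obj ((extScD R (MvPolynomial (Fin n) R)).obj K))) :=
      isZero_HF_rightAdjoint_of_lt ψ.toRingHom Rψ adj _ a hlow' (n + i) (by omega)
    have h2 : IsZero ((HF A (n + i)).obj (Rψ.obj
        ((DRing.LBaseChange (algebraMap R (MvPolynomial (Fin n) R))).obj K))) :=
      h1.of_iso ((HF A (n + i)).mapIso (Rψ.mapIso e))
    exact ModuleCat.subsingleton_of_isZero (isZero_HF_shift _ (n : ℤ) i h2)
  · intro hfin i
    have hfin' : ∀ j : ℤ, Module.Finite (MvPolynomial (Fin n) R)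
        ((HF (MvPolynomial (Fin n) R) j).obj ((extScD R (MvPolynomial (Fin n) R)).obj K)) :=
      fun j => DualizingBC.finite_HF_extScD K j (hfin j)
    have h1 : Module.Finite A
        ((HF A (n + i)).obj (Rψ.obj ((extScD R (MvPolynomial (Fin n) R)).obj K))) :=
      finite_HF_rightAdjoint' ψ.toRingHom hψf Rψ adj _ a hlow' hfin' (n + i)
    have h2 : Module.Finite A ((HF A (n + i)).obj (Rψ.obj
        ((DRing.LBaseChange (algebraMap R (MvPolynomial (Fin n) R))).obj K))) :=
      Module.Finite.equiv ((HF A (n + i)).mapIso (Rψ.mapIso e)).symm.toLinearEquiv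
    exact HomFinite.finite_HF_shift _ (n : ℤ) i h2

end Groth.Agent.Lib.Helper12.Shriek
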