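import Mathlib
import Groth.Agent.Lib.Helper12.ShriekFinite
import Groth.Agent.Lib.Helper12.PolyDualizing

/-!
# Upper shriek along a presentation preserves dualizing complexes (helper12)
-/

set_option autoImplicit false
universe u
open CategoryTheory CategoryTheory.Limits
attribute [local instance] HasDerivedCategory.standard
namespace Groth.Agent.Lib.Helper12.Shriek
open Groth.Agent.Lib.Helper12 DRing Groth.Agent.Lib.Helper12.FlatHomBC
open Groth.Agent.Lib.Helper36.InjAmp
variable {A : Type u} [CommRing A]

/-- shifts of dualizing complexes are dualizing -/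
theorem isDualizing_shift (ω : Dual.D A) (hω : Dual.IsDualizing A ω) (n : ℤ) :
    Dual.IsDualizing A (ω⟦n⟧) := by
  obtain ⟨a, b, hab⟩ := hω.finite_injective_dimension
  refine ⟨hω.isNoetherianRing, ⟨a - n, b - n, fun M _ _ i hi => ?_⟩, fun i => ?_, ?_, fun i hi => ?_⟩
  · have := hab M (n + i) (by omega)
    exact ⟨fun f g => by
      rw [← cancel_mono ((shiftFunctorAdd' (Dual.D A) n i (n + i) rfl).app ω).inv]
      exact Subsingleton.elim _ _⟩
  · exact HomFinite.finite_HF_shift ω n i (hω.finite_cohomology _)
  · have h1 : ∀ x : A, x • 𝟙 (ω⟦n⟧) = (shiftFunctor (Dual.D A) n).map (x • 𝟙 ω) := fun x => by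
      rw [Functor.map_smul, CategoryTheory.Functor.map_id]
    constructor
    · intro x y hxy
      have hxy' : x • 𝟙 (ω⟦n⟧) = y • 𝟙 (ω⟦n⟧) := hxy
      rw [h1, h1] at hxy'
      exact hω.toEnd_bijective.1 ((shiftFunctor (Dual.D A) n).map_injective hxy')
    · intro f
      obtain ⟨g, rfl⟩ := (shiftFunctor (Dual.D A) n).map_surjective f
      obtain ⟨x, rfl⟩ := hω.toEnd_bijective.2 g
      exact ⟨x, h1 x⟩
  · have := hω.ext_self_subsingleton i hi
    refine ⟨fun f g => ?_⟩
    have key : ∀ f : ω⟦n⟧ ⟶ (ω⟦n⟧)⟦i⟧, f = 0 := fun f => by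
      obtain ⟨g, hg⟩ := (shiftFunctor (Dual.D A) n).map_surjective
        (f ≫ (shiftFunctorComm (Dual.D A) n i).hom.app ω)
      have hg0 : g = 0 := Subsingleton.elim _ _
      rw [hg0, CategoryTheory.Functor.map_zero] at hg
      exact (cancel_mono _).mp (hg.symm.trans zero_comp.symm)
    rw [key f, key g]


/-- the right adjoint of restriction along a finite ring homomorphism preserves dualizing
complexes -/
theorem isDualizing_rightAdjoint' {A B : Type u} [CommRing A] [CommRing B] [IsNoetherianRing A]
    [IsNoetherianRing B] (φ : A →+* B) (hφ : φ.Finite)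
    (R : Dual.D A ⥤ Dual.D B) (adj : DRing.restrictD φ ⊣ R) (ω : Dual.D A)
    (hω : Dual.IsDualizing A ω) : Dual.IsDualizing B (R.obj ω) := by
  letI : Algebra A B := φ.toAlgebra
  have : Module.Finite A B := hφ
  exact FinDual.isDualizing_rightAdjoint R adj ω hω

/-- transitivity of flat base change (on objects) -/
theorem extScD_trans (A B C : Type u) [CommRing A] [CommRing B] [CommRing C] [Algebra A B]
    [Algebra B C] [Algebra A C] [IsScalarTower A B C] [Module.Flat A B] [Module.Flat B C]
    [Module.Flat A C] (K : Dual.D A) :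
    Nonempty ((extScD A C).obj K ≅ (extScD B C).obj ((extScD A B).obj K)) := by
  obtain ⟨I, ⟨e⟩⟩ : ∃ I : Cx A, Nonempty (toD I ≅ K) :=
    ⟨_, ⟨DerivedCategory.Q.objObjPreimageIso K⟩⟩
  let ν : extSc A C ≅ extSc A B ⋙ extSc B C :=
    eqToIso (by
      change ModuleCat.extendScalars.{u, u, u} (algebraMap A C) = _
      rw [IsScalarTower.algebraMap_eq A B C]) ≪≫
      ModuleCat.extendScalarsComp (algebraMap A B) (algebraMap B C)
  let c : ((extSc A C).mapHomologicalComplex (ComplexShape.up ℤ)).obj I ≅
      ((extSc B C).mapHomologicalComplex (ComplexShape.up ℤ)).obj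
        (((extSc A B).mapHomologicalComplex (ComplexShape.up ℤ)).obj I) :=
    (NatIso.mapHomologicalComplex ν (ComplexShape.up ℤ)).app I
  exact ⟨(extScD A C).mapIso e.symm ≪≫ extScD_toD I ≪≫ DerivedCategory.Q.mapIso c ≪≫
    (extScD_toD _).symm ≪≫ (extScD B C).mapIso ((extScD_toD I).symm ≪≫ (extScD A B).mapIso e)⟩


/-- ascent of dualizing complexes along a flat surjective (e.g. bijective) ring map -/
theorem isDualizing_extScD_of_surjective {A B : Type u} [CommRing A] [CommRing B] [Algebra A B]
    [Module.Flat A B] [IsNoetherianRing A] [IsNoetherianRing B]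
    (hs : Function.Surjective (algebraMap A B)) (ω : Dual.D A) (hω : Dual.IsDualizing A ω) :
    Dual.IsDualizing B ((extScD A B).obj ω) := by
  refine DualizingAscent.isDualizing_extScD_of_surjective_mod (⊥ : Ideal A) ?_ ?_ ω hω
  · exact Ideal.Quotient.mk_surjective.comp hs
  · rw [Ideal.map_bot]
    exact bot_le

open Polynomial in
/-- **a dualizing complex base changes to a dualizing complex over a polynomial ring in finitely
many variables** -/
theorem isDualizing_extScD_mvPolynomial : ∀ (n : ℕ) (R : Type u) [CommRing R]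
    [IsNoetherianRing R] (ω : Dual.D R) (_ : Dual.IsDualizing R ω),
    Dual.IsDualizing (MvPolynomial (Fin n) R) ((extScD R (MvPolynomial (Fin n) R)).obj ω) := by
  intro n
  induction n with
  | zero =>
    intro R _ _ ω hω
    exact isDualizing_extScD_of_surjective (MvPolynomial.C_surjective (Fin 0)) ω hω
  | succ n ih =>
    intro R _ _ ω hω
    let P := MvPolynomial (Fin n) R
    let P' := MvPolynomial (Fin (n + 1)) R
    let σ : P' ≃ₐ[R] P[X] := MvPolynomial.finSuccEquiv R n
    letI : Algebra P[X] P' := (σ.symm : P[X] →+* P').toAlgebra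
    haveI : IsScalarTower R P[X] P' :=
      IsScalarTower.of_algebraMap_eq (fun r => (σ.symm.commutes r).symm)
    have hsurj : Function.Surjective (algebraMap P[X] P') := σ.symm.surjective
    haveI : Module.Flat R P[X] := Module.Flat.trans R P P[X]
    haveI : Module.Flat P[X] P' := by
      let el : P' ≃ₗ[P[X]] P[X] :=
        { toFun := σ
          invFun := σ.symm
          left_inv := σ.left_inv
          right_inv := σ.right_inv
          map_add' := map_add σ
          map_smul' := fun q p' => by
            change σ (σ.symm q * p') = q * σ p'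
            rw [map_mul, AlgEquiv.apply_symm_apply] }
      exact Module.Flat.of_linearEquiv el
    have h1 : Dual.IsDualizing P ((extScD R P).obj ω) := ih R ω hω
    have h2 : Dual.IsDualizing P[X] ((extScD P P[X]).obj ((extScD R P).obj ω)) :=
      PolyDual.isDualizing_extScD_polynomial _ h1
    have h3 := isDualizing_extScD_of_surjective hsurj _ h2
    obtain ⟨e1⟩ := extScD_trans R P P[X] ω
    obtain ⟨e2⟩ := extScD_trans R P[X] P' ω
    exact DualizingBC.isDualizing_of_iso
      ((extScD P[X] P').mapIso e1.symm ≪≫ e2.symm) h3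


/-- **`φ^!(ω)` is dualizing** -/
theorem isDualizing_shriek (R A : Type u) [CommRing R] [CommRing A] [IsNoetherianRing R]
    [IsNoetherianRing A] [Algebra R A] (n : ℕ) (ψ : MvPolynomial (Fin n) R →ₐ[R] A)
    (hψ : Function.Surjective ψ) [DRing.HasLBaseChange (algebraMap R (MvPolynomial (Fin n) R))]
    (Rψ : Dual.D (MvPolynomial (Fin n) R) ⥤ Dual.D A)
    (adj : DRing.restrictD ψ.toRingHom ⊣ Rψ) (ω : Dual.D R) (hω : Dual.IsDualizing R ω) :
    Dual.IsDualizing A (Dual2.shriekVia n Rψ ω) := by
  let e : (DRing.LBaseChange (algebraMap R (MvPolynomial (Fin n) R))).obj ω ≅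
      (extScD R (MvPolynomial (Fin n) R)).obj ω :=
    (lBaseChangeIsoExtScD (A := R) (B := MvPolynomial (Fin n) R)).app ω
  have h1 := isDualizing_extScD_mvPolynomial n R ω hω
  have h2 := DualizingBC.isDualizing_of_iso e.symm h1
  have hψf : ψ.toRingHom.Finite := RingHom.Finite.of_surjective ψ.toRingHom hψ
  have h3 := isDualizing_rightAdjoint' ψ.toRingHom hψf Rψ adj _ h2
  exact isDualizing_shift _ h3 n

end Groth.Agent.Lib.Helper12.Shriek
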