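import Mathlib
import Groth.Agent.Lib.Helper12.FiniteDualizing
import Groth.Agent.Lib.Helper12.ModDualFinite
import Groth.Agent.Lib.Helper12.ShriekDualizing

/-!
# The coextended complex of a dualizing complex is dualizing (no right adjoint needed);
existence of dualizing complexes for algebras essentially of finite type (helper12)
-/

set_option autoImplicit false
universe u
open CategoryTheory CategoryTheory.Limits
attribute [local instance] HasDerivedCategory.standard
namespace Groth.Agent.Lib.Helper12.CoextCx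
open Groth.Agent.Lib.Helper12 DRing Groth.Agent.Lib.Helper12.ModDual
open Groth.Agent.Lib.Helper36.InjAmp
variable {A B : Type u} [CommRing A] [CommRing B] (φ : A →+* B)

lemma rcAdj_homEquiv_add {Y : ModuleCat.{u} B} {N : ModuleCat.{u} A}
    (f g : (resSc φ).obj Y ⟶ N) :
    (rcAdj φ).homEquiv Y N (f + g) = (rcAdj φ).homEquiv Y N f + (rcAdj φ).homEquiv Y N g := by
  simp only [Adjunction.homEquiv_unit, Functor.map_add, Preadditive.comp_add]

lemma rcAdj_homEquiv_zero (Y : ModuleCat.{u} B) (N : ModuleCat.{u} A) :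
    (rcAdj φ).homEquiv Y N 0 = 0 := by
  simp only [Adjunction.homEquiv_unit, Functor.map_zero, comp_zero]

/-- components of a homotopy with clean types -/
def hcmp {X : Cx B} {E : Cx A} {f g : (restrictCx φ).obj X ⟶ E} (H : Homotopy f g) (i j : ℤ) :
    (resSc φ).obj (X.X i) ⟶ E.X j := H.hom i j

/-- the transported homotopy components -/
noncomputable def hW {X : Cx B} {E : Cx A} {f g : (restrictCx φ).obj X ⟶ E} (H : Homotopy f g)
    (i j : ℤ) : X.X i ⟶ (W φ E).X j := (rcAdj φ).homEquiv _ _ (hcmp φ H i j)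

/-- transport of a null-homotopy along the chain-level adjunction -/
noncomputable def adjHomotopy {X : Cx B} {E : Cx A} (γ : X ⟶ W φ E)
    (H : Homotopy ((restrictCx φ).map γ ≫ ev φ E) 0) : Homotopy γ 0 where
  hom := hW φ H
  zero i j hij := by
    have h0 : hcmp φ H i j = 0 := H.zero i j hij
    change (rcAdj φ).homEquiv _ _ (hcmp φ H i j) = 0
    rw [h0]
    exact rcAdj_homEquiv_zero φ _ _
  comm i := by
    have hc := H.comm i
    rw [dNext_eq _ (show (ComplexShape.up ℤ).Rel i (i + 1) by simp),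
      prevD_eq _ (show (ComplexShape.up ℤ).Rel (i - 1) i by simp),
      HomologicalComplex.zero_f, add_zero] at hc
    rw [dNext_eq _ (show (ComplexShape.up ℤ).Rel i (i + 1) by simp),
      prevD_eq _ (show (ComplexShape.up ℤ).Rel (i - 1) i by simp),
      HomologicalComplex.zero_f, add_zero]
    let γi : X.X i ⟶ (coext φ).obj (E.X i) := γ.f i
    have hc' : (resSc φ).map γi ≫ (rcAdj φ).counit.app (E.X i) =
        (resSc φ).map (X.d i (i + 1)) ≫ hcmp φ H (i + 1) i +
          hcmp φ H i (i - 1) ≫ E.d (i - 1) i := hc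
    have h3 : (rcAdj φ).homEquiv _ _ ((resSc φ).map γi ≫ (rcAdj φ).counit.app (E.X i)) = γi :=
      (congrArg ((rcAdj φ).homEquiv _ _) ((rcAdj φ).homEquiv_counit _ _ γi).symm).trans
        (((rcAdj φ).homEquiv _ _).apply_symm_apply γi)
    change γi = X.d i (i + 1) ≫ (rcAdj φ).homEquiv _ _ (hcmp φ H (i + 1) i) +
      (rcAdj φ).homEquiv _ _ (hcmp φ H i (i - 1)) ≫ (coext φ).map (E.d (i - 1) i)
    have e1 : (rcAdj φ).homEquiv _ _ ((resSc φ).map (X.d i (i + 1)) ≫ hcmp φ H (i + 1) i) =
        X.d i (i + 1) ≫ (rcAdj φ).homEquiv _ _ (hcmp φ H (i + 1) i) :=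
      Adjunction.homEquiv_naturality_left _ _ _
    have e2 : (rcAdj φ).homEquiv _ _ (hcmp φ H i (i - 1) ≫ E.d (i - 1) i) =
        (rcAdj φ).homEquiv _ _ (hcmp φ H i (i - 1)) ≫ (coext φ).map (E.d (i - 1) i) :=
      Adjunction.homEquiv_naturality_right _ _ _
    rw [← h3, hc', rcAdj_homEquiv_add]
    exact congrArg₂ (· + ·) e1 e2


/-- injectivity of the adjunction map for an arbitrary source complex -/
lemma up_injective₀ (E : Cx A) [E.IsKInjective] [(W φ E).IsKInjective] (X₀ : Cx B)
    (y : toD X₀ ⟶ toD (W φ E)) (hy : (restrictD φ).map y ≫ c₀ φ E = 0) : y = 0 := by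
  obtain ⟨γ, rfl⟩ := exists_map_of_isKInjective _ (W φ E) y
  rw [restrictD_map_Q_comp_c₀] at hy
  have h1 : DerivedCategory.Q.map ((restrictCx φ).map γ ≫ ev φ E) = DerivedCategory.Q.map 0 := by
    rw [CategoryTheory.Functor.map_zero]
    exact (cancel_epi _).mp (hy.trans comp_zero.symm)
  obtain ⟨H⟩ := homotopy_of_Q_map_eq_of_isKInjective _ E _ 0 h1
  rw [DerivedCategory.Q_map_eq_of_homotopy _ (adjHomotopy φ γ H),
    CategoryTheory.Functor.map_zero]

/-- **the universal property of the coextended complex**: `Hom_B(X, Hom_A(B, E)) ≅ Hom_A(X, E)`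
in the derived categories -/
theorem up_bijective (E : Cx A) [E.IsKInjective] [(W φ E).IsKInjective] (X : Dual.D B) :
    Function.Bijective (fun y : X ⟶ toD (W φ E) => (restrictD φ).map y ≫ c₀ φ E) := by
  obtain ⟨X₀, ⟨e⟩⟩ : ∃ X₀ : Cx B, Nonempty (toD X₀ ≅ X) :=
    ⟨_, ⟨DerivedCategory.Q.objObjPreimageIso X⟩⟩
  constructor
  · intro y y' hyy
    have hyy' : (restrictD φ).map y ≫ c₀ φ E = (restrictD φ).map y' ≫ c₀ φ E := hyy
    have h1 : (restrictD φ).map (e.hom ≫ (y - y')) ≫ c₀ φ E = 0 := by
      rw [Functor.map_comp, Functor.map_sub, Category.assoc, Preadditive.sub_comp, hyy',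
        sub_self, comp_zero]
    have h2 := up_injective₀ φ E X₀ _ h1
    have h3 : y - y' = 0 := (cancel_epi e.hom).mp (h2.trans comp_zero.symm)
    exact sub_eq_zero.mp h3
  · intro g
    obtain ⟨y₀, hy₀⟩ := test_surjective φ E X₀ ((restrictD φ).map e.hom ≫ g)
    refine ⟨e.inv ≫ y₀, ?_⟩
    change (restrictD φ).map (e.inv ≫ y₀) ≫ c₀ φ E = g
    rw [Functor.map_comp, Category.assoc, hy₀, ← Category.assoc, ← Functor.map_comp,
      e.inv_hom_id, CategoryTheory.Functor.map_id, Category.id_comp]


section Main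
open FinDual

variable [IsNoetherianRing A] (E : Cx A) (a b : ℤ) (hE : VanishesOutside E a b)
  (hinj : ∀ i, Module.Injective A (E.X i)) (hω : Dual.IsDualizing A (toD E))
  [Module.Finite A (BA φ)]

include hE hinj hω

/-- **the coextended complex `Hom_A(B, E)` of a dualizing complex of injectives is a dualizing
complex over `B`**, for `B` finite over `A` -/
theorem isDualizing_coext [IsNoetherianRing B] : Dual.IsDualizing B (toD (W φ E)) := by
  have hinj' : ∀ j, Injective (E.X j) := fun j => by
    have := hinj j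
    exact Module.injective_object_of_injective_module A (E.X j)
  have hGE : E.IsStrictlyGE a := by
    rw [CochainComplex.isStrictlyGE_iff]
    exact fun j hj => hE j (Or.inl hj)
  have hKI : E.IsKInjective := CochainComplex.isKInjective_of_injective E a
  have hKW := isKInjective_W φ E a (fun j hj => hE j (Or.inl hj)) hinj'
  have hrefl := refl_dualizing E a b hE hinj hω (BA φ)
  have hup := up_bijective φ E
  have hΨ0 : ∀ (X : Dual.D B) (g : X ⟶ toD (W φ E)),
      (restrictD φ).map g ≫ c₀ φ E = 0 → g = 0 := fun X g hg =>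
    (hup X).1 (hg.trans (by
      change 0 = (restrictD φ).map 0 ≫ c₀ φ E
      rw [CategoryTheory.Functor.map_zero, zero_comp]))
  obtain ⟨a', b', hab⟩ := hω.finite_injective_dimension
  refine ⟨inferInstance, ⟨a', b', fun N _ _ i hi => ⟨fun f g => ?_⟩⟩, fun i => ?_, ?_,
    fun n hn => ⟨fun f g => ?_⟩⟩
  · -- finite injective dimension
    have key : ∀ f : Dual.inD B N ⟶ (toD (W φ E))⟦i⟧, f = 0 := by
      refine (hom_shift_eq_zero_iff _ _ i).mpr (fun g => hΨ0 _ g ?_)
      let κ : (restrictD φ).obj ((Dual.inD B N)⟦-i⟧) ≅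
          (Dual.inD A ((resSc φ).obj (ModuleCat.of B N)))⟦-i⟧ :=
        ((restrictD φ).commShiftIso (-i)).app _ ≪≫
          (shiftFunctor _ (-i)).mapIso
            (((resSc φ).mapDerivedCategorySingleFunctor 0).app (ModuleCat.of B N))
      have h2 : ∀ g' : (Dual.inD A ((resSc φ).obj (ModuleCat.of B N)))⟦-i⟧ ⟶ toD E, g' = 0 :=
        (hom_shift_eq_zero_iff _ _ i).mp (fun f' => by
          have := hab ((resSc φ).obj (ModuleCat.of B N)) i hi
          exact Subsingleton.elim _ _)
      exact (cancel_epi κ.inv).mp ((h2 _).trans comp_zero.symm)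
    rw [key f, key g]
  · -- finite cohomology
    have h1 : Module.Finite A ((HF A i).obj (D E (BA φ))) :=
      finD_of_finite E hinj' hω.finite_cohomology a (fun i hi => hE i (Or.inl hi)) (BA φ) i
    have h2 : Module.Finite A ((HF A i).obj ((restrictD φ).obj (toD (W φ E)))) :=
      Module.Finite.equiv ((HF A i).mapIso (ι φ E)).symm.toLinearEquiv
    have h2' : Module.Finite A ((restrictD φ ⋙ HF A i).obj (toD (W φ E))) := h2
    have h3 : Module.Finite A ((resSc φ).obj ((HF B i).obj (toD (W φ E)))) :=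
      Module.Finite.equiv ((HFRestrictIso φ i).app (toD (W φ E))).toLinearEquiv
    exact finite_of_finite_resSc φ _ h3
  · -- End
    let Φ : (toD (W φ E) ⟶ toD (W φ E)) → ((restrictD φ).obj (toD (W φ E)) ⟶ toD E) :=
      fun f => (restrictD φ).map f ≫ c₀ φ E
    have hΦ : Function.Bijective Φ := hup _
    have hΦb : ∀ x : B, Φ (x • 𝟙 _) = (ι φ E).hom ≫ η E (unitIsoD E) (BA φ) x :=
      fun x => map_smul_comp_c₀ φ E x
    constructor
    · intro x x' hxx
      have h1 : Φ (x • 𝟙 _) = Φ (x' • 𝟙 _) := congrArg Φ hxx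
      rw [hΦb, hΦb] at h1
      exact hrefl.1.1 ((cancel_epi _).mp h1)
    · intro f
      obtain ⟨x, hx⟩ := hrefl.1.2 ((ι φ E).inv ≫ Φ f)
      let x' : B := x
      have hx' : η E (unitIsoD E) (BA φ) x' = (ι φ E).inv ≫ Φ f := hx
      refine ⟨x', hΦ.1 ?_⟩
      change Φ (x' • 𝟙 _) = Φ f
      rw [hΦb, hx', Iso.hom_inv_id_assoc]
  · -- no self-maps of nonzero degree
    have key : ∀ f : toD (W φ E) ⟶ (toD (W φ E))⟦n⟧, f = 0 := by
      refine (hom_shift_eq_zero_iff _ _ n).mpr (fun g => hΨ0 _ g ?_)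
      let κ : (restrictD φ).obj ((toD (W φ E))⟦-n⟧) ≅ (D E (BA φ))⟦-n⟧ :=
        ((restrictD φ).commShiftIso (-n)).app _ ≪≫ (shiftFunctor _ (-n)).mapIso (ι φ E)
      have h2 := hrefl.2 (-n) (by omega) (κ.inv ≫ (restrictD φ).map g ≫ c₀ φ E)
      exact (cancel_epi κ.inv).mp (h2.trans comp_zero.symm)
    rw [key f, key g]

end Main


/-- a finite algebra over a ring with a dualizing complex has a dualizing complex -/
theorem exists_dualizing_of_finite {A B : Type u} [CommRing A] [CommRing B] [IsNoetherianRing A]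
    [IsNoetherianRing B] (φ : A →+* B) (hφ : φ.Finite) (ω : Dual.D A)
    (hω : Dual.IsDualizing A ω) : ∃ ω' : Dual.D B, Dual.IsDualizing B ω' := by
  obtain ⟨a, b, E, hE, hinj, ⟨e⟩⟩ := exists_injective_model ω hω
  have hωE : Dual.IsDualizing A (toD E) := DualizingBC.isDualizing_of_iso e.symm hω
  letI : Algebra A B := φ.toAlgebra
  have hfin : Module.Finite A B := hφ
  have hfin' : Module.Finite A (BA φ) :=
    Module.Finite.equiv (PolyDual.resScEquiv (A := A) (B := B) B).symm
  exact ⟨_, isDualizing_coext φ E a b hE hinj hωE⟩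

/-- **algebras essentially of finite type over a ring with a dualizing complex have a dualizing
complex** -/
theorem exists_dualizing_of_essFiniteType (A : Type u) [CommRing A] [IsNoetherianRing A]
    (ω : Dual.D A) (hω : Dual.IsDualizing A ω) (B : Type u) [CommRing B] [Algebra A B]
    [Algebra.EssFiniteType A B] : ∃ ω' : Dual.D B, Dual.IsDualizing B ω' := by
  let C := Algebra.EssFiniteType.subalgebra A B
  let M := Algebra.EssFiniteType.submonoid A B
  obtain ⟨n, f, hf⟩ := Algebra.FiniteType.iff_quotient_mvPolynomial''.mp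
    (inferInstance : Algebra.FiniteType A C)
  have hP := Shriek.isDualizing_extScD_mvPolynomial n A ω hω
  haveI : IsNoetherianRing C := Algebra.FiniteType.isNoetherianRing A C
  obtain ⟨ωC, hωC⟩ := exists_dualizing_of_finite f.toRingHom
    (RingHom.Finite.of_surjective f.toRingHom hf) _ hP
  haveI : IsLocalization M B := Algebra.EssFiniteType.isLocalization A B
  haveI : Module.Flat C B := IsLocalization.flat B M
  haveI : IsNoetherianRing B := IsLocalization.isNoetherianRing M B inferInstance
  exact ⟨_, DualizingBC.isDualizing_extScD_of_ideals_extended (A := C) (B := B)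
    (fun J => ⟨J.under C, IsLocalization.map_under M B J⟩) ωC hωC⟩

end Groth.Agent.Lib.Helper12.CoextCx
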