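import Mathlib
import Groth.Agent.Lib.Helper12.CoextDualizing
import Groth.Agent.Lib.Helper12.ResidueExtMain
import Groth.Agent.Lib.Helper12.PolyDualizing

/-!
# The cohomology of the coextended complex `Hom_A(B, E)` computes `Ext_A(B, E)` linearly
(helper12)
-/

set_option autoImplicit false
universe u
open CategoryTheory CategoryTheory.Limits

attribute [local instance] HasDerivedCategory.standard

namespace Groth.Agent.Lib.Helper12.CoextCx
open Groth.Agent.Lib.Helper12 DRing Groth.Agent.Lib.Helper12.ModDual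
open Groth.Agent.Lib.Helper36.InjAmp Groth.Agent.Lib.Helper12.ResExt Groth.Agent.Lib.Helper12.FlatHomBC

section shift

variable {A : Type u} [CommRing A]

lemma σ_surjective (K : Dual.D A) (Y : ModuleCat.{u} A) (b i c : ℤ) (h : c + (-b) = i) :
    Function.Surjective (σ K Y b i c h) := by
  intro g
  obtain ⟨f, hf⟩ := (shiftFunctor (Dual.D A) (-b)).map_surjective
    ((singleFunctorShiftIso b Y).inv ≫ g ≫ ((shiftFunctorAdd' (Dual.D A) c (-b) i h).app K).hom)
  refine ⟨f, ?_⟩
  rw [σ_apply, hf]
  simp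

/-- `Hom(Y[0], K[d]) ≃ Hom(Y[-d], K)`, linearly -/
noncomputable def singleHomEquiv (K : Dual.D A) (Y : ModuleCat.{u} A) (d : ℤ) :
    (Dual.inD A Y ⟶ K⟦d⟧) ≃ₗ[A] (toD (singleCx d Y) ⟶ K) :=
  LinearEquiv.ofBijective
    (Linear.leftComp A _ (toDSingleIso' d Y).hom ∘ₗ
      Linear.rightComp A _ ((shiftFunctorZero (Dual.D A) ℤ).hom.app K) ∘ₗ
      σ K Y d 0 d (by omega)) (by
    constructor
    · intro f g hfg
      have h1 : (toDSingleIso' d Y).hom ≫ σ K Y d 0 d (by omega) f ≫
          (shiftFunctorZero (Dual.D A) ℤ).hom.app K =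
          (toDSingleIso' d Y).hom ≫ σ K Y d 0 d (by omega) g ≫
          (shiftFunctorZero (Dual.D A) ℤ).hom.app K := hfg
      rw [cancel_epi, cancel_mono] at h1
      exact σ_injective _ _ _ _ _ _ h1
    · intro g
      obtain ⟨f, hf⟩ := σ_surjective K Y d 0 d (by omega)
        ((toDSingleIso' d Y).inv ≫ g ≫ (shiftFunctorZero (Dual.D A) ℤ).inv.app K)
      refine ⟨f, ?_⟩
      change (toDSingleIso' d Y).hom ≫ σ K Y d 0 d (by omega) f ≫
          (shiftFunctorZero (Dual.D A) ℤ).hom.app K = g
      rw [hf, Category.assoc, Category.assoc, Iso.hom_inv_id_assoc, Iso.inv_hom_id_app]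
      exact Category.comp_id g)

end shift

section Coh
variable {A B : Type u} [CommRing A] [CommRing B] (φ : A →+* B)

/-- restriction of scalars of a single complex -/
noncomputable def restrictSingle (d : ℤ) (M : ModuleCat.{u} B) :
    (restrictD φ).obj (toD (singleCx d M)) ≅ toD (singleCx d ((resSc φ).obj M)) :=
  restrictD_toD φ _ ≪≫
    DerivedCategory.Q.mapIso ((HomologicalComplex.singleMapHomologicalComplex (resSc φ)
      (ComplexShape.up ℤ) d).app M)

end Coh

section Loc
variable {A B : Type u} [CommRing A] [CommRing B] [Algebra A B]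

lemma nontrivial_localizedModule_iff_of_linearEquiv (hs : Function.Surjective (algebraMap A B))
    (q : Ideal B) [q.IsPrime] (M : Type*) [AddCommGroup M] [Module B M] [Module A M]
    [IsScalarTower A B M] (N : Type*) [AddCommGroup N] [Module A N] (e : M ≃ₗ[A] N) :
    Nontrivial (LocalizedModule q.primeCompl M) ↔
      Nontrivial (LocalizedModule (q.comap (algebraMap A B)).primeCompl N) := by
  rw [← not_subsingleton_iff_nontrivial, ← not_subsingleton_iff_nontrivial,
    LocalizedModule.subsingleton_iff, LocalizedModule.subsingleton_iff]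
  refine not_congr ⟨fun h n => ?_, fun h m => ?_⟩
  · obtain ⟨r, hr, hrm⟩ := h (e.symm n)
    obtain ⟨a, rfl⟩ := hs r
    refine ⟨a, hr, ?_⟩
    rw [algebraMap_smul, ← map_smul] at hrm
    exact e.symm.injective (hrm.trans (map_zero _).symm)
  · obtain ⟨a, ha, ham⟩ := h (e m)
    refine ⟨algebraMap A B a, ha, ?_⟩
    rw [algebraMap_smul]
    rw [← map_smul] at ham
    exact e.injective (ham.trans (map_zero _).symm)

/-- `A ⧸ f⁻¹ q ≃ B ⧸ q` for surjective `f` -/
noncomputable def quotientComapEquiv (hs : Function.Surjective (algebraMap A B)) (q : Ideal B) :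
    (A ⧸ q.comap (algebraMap A B)) ≃ₗ[A] (B ⧸ q) :=
  LinearEquiv.ofBijective
    (Ideal.quotientMapₐ q (Algebra.ofId A B) le_rfl).toLinearMap
    ⟨Ideal.quotientMap_injective, Ideal.quotientMap_surjective (H := le_rfl) hs⟩

attribute [local instance] FinAdj.homModA'

/-- `Hom_B(N, (R K)[i]) ≃ Hom_A(N_A, K[i])`, `A`-linearly -/
noncomputable def extAdjEquiv (R : Dual.D A ⥤ Dual.D B)
    (adj : DRing.restrictD (algebraMap A B) ⊣ R) (K : Dual.D A) (N : ModuleCat.{u} B) (i : ℤ) :
    (Dual.inD B N ⟶ (R.obj K)⟦i⟧) ≃ₗ[A]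
      (Dual.inD A ((resSc (algebraMap A B)).obj N) ⟶ K⟦i⟧) :=
  ((singleHomEquiv (R.obj K) N i).restrictScalars A) ≪≫ₗ
    FinAdj.adjLinearEquiv R adj _ K ≪≫ₗ
    Linear.homCongr A (restrictSingle (algebraMap A B) i N) (Iso.refl K) ≪≫ₗ
    (singleHomEquiv K ((resSc (algebraMap A B)).obj N) i).symm

end Loc

section Coh'
variable {A B : Type u} [CommRing A] [CommRing B] [Algebra A B]
attribute [local instance] FinAdj.homModA'

/-- the universal-property map, as an `A`-linear equivalence -/
noncomputable def upEquiv (E : Cx A) [E.IsKInjective] [(W (algebraMap A B) E).IsKInjective]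
    (X : Dual.D B) :
    (X ⟶ toD (W (algebraMap A B) E)) ≃ₗ[A] ((restrictD (algebraMap A B)).obj X ⟶ toD E) :=
  LinearEquiv.ofBijective
    { toFun := fun y => (restrictD (algebraMap A B)).map y ≫ c₀ (algebraMap A B) E
      map_add' := fun y y' => by rw [Functor.map_add, Preadditive.add_comp]
      map_smul' := fun a y => by
        have : a • y = algebraMap A B a • y := rfl
        rw [this, FinAdj.restrictD_map_smul, Linear.smul_comp]
        rfl }
    (up_bijective (algebraMap A B) E X)

/-- `Hom(B[-d], K) ≃ H^d(K)` as an `A`-linear equivalence -/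
noncomputable def homSingleEquivHF (K : Dual.D B) (d : ℤ) :
    (toD (singleCx d (ModuleCat.of B B)) ⟶ K) ≃ₗ[A]
      (resSc (algebraMap A B)).obj ((HF B d).obj K) :=
  let e1 : (toD (singleCx d (ModuleCat.of B B)) ⟶ K) ≃ₗ[B] (HF B d).obj K :=
    (LinearEquiv.ofBijective (homClassLin d (ModuleCat.of B B) K)
      (bijective_homClassLin d _ _)) ≪≫ₗ
    ((ModuleCat.homLinearEquiv (S := B)) ≪≫ₗ LinearMap.ringLmapEquivSelf B B _)
  { toFun := fun y => e1 y
    invFun := fun x => e1.symm x
    left_inv := e1.left_inv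
    right_inv := e1.right_inv
    map_add' := e1.map_add
    map_smul' := fun a y => e1.map_smul (algebraMap A B a) y }

end Coh'

end Groth.Agent.Lib.Helper12.CoextCx
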