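import Mathlib

/-!
# Cone frames: an explicit, index-friendly model of the terms of a mapping cone

A `ConeFrame A B` consists of objects `C j` which are biproducts of `A (j+1)` and `B j`.
Given a family `g j : A j ⟶ C j` and `dB j : B j ⟶ B (j+1)` we get "cone differentials"
`Phi j : C j ⟶ C (j+1)`.  We relate this to Mathlib's `mappingCone`, and prove the abstract algebra
of (approximate) contracting homotopies needed for lifting problems.
-/

set_option autoImplicit false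

open CategoryTheory CategoryTheory.Limits

namespace Groth.Agent.Lib.Helper12

universe v v' u u'

variable {V : Type u} [Category.{v} V] [Preadditive V]

/-- objects `C j` which are biproducts of `A (j+1)` and `B j` -/
structure ConeFrame (A B : ℤ → V) where
  C : ℤ → V
  inl : ∀ j, A (j + 1) ⟶ C j
  inr : ∀ j, B j ⟶ C j
  fst : ∀ j, C j ⟶ A (j + 1)
  snd : ∀ j, C j ⟶ B j
  inl_fst : ∀ j, inl j ≫ fst j = 𝟙 _
  inl_snd : ∀ j, inl j ≫ snd j = 0
  inr_fst : ∀ j, inr j ≫ fst j = 0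
  inr_snd : ∀ j, inr j ≫ snd j = 𝟙 _
  total : ∀ j, fst j ≫ inl j + snd j ≫ inr j = 𝟙 _

namespace ConeFrame

variable {A B : ℤ → V} (fr : ConeFrame A B)

attribute [reassoc (attr := simp)] inl_fst inl_snd inr_fst inr_snd

lemma ext_from {j : ℤ} {Z : V} {a b : fr.C j ⟶ Z} (h1 : fr.inl j ≫ a = fr.inl j ≫ b)
    (h2 : fr.inr j ≫ a = fr.inr j ≫ b) : a = b := by
  rw [← Category.id_comp a, ← Category.id_comp b, ← fr.total j, Preadditive.add_comp,
    Preadditive.add_comp, Category.assoc, Category.assoc, Category.assoc, Category.assoc, h1, h2]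

lemma ext_to {j : ℤ} {Z : V} {a b : Z ⟶ fr.C j} (h1 : a ≫ fr.fst j = b ≫ fr.fst j)
    (h2 : a ≫ fr.snd j = b ≫ fr.snd j) : a = b := by
  rw [← Category.comp_id a, ← Category.comp_id b, ← fr.total j, Preadditive.comp_add,
    Preadditive.comp_add, ← Category.assoc, ← Category.assoc, ← Category.assoc, ← Category.assoc,
    h1, h2]

/-- the cone differential in degree `j`, attached to a map `t'` in degree `j + 1` -/
def Phi1 (j : ℤ) (t' : A (j + 1) ⟶ fr.C (j + 1)) (dBj : B j ⟶ B (j + 1)) :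
    fr.C j ⟶ fr.C (j + 1) :=
  fr.fst j ≫ t' + fr.snd j ≫ dBj ≫ fr.inr (j + 1)

/-- the cone differential attached to a family `g` -/
def Phi (g : ∀ j, A j ⟶ fr.C j) (dB : ∀ j, B j ⟶ B (j + 1)) (j : ℤ) : fr.C j ⟶ fr.C (j + 1) :=
  fr.Phi1 j (g (j + 1)) (dB j)

lemma Phi_eq (g : ∀ j, A j ⟶ fr.C j) (dB : ∀ j, B j ⟶ B (j + 1)) (j : ℤ) :
    fr.Phi g dB j = fr.fst j ≫ g (j + 1) + fr.snd j ≫ dB j ≫ fr.inr (j + 1) := rfl

@[reassoc]
lemma inl_Phi (g : ∀ j, A j ⟶ fr.C j) (dB : ∀ j, B j ⟶ B (j + 1)) (j : ℤ) :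
    fr.inl j ≫ fr.Phi g dB j = g (j + 1) := by
  simp [Phi, Phi1]

@[reassoc]
lemma inr_Phi (g : ∀ j, A j ⟶ fr.C j) (dB : ∀ j, B j ⟶ B (j + 1)) (j : ℤ) :
    fr.inr j ≫ fr.Phi g dB j = dB j ≫ fr.inr (j + 1) := by
  simp [Phi, Phi1]

lemma Phi_comp_Phi (g : ∀ j, A j ⟶ fr.C j) (dB : ∀ j, B j ⟶ B (j + 1)) (j : ℤ)
    (hg : g (j + 1) ≫ fr.Phi g dB (j + 1) = 0) (hd : dB j ≫ dB (j + 1) = 0) :
    fr.Phi g dB j ≫ fr.Phi g dB (j + 1) = 0 := by
  apply fr.ext_from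
  · rw [inl_Phi_assoc, hg, comp_zero]
  · rw [inr_Phi_assoc, inr_Phi, ← Category.assoc, hd, zero_comp, comp_zero]

/-- the image of a cone frame under an additive functor -/
def map {W : Type u'} [Category.{v'} W] [Preadditive W] (G : V ⥤ W) [G.Additive] :
    ConeFrame (fun j => G.obj (A j)) (fun j => G.obj (B j)) where
  C j := G.obj (fr.C j)
  inl j := G.map (fr.inl j)
  inr j := G.map (fr.inr j)
  fst j := G.map (fr.fst j)
  snd j := G.map (fr.snd j)
  inl_fst j := by rw [← G.map_comp, fr.inl_fst, G.map_id]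
  inl_snd j := by rw [← G.map_comp, fr.inl_snd, G.map_zero]
  inr_fst j := by rw [← G.map_comp, fr.inr_fst, G.map_zero]
  inr_snd j := by rw [← G.map_comp, fr.inr_snd, G.map_id]
  total j := by rw [← G.map_comp, ← G.map_comp, ← G.map_add, fr.total, G.map_id]

lemma map_Phi {W : Type u'} [Category.{v'} W] [Preadditive W] (G : V ⥤ W) [G.Additive]
    (g : ∀ j, A j ⟶ fr.C j) (dB : ∀ j, B j ⟶ B (j + 1)) (j : ℤ) :
    G.map (fr.Phi g dB j) =
      (fr.map G).Phi (fun j => G.map (g j)) (fun j => G.map (dB j)) j := by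
  simp only [Phi, Phi1, G.map_add, CategoryTheory.Functor.map_comp]
  rfl

end ConeFrame

/-! ### abstract algebra of approximate contractions -/

section Contraction

variable {C : ℤ → V} (Φ : ∀ j, C j ⟶ C (j + 1)) (σ : ∀ j, C (j + 1) ⟶ C j)

/-- `dσ + σd` -/
def uMap (j : ℤ) : C (j + 1) ⟶ C (j + 1) := σ j ≫ Φ j + Φ (j + 1) ≫ σ (j + 1)

lemma uMap_comm (j : ℤ) (h1 : Φ j ≫ Φ (j + 1) = 0) (h2 : Φ (j + 1) ≫ Φ (j + 1 + 1) = 0) :
    uMap Φ σ j ≫ Φ (j + 1) = Φ (j + 1) ≫ uMap Φ σ (j + 1) := by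
  simp only [uMap, Preadditive.add_comp, Preadditive.comp_add, Category.assoc, h1, comp_zero,
    zero_add]
  rw [← Category.assoc (Φ (j + 1)) (Φ (j + 1 + 1)), h2, zero_comp, add_zero]

/-- cycles are boundaries, in the presence of an approximate contraction -/
lemma factor_of_uMap_isIso (j : ℤ) (h1 : Φ j ≫ Φ (j + 1) = 0)
    (h2 : Φ (j + 1) ≫ Φ (j + 1 + 1) = 0) [IsIso (uMap Φ σ j)] [IsIso (uMap Φ σ (j + 1))]
    {Y : V} (y : Y ⟶ C (j + 1)) (hy : y ≫ Φ (j + 1) = 0) :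
    (y ≫ inv (uMap Φ σ j) ≫ σ j) ≫ Φ j = y := by
  have hcomm := uMap_comm Φ σ j h1 h2
  have h3 : (y ≫ inv (uMap Φ σ j)) ≫ Φ (j + 1) = 0 := by
    rw [← cancel_mono (uMap Φ σ (j + 1)), zero_comp, Category.assoc, ← hcomm, Category.assoc,
      IsIso.inv_hom_id_assoc, hy]
  have h4 : (y ≫ inv (uMap Φ σ j)) ≫ uMap Φ σ j = y := by
    rw [Category.assoc, IsIso.inv_hom_id, Category.comp_id]
  have h5 : (y ≫ inv (uMap Φ σ j)) ≫ uMap Φ σ j =
      (y ≫ inv (uMap Φ σ j)) ≫ σ j ≫ Φ j := by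
    show (y ≫ inv (uMap Φ σ j)) ≫ (σ j ≫ Φ j + Φ (j + 1) ≫ σ (j + 1)) = _
    rw [Preadditive.comp_add, ← Category.assoc _ (Φ (j + 1)), h3, zero_comp, add_zero]
  refine Eq.trans ?_ (h5.symm.trans h4)
  simp only [Category.assoc]

end Contraction

end Groth.Agent.Lib.Helper12
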