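import Mathlib
import Groth.Agent.Lib.Helper12.ConeFrame

/-!
# Comparison of cone frames with Mathlib's mapping cone
-/

set_option autoImplicit false

open CategoryTheory CategoryTheory.Limits CochainComplex HomComplex

namespace Groth.Agent.Lib.Helper12

universe v u

namespace ConeFrame

variable {V : Type u} [Category.{v} V] [Abelian V]

/-- the differentials of a cochain complex as a family indexed by the source degree -/
def dOf (K : CochainComplex V ℤ) (j : ℤ) : K.X j ⟶ K.X (j + 1) := K.d j (j + 1)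

lemma dOf_comp (K : CochainComplex V ℤ) (j : ℤ) : dOf K j ≫ dOf K (j + 1) = 0 :=
  K.d_comp_d _ _ _

section Compare

variable {F G' : CochainComplex V ℤ} (φ : F ⟶ G') (fr : ConeFrame F.X G'.X)

/-- the family `g` attached to a morphism of complexes -/
def gOf (j : ℤ) : F.X j ⟶ fr.C j := -(F.d j (j + 1) ≫ fr.inl j) + φ.f j ≫ fr.inr j

lemma gOf_comp_Phi (j : ℤ) : gOf φ fr j ≫ fr.Phi (gOf φ fr) (dOf G') j = 0 := by
  rw [gOf, Preadditive.add_comp, Preadditive.neg_comp, Category.assoc, Category.assoc,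
    inl_Phi, inr_Phi, gOf, Preadditive.comp_add, Preadditive.comp_neg, ← Category.assoc,
    F.d_comp_d, zero_comp, neg_zero, zero_add, neg_add_eq_zero, ← Category.assoc, ← Category.assoc,
    dOf, φ.comm]

/-- comparison map from the mapping cone -/
noncomputable def toC (j : ℤ) : (mappingCone φ).X j ⟶ fr.C j :=
  (mappingCone.fst φ).1.v j (j + 1) rfl ≫ fr.inl j +
    (mappingCone.snd φ).v j j (add_zero j) ≫ fr.inr j

/-- comparison map to the mapping cone -/
noncomputable def fromC (j : ℤ) : fr.C j ⟶ (mappingCone φ).X j :=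
  fr.fst j ≫ (mappingCone.inl φ).v (j + 1) j (by omega) + fr.snd j ≫ (mappingCone.inr φ).f j

@[reassoc]
lemma inl_toC (j : ℤ) : (mappingCone.inl φ).v (j + 1) j (by omega) ≫ toC φ fr j = fr.inl j := by
  simp [toC]

@[reassoc]
lemma inr_toC (j : ℤ) : (mappingCone.inr φ).f j ≫ toC φ fr j = fr.inr j := by
  simp [toC]

@[reassoc (attr := simp)]
lemma toC_fromC (j : ℤ) : toC φ fr j ≫ fromC φ fr j = 𝟙 _ := by
  simp [toC, fromC, mappingCone.id_X]

@[reassoc (attr := simp)]
lemma fromC_toC (j : ℤ) : fromC φ fr j ≫ toC φ fr j = 𝟙 _ := by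
  simp [toC, fromC, fr.total]

@[reassoc]
lemma d_toC (j : ℤ) : (mappingCone φ).d j (j + 1) ≫ toC φ fr (j + 1) =
    toC φ fr j ≫ fr.Phi (gOf φ fr) (dOf G') j := by
  apply mappingCone.ext_from φ (j + 1) j rfl
  · rw [mappingCone.inl_v_d_assoc φ (j + 1) j (j + 1 + 1) (by omega) (by omega),
      Preadditive.sub_comp, Category.assoc, Category.assoc, inr_toC, inl_toC, inl_toC_assoc,
      inl_Phi, gOf]
    abel
  · rw [mappingCone.inr_f_d_assoc, inr_toC, inr_toC_assoc, inr_Phi, dOf]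

@[reassoc]
lemma fromC_d (j : ℤ) : fromC φ fr j ≫ (mappingCone φ).d j (j + 1) =
    fr.Phi (gOf φ fr) (dOf G') j ≫ fromC φ fr (j + 1) := by
  have h := congrArg (fun t => fromC φ fr j ≫ t ≫ fromC φ fr (j + 1)) (d_toC φ fr j)
  simp only [Category.assoc, toC_fromC, Category.comp_id, fromC_toC_assoc] at h
  exact h

/-- a contracting homotopy of the mapping cone gives a contraction of the cone frame -/
lemma exists_contraction (h : Homotopy (𝟙 (mappingCone φ)) 0) :
    ∃ σ : ∀ j, fr.C (j + 1) ⟶ fr.C j,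
      ∀ j, uMap (fr.Phi (gOf φ fr) (dOf G')) σ j = 𝟙 _ := by
  refine ⟨fun j => fromC φ fr (j + 1) ≫ h.hom (j + 1) j ≫ toC φ fr j, fun j => ?_⟩
  have hc := h.comm (j + 1)
  rw [dNext_eq h.hom (show (ComplexShape.up ℤ).Rel (j + 1) (j + 1 + 1) from rfl),
    prevD_eq h.hom (show (ComplexShape.up ℤ).Rel j (j + 1) from rfl)] at hc
  simp only [HomologicalComplex.id_f, HomologicalComplex.zero_f, add_zero] at hc
  show (fromC φ fr (j + 1) ≫ h.hom (j + 1) j ≫ toC φ fr j) ≫ fr.Phi (gOf φ fr) (dOf G') j +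
    fr.Phi (gOf φ fr) (dOf G') (j + 1) ≫
      (fromC φ fr (j + 1 + 1) ≫ h.hom (j + 1 + 1) (j + 1) ≫ toC φ fr (j + 1)) = 𝟙 _
  rw [Category.assoc, Category.assoc, ← d_toC, ← fromC_d_assoc]
  have : fromC φ fr (j + 1) ≫ h.hom (j + 1) j ≫ (mappingCone φ).d j (j + 1) ≫ toC φ fr (j + 1) +
      fromC φ fr (j + 1) ≫ (mappingCone φ).d (j + 1) (j + 1 + 1) ≫
        h.hom (j + 1 + 1) (j + 1) ≫ toC φ fr (j + 1) =
      fromC φ fr (j + 1) ≫ ((mappingCone φ).d (j + 1) (j + 1 + 1) ≫ h.hom (j + 1 + 1) (j + 1) +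
        h.hom (j + 1) j ≫ (mappingCone φ).d j (j + 1)) ≫ toC φ fr (j + 1) := by
    simp only [Preadditive.add_comp, Preadditive.comp_add, Category.assoc]
    abel
  rw [this, ← hc, Category.id_comp, fromC_toC]

/-- an approximate contraction of the cone frame gives acyclicity of the mapping cone -/
lemma exactAt_mappingCone_of_isIso_uMap (σ : ∀ j, fr.C (j + 1) ⟶ fr.C j)
    (hu : ∀ j, IsIso (uMap (fr.Phi (gOf φ fr) (dOf G')) σ j)) (i : ℤ) :
    (mappingCone φ).ExactAt i := by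
  obtain ⟨j, rfl⟩ : ∃ j, i = j + 1 := ⟨i - 1, by omega⟩
  have hΦΦ : ∀ j, fr.Phi (gOf φ fr) (dOf G') j ≫ fr.Phi (gOf φ fr) (dOf G') (j + 1) = 0 :=
    fun j => fr.Phi_comp_Phi _ _ j (gOf_comp_Phi φ fr (j + 1)) (dOf_comp G' j)
  rw [HomologicalComplex.exactAt_iff' _ j (j + 1) (j + 1 + 1) (by simp) (by simp),
    ShortComplex.exact_iff_exact_up_to_refinements]
  intro A (x₂ : A ⟶ (mappingCone φ).X (j + 1))
    (hx₂ : x₂ ≫ (mappingCone φ).d (j + 1) (j + 1 + 1) = 0)
  have := hu j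
  have := hu (j + 1)
  have hy : (x₂ ≫ toC φ fr (j + 1)) ≫ fr.Phi (gOf φ fr) (dOf G') (j + 1) = 0 := by
    rw [Category.assoc, ← d_toC, ← Category.assoc, hx₂, zero_comp]
  have key := factor_of_uMap_isIso (fr.Phi (gOf φ fr) (dOf G')) σ j (hΦΦ j) (hΦΦ (j + 1))
    (x₂ ≫ toC φ fr (j + 1)) hy
  have hfin : x₂ = (((x₂ ≫ toC φ fr (j + 1)) ≫
      inv (uMap (fr.Phi (gOf φ fr) (dOf G')) σ j) ≫ σ j) ≫ fromC φ fr j) ≫
      (mappingCone φ).d j (j + 1) := by
    rw [Category.assoc _ (fromC φ fr j), fromC_d, ← Category.assoc _ _ (fromC φ fr (j + 1)),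
      key, Category.assoc, toC_fromC, Category.comp_id]
  exact ⟨A, 𝟙 A, inferInstance, _, (Category.id_comp _).trans hfin⟩

end Compare

section Build

variable {A : ℤ → V} {G' : CochainComplex V ℤ} (fr : ConeFrame A G'.X)
  (g : ∀ j, A j ⟶ fr.C j) (hg : ∀ j, g j ≫ fr.Phi g (dOf G') j = 0)

/-- the differential determined by `g` -/
def dA (j : ℤ) : A j ⟶ A (j + 1) := -(g j ≫ fr.fst j)

/-- the component of the morphism determined by `g` -/
def fA (j : ℤ) : A j ⟶ G'.X j := g j ≫ fr.snd j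

include hg in
lemma dA_comp_dA (j : ℤ) : dA fr g j ≫ dA fr g (j + 1) = 0 := by
  have h := congrArg (fun t => t ≫ fr.fst (j + 1)) (hg j)
  simp only [Phi_eq, Preadditive.comp_add, Preadditive.add_comp, Category.assoc, inr_fst,
    comp_zero, add_zero, zero_comp] at h
  simp only [dA, Preadditive.neg_comp, Preadditive.comp_neg, neg_neg, Category.assoc]
  exact h

include hg in
lemma fA_comm (j : ℤ) : fA fr g j ≫ G'.d j (j + 1) = dA fr g j ≫ fA fr g (j + 1) := by
  have h := congrArg (fun t => t ≫ fr.snd (j + 1)) (hg j)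
  simp only [Phi_eq, Preadditive.comp_add, Preadditive.add_comp, Category.assoc, inr_snd,
    Category.comp_id, zero_comp, dOf] at h
  simp only [dA, fA, Preadditive.neg_comp, Category.assoc]
  rw [eq_neg_iff_add_eq_zero]
  exact (add_comm _ _).trans h

/-- the complex determined by `g` -/
abbrev cxOf : CochainComplex V ℤ := CochainComplex.of A (dA fr g) (dA_comp_dA fr g hg)

lemma cxOf_d (j : ℤ) : (cxOf fr g hg).d j (j + 1) = dA fr g j := CochainComplex.of_d _ _ _

/-- the morphism of complexes determined by `g` -/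
def homOf : cxOf fr g hg ⟶ G' :=
  CochainComplex.ofHom (X := cxOf fr g hg) (Y := G') (fun j => fA fr g j) (fun i => by
    rw [cxOf_d]
    exact fA_comm fr g hg i)

lemma homOf_f (j : ℤ) : (homOf fr g hg).f j = fA fr g j := rfl

/-- the frame `fr` seen as a frame for `cxOf` -/
abbrev frOf : ConeFrame (cxOf fr g hg).X G'.X := fr

lemma gOf_homOf (j : ℤ) : gOf (homOf fr g hg) (frOf fr g hg) j = g j := by
  show -((cxOf fr g hg).d j (j + 1) ≫ fr.inl j) + fA fr g j ≫ fr.inr j = g j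
  rw [cxOf_d]
  show -(dA fr g j ≫ fr.inl j) + fA fr g j ≫ fr.inr j = g j
  rw [dA, fA, Preadditive.neg_comp, neg_neg, Category.assoc, Category.assoc,
    ← Preadditive.comp_add, fr.total, Category.comp_id]

end Build

end ConeFrame

end Groth.Agent.Lib.Helper12
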