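import Mathlib
import Groth.Agent.Lib.Helper12.CoextCohomology
import Groth.Agent.Lib.Helper12.FiniteDualizing
import Groth.Agent.Lib.Helper12.ShriekDualizing
import Groth.Agent.Lib.Helper33.DualizingSelf
import Groth.Agent.Lib.Helper12.HomFinite
import Groth.Agent.Lib.Helper12.ModDualFinite
import Groth.Agent.Lib.Helper12.DualizingBidual
import Groth.Agent.Lib.Helper12.BassCriterion

/-!
# A converse characterization of dualizing complexes over a local ring (helper12)

If `R` has finite cohomology, is bounded below and `Ext^i(κ, R)` is `κ` for `i = d` and zero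
otherwise, then `R` is dualizing.
-/

set_option autoImplicit false
universe u
open CategoryTheory CategoryTheory.Limits
attribute [local instance] HasDerivedCategory.standard
namespace Groth.Agent.Lib.Helper12.ConvDual
open Groth.Agent.Lib.Helper12 DRing Groth.Agent.Lib.Helper12.ModDual
open Groth.Agent.Lib.Helper36.InjAmp Groth.Agent.Lib.Helper12.ResExt Groth.Agent.Lib.Helper12.FlatHomBC
open Groth.Agent.Lib.Helper12.CoextCx Groth.Agent.Lib.Helper12.FinDual

section StageB
variable {A B : Type u} [CommRing A] [CommRing B] [Algebra A B]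
attribute [local instance] FinAdj.homModA'

/-- `Hom_B(N, Hom_A(B,E)[i]) ≃ Hom_A(N_A, E[i])`, `A`-linearly -/
noncomputable def extCoextEquiv (E : Cx A) [E.IsKInjective] [(W (algebraMap A B) E).IsKInjective]
    (N : ModuleCat.{u} B) (i : ℤ) :
    (Dual.inD B N ⟶ (toD (W (algebraMap A B) E))⟦i⟧) ≃ₗ[A]
      (Dual.inD A ((resSc (algebraMap A B)).obj N) ⟶ (toD E)⟦i⟧) :=
  ((singleHomEquiv (toD (W (algebraMap A B) E)) N i).restrictScalars A) ≪≫ₗ
    upEquiv E _ ≪≫ₗ
    Linear.homCongr A (restrictSingle (algebraMap A B) i N) (Iso.refl (toD E)) ≪≫ₗ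
    (singleHomEquiv (toD E) ((resSc (algebraMap A B)).obj N) i).symm

/-- `H^i(Hom_A(B,E)) ≃ Hom_A(B_A, E[i])`, `A`-linearly -/
noncomputable def HFCoextEquiv (E : Cx A) [E.IsKInjective] [(W (algebraMap A B) E).IsKInjective]
    (i : ℤ) :
    (resSc (algebraMap A B)).obj ((HF B i).obj (toD (W (algebraMap A B) E))) ≃ₗ[A]
      (Dual.inD A B ⟶ (toD E)⟦i⟧) :=
  (homSingleEquivHF (toD (W (algebraMap A B) E)) i).symm ≪≫ₗ
    ((singleHomEquiv (toD (W (algebraMap A B) E)) (ModuleCat.of B B) i).restrictScalars A).symm ≪≫ₗ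
    extCoextEquiv E (ModuleCat.of B B) i ≪≫ₗ
    Linear.homCongr A (inDMapIso (PolyDual.resScEquiv (A := A) (B := B) B).toModuleIso)
      (Iso.refl _)

end StageB

section StageC
variable {A B : Type u} [CommRing A] [Field B] [Algebra A B]

/-- a `B`-module `A`-linearly isomorphic to `B` is `B`-linearly isomorphic to `B`, for
`A → B` surjective -/
noncomputable def upgradeEquiv (hs : Function.Surjective (algebraMap A B)) (Y : ModuleCat.{u} B)
    (e : (resSc (algebraMap A B)).obj Y ≃ₗ[A] B) : Y ≃ₗ[B] B where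
  toFun y := e y
  invFun b := e.symm b
  left_inv := e.left_inv
  right_inv := e.right_inv
  map_add' := e.map_add
  map_smul' b y := by
    obtain ⟨a, rfl⟩ := hs b
    have h1 : (algebraMap A B a) • y = (a • (show (resSc (algebraMap A B)).obj Y from y)) := rfl
    rw [h1]
    change e (a • _) = _
    rw [map_smul]
    rw [RingHom.id_apply, Algebra.smul_def, smul_eq_mul]

theorem isDualizing_coext_of_field (hs : Function.Surjective (algebraMap A B))
    (E : Cx A) [E.IsKInjective] [(W (algebraMap A B) E).IsKInjective] (d : ℤ)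
    (hvan : ∀ i : ℤ, i ≠ d → ∀ f : Dual.inD A B ⟶ (toD E)⟦i⟧, f = 0)
    (hd : Nonempty ((Dual.inD A B ⟶ (toD E)⟦d⟧) ≃ₗ[A] B)) :
    Dual.IsDualizing B (toD (W (algebraMap A B) E)) := by
  obtain ⟨hd⟩ := hd
  have hz : ∀ j : ℤ, j ≠ d → IsZero ((HF B j).obj (toD (W (algebraMap A B) E))) := by
    intro j hj
    have : Subsingleton (Dual.inD A B ⟶ (toD E)⟦j⟧) :=
      ⟨fun f g => (hvan j hj f).trans (hvan j hj g).symm⟩
    have h1 : Subsingleton ((resSc (algebraMap A B)).obj
        ((HF B j).obj (toD (W (algebraMap A B) E)))) := (HFCoextEquiv E j).subsingleton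
    have h2 : Subsingleton ((HF B j).obj (toD (W (algebraMap A B) E))) := h1
    exact ModuleCat.isZero_of_subsingleton _
  obtain ⟨Y, ⟨e⟩, ⟨eY⟩⟩ := exists_iso_single _ d hz
  let e1 : (resSc (algebraMap A B)).obj Y ≃ₗ[A] B :=
    ((resSc (algebraMap A B)).mapIso eY).symm.toLinearEquiv ≪≫ₗ HFCoextEquiv E d ≪≫ₗ hd
  let e2 : Y ≅ ModuleCat.of B B := (upgradeEquiv hs Y e1).toModuleIso
  let e3 : toD (W (algebraMap A B) E) ≅ (Dual.inD B B)⟦-d⟧ :=
    e ≪≫ (DerivedCategory.singleFunctor (ModuleCat.{u} B) d).mapIso e2 ≪≫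
      singleFunctorShiftIso d (ModuleCat.of B B)
  have h0 : Dual.IsDualizing B (Dual.inD B B) :=
    Groth.Agent.Lib.Helper33.DualizingSelf.isDualizing_inD_self B 0 (fun M _ _ i hi =>
      Groth.Agent.Lib.Helper33.DualizingSelf.subsingleton_hom_inD_shift_of_projective B M B i hi)
  exact DualizingBC.isDualizing_of_iso e3.symm (Shriek.isDualizing_shift _ h0 (-d))

end StageC
section StageD
variable {A B : Type u} [CommRing A] [CommRing B] (φ : A →+* B)

/-- if the coextended complex has the endomorphism properties of a dualizing complex, then `B`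
is reflexive over `A` -/
theorem refl_BA_of_end (E : Cx A) [E.IsKInjective] [(W φ E).IsKInjective]
    (hEnd : Function.Bijective (fun b : B => b • 𝟙 (toD (W φ E))))
    (hExt : ∀ n : ℤ, n ≠ 0 → ∀ f : toD (W φ E) ⟶ (toD (W φ E))⟦n⟧, f = 0) :
    Refl E (unitIsoD E) (BA φ) := by
  have hup := up_bijective φ E (toD (W φ E))
  have hη : ∀ b : B, η E (unitIsoD E) (BA φ) b =
      (ι φ E).inv ≫ (restrictD φ).map (b • 𝟙 (toD (W φ E))) ≫ c₀ φ E := by
    intro b
    rw [map_smul_comp_c₀, Iso.inv_hom_id_assoc]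
  refine ⟨⟨?_, ?_⟩, ?_⟩
  · intro (b : B) (b' : B) hbb
    have hbb' : (ι φ E).inv ≫ (restrictD φ).map (b • 𝟙 (toD (W φ E))) ≫ c₀ φ E =
        (ι φ E).inv ≫ (restrictD φ).map (b' • 𝟙 (toD (W φ E))) ≫ c₀ φ E :=
      (hη b).symm.trans (hbb.trans (hη b'))
    rw [cancel_epi] at hbb'
    exact hEnd.1 (hup.1 hbb')
  · intro f
    obtain ⟨y, hy⟩ := hup.2 ((ι φ E).hom ≫ f)
    obtain ⟨b, hb⟩ := hEnd.2 y
    refine ⟨b, ?_⟩
    have hb' : b • 𝟙 (toD (W φ E)) = y := hb
    have hy' : (restrictD φ).map y ≫ c₀ φ E = (ι φ E).hom ≫ f := hy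
    refine (hη b).trans ?_
    rw [hb', hy', Iso.inv_hom_id_assoc]
  · intro k hk g
    obtain ⟨n, rfl⟩ : ∃ n : ℤ, k = -n := ⟨-k, by omega⟩
    let κ : (restrictD φ).obj ((toD (W φ E))⟦-n⟧) ≅ (D E (BA φ))⟦-n⟧ :=
      ((restrictD φ).commShiftIso (-n)).app _ ≪≫ (shiftFunctor _ (-n)).mapIso (ι φ E)
    obtain ⟨y, hy⟩ := (up_bijective φ E ((toD (W φ E))⟦-n⟧)).2 (κ.hom ≫ g)
    have hy0 : y = 0 := (hom_shift_eq_zero_iff _ _ n).mp (hExt n (by omega)) y
    have hy' : (restrictD φ).map y ≫ c₀ φ E = κ.hom ≫ g := hy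
    rw [hy0, CategoryTheory.Functor.map_zero, zero_comp] at hy'
    exact (cancel_epi κ.hom).mp (hy'.symm.trans comp_zero.symm)

end StageD

section StageDE
variable {A : Type u} [CommRing A] [IsLocalRing A]

/-- **the residue field is reflexive** with respect to a K-injective complex whose `Ext(κ, -)` is
`κ` in exactly one degree -/
theorem refl_residue (E : Cx A) [E.IsKInjective]
    [(W (algebraMap A (IsLocalRing.ResidueField A)) E).IsKInjective] (d : ℤ)
    (hvan : ∀ i : ℤ, i ≠ d → ∀ f : Dual.inD A (IsLocalRing.ResidueField A) ⟶ (toD E)⟦i⟧, f = 0)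
    (hd : Nonempty ((Dual.inD A (IsLocalRing.ResidueField A) ⟶ (toD E)⟦d⟧) ≃ₗ[A]
      IsLocalRing.ResidueField A)) :
    Refl E (unitIsoD E) (ModuleCat.of A (IsLocalRing.ResidueField A)) := by
  have hT := isDualizing_coext_of_field (A := A) (B := IsLocalRing.ResidueField A)
    IsLocalRing.residue_surjective E d hvan hd
  have h1 := refl_BA_of_end (algebraMap A (IsLocalRing.ResidueField A)) E hT.toEnd_bijective
    (fun n hn f => by
      have := hT.ext_self_subsingleton n hn
      exact Subsingleton.elim _ _)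
  exact h1.of_iso (PolyDual.resScEquiv (A := A) (B := IsLocalRing.ResidueField A)
    (IsLocalRing.ResidueField A)).toModuleIso

end StageDE

section StageE
variable {A : Type u} [CommRing A] [IsLocalRing A] [IsNoetherianRing A] (E : Cx A) (a b : ℤ)
  (hE : VanishesOutside E a b) (hinj : ∀ i, Injective (E.X i))
  (hfin : ∀ j : ℤ, Module.Finite A ((HF A j).obj (toD E)))

include hE hinj hfin in
lemma finite_hom_D (M : ModuleCat.{u} A) [Module.Finite A M] (n : ℤ) :
    Module.Finite A (D E M ⟶ (toD E)⟦n⟧) := by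
  have hpc : IsPseudoCoherent' A (D E M) :=
    HomFinite.isPseudoCoherent'_of_finite_HF (D E M) b
      (fun i hi => isZero_HF_toD_of_isZero_X _ i (isZero_D₀_X E M i (hE i (Or.inr hi))))
      (finD_of_finite E hinj hfin a (fun i hi => hE i (Or.inl hi)) M)
  exact HomFinite.finite_hom (D E M) ((toD E)⟦n⟧) hpc (a - n)
    (fun i hi => isZero_HF_shift (toD E) n i
      (isZero_HF_toD_of_isZero_X E (n + i) (hE (n + i) (Or.inl (by omega)))))
    (fun i => HomFinite.finite_HF_shift (toD E) n i (hfin (n + i)))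

include hE hinj hfin in
/-- **Nakayama step**: if `x ∈ 𝔪` is a nonzerodivisor on the finite module `M` and `M/xM` is
reflexive, then `M` is reflexive -/
theorem refl_of_nakayama (M M' : ModuleCat.{u} A) [Module.Finite A M] (x : A)
    (hx : x ∈ IsLocalRing.maximalIdeal A) (g : M ⟶ M') (w : (x • 𝟙 M) ≫ g = 0)
    (hS : (ShortComplex.mk (x • 𝟙 M) g w).ShortExact)
    (h' : Refl E (unitIsoD E) M') : Refl E (unitIsoD E) M := by
  set S := ShortComplex.mk (x • 𝟙 M) g w with hSdef
  have hjac : IsLocalRing.maximalIdeal A ≤ (⊥ : Ideal A).jacobson :=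
    IsLocalRing.maximalIdeal_le_jacobson _
  have hDf : Dmap E S.f = x • 𝟙 (D E M) := by
    change Dmap E (x • 𝟙 M) = _
    rw [Dmap_smul, Dmap_id]
  -- vanishing for `n ≠ 0`
  have hvan : ∀ n : ℤ, n ≠ 0 → ∀ y : D E M ⟶ (toD E)⟦n⟧, y = 0 := by
    intro n hn
    have h1 : ∀ f : D E M' ⟶ (toD E)⟦n⟧, f = 0 :=
      (hom_shift_eq_zero_iff _ _ n).mpr (h'.2 (-n) (by omega))
    have hfinM := finite_hom_D E a b hE hinj hfin M n
    have htop : (⊤ : Submodule A (D E M ⟶ (toD E)⟦n⟧)) = ⊥ := by
      refine Submodule.eq_bot_of_le_smul_of_le_jacobson_bot (IsLocalRing.maximalIdeal A) ⊤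
        Module.Finite.fg_top ?_ hjac
      intro y _
      obtain ⟨z, hz⟩ := dual_exact₂ E hinj S hS y (h1 _)
      have hz' : y = x • z := by
        rw [hz, hDf, Linear.smul_comp, Category.id_comp]
      rw [hz']
      exact Submodule.smul_mem_smul hx Submodule.mem_top
    intro y
    have : y ∈ (⊤ : Submodule A (D E M ⟶ (toD E)⟦n⟧)) := Submodule.mem_top
    rw [htop] at this
    exact (Submodule.mem_bot A).mp this
  -- `x` is injective on `Hom(D M, E)`
  have hxinj : ∀ z : D E M ⟶ toD E, x • z = 0 → z = 0 := by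
    intro z hz
    have h1 : Dmap E S.f ≫ z = 0 := by
      rw [hDf, Linear.smul_comp, Category.id_comp]
      exact hz
    obtain ⟨t, ht⟩ := dual_exact₃ E hinj S hS z h1
    rw [ht, h'.2 1 one_ne_zero t, comp_zero]
  refine ⟨⟨?_, ?_⟩, ?_⟩
  · -- injectivity
    have hK : LinearMap.ker (ηL E (unitIsoD E) M) = ⊥ := by
      refine Submodule.eq_bot_of_le_smul_of_le_jacobson_bot (IsLocalRing.maximalIdeal A) _
        (IsNoetherian.noetherian _) ?_ hjac
      intro m₀ hm₀
      have hm₀' : η E (unitIsoD E) M m₀ = 0 := hm₀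
      have h1 : η E (unitIsoD E) M' (g.hom m₀) = 0 := by
        rw [ModDual.η_naturality, hm₀', comp_zero]
      have h2 : g.hom m₀ = 0 := (η_injective_iff M').mp h'.1.1 _ h1
      obtain ⟨m₁, hm₁⟩ := (ShortComplex.moduleCat_exact_iff S).mp hS.exact m₀ h2
      have hm₁' : x • m₁ = m₀ := hm₁
      have h3 : η E (unitIsoD E) M m₁ = 0 := by
        apply hxinj
        rw [← η_smul, hm₁', hm₀']
      rw [← hm₁']
      exact Submodule.smul_mem_smul hx h3
    rw [η_injective_iff]
    intro m hm
    have : m ∈ LinearMap.ker (ηL E (unitIsoD E) M) := hm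
    rw [hK] at this
    exact (Submodule.mem_bot A).mp this
  · -- surjectivity
    have hfinM : Module.Finite A (D E M ⟶ toD E) := by
      have h0 := finite_hom_D E a b hE hinj hfin M 0
      exact Module.Finite.equiv (Linear.homCongr A (Iso.refl (D E M))
        ((shiftFunctorZero (Dual.D A) ℤ).app (toD E)))
    have hle : (⊤ : Submodule A (D E M ⟶ toD E)) ≤ LinearMap.range (ηL E (unitIsoD E) M) := by
      refine Submodule.le_of_le_smul_of_le_jacobson_bot Module.Finite.fg_top hjac ?_
      intro y _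
      obtain ⟨m₃, hm₃⟩ := h'.1.2 (Dmap E S.g ≫ y)
      have := hS.epi_g
      obtain ⟨m₂, rfl⟩ := (ModuleCat.epi_iff_surjective S.g).mp inferInstance m₃
      have h1 : Dmap E S.g ≫ (y - η E (unitIsoD E) M m₂) = 0 := by
        rw [Preadditive.comp_sub, ← hm₃, ← ModDual.η_naturality]
        exact sub_self _
      obtain ⟨z, hz⟩ := dual_exact₂ E hinj S hS _ h1
      have hz' : y = η E (unitIsoD E) M m₂ + x • z := by
        rw [hDf, Linear.smul_comp, Category.id_comp] at hz
        rw [← hz]
        abel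
      rw [hz']
      exact Submodule.add_mem_sup ⟨m₂, rfl⟩ (Submodule.smul_mem_smul hx Submodule.mem_top)
    intro y
    obtain ⟨m, hm⟩ := hle (Submodule.mem_top : y ∈ ⊤)
    exact ⟨m, hm⟩
  · intro k hk y
    obtain ⟨n, rfl⟩ : ∃ n : ℤ, k = -n := ⟨-k, by omega⟩
    exact (hom_shift_eq_zero_iff _ _ n).mp (hvan n (by omega)) y

end StageE

section StageF0
variable {A : Type u} [CommRing A]

/-- the short exact sequence `0 → A/p --x--> A/p → A/(p + (x)) → 0` for `x ∉ p` prime -/
lemma shortExact_quotient_prime (p : Ideal A) [hp : p.IsPrime] (x : A) (hx : x ∉ p)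
    (w : (x • 𝟙 (ModuleCat.of A (A ⧸ p))) ≫ ModuleCat.ofHom
      (Submodule.mapQ p (p ⊔ Ideal.span {x}) LinearMap.id (by
        rw [Submodule.comap_id]; exact le_sup_left)) = 0) :
    (ShortComplex.mk (x • 𝟙 (ModuleCat.of A (A ⧸ p))) (ModuleCat.ofHom
      (Submodule.mapQ p (p ⊔ Ideal.span {x}) LinearMap.id (by
        rw [Submodule.comap_id]; exact le_sup_left))) w).ShortExact := by
  have hmono : Mono (x • 𝟙 (ModuleCat.of A (A ⧸ p))) := by
    rw [ModuleCat.mono_iff_injective]
    intro y y' hyy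
    obtain ⟨a, rfl⟩ := Ideal.Quotient.mk_surjective y
    obtain ⟨a', rfl⟩ := Ideal.Quotient.mk_surjective y'
    have h1 : x • (Ideal.Quotient.mk p a) = x • (Ideal.Quotient.mk p a') := hyy
    have h2 : Ideal.Quotient.mk p (x * (a - a')) = 0 := by
      rw [mul_sub, map_sub, sub_eq_zero]
      simpa [Algebra.smul_def] using h1
    rw [Ideal.Quotient.eq_zero_iff_mem] at h2
    rcases hp.mem_or_mem h2 with h | h
    · exact absurd h hx
    · rw [← sub_eq_zero, ← map_sub, Ideal.Quotient.eq_zero_iff_mem]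
      exact h
  have hepi : Epi (ModuleCat.ofHom
      (Submodule.mapQ p (p ⊔ Ideal.span {x}) LinearMap.id (by
        rw [Submodule.comap_id]; exact le_sup_left))) := by
    rw [ModuleCat.epi_iff_surjective]
    intro y
    obtain ⟨a, rfl⟩ := Submodule.Quotient.mk_surjective _ y
    exact ⟨Submodule.Quotient.mk a, rfl⟩
  refine ShortComplex.ShortExact.mk ?_
  rw [ShortComplex.moduleCat_exact_iff]
  intro y hy
  obtain ⟨a, rfl⟩ := Submodule.Quotient.mk_surjective _ y
  have h1 : (Submodule.Quotient.mk a : A ⧸ (p ⊔ Ideal.span {x})) = 0 := hy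
  rw [Submodule.Quotient.mk_eq_zero, Submodule.mem_sup] at h1
  obtain ⟨y₀, hy₀, z, hz, rfl⟩ := h1
  obtain ⟨r, rfl⟩ := Ideal.mem_span_singleton'.mp hz
  refine ⟨Submodule.Quotient.mk r, ?_⟩
  change x • (Submodule.Quotient.mk r : A ⧸ p) = Submodule.Quotient.mk (y₀ + r * x)
  rw [← Submodule.Quotient.mk_smul, eq_comm, ← sub_eq_zero, ← Submodule.Quotient.mk_sub,
    Submodule.Quotient.mk_eq_zero]
  have : y₀ + r * x - x • r = y₀ := by rw [smul_eq_mul]; ring
  rw [this]
  exact hy₀

end StageF0

section StageF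
variable {A : Type u} [CommRing A] [IsLocalRing A] [IsNoetherianRing A] (E : Cx A) (a b : ℤ)
  (hE : VanishesOutside E a b) (hinj : ∀ i, Injective (E.X i))
  (hfin : ∀ j : ℤ, Module.Finite A ((HF A j).obj (toD E)))

include hE hinj hfin in
/-- **dévissage**: if the residue field is reflexive then so is every finite module -/
theorem refl_of_refl_residue
    (hκ : Refl E (unitIsoD E) (ModuleCat.of A (IsLocalRing.ResidueField A))) :
    ∀ (I : Ideal A) (M : Type u) [AddCommGroup M] [Module A M] [Module.Finite A M],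
      (∀ y ∈ I, ∀ m : M, y • m = 0) → Refl E (unitIsoD E) (ModuleCat.of A M) := by
  intro I
  induction I using IsNoetherian.induction with
  | hgt I IH =>
    intro M _ _ hM
    refine IsNoetherianRing.induction_on_isQuotientEquivQuotientPrime A hM
      (motive := fun N _ _ _ => (∀ y ∈ I, ∀ n : N, y • n = 0) →
        Refl E (unitIsoD E) (ModuleCat.of A N)) ?_ ?_ ?_
    · intro N _ _ _ _ _
      exact Refl.of_isZero (ModuleCat.isZero_of_subsingleton _)
    · intro N _ _ _ q e hkill
      have hIq : I ≤ q.asIdeal := by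
        intro y hy
        have h1 := hkill y hy (e.symm 1)
        have h2 : y • (1 : A ⧸ q.asIdeal) = 0 := by
          rw [← e.apply_symm_apply 1, ← map_smul, h1, map_zero]
        rw [← Ideal.Quotient.eq_zero_iff_mem]
        rw [← h2]
        simp [Algebra.smul_def]
      have hq := q.isPrime
      have hkq : ∀ y ∈ q.asIdeal, ∀ n : A ⧸ q.asIdeal, y • n = 0 := by
        intro y hy n
        obtain ⟨r, rfl⟩ := Ideal.Quotient.mk_surjective n
        rw [Algebra.smul_def, Ideal.Quotient.algebraMap_eq, ← map_mul,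
          Ideal.Quotient.eq_zero_iff_mem]
        exact Ideal.mul_mem_right _ _ hy
      suffices H : Refl E (unitIsoD E) (ModuleCat.of A (A ⧸ q.asIdeal)) from
        H.of_iso e.symm.toModuleIso
      rcases hIq.lt_or_eq with hlt | heq
      · exact IH q.asIdeal hlt (A ⧸ q.asIdeal) hkq
      · by_cases hqm : q.asIdeal = IsLocalRing.maximalIdeal A
        · rw [hqm]
          exact hκ
        · have hlt : q.asIdeal < IsLocalRing.maximalIdeal A :=
            lt_of_le_of_ne (IsLocalRing.le_maximalIdeal hq.ne_top) hqm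
          obtain ⟨x, hxm, hxq⟩ := SetLike.exists_of_lt hlt
          have hle : q.asIdeal ≤ Submodule.comap LinearMap.id (q.asIdeal ⊔ Ideal.span {x}) := by
            rw [Submodule.comap_id]; exact le_sup_left
          have w : (x • 𝟙 (ModuleCat.of A (A ⧸ q.asIdeal))) ≫ ModuleCat.ofHom
              (Submodule.mapQ q.asIdeal (q.asIdeal ⊔ Ideal.span {x}) LinearMap.id (by
                rw [Submodule.comap_id]; exact le_sup_left)) = 0 := by
            refine ModuleCat.hom_ext (LinearMap.ext fun y => ?_)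
            obtain ⟨r, rfl⟩ := Ideal.Quotient.mk_surjective y
            change Submodule.mapQ q.asIdeal (q.asIdeal ⊔ Ideal.span {x}) LinearMap.id hle
              (x • Submodule.Quotient.mk r) = 0
            rw [← Submodule.Quotient.mk_smul, Submodule.mapQ_apply,
              Submodule.Quotient.mk_eq_zero]
            refine Submodule.mem_sup_right ?_
            rw [LinearMap.id_apply, smul_eq_mul]
            exact Ideal.mul_mem_right _ _ (Ideal.subset_span rfl)
          have hS := shortExact_quotient_prime q.asIdeal x hxq w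
          have hJ : I < q.asIdeal ⊔ Ideal.span {x} := by
            rw [heq]
            refine lt_of_le_of_ne le_sup_left (fun h => hxq ?_)
            rw [h]
            exact Submodule.mem_sup_right (Ideal.subset_span rfl)
          have h' : Refl E (unitIsoD E)
              (ModuleCat.of A (A ⧸ (q.asIdeal ⊔ Ideal.span {x}))) := by
            refine IH _ hJ (A ⧸ (q.asIdeal ⊔ Ideal.span {x})) ?_
            intro y hy n
            obtain ⟨r, rfl⟩ := Ideal.Quotient.mk_surjective n
            rw [Algebra.smul_def, Ideal.Quotient.algebraMap_eq, ← map_mul,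
              Ideal.Quotient.eq_zero_iff_mem]
            exact Ideal.mul_mem_right _ _ hy
          exact refl_of_nakayama E a b hE hinj hfin _ _ x hxm _ w hS h'
    · intro N₁ _ _ _ N₂ _ _ _ N₃ _ _ _ f g hf hg hfg h₁ h₃ hkill
      let S : ShortComplex (ModuleCat.{u} A) :=
        ShortComplex.mk (ModuleCat.ofHom f) (ModuleCat.ofHom g) (by
          refine ModuleCat.hom_ext (LinearMap.ext fun x => ?_)
          exact hfg.apply_apply_eq_zero x)
      have hS : S.ShortExact := by
        have hmono : Mono S.f := (ModuleCat.mono_iff_injective _).mpr hf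
        have hepi : Epi S.g := (ModuleCat.epi_iff_surjective _).mpr hg
        refine ShortComplex.ShortExact.mk ?_
        rw [ShortComplex.moduleCat_exact_iff_range_eq_ker]
        exact (LinearMap.exact_iff.mp hfg).symm
      refine Refl.of_shortExact hinj S hS (h₁ ?_) (h₃ ?_)
      · intro y hy n
        apply hf
        rw [map_smul, hkill y hy, map_zero]
      · intro y hy n
        obtain ⟨n', rfl⟩ := hg n
        rw [← map_smul, hkill y hy, map_zero]

end StageF

section StageG
variable {A : Type u} [CommRing A]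

/-- reflexivity of the ring gives the endomorphism conditions -/
theorem end_conditions_of_refl_self (E : Cx A)
    (h : Refl E (unitIsoD E) (ModuleCat.of A A)) :
    Function.Bijective (fun a : A => a • 𝟙 (toD E)) ∧
      ∀ i : ℤ, i ≠ 0 → ∀ f : toD E ⟶ (toD E)⟦i⟧, f = 0 := by
  have h1 : ∀ a : A, η E (unitIsoD E) (ModuleCat.of A A) a =
      (unitIsoD E).hom ≫ (a • 𝟙 (toD E)) := by
    intro a
    rw [η, mHom_self, Dmap_smul, Dmap_id, Linear.smul_comp, Category.id_comp,
      Linear.comp_smul, Category.comp_id]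
  refine ⟨⟨?_, ?_⟩, ?_⟩
  · intro a a' haa
    have haa' : a • 𝟙 (toD E) = a' • 𝟙 (toD E) := haa
    refine h.1.1 ?_
    rw [h1, h1, haa']
  · intro f
    obtain ⟨a, ha⟩ := h.1.2 ((unitIsoD E).hom ≫ f)
    refine ⟨a, ?_⟩
    rw [h1, cancel_epi] at ha
    exact ha
  · intro i hi
    refine (hom_shift_eq_zero_iff _ _ i).mpr (fun g => ?_)
    have h2 := h.2 (-i) (by omega) (((unitIsoD E).hom)⟦-i⟧' ≫ g)
    have h3 : ((unitIsoD E).inv)⟦-i⟧' ≫ ((unitIsoD E).hom)⟦-i⟧' ≫ g = 0 := by
      rw [h2, comp_zero]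
    rwa [← Functor.map_comp_assoc, Iso.inv_hom_id, CategoryTheory.Functor.map_id,
      Category.id_comp] at h3

end StageG

section Final
variable {A : Type u} [CommRing A] [IsLocalRing A] [IsNoetherianRing A]

/-- **converse characterization of dualizing complexes over a Noetherian local ring** -/
theorem isDualizing_of_ext_residue (R : Dual.D A)
    (hfin : ∀ i : ℤ, Module.Finite A (Dual.HD A R i))
    (hbdd : ∃ a : ℤ, ∀ i : ℤ, i < a → Subsingleton (Dual.HD A R i)) (d : ℤ)
    (hvan : ∀ i : ℤ, i ≠ d → Subsingleton (Dual.inD A (IsLocalRing.ResidueField A) ⟶ R⟦i⟧))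
    (hd : Nonempty ((Dual.inD A (IsLocalRing.ResidueField A) ⟶ R⟦d⟧) ≃ₗ[A]
      IsLocalRing.ResidueField A)) : Dual.IsDualizing A R := by
  obtain ⟨a₀, ha₀⟩ := hbdd
  set a : ℤ := min a₀ d with ha
  have hlow : ∀ j : ℤ, j < a → IsZero ((HF A j).obj R) := fun j hj => by
    have : Subsingleton ((HF A j).obj R) := ha₀ j (lt_of_lt_of_le hj (min_le_left _ _))
    exact ModuleCat.isZero_of_subsingleton _
  have hab := Bass.finite_injective_dimension_of_maximal R a d hlow hfin (fun m hm i hi => by
    have := IsLocalRing.eq_maximalIdeal hm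
    subst this
    exact hvan i (by omega))
  obtain ⟨E, hE, hinj, ⟨e⟩⟩ := hasInjAmplitudeIn_of_hom_quotient_eq_zero R a d
    (fun I i hi f => by
      have := hab (A ⧸ I) i hi
      exact Subsingleton.elim _ _)
  have hinj' : ∀ i, Injective (E.X i) := fun i => by
    have := hinj i
    exact Module.injective_object_of_injective_module A (E.X i)
  have hGE : E.IsStrictlyGE a := by
    rw [CochainComplex.isStrictlyGE_iff]
    intro j hj
    exact hE j (Or.inl hj)
  have hKI : E.IsKInjective := CochainComplex.isKInjective_of_injective E a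
  have hKW : (W (algebraMap A (IsLocalRing.ResidueField A)) E).IsKInjective :=
    isKInjective_W _ E a (fun j hj => hE j (Or.inl hj)) hinj'
  let tr : ∀ i : ℤ, (Dual.inD A (IsLocalRing.ResidueField A) ⟶ (toD E)⟦i⟧) ≃ₗ[A]
      (Dual.inD A (IsLocalRing.ResidueField A) ⟶ R⟦i⟧) := fun i =>
    Linear.homCongr A (Iso.refl _) ((shiftFunctor (Dual.D A) i).mapIso e)
  have hvan' : ∀ i : ℤ, i ≠ d →
      ∀ f : Dual.inD A (IsLocalRing.ResidueField A) ⟶ (toD E)⟦i⟧, f = 0 := by
    intro i hi f
    have := hvan i hi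
    have : Subsingleton (Dual.inD A (IsLocalRing.ResidueField A) ⟶ (toD E)⟦i⟧) :=
      (tr i).subsingleton
    exact Subsingleton.elim _ _
  obtain ⟨hd⟩ := hd
  have hκ := refl_residue E d hvan' ⟨(tr d) ≪≫ₗ hd⟩
  have hfinE : ∀ j : ℤ, Module.Finite A ((HF A j).obj (toD E)) := fun j => by
    have := hfin j
    exact Module.Finite.equiv ((HF A j).mapIso e.symm).toLinearEquiv
  have hrefl : Refl E (unitIsoD E) (ModuleCat.of A A) :=
    refl_of_refl_residue E a d hE hinj' hfinE hκ ⊥ A (fun y hy m => by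
      rw [(Submodule.mem_bot A).mp hy, zero_smul])
  obtain ⟨hEnd, hExt⟩ := end_conditions_of_refl_self E hrefl
  refine DualizingBC.isDualizing_of_iso e ⟨inferInstance, ⟨a, d, fun M _ _ i hi => ?_⟩, hfinE,
    hEnd, fun i hi => ⟨fun f g => (hExt i hi f).trans (hExt i hi g).symm⟩⟩
  have := hab M i hi
  exact ⟨fun f g => by
    rw [← cancel_mono ((shiftFunctor (Dual.D A) i).map e.hom)]
    exact Subsingleton.elim _ _⟩

end Final

end Groth.Agent.Lib.Helper12.ConvDual
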