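import Groth.Agent.Lib.Helper12.DRingCone

/-!
# Closure properties of pseudo-coherent / perfect objects of `D(A)`
(iso, shift, cone, two-out-of-three)
-/

namespace Groth.Agent.Lib.Helper12

open CategoryTheory CategoryTheory.Limits DRing CategoryTheory.Pretriangulated

attribute [local instance] HasDerivedCategory.standard

universe u

variable {A : Type u} [CommRing A]

/-- generic: `K` is represented by a bounded above complex with terms in `P`. -/
def RepAbove (P : ModProp A) (K : Dual.D A) : Prop :=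
  ∃ (E : Cx A) (b : ℤ), VanishesAbove E b ∧ Termwise P E ∧ Nonempty (toD E ≅ K)

/-- generic: `K` is represented by a bounded complex with terms in `P`. -/
def RepBounded (P : ModProp A) (K : Dual.D A) : Prop :=
  ∃ (E : Cx A) (a b : ℤ), VanishesOutside E a b ∧ Termwise P E ∧ Nonempty (toD E ≅ K)

lemma isPseudoCoherent'_iff (K : Dual.D A) : IsPseudoCoherent' A K ↔ RepAbove (finiteFree A) K :=
  Iff.rfl

lemma isPerfect_iff (K : Dual.D A) : IsPerfect A K ↔ RepBounded (finiteProjective A) K :=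
  Iff.rfl

variable (P : ModProp A)

lemma RepAbove.of_iso {K K' : Dual.D A} (e : K ≅ K') (h : RepAbove P K) : RepAbove P K' := by
  obtain ⟨E, b, h1, h2, ⟨i⟩⟩ := h
  exact ⟨E, b, h1, h2, ⟨i ≪≫ e⟩⟩

lemma RepBounded.of_iso {K K' : Dual.D A} (e : K ≅ K') (h : RepBounded P K) :
    RepBounded P K' := by
  obtain ⟨E, a, b, h1, h2, ⟨i⟩⟩ := h
  exact ⟨E, a, b, h1, h2, ⟨i ≪≫ e⟩⟩

lemma RepAbove.shift {K : Dual.D A} (h : RepAbove P K) (n : ℤ) : RepAbove P (K⟦n⟧) := by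
  obtain ⟨E, b, h1, h2, ⟨i⟩⟩ := h
  exact ⟨E⟦n⟧, b - n, vanishesAbove_shift h1 n, termwise_shift P h2 n,
    ⟨toDShiftIso E n ≪≫ (shiftFunctor (Dual.D A) n).mapIso i⟩⟩

lemma RepBounded.shift {K : Dual.D A} (h : RepBounded P K) (n : ℤ) : RepBounded P (K⟦n⟧) := by
  obtain ⟨E, a, b, h1, h2, ⟨i⟩⟩ := h
  exact ⟨E⟦n⟧, a - n, b - n, vanishesOutside_shift h1 n, termwise_shift P h2 n,
    ⟨toDShiftIso E n ≪≫ (shiftFunctor (Dual.D A) n).mapIso i⟩⟩

lemma RepAbove.of_shift {K : Dual.D A} (n : ℤ) (h : RepAbove P (K⟦n⟧)) : RepAbove P K :=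
  RepAbove.of_iso P ((shiftEquiv (Dual.D A) n).unitIso.symm.app K) (h.shift P (-n))

lemma RepBounded.of_shift {K : Dual.D A} (n : ℤ) (h : RepBounded P (K⟦n⟧)) : RepBounded P K :=
  RepBounded.of_iso P ((shiftEquiv (Dual.D A) n).unitIso.symm.app K) (h.shift P (-n))

/-- cone: needs `P ≤ projective` to lift the map. -/
lemma RepAbove.cone (hP : ∀ M, P.P M → Module.Projective A M) (T : Triangle (Dual.D A))
    (hT : T ∈ distTriang (Dual.D A)) (h1 : RepAbove P T.obj₁) (h2 : RepAbove P T.obj₂) :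
    RepAbove P T.obj₃ := by
  obtain ⟨E₁, b₁, hv₁, ht₁, ⟨i₁⟩⟩ := h1
  obtain ⟨E₂, b₂, hv₂, ht₂, ⟨i₂⟩⟩ := h2
  have : E₁.IsKProjective := isKProjective_of_vanishesAbove E₁ b₁ hv₁ (fun i => hP _ (ht₁ i))
  obtain ⟨f, hf⟩ := exists_map_of_isKProjective E₁ E₂ (i₁.hom ≫ T.mor₁ ≫ i₂.inv)
  obtain ⟨e⟩ := cone_iso T hT i₁.symm i₂.symm f (by simp [hf])
  exact ⟨_, _, vanishesAbove_cone f hv₁ hv₂, termwise_cone P f ht₁ ht₂, ⟨e.symm⟩⟩

lemma RepBounded.cone (hP : ∀ M, P.P M → Module.Projective A M) (T : Triangle (Dual.D A))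
    (hT : T ∈ distTriang (Dual.D A)) (h1 : RepBounded P T.obj₁) (h2 : RepBounded P T.obj₂) :
    RepBounded P T.obj₃ := by
  obtain ⟨E₁, a₁, b₁, hv₁, ht₁, ⟨i₁⟩⟩ := h1
  obtain ⟨E₂, a₂, b₂, hv₂, ht₂, ⟨i₂⟩⟩ := h2
  have : E₁.IsKProjective := isKProjective_of_vanishesAbove E₁ b₁
    (vanishesAbove_of_vanishesOutside hv₁) (fun i => hP _ (ht₁ i))
  obtain ⟨f, hf⟩ := exists_map_of_isKProjective E₁ E₂ (i₁.hom ≫ T.mor₁ ≫ i₂.inv)
  obtain ⟨e⟩ := cone_iso T hT i₁.symm i₂.symm f (by simp [hf])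
  exact ⟨_, _, _, vanishesOutside_cone f hv₁ hv₂, termwise_cone P f ht₁ ht₂, ⟨e.symm⟩⟩

/-- two-out-of-three for `RepAbove`. -/
lemma RepAbove.two_out_of_three (hP : ∀ M, P.P M → Module.Projective A M)
    (T : Triangle (Dual.D A)) (hT : T ∈ distTriang (Dual.D A)) :
    (RepAbove P T.obj₁ → RepAbove P T.obj₂ → RepAbove P T.obj₃) ∧
    (RepAbove P T.obj₁ → RepAbove P T.obj₃ → RepAbove P T.obj₂) ∧
    (RepAbove P T.obj₂ → RepAbove P T.obj₃ → RepAbove P T.obj₁) := by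
  refine ⟨RepAbove.cone P hP T hT, fun h1 h3 => ?_, fun h2 h3 => ?_⟩
  · exact RepAbove.cone P hP T.invRotate (inv_rot_of_distTriang T hT) (h3.shift P (-1)) h1
  · exact RepAbove.of_shift P 1 (RepAbove.cone P hP T.rotate (rot_of_distTriang T hT) h2 h3)

/-- two-out-of-three for `RepBounded`. -/
lemma RepBounded.two_out_of_three (hP : ∀ M, P.P M → Module.Projective A M)
    (T : Triangle (Dual.D A)) (hT : T ∈ distTriang (Dual.D A)) :
    (RepBounded P T.obj₁ → RepBounded P T.obj₂ → RepBounded P T.obj₃) ∧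
    (RepBounded P T.obj₁ → RepBounded P T.obj₃ → RepBounded P T.obj₂) ∧
    (RepBounded P T.obj₂ → RepBounded P T.obj₃ → RepBounded P T.obj₁) := by
  refine ⟨RepBounded.cone P hP T hT, fun h1 h3 => ?_, fun h2 h3 => ?_⟩
  · exact RepBounded.cone P hP T.invRotate (inv_rot_of_distTriang T hT) (h3.shift P (-1)) h1
  · exact RepBounded.of_shift P 1 (RepBounded.cone P hP T.rotate (rot_of_distTriang T hT) h2 h3)

lemma finiteFree_projective (M : ModuleCat.{u} A) (h : (finiteFree A).P M) :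
    Module.Projective A M := by
  have : Module.Free A M := h.2
  infer_instance

lemma finiteProjective_projective (M : ModuleCat.{u} A) (h : (finiteProjective A).P M) :
    Module.Projective A M := h.2

end Groth.Agent.Lib.Helper12
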