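import Groth.Prelude.Def_DRing2
import Mathlib.Algebra.Homology.DerivedCategory.KProjective
import Mathlib.Algebra.Homology.HomotopyCategory.MappingCone
import Mathlib.Algebra.Category.ModuleCat.Biproducts
import Mathlib.Algebra.Category.ModuleCat.Projective
import Mathlib.RingTheory.Flat.Stability
import Mathlib.RingTheory.Flat.Basic
import Mathlib.LinearAlgebra.TensorProduct.Prod
import Mathlib.RingTheory.Finiteness.Prod

/-!
# DRing core: K-projective representatives, mapping cones, closure properties

For `Dual.D A = DerivedCategory (ModuleCat A)`: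

* `isKProjective_of_vanishesAbove`: bounded above + termwise projective ⇒ K-projective.
* `exists_map_of_isKProjective`: a morphism `toD E ⟶ toD L` in `D(A)` with `E` K-projective is
  `Q.map f` for a chain map `f`.
* `cone_iso`: the third vertex of a distinguished triangle whose first map is `Q.map f`
  (up to isos) is `toD (mappingCone f)`.
* `ModProp`: properties of modules closed under iso / biprod / zero; instances for finite free,
  finite projective, projective, flat. Closure of `Termwise P` under cone and shift.
-/

namespace Groth.Agent.Lib.Helper12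

open CategoryTheory CategoryTheory.Limits DRing CategoryTheory.Pretriangulated

attribute [local instance] HasDerivedCategory.standard

universe u

variable {A : Type u} [CommRing A]

lemma isStrictlyLE_of_vanishesAbove (E : Cx A) (b : ℤ) (h : VanishesAbove E b) :
    E.IsStrictlyLE b := by
  rw [CochainComplex.isStrictlyLE_iff]
  intro i hi
  exact h i hi

lemma vanishesAbove_of_vanishesOutside {E : Cx A} {a b : ℤ} (h : VanishesOutside E a b) :
    VanishesAbove E b := fun i hi => h i (Or.inr hi)

lemma isKProjective_of_vanishesAbove (E : Cx A) (b : ℤ) (h : VanishesAbove E b)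
    (hp : ∀ i, Module.Projective A (E.X i)) : E.IsKProjective := by
  have := isStrictlyLE_of_vanishesAbove E b h
  have : ∀ i, Projective (E.X i) := fun i =>
    (IsProjective.iff_projective (E.X i)).mp (hp i)
  exact CochainComplex.isKProjective_of_projective E b

/-- Morphisms in `D(A)` out of a K-projective complex are represented by chain maps. -/
lemma exists_map_of_isKProjective (E L : Cx A) [E.IsKProjective] (α : toD E ⟶ toD L) :
    ∃ f : E ⟶ L, DerivedCategory.Q.map f = α := by
  obtain ⟨g, hg⟩ := (CochainComplex.IsKProjective.Qh_map_bijective E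
    ((HomotopyCategory.quotient _ _).obj L)).surjective
    ((DerivedCategory.quotientCompQhIso (ModuleCat.{u} A)).hom.app E ≫ α ≫
      (DerivedCategory.quotientCompQhIso (ModuleCat.{u} A)).inv.app L)
  obtain ⟨f, rfl⟩ := (HomotopyCategory.quotient _ _).map_surjective g
  refine ⟨f, ?_⟩
  have h := DerivedCategory.quotientCompQhIso_hom_naturality f
  rw [hg] at h
  simp only [Category.assoc, Iso.inv_hom_id_app, Category.comp_id] at h
  exact ((cancel_epi ((DerivedCategory.quotientCompQhIso (ModuleCat.{u} A)).hom.app E)).mp h).symm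

/-- The third vertex of a distinguished triangle whose first map is represented by the chain
map `f` is the mapping cone of `f`. -/
lemma cone_iso (T : Triangle (Dual.D A)) (hT : T ∈ distTriang (Dual.D A)) {E₁ E₂ : Cx A}
    (e₁ : T.obj₁ ≅ toD E₁) (e₂ : T.obj₂ ≅ toD E₂) (f : E₁ ⟶ E₂)
    (hf : T.mor₁ ≫ e₂.hom = e₁.hom ≫ DerivedCategory.Q.map f) :
    Nonempty (T.obj₃ ≅ toD (CochainComplex.mappingCone f)) := by
  let T' := DerivedCategory.Q.mapTriangle.obj (CochainComplex.mappingCone.triangle f)
  have hT' : T' ∈ distTriang (Dual.D A) := DerivedCategory.mappingCone_triangle_distinguished f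
  exact ⟨Triangle.π₃.mapIso (isoTriangleOfIso₁₂ T T' hT hT' e₁ e₂ hf)⟩

/-- Properties of modules closed under isomorphism, binary biproducts, containing zero. -/
structure ModProp (A : Type u) [CommRing A] where
  P : ModuleCat.{u} A → Prop
  iso : ∀ {M N : ModuleCat.{u} A}, (M ≅ N) → P M → P N
  biprod : ∀ {M N : ModuleCat.{u} A}, P M → P N → P (M ⊞ N)
  zero : ∀ {M : ModuleCat.{u} A}, IsZero M → P M

/-- every term satisfies `P` -/
def Termwise (P : ModProp A) (E : Cx A) : Prop := ∀ i, P.P (E.X i)

lemma isZero_cone_X {E₁ E₂ : Cx A} (f : E₁ ⟶ E₂) (i : ℤ) (h₁ : IsZero (E₁.X (i + 1)))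
    (h₂ : IsZero (E₂.X i)) : IsZero ((CochainComplex.mappingCone f).X i) := by
  refine IsZero.of_iso ?_ (HomologicalComplex.homotopyCofiber.XIsoBiprod f i (i + 1) rfl)
  rw [biprod_isZero_iff]
  exact ⟨h₁, h₂⟩

lemma termwise_cone (P : ModProp A) {E₁ E₂ : Cx A} (f : E₁ ⟶ E₂) (h₁ : Termwise P E₁)
    (h₂ : Termwise P E₂) : Termwise P (CochainComplex.mappingCone f) := fun i =>
  P.iso (HomologicalComplex.homotopyCofiber.XIsoBiprod f i (i + 1) rfl).symm
    (P.biprod (h₁ (i + 1)) (h₂ i))

lemma vanishesAbove_cone {E₁ E₂ : Cx A} (f : E₁ ⟶ E₂) {b₁ b₂ : ℤ} (h₁ : VanishesAbove E₁ b₁)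
    (h₂ : VanishesAbove E₂ b₂) : VanishesAbove (CochainComplex.mappingCone f) (max (b₁ - 1) b₂) := by
  intro i hi
  apply isZero_cone_X
  · exact h₁ _ (by have := le_max_left (b₁ - 1) b₂; omega)
  · exact h₂ _ (by have := le_max_right (b₁ - 1) b₂; omega)

lemma vanishesOutside_cone {E₁ E₂ : Cx A} (f : E₁ ⟶ E₂) {a₁ b₁ a₂ b₂ : ℤ}
    (h₁ : VanishesOutside E₁ a₁ b₁) (h₂ : VanishesOutside E₂ a₂ b₂) :
    VanishesOutside (CochainComplex.mappingCone f) (min (a₁ - 1) a₂) (max (b₁ - 1) b₂) := by
  intro i hi
  apply isZero_cone_X
  · apply h₁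
    have := le_max_left (b₁ - 1) b₂
    have := min_le_left (a₁ - 1) a₂
    omega
  · apply h₂
    have := le_max_right (b₁ - 1) b₂
    have := min_le_right (a₁ - 1) a₂
    omega

lemma vanishesOutside_cone' {E₁ E₂ : Cx A} (f : E₁ ⟶ E₂) {a b : ℤ}
    (h₁ : VanishesOutside E₁ (a + 1) (b + 1)) (h₂ : VanishesOutside E₂ a b) :
    VanishesOutside (CochainComplex.mappingCone f) a b := by
  intro i hi
  apply isZero_cone_X
  · apply h₁; omega
  · apply h₂; omega

/-! ### shifts -/

/-- `toD` commutes with shifts. -/
noncomputable def toDShiftIso (E : Cx A) (n : ℤ) : toD (E⟦n⟧) ≅ (toD E)⟦n⟧ :=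
  (DerivedCategory.Q.commShiftIso n).app E

lemma termwise_shift (P : ModProp A) {E : Cx A} (h : Termwise P E) (n : ℤ) :
    Termwise P (E⟦n⟧) := fun i => h (i + n)

lemma vanishesAbove_shift {E : Cx A} {b : ℤ} (h : VanishesAbove E b) (n : ℤ) :
    VanishesAbove (E⟦n⟧) (b - n) := fun i hi => h (i + n) (by omega)

lemma vanishesOutside_shift {E : Cx A} {a b : ℤ} (h : VanishesOutside E a b) (n : ℤ) :
    VanishesOutside (E⟦n⟧) (a - n) (b - n) := fun i hi => h (i + n) (by omega)

/-! ### the standard module properties -/

theorem flat_prod {R : Type u} [CommRing R] (M N : Type u) [AddCommGroup M] [AddCommGroup N]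
    [Module R M] [Module R N] [Module.Flat R M] [Module.Flat R N] : Module.Flat R (M × N) := by
  rw [Module.Flat.iff_lTensor_preserves_injective_linearMap]
  intro P P' _ _ _ _ f hf
  have h1 := Module.Flat.lTensor_preserves_injective_linearMap (M := M) f hf
  have h2 := Module.Flat.lTensor_preserves_injective_linearMap (M := N) f hf
  have key : (TensorProduct.prodLeft R R M N P').toLinearMap ∘ₗ f.lTensor (M × N) =
      (LinearMap.prodMap (f.lTensor M) (f.lTensor N)) ∘ₗ
        (TensorProduct.prodLeft R R M N P).toLinearMap := by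
    apply TensorProduct.ext'
    rintro ⟨m, n⟩ p
    simp
  have hinj : Function.Injective ((LinearMap.prodMap (f.lTensor M) (f.lTensor N)) ∘ₗ
        (TensorProduct.prodLeft R R M N P).toLinearMap) := by
    rw [LinearMap.coe_comp]
    exact (Function.Injective.prodMap h1 h2).comp (TensorProduct.prodLeft R R M N P).injective
  rw [← key, LinearMap.coe_comp] at hinj
  exact Function.Injective.of_comp hinj

lemma linearEquiv_biprod (M N : ModuleCat.{u} A) : Nonempty (↑(M ⊞ N) ≃ₗ[A] (M × N)) :=
  ⟨(ModuleCat.biprodIsoProd M N).toLinearEquiv⟩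

/-- finite free modules -/
def finiteFree (A : Type u) [CommRing A] : ModProp A where
  P M := Module.Finite A M ∧ Module.Free A M
  iso {M N} e h := by
    have : Module.Finite A M := h.1
    have : Module.Free A M := h.2
    exact ⟨Module.Finite.equiv e.toLinearEquiv, Module.Free.of_equiv e.toLinearEquiv⟩
  biprod {M N} hM hN := by
    have : Module.Finite A M := hM.1
    have : Module.Free A M := hM.2
    have : Module.Finite A N := hN.1
    have : Module.Free A N := hN.2
    obtain ⟨e⟩ := linearEquiv_biprod M N
    exact ⟨Module.Finite.equiv e.symm, Module.Free.of_equiv e.symm⟩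
  zero {M} h := by
    have : Subsingleton M := ModuleCat.subsingleton_of_isZero h
    exact ⟨inferInstance, inferInstance⟩

/-- finite projective modules -/
def finiteProjective (A : Type u) [CommRing A] : ModProp A where
  P M := Module.Finite A M ∧ Module.Projective A M
  iso {M N} e h := by
    have : Module.Finite A M := h.1
    have : Module.Projective A M := h.2
    exact ⟨Module.Finite.equiv e.toLinearEquiv, Module.Projective.of_equiv e.toLinearEquiv⟩
  biprod {M N} hM hN := by
    have : Module.Finite A M := hM.1
    have : Module.Projective A M := hM.2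
    have : Module.Finite A N := hN.1
    have : Module.Projective A N := hN.2
    obtain ⟨e⟩ := linearEquiv_biprod M N
    exact ⟨Module.Finite.equiv e.symm, Module.Projective.of_equiv e.symm⟩
  zero {M} h := by
    have : Subsingleton M := ModuleCat.subsingleton_of_isZero h
    exact ⟨inferInstance, inferInstance⟩

/-- projective modules -/
def projectiveP (A : Type u) [CommRing A] : ModProp A where
  P M := Module.Projective A M
  iso {M N} e h := by
    have : Module.Projective A M := h
    exact Module.Projective.of_equiv e.toLinearEquiv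
  biprod {M N} hM hN := by
    have : Module.Projective A M := hM
    have : Module.Projective A N := hN
    obtain ⟨e⟩ := linearEquiv_biprod M N
    exact Module.Projective.of_equiv e.symm
  zero {M} h := by
    have : Subsingleton M := ModuleCat.subsingleton_of_isZero h
    infer_instance

/-- flat modules -/
def flatP (A : Type u) [CommRing A] : ModProp A where
  P M := Module.Flat A M
  iso {M N} e h := by
    have : Module.Flat A M := h
    exact Module.Flat.of_linearEquiv e.symm.toLinearEquiv
  biprod {M N} hM hN := by
    have : Module.Flat A M := hM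
    have : Module.Flat A N := hN
    obtain ⟨e⟩ := linearEquiv_biprod M N
    have := flat_prod (R := A) M N
    exact Module.Flat.of_linearEquiv e
  zero {M} h := by
    have : Subsingleton M := ModuleCat.subsingleton_of_isZero h
    infer_instance

lemma termwiseFiniteFree_iff (E : Cx A) : TermwiseFiniteFree E ↔ Termwise (finiteFree A) E :=
  Iff.rfl

lemma termwiseFiniteProjective_iff (E : Cx A) :
    TermwiseFiniteProjective E ↔ Termwise (finiteProjective A) E := Iff.rfl

lemma termwiseFlat_iff (E : Cx A) : TermwiseFlat E ↔ Termwise (flatP A) E := Iff.rfl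

end Groth.Agent.Lib.Helper12
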