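import Groth.Agent.Lib.Helper12.DRingTorAmpDescent
import Mathlib.Data.Fintype.Order

/-!
# Descent along a finite jointly faithfully flat family of flat algebras
-/

namespace Groth.Agent.Lib.Helper12

open CategoryTheory CategoryTheory.Limits DRing CategoryTheory.Pretriangulated CochainComplex

attribute [local instance] HasDerivedCategory.standard

universe u

variable {A : Type u} [CommRing A] {ι : Type*} (B : ι → Type u) [∀ i, CommRing (B i)]
  [∀ i, Algebra A (B i)]

variable (A) in
/-- the family of algebras `B i` detects zero modules, finite modules and flat modules -/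
structure JointlyFF : Prop where
  isZero : ∀ M : ModuleCat.{u} A, (∀ i, IsZero ((extSc A (B i)).obj M)) → IsZero M
  finite : ∀ M : ModuleCat.{u} A, (∀ i, Module.Finite (B i) ((extSc A (B i)).obj M)) →
    Module.Finite A M
  flat : ∀ M : ModuleCat.{u} A, (∀ i, Module.Flat (B i) ((extSc A (B i)).obj M)) →
    Module.Flat A M

variable {B} [∀ i, Module.Flat A (B i)]

lemma JointlyFF.isZero_HF (h : JointlyFF A B) (K : Dual.D A) (j : ℤ)
    (hz : ∀ i, IsZero ((HF (B i) j).obj ((extScD A (B i)).obj K))) : IsZero ((HF A j).obj K) :=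
  h.isZero _ (fun i => (hz i).of_iso ((HFExtIso (A := A) (B := B i) j).app K).symm)

theorem isPseudoCoherent_of_family_aux (h : JointlyFF A B) (m : ℤ) :
    ∀ (n : ℕ) (b : ℤ), b < m + n →
    ∀ (K : Dual.D A), (∀ i, IsPseudoCoherent (B i) m ((extScD A (B i)).obj K)) →
    (∀ j : ℤ, b < j → IsZero ((HF A j).obj K)) → IsPseudoCoherent A m K := by
  intro n
  induction n with
  | zero =>
    intro b hb K _ hz
    exact isPseudoCoherent_of_isZero_HF m K (fun i hi => hz i (by simp at hb; omega))
  | succ n ih =>
    intro b hb K hK hz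
    by_cases hbm : b < m
    · exact isPseudoCoherent_of_isZero_HF m K (fun i hi => hz i (by omega))
    · have hfinA : Module.Finite A ((HF A b).obj K) := by
        refine h.finite _ (fun i => ?_)
        have hfinB : Module.Finite (B i) ((HF (B i) b).obj ((extScD A (B i)).obj K)) :=
          Groth.Agent.S2068.part_a _ b (isPseudoCoherent_mono (hK i) (by omega))
            (fun j hj => isZero_HF_extScD K j (hz j hj))
        have hfinB'' : Module.Finite (B i) ((extScD A (B i) ⋙ HF (B i) b).obj K) := hfinB
        exact Module.Finite.equiv ((HFExtIso (A := A) (B := B i) b).app K).toLinearEquiv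
      obtain ⟨r, p, hp⟩ := Module.Finite.exists_fin' A ((HF A b).obj K)
      let F : ModuleCat.{u} A := ModuleCat.of A (Fin r → A)
      have hFfin : Module.Finite A F := inferInstanceAs (Module.Finite A (Fin r → A))
      have hFfree : Module.Free A F := inferInstanceAs (Module.Free A (Fin r → A))
      have hFproj : Module.Projective A F := inferInstance
      obtain ⟨γ, hγ⟩ := exists_hom_from_single_epi K b hz F hFproj (ModuleCat.ofHom p)
        ((ModuleCat.epi_iff_surjective _).mpr hp)
      have hγconn : IsConn b γ := by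
        refine ⟨fun i hi => ?_, hγ⟩
        exact ⟨⟨0, (isZero_HF_toD_singleCx b F i (by omega)).eq_of_src _ _,
          (hz i hi).eq_of_src _ _⟩⟩
      obtain ⟨C, c, d, hT⟩ := distinguished_cocone_triangle γ
      have hCz : ∀ j : ℤ, b - 1 < j → IsZero ((HF A j).obj C) := fun j hj =>
        IsConn.cone _ hT hγconn j (by omega)
      have hSff : TermwiseFiniteFree (singleCx b F) := by
        intro i
        by_cases hi : i = b
        · subst hi
          exact (finiteFree A).iso
            (HomologicalComplex.singleObjXSelf (ComplexShape.up ℤ) i F).symm ⟨hFfin, hFfree⟩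
        · exact (finiteFree A).zero (isZero_singleCx_X b F i hi)
      have hS : ∀ m' : ℤ, IsPseudoCoherent A m' (toD (singleCx b F)) := fun m' =>
        isPseudoCoherent_toD_of_bounded_ff _ b b (vanishesOutside_singleCx b F) hSff m'
      have h3 : ∀ i, IsPseudoCoherent (B i) m ((extScD A (B i)).obj C) := by
        intro i
        have hT' := (extScD A (B i)).map_distinguished _ hT
        have h1 : IsPseudoCoherent (B i) (m + 1) ((extScD A (B i)).obj (toD (singleCx b F))) :=
          isPseudoCoherent_extScD _ _ (hS _)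
        exact (isPseudoCoherent_two_out_of_three _ hT' m).1 h1 (hK i)
      have hC : IsPseudoCoherent A m C := ih (b - 1) (by push_cast at hb; omega) C h3 hCz
      exact (isPseudoCoherent_two_out_of_three _ hT m).2.1 (hS m) hC

/-- `m`-pseudo-coherence descends along a finite jointly faithfully flat family -/
theorem isPseudoCoherent_of_family [Finite ι] (h : JointlyFF A B) {m : ℤ} {K : Dual.D A}
    (hK : ∀ i, IsPseudoCoherent (B i) m ((extScD A (B i)).obj K)) : IsPseudoCoherent A m K := by
  choose b hb using fun i => exists_bound_of_isPseudoCoherent (hK i)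
  obtain ⟨b', hb'⟩ := Finite.exists_le b
  exact isPseudoCoherent_of_family_aux h m (b' - m + 1).toNat b' (by omega) K hK
    (fun j hj => h.isZero_HF K j (fun i => hb i j (by have := hb' i; omega)))

theorem isPseudoCoherent'_of_family [Finite ι] (h : JointlyFF A B) {K : Dual.D A}
    (hK : ∀ i, IsPseudoCoherent' (B i) ((extScD A (B i)).obj K)) : IsPseudoCoherent' A K := by
  rw [← isPseudoCoherent'_iff_forall]
  intro m
  exact isPseudoCoherent_of_family h (fun i => isPseudoCoherent_of_isPseudoCoherent' (hK i) m)

/-- descent of tor amplitude along a jointly faithfully flat family -/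
theorem hasTorAmplitudeIn_of_family (h : JointlyFF A B) (a b : ℤ) (K : Dual.D A)
    (hK : ∀ i, HasTorAmplitudeIn (B i) a b ((extScD A (B i)).obj K)) :
    HasTorAmplitudeIn A a b K := by
  have hH : ∀ j : ℤ, j < a ∨ b < j → IsZero ((HF A j).obj K) := fun j hj =>
    h.isZero_HF K j (fun i => isZero_HF_of_hasTorAmplitudeIn (hK i) j hj)
  obtain ⟨Q, hQb, hQp, ⟨eQ⟩⟩ := exists_projective_rep K b (fun i hi => hH i (Or.inr hi))
  have hQfl : ∀ j, Module.Flat A (Q.X j) := fun j => by
    have := hQp j
    infer_instance
  have hfl' : Module.Flat A (Q.opcycles a) := by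
    refine h.flat _ (fun i => ?_)
    have hamp : HasTorAmplitudeIn (B i) a b (toD (extCx A (B i) Q)) :=
      hasTorAmplitudeIn_of_iso ((extScD A (B i)).mapIso eQ.symm ≪≫ extScD_toD Q) (hK i)
    have hfl : Module.Flat (B i) ((extCx A (B i) Q).opcycles a) :=
      flat_opcycles_of_hasTorAmplitudeIn (extCx A (B i) Q) b (vanishesAbove_extCx Q b hQb) a b
        (fun j _ => by
          have := hQfl j
          exact extSc_flat (Q.X j)) hamp
    exact Module.Flat.of_linearEquiv (opcyclesExtIso (B := B i) Q a).symm.toLinearEquiv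
  obtain ⟨G, hG, hGt, ⟨e⟩⟩ := exists_rep_of_quasiIsoAt (flatP A) flatP_kerClosed (𝟙 Q) a b b
    (fun i _ => inferInstance) hQb (fun j _ => hQfl j) hfl'
    (fun i hi => (hH i hi).of_iso ((HF A i).mapIso eQ))
  exact ⟨G, hG, hGt, ⟨e ≪≫ eQ⟩⟩

lemma hasTorAmplitudeIn_mono {K : Dual.D A} {a b a' b' : ℤ} (h : HasTorAmplitudeIn A a b K)
    (ha : a' ≤ a) (hb : b ≤ b') : HasTorAmplitudeIn A a' b' K := by
  obtain ⟨F, hF, hfl, e⟩ := h
  exact ⟨F, fun i hi => hF i (by omega), hfl, e⟩

/-- descent of perfectness along a finite jointly faithfully flat family -/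
theorem isPerfect_of_family [Finite ι] (h : JointlyFF A B) (K : Dual.D A)
    (hK : ∀ i, IsPerfect (B i) ((extScD A (B i)).obj K)) : IsPerfect A K := by
  have hpc : IsPseudoCoherent' A K :=
    isPseudoCoherent'_of_family h (fun i => isPseudoCoherent'_of_isPerfect (hK i))
  choose E a b hE hfp e using hK
  obtain ⟨b', hb'⟩ := Finite.exists_le b
  obtain ⟨a', ha'⟩ := Finite.exists_ge a
  have hamp : HasTorAmplitudeIn A a' b' K :=
    hasTorAmplitudeIn_of_family h a' b' K (fun i => hasTorAmplitudeIn_mono
      ⟨E i, hE i, termwiseFlat_of_termwiseFiniteProjective (hfp i), e i⟩ (ha' i) (hb' i))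
  obtain ⟨G, hG, hGfp, ⟨e'⟩⟩ := exists_finiteProjective_rep_of_isPseudoCoherent' hpc hamp
  exact ⟨G, a', b', hG, hGfp, ⟨e'⟩⟩

end Groth.Agent.Lib.Helper12
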