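import Groth.Agent.Lib.Helper12.DRingPCShift
import Mathlib.Algebra.Module.FinitePresentation

/-!
# Finiteness of the cohomology of pseudo-coherent objects
-/

namespace Groth.Agent.Lib.Helper12

open CategoryTheory CategoryTheory.Limits DRing CategoryTheory.Pretriangulated
open DerivedCategory

attribute [local instance] HasDerivedCategory.standard

universe u

variable {A : Type u} [CommRing A]

/-- the kernel of a surjection from a finite projective module onto a projective module is
finite projective -/
lemma finite_projective_ker {M N : Type u} [AddCommGroup M] [Module A M] [AddCommGroup N]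
    [Module A N] [Module.Finite A M] [Module.Projective A M] [Module.Projective A N]
    (g : M →ₗ[A] N) (hg : Function.Surjective g) :
    Module.Finite A (LinearMap.ker g) ∧ Module.Projective A (LinearMap.ker g) := by
  obtain ⟨s, hs⟩ := Module.projective_lifting_property g LinearMap.id hg
  let r : M →ₗ[A] LinearMap.ker g :=
    LinearMap.codRestrict (LinearMap.ker g) (LinearMap.id - s ∘ₗ g) (by
      intro x
      have := LinearMap.congr_fun hs (g x)
      simp only [LinearMap.comp_apply, LinearMap.id_apply] at this
      simp [this])
  have hr : r ∘ₗ (LinearMap.ker g).subtype = LinearMap.id := by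
    ext ⟨x, hx⟩
    have hx' : g x = 0 := hx
    simp [r, hx']
  have hrs : Function.Surjective r := fun y => ⟨y, LinearMap.congr_fun hr y⟩
  exact ⟨Module.Finite.of_surjective r hrs, Module.Projective.of_split _ r hr⟩

/-- `H^i(toD E)` vanishes when `E.X i` does. -/
lemma isZero_HF_toD_of_isZero_X (E : Cx A) (i : ℤ) (h : IsZero (E.X i)) :
    IsZero ((HF A i).obj (toD E)) := by
  refine IsZero.of_iso ?_ ((DerivedCategory.homologyFunctorFactors (ModuleCat.{u} A) i).app E)
  have hex : E.ExactAt i := ShortComplex.exact_of_isZero_X₂ _ h
  exact hex.isZero_homology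

/-- `H^a(toD (single_a M)) ≅ M` -/
noncomputable def HFToDSingleIso (a : ℤ) (M : ModuleCat.{u} A) :
    (HF A a).obj (toD (singleCx a M)) ≅ M :=
  HFSingleIso a M

/-- A bounded complex of finite projective modules in degrees `[m, b]` which is exact in degrees
`> m` has finite projective `H^m`. -/
theorem finite_projective_HF_bottom (n : ℕ) : ∀ (m b : ℤ) (E : Cx A), b < m + n →
    VanishesOutside E m b → Termwise (finiteProjective A) E →
    (∀ i : ℤ, m < i → IsZero ((HF A i).obj (toD E))) →
    Module.Finite A ((HF A m).obj (toD E)) ∧ Module.Projective A ((HF A m).obj (toD E)) := by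
  induction n with
  | zero =>
    intro m b E hb hE _ _
    have hz : IsZero ((HF A m).obj (toD E)) :=
      isZero_HF_toD_of_isZero_X E m (hE m (Or.inr (by simp at hb; omega)))
    have : Subsingleton ((HF A m).obj (toD E)) := ModuleCat.subsingleton_of_isZero hz
    exact ⟨inferInstance, inferInstance⟩
  | succ n ih =>
    intro m b E hb hE hterm hex
    have h0 : IsZero (E.X (m - 1)) := hE (m - 1) (Or.inl (by omega))
    have hT := bottomTriangle_distinguished E m h0
    set T := bottomTriangle E m h0 with hTdef
    -- the truncation
    have hCterm : Termwise (finiteProjective A) (bottomKer E m h0) := by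
      intro i
      by_cases hi : i = m
      · subst hi; exact (finiteProjective A).zero (isZero_bottomKer_X_self E i h0)
      · exact (finiteProjective A).iso (bottomKerXIsoOfNe E m h0 i hi).symm (hterm i)
    have hCex : ∀ i : ℤ, m + 1 < i → IsZero ((HF A i).obj (toD (bottomKer E m h0))) := by
      intro i hi
      have hex1 := HomologySequence.exact₁ T hT (i - 1) i (by omega)
      refine hex1.isZero_of_both_zeros ?_ ?_
      · exact (isZero_HF_toD_singleCx m _ (i - 1) (by omega)).eq_of_src _ _
      · exact (hex i (by omega)).eq_of_tgt _ _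
    obtain ⟨hNfin, hNproj⟩ := ih (m + 1) b (bottomKer E m h0) (by push_cast at hb; omega)
      (vanishesOutside_bottomKer hE) hCterm hCex
    -- the short exact sequence
    have hz1 : IsZero ((HF A m).obj T.obj₁) :=
      isZero_HF_toD_of_isZero_X _ m (isZero_bottomKer_X_self E m h0)
    have hmono : Mono ((HF A m).map T.mor₂) := by
      rw [HomologySequence.mono_homologyMap_mor₂_iff _ hT]
      exact hz1.eq_of_src _ _
    have hepi : Epi (HomologySequence.δ T m (m + 1) rfl) := by
      have hex1 := HomologySequence.exact₁ T hT m (m + 1) rfl
      exact hex1.epi_f ((hex (m + 1) (by omega)).eq_of_tgt _ _)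
    have hex3 := HomologySequence.exact₃ T hT m (m + 1) rfl
    rw [ModuleCat.mono_iff_injective] at hmono
    rw [ModuleCat.epi_iff_surjective] at hepi
    have hrange := hex3.moduleCat_range_eq_ker
    -- middle term
    have hMfin : Module.Finite A ((HF A m).obj T.obj₃) ∧
        Module.Projective A ((HF A m).obj T.obj₃) :=
      (finiteProjective A).iso (HFToDSingleIso m (E.X m)).symm (hterm m)
    obtain ⟨hM1, hM2⟩ := hMfin
    have hN1 : Module.Finite A ((HF A (m + 1)).obj T.obj₁) := hNfin
    have hN2 : Module.Projective A ((HF A (m + 1)).obj T.obj₁) := hNproj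
    obtain ⟨hk1, hk2⟩ := finite_projective_ker (HomologySequence.δ T m (m + 1) rfl).hom hepi
    let e : (HF A m).obj T.obj₂ ≃ₗ[A] LinearMap.ker (HomologySequence.δ T m (m + 1) rfl).hom :=
      (LinearEquiv.ofInjective ((HF A m).map T.mor₂).hom hmono).trans
        (LinearEquiv.ofEq _ _ hrange)
    exact ⟨Module.Finite.equiv e.symm, Module.Projective.of_equiv e.symm⟩

end Groth.Agent.Lib.Helper12
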