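import Groth.Agent.Lib.Helper12.FlatExact
import Groth.Agent.Lib.Helper12.DRingCone
import Mathlib.Algebra.Homology.ShortComplex.ModuleCat

/-!
# Acyclic bounded above complexes with flat terms
-/

namespace Groth.Agent.Lib.Helper12

open CategoryTheory CategoryTheory.Limits DRing

universe u

variable {A : Type u} [CommRing A]

/-- the submodule of cycles in degree `i` -/
def Zc (C : Cx A) (i : ℤ) : Submodule A (C.X i) := LinearMap.ker (C.d i (i + 1)).hom

lemma range_d_eq_ker_d (C : Cx A) (i j k : ℤ) (hij : i + 1 = j) (hjk : j + 1 = k)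
    (hex : C.ExactAt j) :
    LinearMap.range (C.d i j).hom = LinearMap.ker (C.d j k).hom := by
  have h := (C.exactAt_iff' i j k (by simp; omega) (by simp; omega)).1 hex
  exact (ShortComplex.moduleCat_exact_iff_range_eq_ker _).1 h

lemma d_comp_d_apply (C : Cx A) (i j k : ℤ) (x : C.X i) :
    (C.d j k).hom ((C.d i j).hom x) = 0 := by
  have h := C.d_comp_d i j k
  exact congrArg (fun φ => φ.hom x) h

/-- the differential, corestricted to the cycles -/
def dToZc (C : Cx A) (i : ℤ) : C.X i →ₗ[A] Zc C (i + 1) :=
  LinearMap.codRestrict (Zc C (i + 1)) (C.d i (i + 1)).hom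
    (fun x => by
      change (C.d (i + 1) (i + 1 + 1)).hom ((C.d i (i + 1)).hom x) = 0
      exact d_comp_d_apply C _ _ _ x)

lemma dToZc_surjective (C : Cx A) (i : ℤ) (hex : C.ExactAt (i + 1)) :
    Function.Surjective (dToZc C i) := by
  rintro ⟨z, hz⟩
  have h := range_d_eq_ker_d C i (i + 1) (i + 1 + 1) rfl rfl hex
  have hz' : z ∈ LinearMap.range (C.d i (i + 1)).hom := by rw [h]; exact hz
  obtain ⟨x, hx⟩ := hz'
  exact ⟨x, Subtype.ext hx⟩

lemma flat_of_isZero (M : ModuleCat.{u} A) (h : IsZero M) : Module.Flat A M := by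
  have : Subsingleton M := ModuleCat.subsingleton_of_isZero h
  infer_instance

/-- cycles of an acyclic bounded above complex of flat modules are flat -/
theorem flat_Zc (C : Cx A) (hac : ∀ i, C.ExactAt i) (b : ℤ) (hb : VanishesAbove C b) :
    ∀ (n : ℕ) (i : ℤ), b < i + n → (∀ j : ℤ, i ≤ j → Module.Flat A (C.X j)) →
      Module.Flat A (Zc C i) := by
  intro n
  induction n with
  | zero =>
    intro i hi _
    have : Subsingleton (C.X i) := ModuleCat.subsingleton_of_isZero (hb i (by simpa using hi))
    have : Subsingleton (Zc C i) := inferInstance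
    infer_instance
  | succ n ih =>
    intro i hi hfl
    have h1 : Module.Flat A (Zc C (i + 1)) :=
      ih (i + 1) (by push_cast at hi; omega) (fun j hj => hfl j (by omega))
    have h2 : Module.Flat A (C.X i) := hfl i le_rfl
    refine flat_of_exact_left (Zc C i).subtype (dToZc C i) Subtype.val_injective
      (dToZc_surjective C i (hac _)) ?_
    intro x
    constructor
    · intro hx
      have hx' : (C.d i (i + 1)).hom x = 0 := congrArg Subtype.val hx
      exact ⟨⟨x, hx'⟩, rfl⟩
    · rintro ⟨z, rfl⟩
      exact Subtype.ext z.2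

/-- in an acyclic bounded above complex vanishing below `a` and flat in degrees `≥ a + 2`, the term
in degree `a` is flat iff the term in degree `a + 1` is -/
theorem flat_iff_of_acyclic (C : Cx A) (hac : ∀ i, C.ExactAt i) (a b : ℤ)
    (hb : VanishesAbove C b) (hlow : ∀ i : ℤ, i < a → IsZero (C.X i))
    (hfl : ∀ j : ℤ, a + 2 ≤ j → Module.Flat A (C.X j)) :
    Module.Flat A (C.X a) ↔ Module.Flat A (C.X (a + 1)) := by
  have hZ : Module.Flat A (Zc C (a + 1 + 1)) :=
    flat_Zc C hac b hb (b - a + 1).toNat (a + 1 + 1) (by omega) (fun j hj => hfl j (by omega))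
  let g : C.X a →ₗ[A] C.X (a + 1) := (C.d a (a + 1)).hom
  let f : C.X (a + 1) →ₗ[A] Zc C (a + 1 + 1) := dToZc C (a + 1)
  have hf : Function.Surjective f := dToZc_surjective C (a + 1) (hac _)
  have hg : Function.Injective g := by
    rw [← LinearMap.ker_eq_bot, ← range_d_eq_ker_d C (a - 1) a (a + 1) (by omega) rfl (hac a)]
    have h0 : C.d (a - 1) a = 0 := (hlow (a - 1) (by omega)).eq_of_src _ _
    rw [h0]
    exact LinearMap.range_zero
  have hex : Function.Exact g f := by
    intro x
    have h := range_d_eq_ker_d C a (a + 1) (a + 1 + 1) rfl rfl (hac _)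
    constructor
    · intro hx
      have hx' : (C.d (a + 1) (a + 1 + 1)).hom x = 0 := congrArg Subtype.val hx
      have : x ∈ LinearMap.range (C.d a (a + 1)).hom := by rw [h]; exact hx'
      exact this
    · rintro ⟨y, rfl⟩
      exact Subtype.ext (d_comp_d_apply C _ _ _ y)
  constructor
  · intro h
    exact flat_of_exact_middle g f hg hf hex
  · intro h
    exact flat_of_exact_left g f hg hf hex

end Groth.Agent.Lib.Helper12
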