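import Groth.Agent.Lib.Helper12.DRingFlatAcyclic
import Groth.Agent.Lib.Helper12.DRingFinite
import Mathlib.Algebra.Homology.HomotopyCategory.MappingCone
import Mathlib.Algebra.Homology.DerivedCategory.Basic

/-!
# Flatness of the bottom term along a quasi-isomorphism (mapping cone argument)
-/
namespace Groth.Agent.Lib.Helper12

open CategoryTheory CategoryTheory.Limits DRing CochainComplex HomComplex CategoryTheory.Pretriangulated

attribute [local instance] HasDerivedCategory.standard

universe u

variable {A : Type u} [CommRing A] {X Y : Cx A} (φ : X ⟶ Y)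

/-- the linear equivalence `cone(φ)^p ≃ X^{p+1} × Y^p` -/
noncomputable def mappingConeXEquiv' (p q : ℤ) (hpq : p + 1 = q) :
    (mappingCone φ).X p ≃ₗ[A] (X.X q × Y.X p) := by
  subst hpq
  exact ((HomologicalComplex.homotopyCofiber.XIsoBiprod φ p (p + 1) rfl).trans
    (ModuleCat.biprodIsoProd _ _)).toLinearEquiv

lemma isZero_toD_mappingCone_of_quasiIso [QuasiIso φ] : IsZero (toD (mappingCone φ)) := by
  have hT := DerivedCategory.mappingCone_triangle_distinguished φ
  have hiso : IsIso (DerivedCategory.Q.map φ) :=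
    (DerivedCategory.isIso_Q_map_iff_quasiIso _ φ).mpr inferInstance
  exact (Triangle.isZero₃_iff_isIso₁ _ hT).2 hiso

lemma exactAt_of_isZero_toD (C : Cx A) (h : IsZero (toD C)) (i : ℤ) : C.ExactAt i := by
  rw [HomologicalComplex.exactAt_iff_isZero_homology]
  have h1 : IsZero ((DerivedCategory.homologyFunctor (ModuleCat.{u} A) i).obj (toD C)) :=
    Functor.map_isZero _ h
  exact h1.of_iso ((DerivedCategory.homologyFunctorFactors (ModuleCat.{u} A) i).app C).symm

lemma exactAt_mappingCone_of_quasiIso [QuasiIso φ] (i : ℤ) : (mappingCone φ).ExactAt i :=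
  exactAt_of_isZero_toD _ (isZero_toD_mappingCone_of_quasiIso φ) i


lemma flat_prod_iff_right (M N : Type u) [AddCommGroup M] [AddCommGroup N]
    [Module A M] [Module A N] [Module.Flat A M] : Module.Flat A (M × N) ↔ Module.Flat A N := by
  constructor
  · intro h
    exact Module.Flat.of_retract (LinearMap.inr A M N) (LinearMap.snd A M N) (by ext; simp)
  · intro h
    exact flat_prod M N

lemma flat_prod_iff_left (M N : Type u) [AddCommGroup M] [AddCommGroup N]
    [Module A M] [Module A N] [Module.Flat A N] : Module.Flat A (M × N) ↔ Module.Flat A M := by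
  constructor
  · intro h
    exact Module.Flat.of_retract (LinearMap.inl A M N) (LinearMap.fst A M N) (by ext; simp)
  · intro h
    exact flat_prod M N

/-- **Lemma B**: along a quasi-isomorphism of bounded above complexes vanishing below `a` and
flat above `a`, flatness of the bottom term transfers. -/
theorem flat_bottom_iff_of_quasiIso [QuasiIso φ] (a' a b : ℤ) (ha : a' + 1 = a)
    (hXb : VanishesAbove X b) (hYb : VanishesAbove Y b)
    (hXlow : ∀ i : ℤ, i < a → IsZero (X.X i)) (hYlow : ∀ i : ℤ, i < a → IsZero (Y.X i))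
    (hXfl : ∀ j : ℤ, a < j → Module.Flat A (X.X j))
    (hYfl : ∀ j : ℤ, a < j → Module.Flat A (Y.X j)) :
    Module.Flat A (X.X a) ↔ Module.Flat A (Y.X a) := by
  subst ha
  have hac : ∀ i, (mappingCone φ).ExactAt i := fun i => exactAt_mappingCone_of_quasiIso φ i
  have hb := vanishesAbove_cone φ hXb hYb
  have hlow : ∀ i : ℤ, i < a' → IsZero ((mappingCone φ).X i) := fun i hi =>
    isZero_cone_X φ i (hXlow _ (by omega)) (hYlow _ (by omega))
  have hfl : ∀ j : ℤ, a' + 2 ≤ j → Module.Flat A ((mappingCone φ).X j) := by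
    intro j hj
    have h1 : Module.Flat A (X.X (j + 1)) := hXfl _ (by omega)
    have h2 : Module.Flat A (Y.X j) := hYfl _ (by omega)
    have := flat_prod (R := A) (X.X (j + 1)) (Y.X j)
    exact Module.Flat.of_linearEquiv (mappingConeXEquiv' φ j (j + 1) rfl)
  have key := flat_iff_of_acyclic (mappingCone φ) hac a' _ hb hlow hfl
  have e1 := Module.Flat.equiv_iff (mappingConeXEquiv' φ a' (a' + 1) rfl)
  have e2 := Module.Flat.equiv_iff (mappingConeXEquiv' φ (a' + 1) (a' + 1 + 1) rfl)
  have hz : Module.Flat A (Y.X a') := flat_of_isZero _ (hYlow _ (by omega))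
  have hf : Module.Flat A (X.X (a' + 1 + 1)) := hXfl _ (by omega)
  rw [← flat_prod_iff_left (X.X (a' + 1)) (Y.X a'), ← e1, key, e2, flat_prod_iff_right]

end Groth.Agent.Lib.Helper12
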