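import Groth.Agent.Lib.Helper12.DRingFlatCone
import Mathlib.Algebra.Homology.Embedding.CochainComplex

/-!
# Flatness of `opcycles` transfers along maps which are quasi-isomorphisms in degrees `≥ a`
-/

namespace Groth.Agent.Lib.Helper12

open CategoryTheory CategoryTheory.Limits DRing CochainComplex

attribute [local instance] HasDerivedCategory.standard

universe u

variable {A : Type u} [CommRing A]

lemma isZero_opcycles_of_isZero (X : Cx A) (i : ℤ) (h : IsZero (X.X i)) : IsZero (X.opcycles i) := by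
  rw [IsZero.iff_id_eq_zero, ← cancel_epi (X.pOpcycles i)]
  exact h.eq_of_src _ _

lemma isZero_truncGE_X_of_lt (X : Cx A) (a i : ℤ) (hi : i < a) : IsZero ((X.truncGE a).X i) :=
  (X.truncGE a).isZero_of_isStrictlyGE a i hi

lemma vanishesAbove_truncGE (X : Cx A) (a b : ℤ) (h : VanishesAbove X b) :
    VanishesAbove (X.truncGE a) b := by
  intro i hi
  rcases lt_trichotomy i a with h1 | h1 | h1
  · exact isZero_truncGE_X_of_lt X a i h1
  · subst h1
    exact (isZero_opcycles_of_isZero X i (h i hi)).of_iso (X.truncGEXIsoOpcycles i)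
  · exact (h i hi).of_iso (X.truncGEXIso a i h1)

lemma flat_truncGE_X (X : Cx A) (a j : ℤ) (hj : a < j) (h : Module.Flat A (X.X j)) :
    Module.Flat A ((X.truncGE a).X j) :=
  Module.Flat.of_linearEquiv (X.truncGEXIso a j hj).toLinearEquiv

lemma flat_truncGE_X_self_iff (X : Cx A) (a : ℤ) :
    Module.Flat A ((X.truncGE a).X a) ↔ Module.Flat A (X.opcycles a) :=
  Module.Flat.equiv_iff (X.truncGEXIsoOpcycles a).toLinearEquiv

/-- **Core transfer**: if `f : X ⟶ Y` is a quasi-isomorphism in all degrees `≥ a`, both complexes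
are bounded above and flat in degrees `> a`, then `opcycles a` of `X` is flat iff that of `Y` is. -/
theorem flat_opcycles_iff_of_quasiIsoAt {X Y : Cx A} (f : X ⟶ Y) (a b : ℤ)
    (hf : ∀ i : ℤ, a ≤ i → QuasiIsoAt f i)
    (hXb : VanishesAbove X b) (hYb : VanishesAbove Y b)
    (hXfl : ∀ j : ℤ, a < j → Module.Flat A (X.X j))
    (hYfl : ∀ j : ℤ, a < j → Module.Flat A (Y.X j)) :
    Module.Flat A (X.opcycles a) ↔ Module.Flat A (Y.opcycles a) := by
  have hq : QuasiIso (truncGEMap f a) := (quasiIso_truncGEMap_iff f a).2 hf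
  rw [← flat_truncGE_X_self_iff, ← flat_truncGE_X_self_iff]
  exact flat_bottom_iff_of_quasiIso (truncGEMap f a) (a - 1) a b (by omega)
    (vanishesAbove_truncGE X a b hXb) (vanishesAbove_truncGE Y a b hYb)
    (fun i hi => isZero_truncGE_X_of_lt X a i hi) (fun i hi => isZero_truncGE_X_of_lt Y a i hi)
    (fun j hj => flat_truncGE_X X a j hj (hXfl j hj))
    (fun j hj => flat_truncGE_X Y a j hj (hYfl j hj))

/-- if `X` vanishes in degree `a - 1` then `opcycles a` is `X a` -/
lemma isIso_pOpcycles_of_isZero (X : Cx A) (a' a : ℤ) (ha : a' + 1 = a) (h : IsZero (X.X a')) :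
    IsIso (X.pOpcycles a) :=
  X.isIso_pOpcycles a' a (by simp; omega) (h.eq_of_src _ _)

lemma flat_opcycles_iff_of_isZero (X : Cx A) (a' a : ℤ) (ha : a' + 1 = a) (h : IsZero (X.X a')) :
    Module.Flat A (X.opcycles a) ↔ Module.Flat A (X.X a) := by
  have := isIso_pOpcycles_of_isZero X a' a ha h
  exact (Module.Flat.equiv_iff (asIso (X.pOpcycles a)).toLinearEquiv).symm

end Groth.Agent.Lib.Helper12
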