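import Groth.Agent.Lib.Helper12.DRingCanTrunc

/-!
# Four lemmas for the third component of a morphism of distinguished triangles in `D(A)`
-/

namespace Groth.Agent.Lib.Helper12

open CategoryTheory CategoryTheory.Limits DRing CategoryTheory.Pretriangulated
open DerivedCategory

attribute [local instance] HasDerivedCategory.standard

universe u

variable {A : Type u} [CommRing A]

section

variable {T' T : Triangle (Dual.D A)} (hT' : T' ∈ distTriang (Dual.D A))
  (hT : T ∈ distTriang (Dual.D A)) (φ : T' ⟶ T) (i : ℤ)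

include hT' hT

/-- epi four lemma for `H^i(φ.hom₃)` -/
lemma epi_HF_hom₃ (h1 : Epi ((HF A i).map φ.hom₂)) (h2 : Epi ((HF A (i + 1)).map φ.hom₁))
    (h3 : Mono ((HF A (i + 1)).map φ.hom₂)) : Epi ((HF A i).map φ.hom₃) := by
  rw [ModuleCat.epi_iff_surjective] at h1 h2 ⊢
  rw [ModuleCat.mono_iff_injective] at h3
  intro z
  -- naturality
  have nat2 : (HF A i).map T'.mor₂ ≫ (HF A i).map φ.hom₃ =
      (HF A i).map φ.hom₂ ≫ (HF A i).map T.mor₂ := by
    rw [← Functor.map_comp, ← Functor.map_comp, φ.comm₂]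
  have nat1 : (HF A (i + 1)).map T'.mor₁ ≫ (HF A (i + 1)).map φ.hom₂ =
      (HF A (i + 1)).map φ.hom₁ ≫ (HF A (i + 1)).map T.mor₁ := by
    rw [← Functor.map_comp, ← Functor.map_comp, φ.comm₁]
  have natδ : (HF A i).map φ.hom₃ ≫ HomologySequence.δ T i (i + 1) rfl =
      HomologySequence.δ T' i (i + 1) rfl ≫ (HF A (i + 1)).map φ.hom₁ :=
    (DerivedCategory.homologyFunctor (ModuleCat.{u} A) 0).homologySequenceδ_naturality T' T φ i
      (i + 1) rfl
  obtain ⟨x', hx'⟩ := h2 ((HomologySequence.δ T i (i + 1) rfl).hom z)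
  have hx0 : ((HF A (i + 1)).map T'.mor₁).hom x' = 0 := by
    apply h3
    have e1 := congrArg (fun f => f.hom x') nat1
    have e2 := congrArg (fun f => f.hom z) (HomologySequence.δ_comp T hT i (i + 1) rfl)
    simp only [ModuleCat.hom_comp, LinearMap.comp_apply] at e1 e2
    rw [map_zero]
    change ((HF A (i + 1)).map φ.hom₂).hom (((HF A (i + 1)).map T'.mor₁).hom x') = 0
    rw [e1, hx', e2]
    rfl
  obtain ⟨z', hz'⟩ := (ShortComplex.moduleCat_exact_iff _).mp
    (HomologySequence.exact₁ T' hT' i (i + 1) rfl) x' hx0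
  have hδ : (HomologySequence.δ T i (i + 1) rfl).hom (z - ((HF A i).map φ.hom₃).hom z') = 0 := by
    have e3 := congrArg (fun f => f.hom z') natδ
    simp only [ModuleCat.hom_comp, LinearMap.comp_apply] at e3
    rw [map_sub, e3]
    change _ - ((HF A (i + 1)).map φ.hom₁).hom ((HomologySequence.δ T' i (i + 1) rfl).hom z') = 0
    have : (HomologySequence.δ T' i (i + 1) rfl).hom z' = x' := hz'
    rw [this, hx', sub_self]
  obtain ⟨y, hy⟩ := (ShortComplex.moduleCat_exact_iff _).mp
    (HomologySequence.exact₃ T hT i (i + 1) rfl) _ hδ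
  obtain ⟨y', hy'⟩ := h1 y
  refine ⟨z' + ((HF A i).map T'.mor₂).hom y', ?_⟩
  have e4 := congrArg (fun f => f.hom y') nat2
  simp only [ModuleCat.hom_comp, LinearMap.comp_apply] at e4
  have hy2 : ((HF A i).map T.mor₂).hom y = z - ((HF A i).map φ.hom₃).hom z' := hy
  change ((HF A i).map φ.hom₃).hom (z' + ((HF A i).map T'.mor₂).hom y') = z
  rw [map_add, e4, hy', hy2]
  abel

/-- mono four lemma for `H^i(φ.hom₃)` -/
lemma mono_HF_hom₃ (h1 : Epi ((HF A i).map φ.hom₁)) (h2 : Mono ((HF A i).map φ.hom₂))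
    (h3 : Mono ((HF A (i + 1)).map φ.hom₁)) : Mono ((HF A i).map φ.hom₃) := by
  rw [ModuleCat.epi_iff_surjective] at h1
  rw [ModuleCat.mono_iff_injective] at h2 h3 ⊢
  rw [injective_iff_map_eq_zero]
  intro z' hz'
  have nat2 : (HF A i).map T'.mor₂ ≫ (HF A i).map φ.hom₃ =
      (HF A i).map φ.hom₂ ≫ (HF A i).map T.mor₂ := by
    rw [← Functor.map_comp, ← Functor.map_comp, φ.comm₂]
  have nat1 : (HF A i).map T'.mor₁ ≫ (HF A i).map φ.hom₂ =
      (HF A i).map φ.hom₁ ≫ (HF A i).map T.mor₁ := by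
    rw [← Functor.map_comp, ← Functor.map_comp, φ.comm₁]
  have natδ : (HF A i).map φ.hom₃ ≫ HomologySequence.δ T i (i + 1) rfl =
      HomologySequence.δ T' i (i + 1) rfl ≫ (HF A (i + 1)).map φ.hom₁ :=
    (DerivedCategory.homologyFunctor (ModuleCat.{u} A) 0).homologySequenceδ_naturality T' T φ i
      (i + 1) rfl
  have hδ' : (HomologySequence.δ T' i (i + 1) rfl).hom z' = 0 := by
    apply h3
    have e3 := congrArg (fun f => f.hom z') natδ
    simp only [ModuleCat.hom_comp, LinearMap.comp_apply] at e3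
    rw [map_zero]
    change ((HF A (i + 1)).map φ.hom₁).hom ((HomologySequence.δ T' i (i + 1) rfl).hom z') = 0
    rw [← e3]
    change (HomologySequence.δ T i (i + 1) rfl).hom (((HF A i).map φ.hom₃).hom z') = 0
    have : ((HF A i).map φ.hom₃).hom z' = 0 := hz'
    rw [this, map_zero]
  obtain ⟨y', hy'⟩ := (ShortComplex.moduleCat_exact_iff _).mp
    (HomologySequence.exact₃ T' hT' i (i + 1) rfl) z' hδ'
  have hy'2 : ((HF A i).map T'.mor₂).hom y' = z' := hy'
  have e4 := congrArg (fun f => f.hom y') nat2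
  simp only [ModuleCat.hom_comp, LinearMap.comp_apply] at e4
  have h0 : ((HF A i).map T.mor₂).hom (((HF A i).map φ.hom₂).hom y') = 0 := by
    rw [← e4, hy'2]; exact hz'
  obtain ⟨x, hx⟩ := (ShortComplex.moduleCat_exact_iff _).mp
    (HomologySequence.exact₂ T hT i) _ h0
  obtain ⟨x', hx'⟩ := h1 x
  have e1 := congrArg (fun f => f.hom x') nat1
  simp only [ModuleCat.hom_comp, LinearMap.comp_apply] at e1
  have hx2 : ((HF A i).map T.mor₁).hom x = ((HF A i).map φ.hom₂).hom y' := hx
  have hy'3 : y' = ((HF A i).map T'.mor₁).hom x' := by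
    apply h2
    rw [e1, hx', hx2]
  rw [← hy'2, hy'3]
  have := congrArg (fun f => f.hom x') (show (HF A i).map T'.mor₁ ≫ (HF A i).map T'.mor₂ = 0 by
    rw [← Functor.map_comp, comp_distTriang_mor_zero₁₂ _ hT', Functor.map_zero])
  simpa using this

end

end Groth.Agent.Lib.Helper12
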