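import Groth.Agent.Lib.Helper12.DRingFour

/-!
# `m`-pseudo-coherent objects of `D(A)`: connectivity, lifting, truncation, two-out-of-three
-/

namespace Groth.Agent.Lib.Helper12

open CategoryTheory CategoryTheory.Limits DRing CategoryTheory.Pretriangulated
open DerivedCategory

attribute [local instance] HasDerivedCategory.standard

universe u

variable {A : Type u} [CommRing A]

/-- `α` is `m`-connected: iso on `H^i` for `i > m`, epi on `H^m`. -/
def IsConn (m : ℤ) {X Y : Dual.D A} (α : X ⟶ Y) : Prop :=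
  (∀ i : ℤ, m < i → IsIso ((HF A i).map α)) ∧ Epi ((HF A m).map α)

lemma isPseudoCoherent_iff_isConn (m : ℤ) (K : Dual.D A) :
    IsPseudoCoherent A m K ↔ ∃ (E : Cx A) (a b : ℤ) (α : toD E ⟶ K), VanishesOutside E a b ∧
      TermwiseFiniteFree E ∧ IsConn m α := Iff.rfl

lemma IsConn.epi {m : ℤ} {X Y : Dual.D A} {α : X ⟶ Y} (h : IsConn m α) (i : ℤ) (hi : m ≤ i) :
    Epi ((HF A i).map α) := by
  rcases eq_or_lt_of_le hi with rfl | hlt
  · exact h.2
  · have := h.1 i hlt
    infer_instance

lemma IsConn.mono {m n : ℤ} {X Y : Dual.D A} {α : X ⟶ Y} (h : IsConn n α) (hnm : n ≤ m) :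
    IsConn m α :=
  ⟨fun i hi => h.1 i (by omega), h.epi m hnm⟩

lemma IsConn.comp {m n : ℤ} {X Y Z : Dual.D A} {α : X ⟶ Y} {β : Y ⟶ Z} (h1 : IsConn n α)
    (h2 : IsConn m β) (hnm : n ≤ m) : IsConn m (α ≫ β) := by
  constructor
  · intro i hi
    have := h1.1 i (by omega)
    have := h2.1 i hi
    rw [Functor.map_comp]; infer_instance
  · have := h1.epi m hnm
    have := h2.2
    rw [Functor.map_comp]; infer_instance

lemma IsConn.of_isIso {m : ℤ} {X Y : Dual.D A} (α : X ⟶ Y) [IsIso α] : IsConn m α :=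
  ⟨fun _ _ => inferInstance, inferInstance⟩

/-- connectivity from vanishing of the cohomology of the cone -/
lemma IsConn.of_cone {m : ℤ} (T : Triangle (Dual.D A)) (hT : T ∈ distTriang (Dual.D A))
    (h : ∀ i : ℤ, m ≤ i → IsZero ((HF A i).obj T.obj₃)) : IsConn m T.mor₁ := by
  have hepi : ∀ i : ℤ, m ≤ i → Epi ((HF A i).map T.mor₁) := by
    intro i hi
    rw [HomologySequence.epi_homologyMap_mor₁_iff _ hT]
    exact (h i hi).eq_of_tgt _ _
  refine ⟨fun i hi => ?_, hepi m le_rfl⟩
  have h1 : Mono ((HF A i).map T.mor₁) := by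
    rw [HomologySequence.mono_homologyMap_mor₁_iff _ hT (i - 1) i (by omega)]
    exact (h (i - 1) (by omega)).eq_of_src _ _
  have h2 := hepi i (by omega)
  exact isIso_of_mono_of_epi _

/-- the cone of an `m`-connected map has no cohomology in degrees `≥ m` -/
lemma IsConn.cone {m : ℤ} (T : Triangle (Dual.D A)) (hT : T ∈ distTriang (Dual.D A))
    (h : IsConn m T.mor₁) (i : ℤ) (hi : m ≤ i) : IsZero ((HF A i).obj T.obj₃) := by
  have h1 : (HF A i).map T.mor₂ = 0 := by
    rw [← HomologySequence.epi_homologyMap_mor₁_iff _ hT]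
    exact h.epi i hi
  have h2 : HomologySequence.δ T i (i + 1) rfl = 0 := by
    rw [← HomologySequence.mono_homologyMap_mor₁_iff _ hT i (i + 1) rfl]
    have := h.1 (i + 1) (by omega)
    infer_instance
  have hex := HomologySequence.exact₃ T hT i (i + 1) rfl
  exact hex.isZero_of_both_zeros h1 h2

/-- Vanishing: no morphisms from a bounded above complex of projectives living in degrees `≥ n`
to an object with cohomology in degrees `< n`. -/
lemma hom_eq_zero_of_projective_of_isLE (P : Cx A) (n b : ℤ) (hP : VanishesOutside P n b)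
    (hproj : ∀ i, Module.Projective A (P.X i)) (C : Dual.D A)
    (hC : ∀ i : ℤ, n ≤ i → IsZero ((HF A i).obj C)) (f : toD P ⟶ C) : f = 0 := by
  have : P.IsKProjective :=
    isKProjective_of_vanishesAbove P b (vanishesAbove_of_vanishesOutside hP) hproj
  have hle : C.IsLE (n - 1) := by
    rw [DerivedCategory.isLE_iff]
    intro i hi
    exact hC i (by omega)
  obtain ⟨C', hC', ⟨e⟩⟩ := DerivedCategory.exists_iso_Q_obj_of_isLE C (n - 1)
  obtain ⟨φ, hφ⟩ := exists_map_of_isKProjective P C' (f ≫ e.hom)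
  have hφ0 : φ = 0 := by
    ext i : 1
    by_cases hi : i < n
    · exact (hP i (Or.inl hi)).eq_of_src _ _
    · exact (C'.isZero_of_isStrictlyLE (n - 1) i (by omega)).eq_of_tgt _ _
  rw [hφ0, Functor.map_zero] at hφ
  rw [← cancel_mono e.hom, zero_comp, ← hφ]

/-- Lifting along an `n`-connected map (with `n ≤` the lower bound of `P`). -/
lemma exists_lift_of_isConn (P : Cx A) (n b : ℤ) (hP : VanishesOutside P n b)
    (hproj : ∀ i, Module.Projective A (P.X i)) {X L : Dual.D A} (β : X ⟶ L) (hβ : IsConn n β)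
    (g : toD P ⟶ L) : ∃ g' : toD P ⟶ X, g' ≫ β = g := by
  obtain ⟨C, c, d, hT⟩ := distinguished_cocone_triangle β
  have h0 : g ≫ c = 0 :=
    hom_eq_zero_of_projective_of_isLE P n b hP hproj C
      (fun i hi => IsConn.cone _ hT hβ i hi) _
  obtain ⟨g', hg'⟩ := Triangle.coyoneda_exact₂ _ hT g h0
  exact ⟨g', hg'.symm⟩

/-- `H^i` of a single complex vanishes for `i ≠ a`. -/
lemma isZero_HF_toD_singleCx (a : ℤ) (M : ModuleCat.{u} A) (i : ℤ) (hi : i ≠ a) :
    IsZero ((HF A i).obj (toD (singleCx a M))) := by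
  refine IsZero.of_iso ?_ ((DerivedCategory.homologyFunctorFactors (ModuleCat.{u} A) i).app _)
  exact HomologicalComplex.isZero_single_obj_homology (ComplexShape.up ℤ) a M i hi

/-- The inclusion of the brutal truncation `σ_{>a} E → E` is `(a+1)`-connected. -/
lemma isConn_bottomKer (E : Cx A) (a : ℤ) (h : IsZero (E.X (a - 1))) :
    IsConn (a + 1) (DerivedCategory.Q.map (kernel.ι (toBottom E a h))) := by
  have hT := bottomTriangle_distinguished E a h
  exact IsConn.of_cone (bottomTriangle E a h) hT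
    (fun i hi => isZero_HF_toD_singleCx a _ i (by omega))

/-- Truncation: an `m`-pseudo-coherent object admits an `m`-connected map from a bounded complex
of finite free modules living in degrees `≥ m`. -/
lemma exists_truncated_of_isPseudoCoherent {m : ℤ} {K : Dual.D A} (hK : IsPseudoCoherent A m K) :
    ∃ (E : Cx A) (b : ℤ) (α : toD E ⟶ K), VanishesOutside E m b ∧ TermwiseFiniteFree E ∧
      IsConn m α := by
  obtain ⟨E, a, b, α, hE, hff, hα⟩ := hK
  suffices H : ∀ (n : ℕ) (a : ℤ) (E : Cx A) (α : toD E ⟶ K), m ≤ a + n → VanishesOutside E a b →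
      TermwiseFiniteFree E → IsConn m α → ∃ (E' : Cx A) (α' : toD E' ⟶ K),
        VanishesOutside E' m b ∧ TermwiseFiniteFree E' ∧ IsConn m α' by
    obtain ⟨E', α', h1, h2, h3⟩ := H (m - a).toNat a E α (by omega) hE hff hα
    exact ⟨E', b, α', h1, h2, h3⟩
  intro n
  induction n with
  | zero =>
    intro a E α ha hE hff hα
    refine ⟨E, α, fun i hi => hE i ?_, hff, hα⟩
    simp only [Nat.cast_zero, add_zero] at ha
    omega
  | succ n ih =>
    intro a E α ha hE hff hα
    by_cases ham : m ≤ a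
    · exact ⟨E, α, fun i hi => hE i (by omega), hff, hα⟩
    · have h0 : IsZero (E.X (a - 1)) := hE (a - 1) (Or.inl (by omega))
      refine ih (a + 1) (bottomKer E a h0)
        (DerivedCategory.Q.map (kernel.ι (toBottom E a h0)) ≫ α) (by push_cast at ha; omega)
        (vanishesOutside_bottomKer hE) ?_ ?_
      · intro i
        by_cases hi : i = a
        · subst hi; exact (finiteFree A).zero (isZero_bottomKer_X_self E i h0)
        · exact (finiteFree A).iso (bottomKerXIsoOfNe E a h0 i hi).symm (hff i)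
      · exact IsConn.comp (isConn_bottomKer E a h0) hα (by omega)

/-- The third vertex: `K` `(m+1)`-pseudo-coherent and `L` `m`-pseudo-coherent give `M`
`m`-pseudo-coherent. -/
theorem isPseudoCoherent_cone {m : ℤ} (T : Triangle (Dual.D A)) (hT : T ∈ distTriang (Dual.D A))
    (h1 : IsPseudoCoherent A (m + 1) T.obj₁) (h2 : IsPseudoCoherent A m T.obj₂) :
    IsPseudoCoherent A m T.obj₃ := by
  obtain ⟨P, b, α, hP, hPff, hα⟩ := exists_truncated_of_isPseudoCoherent h1
  obtain ⟨E, a', b', β, hE, hEff, hβ'⟩ := h2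
  have hβ : IsConn m β := hβ'
  have hPproj : ∀ i, Module.Projective A (P.X i) := fun i => finiteFree_projective _ (hPff i)
  obtain ⟨g', hg'⟩ := exists_lift_of_isConn P (m + 1) b hP hPproj β (hβ.mono (by omega))
    (α ≫ T.mor₁)
  have : P.IsKProjective :=
    isKProjective_of_vanishesAbove P b (vanishesAbove_of_vanishesOutside hP) hPproj
  obtain ⟨γ, hγ⟩ := exists_map_of_isKProjective P E g'
  let T' := DerivedCategory.Q.mapTriangle.obj (CochainComplex.mappingCone.triangle γ)
  have hT' : T' ∈ distTriang (Dual.D A) := DerivedCategory.mappingCone_triangle_distinguished γ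
  have hcomm : T'.mor₁ ≫ β = α ≫ T.mor₁ := by
    change DerivedCategory.Q.map γ ≫ β = α ≫ T.mor₁
    rw [hγ, hg']
  obtain ⟨c, hc1, hc2⟩ := complete_distinguished_triangle_morphism T' T hT' hT α β hcomm
  let φ : T' ⟶ T := { hom₁ := α, hom₂ := β, hom₃ := c, comm₁ := hcomm, comm₂ := hc1, comm₃ := hc2 }
  have hmonoβ : ∀ i, m < i → Mono ((HF A i).map β) := fun i hi => by
    have := hβ.1 i hi; infer_instance
  have hmonoα : ∀ i, m + 1 < i → Mono ((HF A i).map α) := fun i hi => by
    have := hα.1 i hi; infer_instance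
  refine ⟨CochainComplex.mappingCone γ, _, _, c, vanishesOutside_cone γ hP hE,
    termwise_cone (finiteFree A) γ hPff hEff, ?_, ?_⟩
  · intro i hi
    have hepi : Epi ((HF A i).map c) :=
      epi_HF_hom₃ hT' hT φ i (hβ.epi i (by omega)) (hα.epi (i + 1) (by omega))
        (hmonoβ (i + 1) (by omega))
    have hmono : Mono ((HF A i).map c) :=
      mono_HF_hom₃ hT' hT φ i (hα.epi i (by omega)) (hmonoβ i hi) (hmonoα (i + 1) (by omega))
    exact @isIso_of_mono_of_epi _ _ _ _ _ ((HF A i).map c) hmono hepi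
  · exact epi_HF_hom₃ hT' hT φ m hβ.2 hα.2 (hmonoβ (m + 1) (by omega))

end Groth.Agent.Lib.Helper12
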