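import Groth.Agent.Lib.Helper12.DRingTop
import Groth.Agent.S2068

/-!
# Pseudo-coherence: bounded above complexes, direct summands
-/

namespace Groth.Agent.Lib.Helper12

open CategoryTheory CategoryTheory.Limits DRing CategoryTheory.Pretriangulated

attribute [local instance] HasDerivedCategory.standard

universe u

variable {A : Type u} [CommRing A]

/-- a product over `WalkingPair` is a biproduct -/
noncomputable def piWalkingPairIso {C : Type*} [Category C] [Preadditive C] [HasBinaryBiproducts C]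
    (f : WalkingPair → C) [HasProduct f] : ∏ᶜ f ≅ f .left ⊞ f .right where
  hom := biprod.lift (Pi.π f .left) (Pi.π f .right)
  inv := Pi.lift (fun j => match j with
    | .left => biprod.fst
    | .right => biprod.snd)
  hom_inv_id := by
    apply Pi.hom_ext
    intro j
    cases j <;> simp
  inv_hom_id := by
    apply biprod.hom_ext <;> simp

/-- the sum of two distinguished triangles, up to isomorphism of the objects -/
lemma exists_sum_triangle (T₁ T₂ : Triangle (Dual.D A)) (h₁ : T₁ ∈ distTriang (Dual.D A))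
    (h₂ : T₂ ∈ distTriang (Dual.D A)) :
    ∃ T : Triangle (Dual.D A), T ∈ distTriang (Dual.D A) ∧
      Nonempty (T.obj₁ ≅ T₁.obj₁ ⊞ T₂.obj₁) ∧ Nonempty (T.obj₂ ≅ T₁.obj₂ ⊞ T₂.obj₂) ∧
      Nonempty (T.obj₃ ≅ T₁.obj₃ ⊞ T₂.obj₃) := by
  let T : WalkingPair → Triangle (Dual.D A) := fun j => match j with
    | .left => T₁
    | .right => T₂
  have hT : ∀ j, T j ∈ distTriang (Dual.D A) := by
    intro j; cases j
    · exact h₁
    · exact h₂
  refine ⟨productTriangle T, productTriangle_distinguished T hT, ⟨?_⟩, ⟨?_⟩, ⟨?_⟩⟩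
  · exact piWalkingPairIso (fun j => (T j).obj₁)
  · exact piWalkingPairIso (fun j => (T j).obj₂)
  · exact piWalkingPairIso (fun j => (T j).obj₃)

/-- a bounded complex of finite free modules is `m`-pseudo-coherent for every `m` -/
lemma isPseudoCoherent_toD_of_bounded_ff (E : Cx A) (a b : ℤ) (hE : VanishesOutside E a b)
    (hff : TermwiseFiniteFree E) (m : ℤ) : IsPseudoCoherent A m (toD E) :=
  ⟨E, a, b, 𝟙 _, hE, hff, IsConn.of_isIso _⟩

lemma isPseudoCoherent_biprod {m : ℤ} {K L : Dual.D A} (hK : IsPseudoCoherent A m K)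
    (hL : IsPseudoCoherent A m L) : IsPseudoCoherent A m (K ⊞ L) :=
  (isPseudoCoherent_two_out_of_three (binaryBiproductTriangle K L)
    (binaryBiproductTriangle_distinguished K L) m).2.1 hK hL

lemma isZero_HF_of_biprod_left {K L : Dual.D A} (j : ℤ)
    (h : IsZero ((HF A j).obj (K ⊞ L))) : IsZero ((HF A j).obj K) := by
  rw [IsZero.iff_id_eq_zero]
  have : 𝟙 ((HF A j).obj K) = (HF A j).map (biprod.inl : K ⟶ K ⊞ L) ≫
      (HF A j).map (biprod.fst : K ⊞ L ⟶ K) := by
    rw [← CategoryTheory.Functor.map_comp, biprod.inl_fst, CategoryTheory.Functor.map_id]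
  rw [this, h.eq_of_tgt ((HF A j).map (biprod.inl : K ⟶ K ⊞ L)) 0, zero_comp]

lemma isZero_HF_of_biprod_right {K L : Dual.D A} (j : ℤ)
    (h : IsZero ((HF A j).obj (K ⊞ L))) : IsZero ((HF A j).obj L) := by
  rw [IsZero.iff_id_eq_zero]
  have : 𝟙 ((HF A j).obj L) = (HF A j).map (biprod.inr : L ⟶ K ⊞ L) ≫
      (HF A j).map (biprod.snd : K ⊞ L ⟶ L) := by
    rw [← CategoryTheory.Functor.map_comp, biprod.inr_snd, CategoryTheory.Functor.map_id]
  rw [this, h.eq_of_tgt ((HF A j).map (biprod.inr : L ⟶ K ⊞ L)) 0, zero_comp]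

lemma isZero_HF_biprod {K L : Dual.D A} (j : ℤ) (hK : IsZero ((HF A j).obj K))
    (hL : IsZero ((HF A j).obj L)) : IsZero ((HF A j).obj (K ⊞ L)) := by
  rw [IsZero.iff_id_eq_zero, ← CategoryTheory.Functor.map_id, ← biprod.total, CategoryTheory.Functor.map_add,
    CategoryTheory.Functor.map_comp, CategoryTheory.Functor.map_comp, hK.eq_of_tgt ((HF A j).map (biprod.fst : K ⊞ L ⟶ K)) 0,
    hL.eq_of_tgt ((HF A j).map (biprod.snd : K ⊞ L ⟶ L)) 0, zero_comp, zero_comp, add_zero]

lemma finite_HF_of_biprod_left {K L : Dual.D A} (j : ℤ)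
    (h : Module.Finite A ((HF A j).obj (K ⊞ L))) : Module.Finite A ((HF A j).obj K) := by
  refine Module.Finite.of_surjective ((HF A j).map (biprod.fst : K ⊞ L ⟶ K)).hom ?_
  rw [← ModuleCat.epi_iff_surjective]
  have : IsSplitEpi ((HF A j).map (biprod.fst : K ⊞ L ⟶ K)) :=
    ⟨⟨⟨(HF A j).map biprod.inl, by rw [← CategoryTheory.Functor.map_comp, biprod.inl_fst, CategoryTheory.Functor.map_id]⟩⟩⟩
  infer_instance

lemma finite_HF_of_biprod_right {K L : Dual.D A} (j : ℤ)
    (h : Module.Finite A ((HF A j).obj (K ⊞ L))) : Module.Finite A ((HF A j).obj L) := by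
  refine Module.Finite.of_surjective ((HF A j).map (biprod.snd : K ⊞ L ⟶ L)).hom ?_
  rw [← ModuleCat.epi_iff_surjective]
  have : IsSplitEpi ((HF A j).map (biprod.snd : K ⊞ L ⟶ L)) :=
    ⟨⟨⟨(HF A j).map biprod.inr, by rw [← CategoryTheory.Functor.map_comp, biprod.inr_snd, CategoryTheory.Functor.map_id]⟩⟩⟩
  infer_instance

/-- cohomology of an `m`-pseudo-coherent object vanishes in large degrees -/
lemma exists_bound_of_isPseudoCoherent {m : ℤ} {K : Dual.D A} (hK : IsPseudoCoherent A m K) :
    ∃ b : ℤ, ∀ j : ℤ, b < j → IsZero ((HF A j).obj K) := by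
  obtain ⟨E, a, b, α, hE, -, hα'⟩ := hK
  have hα : IsConn m α := hα'
  refine ⟨max m b, fun j hj => ?_⟩
  have := hα.1 j (lt_of_le_of_lt (le_max_left m b) hj)
  exact (isZero_HF_toD_of_isZero_X E j (hE j (Or.inr (lt_of_le_of_lt (le_max_right m b) hj)))).of_iso
    (asIso ((HF A j).map α)).symm

theorem isPseudoCoherent_of_biprod_aux (m : ℤ) : ∀ (n : ℕ) (b : ℤ), b < m + n →
    ∀ (K L : Dual.D A), IsPseudoCoherent A m (K ⊞ L) →
    (∀ j : ℤ, b < j → IsZero ((HF A j).obj (K ⊞ L))) → IsPseudoCoherent A m K := by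
  intro n
  induction n with
  | zero =>
    intro b hb K L _ hz
    apply isPseudoCoherent_of_isZero_HF
    intro i hi
    exact isZero_HF_of_biprod_left i (hz i (by simp at hb; omega))
  | succ n ih =>
    intro b hb K L hKL hz
    by_cases hbm : b < m
    · apply isPseudoCoherent_of_isZero_HF
      intro i hi
      exact isZero_HF_of_biprod_left i (hz i (by omega))
    · have hfin : Module.Finite A ((HF A b).obj (K ⊞ L)) :=
        Groth.Agent.S2068.part_a (K ⊞ L) b (isPseudoCoherent_mono hKL (by omega)) hz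
      have hKb : IsPseudoCoherent A b K :=
        isPseudoCoherent_of_finite_top b K (fun i hi => isZero_HF_of_biprod_left i (hz i hi))
          (finite_HF_of_biprod_left b hfin)
      have hLb : IsPseudoCoherent A b L :=
        isPseudoCoherent_of_finite_top b L (fun i hi => isZero_HF_of_biprod_right i (hz i hi))
          (finite_HF_of_biprod_right b hfin)
      obtain ⟨E₁, a₁, b₁, α₁, hE₁, hff₁, hα₁'⟩ := hKb
      obtain ⟨E₂, a₂, b₂, α₂, hE₂, hff₂, hα₂'⟩ := hLb
      have hα₁ : IsConn b α₁ := hα₁'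
      have hα₂ : IsConn b α₂ := hα₂'
      obtain ⟨C₁, c₁, d₁, hT₁⟩ := distinguished_cocone_triangle α₁
      obtain ⟨C₂, c₂, d₂, hT₂⟩ := distinguished_cocone_triangle α₂
      obtain ⟨T, hT, ⟨e₁⟩, ⟨e₂⟩, ⟨e₃⟩⟩ := exists_sum_triangle _ _ hT₁ hT₂
      have h1 : IsPseudoCoherent A (m + 1) T.obj₁ :=
        isPseudoCoherent_of_iso' e₁.symm
          (isPseudoCoherent_biprod (isPseudoCoherent_toD_of_bounded_ff E₁ a₁ b₁ hE₁ hff₁ _)
            (isPseudoCoherent_toD_of_bounded_ff E₂ a₂ b₂ hE₂ hff₂ _))
      have h2 : IsPseudoCoherent A m T.obj₂ := isPseudoCoherent_of_iso' e₂.symm hKL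
      have h3 : IsPseudoCoherent A m (C₁ ⊞ C₂) :=
        isPseudoCoherent_of_iso' e₃ ((isPseudoCoherent_two_out_of_three T hT m).1 h1 h2)
      have hC₁ : IsPseudoCoherent A m C₁ := by
        refine ih (b - 1) (by push_cast at hb; omega) C₁ C₂ h3 ?_
        intro j hj
        exact isZero_HF_biprod j (IsConn.cone _ hT₁ hα₁ j (by omega))
          (IsConn.cone _ hT₂ hα₂ j (by omega))
      exact (isPseudoCoherent_two_out_of_three _ hT₁ m).2.1
        (isPseudoCoherent_toD_of_bounded_ff E₁ a₁ b₁ hE₁ hff₁ _) hC₁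

/-- direct summands of `m`-pseudo-coherent objects are `m`-pseudo-coherent -/
theorem isPseudoCoherent_of_biprod_left {m : ℤ} {K L : Dual.D A}
    (h : IsPseudoCoherent A m (K ⊞ L)) : IsPseudoCoherent A m K := by
  obtain ⟨b, hb⟩ := exists_bound_of_isPseudoCoherent h
  exact isPseudoCoherent_of_biprod_aux m (b - m + 1).toNat b (by omega) K L h hb

theorem isPseudoCoherent_of_biprod_right {m : ℤ} {K L : Dual.D A}
    (h : IsPseudoCoherent A m (K ⊞ L)) : IsPseudoCoherent A m L :=
  isPseudoCoherent_of_biprod_left (K := L) (L := K)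
    (isPseudoCoherent_of_iso' (biprod.braiding K L) h)

/-- retracts -/
theorem isPseudoCoherent_of_iso_biprod {m : ℤ} {X K L : Dual.D A} (e : X ≅ K ⊞ L)
    (h : IsPseudoCoherent A m X) : IsPseudoCoherent A m K ∧ IsPseudoCoherent A m L :=
  ⟨isPseudoCoherent_of_biprod_left (isPseudoCoherent_of_iso' e h),
    isPseudoCoherent_of_biprod_right (isPseudoCoherent_of_iso' e h)⟩

end Groth.Agent.Lib.Helper12

namespace Groth.Agent.Lib.Helper12

open CategoryTheory CategoryTheory.Limits DRing CategoryTheory.Pretriangulated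

attribute [local instance] HasDerivedCategory.standard

universe u

variable {A : Type u} [CommRing A]

/-- splitting off a retract of a module -/
noncomputable def retractProdEquiv {F P : Type u} [AddCommGroup F] [Module A F] [AddCommGroup P]
    [Module A P] (f : F →ₗ[A] P) (g : P →ₗ[A] F) (hfg : f ∘ₗ g = LinearMap.id) :
    F ≃ₗ[A] P × LinearMap.ker f :=
  LinearEquiv.ofLinear
    (LinearMap.prod f (LinearMap.codRestrict (LinearMap.ker f) (LinearMap.id - g ∘ₗ f) (by
      intro x
      have := LinearMap.congr_fun hfg (f x)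
      simp only [LinearMap.comp_apply, LinearMap.id_apply] at this
      simp [this])))
    (LinearMap.coprod g (LinearMap.ker f).subtype)
    (by
      apply LinearMap.ext
      rintro ⟨p, ⟨k, hk⟩⟩
      have hk' : f k = 0 := hk
      have := LinearMap.congr_fun hfg p
      simp only [LinearMap.comp_apply, LinearMap.id_apply] at this
      ext <;> simp [this, hk'])
    (by
      apply LinearMap.ext
      intro x
      simp)

/-- a finite free module in degree `0` is `m`-pseudo-coherent for all `m` -/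
lemma isPseudoCoherent_inD_of_finite_free (M : ModuleCat.{u} A) [Module.Finite A M]
    [Module.Free A M] (m : ℤ) : IsPseudoCoherent A m (Dual.inD A M) := by
  refine ⟨singleCx 0 M, 0, 0, (toDSingleIso' 0 M).hom,
    fun i hi => isZero_singleCx_X 0 M i (by omega), fun i => ?_,
    IsConn.of_isIso (toDSingleIso' 0 M).hom⟩
  by_cases hi : i = 0
  · subst hi
    exact (finiteFree A).iso
      (HomologicalComplex.singleObjXSelf (ComplexShape.up ℤ) 0 M).symm ⟨inferInstance, inferInstance⟩
  · exact (finiteFree A).zero (isZero_singleCx_X 0 M i hi)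

/-- a finite projective module in degree `0` is `m`-pseudo-coherent for all `m` -/
lemma isPseudoCoherent_inD_of_finite_projective (M : ModuleCat.{u} A) [Module.Finite A M]
    [Module.Projective A M] (m : ℤ) : IsPseudoCoherent A m (Dual.inD A M) := by
  obtain ⟨n, f, g, -, -, hfg⟩ := Module.Finite.exists_comp_eq_id_of_projective A M
  let e := retractProdEquiv f g hfg
  let F : ModuleCat.{u} A := ModuleCat.of A (Fin n → A)
  let Q : ModuleCat.{u} A := ModuleCat.of A (LinearMap.ker f)
  have hF : IsPseudoCoherent A m (Dual.inD A F) :=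
    haveI : Module.Finite A F := inferInstanceAs (Module.Finite A (Fin n → A))
    haveI : Module.Free A F := inferInstanceAs (Module.Free A (Fin n → A))
    isPseudoCoherent_inD_of_finite_free F m
  have e' : Dual.inD A F ≅ Dual.inD A M ⊞ Dual.inD A Q :=
    inDMapIso (LinearEquiv.toModuleIso e) ≪≫ inDProdIso M Q
  exact (isPseudoCoherent_of_iso_biprod e' hF).1

/-- a bounded above complex whose terms `K^i` are `(m - i)`-pseudo-coherent modules is
`m`-pseudo-coherent -/
theorem isPseudoCoherent_toD_of_termwise (m : ℤ) (K : Cx A) (b : ℤ) (hb : VanishesAbove K b)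
    (h : ∀ i : ℤ, IsPseudoCoherent A (m - i) (Dual.inD A (K.X i))) :
    IsPseudoCoherent A m (toD K) := by
  refine boundedAbove_induction (IsPseudoCoherent A m) m
    (fun e h => isPseudoCoherent_of_iso' e h)
    (fun K hK => isPseudoCoherent_of_isZero_HF m K hK)
    (fun T hT h1 h3 => (isPseudoCoherent_two_out_of_three T hT m).2.1 h1 h3) K b hb ?_
  intro i _
  have h1 := isPseudoCoherent_shift (h i) (-i)
  have e : m - i - -i = m := by omega
  rw [e] at h1
  exact isPseudoCoherent_of_iso' (toDSingleIso i (K.X i)).symm h1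

/-- pseudo-coherent (bounded above finite free representative) implies `m`-pseudo-coherent -/
theorem isPseudoCoherent_of_isPseudoCoherent' {K : Dual.D A} (h : IsPseudoCoherent' A K) (m : ℤ) :
    IsPseudoCoherent A m K := by
  obtain ⟨E, b, hE, hff, ⟨e⟩⟩ := h
  refine isPseudoCoherent_of_iso' e (isPseudoCoherent_toD_of_termwise m E b hE (fun i => ?_))
  have : Module.Finite A (E.X i) := (hff i).1
  have : Module.Free A (E.X i) := (hff i).2
  exact isPseudoCoherent_inD_of_finite_free (E.X i) _

/-- bounded above finite projective representative implies `m`-pseudo-coherent -/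
theorem isPseudoCoherent_of_rep_finiteProjective {K : Dual.D A} (E : Cx A) (b : ℤ)
    (hE : VanishesAbove E b) (hfp : TermwiseFiniteProjective E) (e : toD E ≅ K) (m : ℤ) :
    IsPseudoCoherent A m K := by
  refine isPseudoCoherent_of_iso' e (isPseudoCoherent_toD_of_termwise m E b hE (fun i => ?_))
  have : Module.Finite A (E.X i) := (hfp i).1
  have : Module.Projective A (E.X i) := (hfp i).2
  exact isPseudoCoherent_inD_of_finite_projective (E.X i) _

end Groth.Agent.Lib.Helper12
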