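import Groth.Agent.Lib.Helper12.DRingExt

/-!
# Perfect objects: pseudo-coherent + bounded Ext; direct summands
-/

namespace Groth.Agent.Lib.Helper12

open CategoryTheory CategoryTheory.Limits DRing CategoryTheory.Pretriangulated
open CochainComplex HomComplex ZeroObject

attribute [local instance] HasDerivedCategory.standard

universe u

variable {A : Type u} [CommRing A]

/-- perfect implies pseudo-coherent -/
theorem isPseudoCoherent'_of_isPerfect {K : Dual.D A} (h : IsPerfect A K) :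
    IsPseudoCoherent' A K := by
  obtain ⟨E, a, b, hE, hfp, ⟨e⟩⟩ := h
  exact isPseudoCoherent'_of_forall (fun m =>
    isPseudoCoherent_of_rep_finiteProjective E b (vanishesAbove_of_vanishesOutside hE) hfp e m)

/-- perfect objects have bounded `Ext` into modules -/
theorem exists_hom_eq_zero_of_isPerfect {K : Dual.D A} (h : IsPerfect A K) :
    ∃ a : ℤ, ∀ n : ℤ, n < a → ∀ (N : ModuleCat.{u} A) (f : K ⟶ (Dual.inD A N)⟦-n⟧), f = 0 := by
  obtain ⟨E, a, b, hE, hfp, ⟨e⟩⟩ := h
  refine ⟨a, fun n hn N f => ?_⟩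
  have := hom_eq_zero_of_projective_amplitude E a b hE (fun i => (hfp i).2) N n (Or.inl hn)
    (e.hom ≫ f)
  rw [← cancel_epi e.hom, this, comp_zero]

/-- pseudo-coherent with bounded `Ext` into modules implies perfect -/
theorem isPerfect_of_isPseudoCoherent'_of_hom_eq_zero {K : Dual.D A}
    (hK : IsPseudoCoherent' A K) (a : ℤ)
    (h : ∀ n : ℤ, n < a → ∀ (N : ModuleCat.{u} A) (f : K ⟶ (Dual.inD A N)⟦-n⟧), f = 0) :
    IsPerfect A K := by
  obtain ⟨E, b, hE, hff, ⟨e⟩⟩ := hK
  have hproj : ∀ i, Module.Projective A (E.X i) := fun i => finiteFree_projective _ (hff i)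
  obtain ⟨P', hP', hret, ⟨e'⟩⟩ := exists_truncation_of_hom_eq_zero E a b hE hproj
    (fun i hi => (isZero_HF_of_forall_hom_eq_zero K i (h i (by omega))).of_iso ((HF A i).mapIso e))
    (fun N f => by
      have := h (a - 1) (by omega) N (e.inv ≫ f)
      rw [← cancel_epi e.inv, this, comp_zero])
  refine ⟨P', a, b, hP', fun i => ?_, ⟨e' ≪≫ e⟩⟩
  obtain ⟨s, r, hsr⟩ := hret i
  have hsplit : r.hom ∘ₗ s.hom = LinearMap.id := by
    rw [← ModuleCat.hom_comp, hsr]; rfl
  have h1 : Module.Finite A (E.X i) := (hff i).1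
  have h2 := hproj i
  refine ⟨Module.Finite.of_surjective r.hom ?_, Module.Projective.of_split s.hom r.hom hsplit⟩
  intro y
  exact ⟨s.hom y, LinearMap.congr_fun hsplit y⟩

theorem isPerfect_iff_isPseudoCoherent'_and_hom_eq_zero (K : Dual.D A) :
    IsPerfect A K ↔ IsPseudoCoherent' A K ∧
      ∃ a : ℤ, ∀ n : ℤ, n < a → ∀ (N : ModuleCat.{u} A) (f : K ⟶ (Dual.inD A N)⟦-n⟧), f = 0 :=
  ⟨fun h => ⟨isPseudoCoherent'_of_isPerfect h, exists_hom_eq_zero_of_isPerfect h⟩,
    fun ⟨h1, a, h2⟩ => isPerfect_of_isPseudoCoherent'_of_hom_eq_zero h1 a h2⟩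

/-- direct summands of perfect objects are perfect -/
theorem isPerfect_of_biprod_left {K L : Dual.D A} (h : IsPerfect A (K ⊞ L)) : IsPerfect A K := by
  rw [isPerfect_iff_isPseudoCoherent'_and_hom_eq_zero] at h ⊢
  obtain ⟨h1, a, h2⟩ := h
  refine ⟨?_, a, fun n hn N f => ?_⟩
  · have h' := fun m => isPseudoCoherent_of_isPseudoCoherent' h1 m
    exact isPseudoCoherent'_of_forall (fun m => isPseudoCoherent_of_biprod_left (h' m))
  · have := h2 n hn N (biprod.fst ≫ f)
    rw [← Category.id_comp f, ← biprod.inl_fst (X := K) (Y := L), Category.assoc, this, comp_zero]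

theorem isPerfect_of_biprod_right {K L : Dual.D A} (h : IsPerfect A (K ⊞ L)) : IsPerfect A L := by
  rw [isPerfect_iff] at h
  have h' : IsPerfect A (L ⊞ K) := by
    rw [isPerfect_iff]
    exact RepBounded.of_iso _ (biprod.braiding K L) h
  exact isPerfect_of_biprod_left h'

end Groth.Agent.Lib.Helper12
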