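import Groth.Agent.Lib.Helper12.DRingTorAmpRep
import Groth.Agent.Lib.Helper12.DRingPerfect

/-!
# Perfect complexes with prescribed tor amplitude
-/

namespace Groth.Agent.Lib.Helper12

open CategoryTheory CategoryTheory.Limits DRing CochainComplex

attribute [local instance] HasDerivedCategory.standard

universe u

variable {A : Type u} [CommRing A]

/-- a bounded above complex of finite projective modules of tor amplitude in `[a, c]` is
represented by a complex of finite projective modules vanishing outside `[a, c]` -/
theorem exists_finiteProjective_rep (E : Cx A) (b : ℤ)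
    (hb : VanishesAbove E b) (hE : TermwiseFiniteProjective E) (a c : ℤ)
    (hamp : HasTorAmplitudeIn A a c (toD E)) :
    ∃ G : Cx A, VanishesOutside G a c ∧ TermwiseFiniteProjective G ∧
      Nonempty (toD G ≅ toD E) := by
  have hfl : Module.Flat A (E.opcycles a) :=
    flat_opcycles_of_hasTorAmplitudeIn E b hb a c (fun j _ => by
      have := (hE j).2
      infer_instance) hamp
  have hop := finiteProjective_opcycles E a (hE _).1 (hE _).1 (hE _).2 hfl
  exact exists_rep_of_quasiIsoAt (finiteProjective A) finiteProjective_kerClosed (𝟙 E) a b c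
    (fun i _ => inferInstance) hb (fun j _ => hE j) hop
    (fun i hi => isZero_HF_of_hasTorAmplitudeIn hamp i hi)

lemma termwiseFiniteProjective_of_termwiseFiniteFree {E : Cx A} (h : TermwiseFiniteFree E) :
    TermwiseFiniteProjective E := fun i => by
  have := (h i).2
  exact ⟨(h i).1, inferInstance⟩

lemma termwiseFlat_of_termwiseFiniteProjective {E : Cx A} (h : TermwiseFiniteProjective E) :
    TermwiseFlat E := fun i => by
  have := (h i).2
  infer_instance

/-- pseudo-coherent + tor amplitude in `[a, c]` ⇒ perfect of amplitude `[a, c]` -/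
theorem exists_finiteProjective_rep_of_isPseudoCoherent' {K : Dual.D A}
    (hK : IsPseudoCoherent' A K) {a c : ℤ} (hamp : HasTorAmplitudeIn A a c K) :
    ∃ G : Cx A, VanishesOutside G a c ∧ TermwiseFiniteProjective G ∧ Nonempty (toD G ≅ K) := by
  obtain ⟨E, b, hb, hff, ⟨e⟩⟩ := hK
  obtain ⟨G, hG, hGfp, ⟨e'⟩⟩ := exists_finiteProjective_rep E b hb
    (termwiseFiniteProjective_of_termwiseFiniteFree hff) a c (hasTorAmplitudeIn_of_iso e.symm hamp)
  exact ⟨G, hG, hGfp, ⟨e' ≪≫ e⟩⟩

end Groth.Agent.Lib.Helper12
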