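import Groth.Agent.Lib.Helper12.DRingRestrict

/-!
# Restriction of scalars of perfect objects along a perfect ring map
-/

namespace Groth.Agent.Lib.Helper12

open CategoryTheory CategoryTheory.Limits DRing CategoryTheory.Pretriangulated

attribute [local instance] HasDerivedCategory.standard

universe u

variable {A B : Type u} [CommRing A] [CommRing B] (φ : A →+* B)

lemma isPerfect_biprod {K L : Dual.D A} (hK : IsPerfect A K) (hL : IsPerfect A L) :
    IsPerfect A (K ⊞ L) := by
  rw [isPerfect_iff] at hK hL ⊢
  exact (RepBounded.two_out_of_three (finiteProjective A) finiteProjective_projective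
    (binaryBiproductTriangle K L) (binaryBiproductTriangle_distinguished K L)).2.1 hK hL

/-- `B`, as a module over `A` via `φ`, is perfect -/
def ResPerf : Prop := IsPerfect A (Dual.inD A ((resSc φ).obj (ModuleCat.of B B)))

variable {φ}

lemma isPerfect_inD_resSc_pi (h : ResPerf φ) (n : ℕ) :
    IsPerfect A (Dual.inD A ((resSc φ).obj (ModuleCat.of B (Fin n → B)))) := by
  induction n with
  | zero =>
    rw [isPerfect_iff]
    apply RepBounded.of_isZero
    refine isZero_inD ((resSc φ).map_isZero ?_)
    exact ModuleCat.isZero_of_subsingleton _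
  | succ n ih =>
    let e : ModuleCat.of B (Fin (n + 1) → B) ≅
        ModuleCat.of B ((ModuleCat.of B B) × (ModuleCat.of B (Fin n → B))) :=
      (Fin.consLinearEquiv B (fun _ : Fin (n + 1) => B)).symm.toModuleIso
    have := isPerfect_biprod h ih
    rw [isPerfect_iff] at this ⊢
    exact RepBounded.of_iso _ (inDMapIso ((resSc φ).mapIso e) ≪≫ inD_resSc_prod φ _ _).symm this

lemma isPerfect_inD_resSc_of_finite_projective (h : ResPerf φ) (M : ModuleCat.{u} B)
    [Module.Finite B M] [Module.Projective B M] :
    IsPerfect A (Dual.inD A ((resSc φ).obj M)) := by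
  obtain ⟨n, f, g, -, -, hfg⟩ := Module.Finite.exists_comp_eq_id_of_projective B M
  let e := retractProdEquiv f g hfg
  let F : ModuleCat.{u} B := ModuleCat.of B (Fin n → B)
  let Q : ModuleCat.{u} B := ModuleCat.of B (LinearMap.ker f)
  have hF : IsPerfect A (Dual.inD A ((resSc φ).obj F)) := isPerfect_inD_resSc_pi h n
  have e' : Dual.inD A ((resSc φ).obj F) ≅
      Dual.inD A ((resSc φ).obj M) ⊞ Dual.inD A ((resSc φ).obj Q) :=
    inDMapIso ((resSc φ).mapIso (LinearEquiv.toModuleIso e)) ≪≫ inD_resSc_prod φ M Q
  rw [isPerfect_iff] at hF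
  have := RepBounded.of_iso _ e' hF
  rw [← isPerfect_iff] at this
  exact isPerfect_of_biprod_left this

/-- restriction of scalars of a perfect object along a perfect ring map is perfect -/
theorem isPerfect_restrictD (h : ResPerf φ) {K : Dual.D B} (hK : IsPerfect B K) :
    IsPerfect A ((restrictD φ).obj K) := by
  obtain ⟨E, a, b, hE, hfp, ⟨e⟩⟩ := hK
  rw [isPerfect_iff]
  refine RepBounded.of_iso _ ((restrictD_toD φ E).symm ≪≫ (restrictD φ).mapIso e) ?_
  refine RepBounded.of_termwise (finiteProjective A) finiteProjective_projective _ a b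
    (fun i hi => (resSc φ).map_isZero (hE i hi)) (fun i => ?_)
  have : Module.Finite B (E.X i) := (hfp i).1
  have : Module.Projective B (E.X i) := (hfp i).2
  rw [← isPerfect_iff]
  exact isPerfect_inD_resSc_of_finite_projective h (E.X i)

end Groth.Agent.Lib.Helper12
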