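import Groth.Agent.Lib.Helper12.DRingTrunc
import Groth.Agent.Lib.Helper12.DRingClosure
import Mathlib.CategoryTheory.Preadditive.AdditiveFunctor
import Mathlib.CategoryTheory.Limits.Preserves.Shapes.Biproducts

/-!
# Single complexes in `D(A)`; perfect complexes from perfect terms
-/

namespace Groth.Agent.Lib.Helper12

open CategoryTheory CategoryTheory.Limits DRing CategoryTheory.Pretriangulated ZeroObject

attribute [local instance] HasDerivedCategory.standard

universe u

variable {A : Type u} [CommRing A]

/-- `toD (single_a M) ≅ (singleFunctor a).obj M` -/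
noncomputable def toDSingleIso' (a : ℤ) (M : ModuleCat.{u} A) :
    toD (singleCx a M) ≅ (DerivedCategory.singleFunctor (ModuleCat.{u} A) a).obj M :=
  ((DerivedCategory.singleFunctorIsoCompQ (ModuleCat.{u} A) a).app M).symm

/-- `toD (single_a M) ≅ M[0][-a]` -/
noncomputable def toDSingleIso (a : ℤ) (M : ModuleCat.{u} A) :
    toD (singleCx a M) ≅ (Dual.inD A M)⟦-a⟧ :=
  toDSingleIso' a M ≪≫
    (((DerivedCategory.singleFunctors (ModuleCat.{u} A)).shiftIso (-a) a 0 (by omega)).app M).symm

/-- `inD` of isomorphic modules -/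
noncomputable def inDMapIso {M N : ModuleCat.{u} A} (e : M ≅ N) : Dual.inD A M ≅ Dual.inD A N :=
  (DerivedCategory.singleFunctor (ModuleCat.{u} A) 0).mapIso e

lemma isZero_inD {M : ModuleCat.{u} A} (h : IsZero M) : IsZero (Dual.inD A M) :=
  (DerivedCategory.singleFunctor (ModuleCat.{u} A) 0).map_isZero h

instance preservesBinaryBiproducts_singleFunctor (n : ℤ) :
    PreservesBinaryBiproducts (DerivedCategory.singleFunctor (ModuleCat.{u} A) n) :=
  preservesBinaryBiproducts_of_preservesBiproducts _

/-- `inD (M × N) ≅ inD M ⊞ inD N` -/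
noncomputable def inDProdIso (M N : ModuleCat.{u} A) :
    Dual.inD A (M × N) ≅ Dual.inD A M ⊞ Dual.inD A N :=
  inDMapIso (ModuleCat.biprodIsoProd M N).symm ≪≫
    (DerivedCategory.singleFunctor (ModuleCat.{u} A) 0).mapBiprod M N

variable (P : ModProp A)

/-- The zero complex. -/
lemma RepBounded.of_isZero {K : Dual.D A} (h : IsZero K) : RepBounded P K := by
  refine ⟨0, 0, 0, fun i _ => ?_, fun i => P.zero ?_, ⟨?_⟩⟩
  · exact (HomologicalComplex.eval _ _ i).map_isZero (isZero_zero _)
  · exact (HomologicalComplex.eval _ _ i).map_isZero (isZero_zero _)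
  · exact (DerivedCategory.Q.map_isZero (isZero_zero _)).iso h

lemma RepAbove.of_isZero {K : Dual.D A} (h : IsZero K) : RepAbove P K := by
  refine ⟨0, 0, fun i _ => ?_, fun i => P.zero ?_, ⟨?_⟩⟩
  · exact (HomologicalComplex.eval _ _ i).map_isZero (isZero_zero _)
  · exact (HomologicalComplex.eval _ _ i).map_isZero (isZero_zero _)
  · exact (DerivedCategory.Q.map_isZero (isZero_zero _)).iso h

/-- A bounded complex whose terms are (as modules in degree 0) `RepBounded P` is `RepBounded P`. -/
theorem RepBounded.of_termwise (hP : ∀ M, P.P M → Module.Projective A M)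
    (E : Cx A) (a b : ℤ) (hE : VanishesOutside E a b)
    (hterm : ∀ i, RepBounded P (Dual.inD A (E.X i))) : RepBounded P (toD E) := by
  refine bounded_induction (RepBounded P) (fun M => RepBounded P (Dual.inD A M))
    (fun e h => RepBounded.of_iso P (inDMapIso e) h)
    (fun h => RepBounded.of_isZero P (isZero_inD h))
    (fun K h => RepBounded.of_isZero P h)
    (fun M a h => RepBounded.of_iso P (toDSingleIso a M).symm (h.shift P (-a)))
    (fun T hT h1 h3 => (RepBounded.two_out_of_three P hP T hT).2.1 h1 h3)
    E a b hE hterm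

end Groth.Agent.Lib.Helper12
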