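import Groth.Agent.Lib.Helper12.DRingTruncRep
import Mathlib.RingTheory.Flat.EquationalCriterion
import Mathlib.Algebra.Module.FinitePresentation

/-!
# Representatives in a prescribed amplitude
-/

namespace Groth.Agent.Lib.Helper12

open CategoryTheory CategoryTheory.Limits DRing CochainComplex

attribute [local instance] HasDerivedCategory.standard

universe u

variable {A : Type u} [CommRing A]

lemma isZero_HF_of_hasTorAmplitudeIn {K : Dual.D A} {a c : ℤ} (h : HasTorAmplitudeIn A a c K)
    (i : ℤ) (hi : i < a ∨ c < i) : IsZero ((HF A i).obj K) := by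
  obtain ⟨F, hF, _, ⟨e⟩⟩ := h
  exact (isZero_HF_toD_of_isZero_X F i (hF i hi)).of_iso ((HF A i).mapIso e.symm)

lemma hasTorAmplitudeIn_of_iso {K K' : Dual.D A} (e : K ≅ K') {a c : ℤ}
    (h : HasTorAmplitudeIn A a c K) : HasTorAmplitudeIn A a c K' := by
  obtain ⟨F, hF, hfl, ⟨e'⟩⟩ := h
  exact ⟨F, hF, hfl, ⟨e' ≪≫ e⟩⟩

lemma quasiIsoAt_of_isIso_HF_map {X Y : Cx A} (f : X ⟶ Y) (i : ℤ)
    (h : IsIso ((HF A i).map (DerivedCategory.Q.map f))) : QuasiIsoAt f i := by
  rw [quasiIsoAt_iff_isIso_homologyMap]
  have hnat := (DerivedCategory.homologyFunctorFactors (ModuleCat.{u} A) i).hom.naturality f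
  have h2 : IsIso ((DerivedCategory.Q ⋙ DerivedCategory.homologyFunctor (ModuleCat.{u} A) i).map f) :=
    h
  have h3 : (HomologicalComplex.homologyFunctor (ModuleCat.{u} A) (ComplexShape.up ℤ) i).map f =
      ((DerivedCategory.homologyFunctorFactors (ModuleCat.{u} A) i).app X).inv ≫
        (DerivedCategory.Q ⋙ DerivedCategory.homologyFunctor (ModuleCat.{u} A) i).map f ≫
          ((DerivedCategory.homologyFunctorFactors (ModuleCat.{u} A) i).app Y).hom := by
    rw [Iso.app_hom, hnat, Iso.app_inv, Iso.inv_hom_id_app_assoc]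
  change IsIso ((HomologicalComplex.homologyFunctor (ModuleCat.{u} A) (ComplexShape.up ℤ) i).map f)
  rw [h3]
  infer_instance

lemma vanishesOutside_truncGE (E : Cx A) (a b : ℤ) (hb : VanishesAbove E b) :
    VanishesOutside (E.truncGE a) a b := by
  intro i hi
  rcases hi with hi | hi
  · exact isZero_truncGE_X_of_lt E a i hi
  · exact vanishesAbove_truncGE E a b hb i hi

lemma termwise_truncGE (P : ModProp A) (E : Cx A) (a : ℤ)
    (hterm : ∀ j : ℤ, a < j → P.P (E.X j)) (hop : P.P (E.opcycles a)) :
    Termwise P (E.truncGE a) := by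
  intro i
  rcases lt_trichotomy i a with h1 | h1 | h1
  · exact P.zero (isZero_truncGE_X_of_lt E a i h1)
  · subst h1
    exact P.iso (E.truncGEXIsoOpcycles i).symm hop
  · exact P.iso (E.truncGEXIso a i h1).symm (hterm i h1)

/-- **General representative theorem**: if `f : E ⟶ X` is a quasi-isomorphism in degrees `≥ a`,
`E` is bounded above with terms in `P` above `a` and `opcycles a` in `P`, and the cohomology of `X`
vanishes outside `[a, c]`, then `X` is represented by a complex with terms in `P` vanishing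
outside `[a, c]`. -/
theorem exists_rep_of_quasiIsoAt (P : ModProp A) (hP : P.KerClosed) {E X : Cx A} (f : E ⟶ X)
    (a b c : ℤ) (hf : ∀ i : ℤ, a ≤ i → QuasiIsoAt f i) (hb : VanishesAbove E b)
    (hterm : ∀ j : ℤ, a < j → P.P (E.X j)) (hop : P.P (E.opcycles a))
    (hX : ∀ i : ℤ, i < a ∨ c < i → IsZero ((HF A i).obj (toD X))) :
    ∃ G : Cx A, VanishesOutside G a c ∧ Termwise P G ∧ Nonempty (toD G ≅ toD X) := by
  have hq1 : QuasiIso (truncGEMap f a) := (quasiIso_truncGEMap_iff f a).2 hf
  have hGE : X.IsGE a := by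
    rw [CochainComplex.isGE_iff]
    intro i hi
    exact exactAt_of_isZero_HF X i (hX i (Or.inl hi))
  have hq2 : QuasiIso (X.πTruncGE a) := (X.quasiIso_πTruncGE_iff a).mpr hGE
  have hi1 : IsIso (DerivedCategory.Q.map (truncGEMap f a)) :=
    (DerivedCategory.isIso_Q_map_iff_quasiIso _ _).mpr hq1
  have hi2 : IsIso (DerivedCategory.Q.map (X.πTruncGE a)) :=
    (DerivedCategory.isIso_Q_map_iff_quasiIso _ _).mpr hq2
  let e : toD (E.truncGE a) ≅ toD X :=
    asIso (DerivedCategory.Q.map (truncGEMap f a)) ≪≫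
      (asIso (DerivedCategory.Q.map (X.πTruncGE a))).symm
  obtain ⟨G', hG', hG'term, ⟨e'⟩⟩ := exists_truncLE_rep P hP (E.truncGE a) a b c
    (vanishesOutside_truncGE E a b hb) (termwise_truncGE P E a hterm hop)
    (fun i hi => (hX i (Or.inr hi)).of_iso ((HF A i).mapIso e))
  exact ⟨G', hG', hG'term, ⟨e' ≪≫ e⟩⟩

/-- flat + cokernel of a map of finite modules with finite projective target ⇒ finite projective -/
lemma finiteProjective_opcycles (E : Cx A) (a : ℤ) (h1 : Module.Finite A (E.X (a - 1)))
    (h2 : Module.Finite A (E.X a)) (h3 : Module.Projective A (E.X a))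
    (hfl : Module.Flat A (E.opcycles a)) : (finiteProjective A).P (E.opcycles a) := by
  have hfl' : Module.Flat A ((E.X a) ⧸ LinearMap.range (E.d (a - 1) a).hom) :=
    (flat_opcycles_iff_quot E a).1 hfl
  have : Module.FinitePresentation A (E.X a) := Module.finitePresentation_of_projective A _
  have hfp : Module.FinitePresentation A ((E.X a) ⧸ LinearMap.range (E.d (a - 1) a).hom) := by
    refine Module.finitePresentation_of_surjective
      (LinearMap.range (E.d (a - 1) a).hom).mkQ (Submodule.mkQ_surjective _) ?_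
    rw [Submodule.ker_mkQ, LinearMap.range_eq_map]
    exact Submodule.FG.map _ Module.Finite.fg_top
  have hproj : Module.Projective A ((E.X a) ⧸ LinearMap.range (E.d (a - 1) a).hom) :=
    Module.Flat.projective_of_finitePresentation
  exact (finiteProjective A).iso (opcyclesIsoQuot E a).symm ⟨inferInstance, hproj⟩

end Groth.Agent.Lib.Helper12
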