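import Groth.Agent.Lib.Helper12.DRingExt
import Groth.Agent.Lib.Helper12.DRingTorAmpRep

/-!
# Splitting off the top truncation of an object of `D(A)`
-/

namespace Groth.Agent.Lib.Helper12

open CategoryTheory CategoryTheory.Limits DRing CategoryTheory.Pretriangulated
open CochainComplex ZeroObject

attribute [local instance] HasDerivedCategory.standard

universe u

variable {A : Type u} [CommRing A]

/-- naturality of `toDSingleIso'` -/
lemma toDSingleIso'_hom_naturality (a : ℤ) {M N : ModuleCat.{u} A} (φ : M ⟶ N) :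
    DerivedCategory.Q.map ((HomologicalComplex.single (ModuleCat.{u} A) (ComplexShape.up ℤ) a).map φ)
      ≫ (toDSingleIso' a N).hom =
    (toDSingleIso' a M).hom ≫ (DerivedCategory.singleFunctor (ModuleCat.{u} A) a).map φ := by
  have := (DerivedCategory.singleFunctorIsoCompQ (ModuleCat.{u} A) a).inv.naturality φ
  exact this

/-- naturality of `toDSingleIso` -/
lemma toDSingleIso_hom_naturality (a : ℤ) {M N : ModuleCat.{u} A} (φ : M ⟶ N) :
    DerivedCategory.Q.map ((HomologicalComplex.single (ModuleCat.{u} A) (ComplexShape.up ℤ) a).map φ)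
      ≫ (toDSingleIso a N).hom =
    (toDSingleIso a M).hom ≫
      ((DerivedCategory.singleFunctor (ModuleCat.{u} A) 0).map φ)⟦-a⟧' := by
  have h1 := toDSingleIso'_hom_naturality a φ
  have h2 := ((DerivedCategory.singleFunctors (ModuleCat.{u} A)).shiftIso (-a) a 0
    (by omega)).inv.naturality φ
  dsimp only [toDSingleIso, Iso.trans_hom, Iso.symm_hom, Iso.app_inv]
  rw [← Category.assoc, h1, Category.assoc, Category.assoc]
  congr 1

/-- the chain map `P ⟶ single_a N` given by `f : P^a ⟶ N` killing boundaries -/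
noncomputable abbrev toSingle (P : Cx A) (a : ℤ) {N : ModuleCat.{u} A} (f : P.X a ⟶ N)
    (hf : P.d (a - 1) a ≫ f = 0) : P ⟶ singleCx a N :=
  HomologicalComplex.mkHomToSingle f (by
    intro i hi
    have hi' : i + 1 = a := hi
    have : i = a - 1 := by omega
    subst this
    exact hf)

/-- a map to a single complex which factors through the differential is null-homotopic -/
noncomputable def toSingleNullHomotopy (P : Cx A) (a : ℤ) {N : ModuleCat.{u} A}
    (h : P.X (a + 1) ⟶ N) :
    Homotopy (toSingle P a (P.d a (a + 1) ≫ h) (by rw [← Category.assoc, P.d_comp_d, zero_comp]))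
      0 where
  hom i j := if hij : i = a + 1 ∧ j = a then
      eqToHom (by rw [hij.1]) ≫ h ≫
        (HomologicalComplex.singleObjXSelf (ComplexShape.up ℤ) a N).inv ≫ eqToHom (by rw [hij.2])
    else 0
  zero i j hij := by
    rw [dif_neg]
    rintro ⟨rfl, rfl⟩
    exact hij (by simp)
  comm i := by
    by_cases hi : i = a
    · subst hi
      rw [dNext_eq _ (show (ComplexShape.up ℤ).Rel i (i + 1) by simp),
        prevD_eq _ (show (ComplexShape.up ℤ).Rel (i - 1) i by simp),
        HomologicalComplex.single_obj_d, comp_zero, add_zero, HomologicalComplex.zero_f, add_zero,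
        HomologicalComplex.mkHomToSingle_f, dif_pos ⟨rfl, rfl⟩]
      simp
    · exact (isZero_singleCx_X a N i hi).eq_of_tgt _ _

lemma Q_map_toSingle_eq_zero (P : Cx A) (a : ℤ) {N : ModuleCat.{u} A} (h : P.X (a + 1) ⟶ N) :
    DerivedCategory.Q.map
      (toSingle P a (P.d a (a + 1) ≫ h) (by rw [← Category.assoc, P.d_comp_d, zero_comp])) = 0 := by
  rw [DerivedCategory.Q_map_eq_of_homotopy _ (toSingleNullHomotopy P a h),
    CategoryTheory.Functor.map_zero]

lemma toSingle_comp_single_map (P : Cx A) (a : ℤ) {N N' : ModuleCat.{u} A} (f : P.X a ⟶ N)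
    (hf : P.d (a - 1) a ≫ f = 0) (g : N ⟶ N') :
    toSingle P a f hf ≫
      (HomologicalComplex.single (ModuleCat.{u} A) (ComplexShape.up ℤ) a).map g =
    toSingle P a (f ≫ g) (by rw [← Category.assoc, hf, zero_comp]) := by
  apply HomologicalComplex.to_single_hom_ext
  rw [HomologicalComplex.comp_f, HomologicalComplex.mkHomToSingle_f,
    HomologicalComplex.mkHomToSingle_f, HomologicalComplex.single_map_f_self]
  simp

/-- for a K-projective `P`, a map to a single complex which vanishes in `D(A)` factors through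
the differential -/
lemma exists_factor_of_Q_map_toSingle_eq_zero (P : Cx A) [P.IsKProjective] (a : ℤ)
    {N : ModuleCat.{u} A} (f : P.X a ⟶ N) (hf : P.d (a - 1) a ≫ f = 0)
    (h0 : DerivedCategory.Q.map (toSingle P a f hf) = 0) :
    ∃ h : P.X (a + 1) ⟶ N, P.d a (a + 1) ≫ h = f := by
  have hQ : DerivedCategory.Q.map (toSingle P a f hf) =
      DerivedCategory.Q.map (0 : P ⟶ singleCx a N) := by
    rw [h0, CategoryTheory.Functor.map_zero]
  obtain ⟨ho⟩ := homotopy_of_Q_map_eq P (singleCx a N) _ 0 hQ
  have hcomm := ho.comm a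
  rw [dNext_eq ho.hom (show (ComplexShape.up ℤ).Rel a (a + 1) by simp),
    prevD_eq ho.hom (show (ComplexShape.up ℤ).Rel (a - 1) a by simp),
    HomologicalComplex.single_obj_d, comp_zero, add_zero, HomologicalComplex.zero_f, add_zero,
    HomologicalComplex.mkHomToSingle_f] at hcomm
  refine ⟨ho.hom (a + 1) a ≫
    (HomologicalComplex.singleObjXSelf (ComplexShape.up ℤ) a N).hom, ?_⟩
  rw [← Category.assoc, ← hcomm, Category.assoc, Iso.inv_hom_id, Category.comp_id]

/-- **Key algebraic step**: if `Hom(P, M[-a]) → Hom(P, M'[-a])` is injective for every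
monomorphism `M → M'`, then the cokernel of `d : P^a → P^{a+1}` is projective. -/
theorem projective_opcycles_of_hom_injective (P : Cx A) (a b : ℤ) (hP : VanishesAbove P b)
    (hproj : ∀ i, Module.Projective A (P.X i))
    (h : ∀ (M M' : ModuleCat.{u} A) (g : M ⟶ M'), Mono g →
      ∀ x : toD P ⟶ (Dual.inD A M)⟦-a⟧,
        x ≫ ((DerivedCategory.singleFunctor (ModuleCat.{u} A) 0).map g)⟦-a⟧' = 0 → x = 0) :
    Module.Projective A (P.opcycles (a + 1)) := by
  have hK : P.IsKProjective := isKProjective_of_vanishesAbove P b hP hproj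
  let d := P.d a (a + 1)
  let B := Limits.image d
  let φ₀ : P.X a ⟶ B := factorThruImage d
  let ι : B ⟶ P.X (a + 1) := Limits.image.ι d
  have hfac : φ₀ ≫ ι = d := Limits.image.fac d
  have hφ₀ : P.d (a - 1) a ≫ φ₀ = 0 := by
    rw [← cancel_mono ι, Category.assoc, hfac, zero_comp]
    exact P.d_comp_d _ _ _
  have hx : DerivedCategory.Q.map (toSingle P a φ₀ hφ₀) = 0 := by
    have h1 := h B (P.X (a + 1)) ι inferInstance
      (DerivedCategory.Q.map (toSingle P a φ₀ hφ₀) ≫ (toDSingleIso a B).hom) (by
        rw [Category.assoc, ← toDSingleIso_hom_naturality, ← Category.assoc,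
          ← CategoryTheory.Functor.map_comp, toSingle_comp_single_map]
        have h2 := Q_map_toSingle_eq_zero P a (𝟙 (P.X (a + 1)))
        have h3 : toSingle P a (φ₀ ≫ ι) (by rw [← Category.assoc, hφ₀, zero_comp]) =
            toSingle P a (P.d a (a + 1) ≫ 𝟙 (P.X (a + 1)))
              (by rw [← Category.assoc, P.d_comp_d, zero_comp]) := by
          congr 1
        rw [h3, h2, zero_comp])
    rw [← cancel_mono (toDSingleIso a B).hom, h1, zero_comp]
  obtain ⟨hh, hhh⟩ := exists_factor_of_Q_map_toSingle_eq_zero P a φ₀ hφ₀ hx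
  have hsplit : ι ≫ hh = 𝟙 B := by
    rw [← cancel_epi φ₀, ← Category.assoc, hfac, hhh, Category.comp_id]
  have hιp : ι ≫ P.pOpcycles (a + 1) = 0 := by
    rw [← cancel_epi φ₀, ← Category.assoc, hfac, comp_zero]
    exact P.d_pOpcycles a (a + 1)
  let s : P.opcycles (a + 1) ⟶ P.X (a + 1) := P.descOpcycles (𝟙 _ - hh ≫ ι) a (by simp) (by
    rw [Preadditive.comp_sub, Category.comp_id, ← Category.assoc, hhh, hfac, sub_self])
  have hs : s ≫ P.pOpcycles (a + 1) = 𝟙 _ := by
    rw [← cancel_epi (P.pOpcycles (a + 1))]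
    dsimp only [s]
    rw [HomologicalComplex.p_descOpcycles_assoc, Preadditive.sub_comp, Category.id_comp,
      Category.assoc, hιp, comp_zero, sub_zero, Category.comp_id]
  have : Module.Projective A (P.X (a + 1)) := hproj (a + 1)
  refine Module.Projective.of_split s.hom (P.pOpcycles (a + 1)).hom ?_
  rw [← ModuleCat.hom_comp, hs]
  rfl

set_option backward.defeqAttrib.useBackward true in
set_option backward.isDefEq.respectTransparency false in
open DerivedCategory in
/-- the distinguished triangle `τ_{≤n} P → P → τ_{≥n+1} P →` of canonical truncations of a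
complex -/
lemma exists_cxTruncTriangle (P : Cx A) (n : ℤ) :
    ∃ δ : toD (P.truncGE (n + 1)) ⟶ (toD (P.truncLE n))⟦(1 : ℤ)⟧,
      Triangle.mk (Q.map (P.ιTruncLE n)) (Q.map (P.πTruncGE (n + 1))) δ ∈
        distTriang (Dual.D A) := by
  have h := P.shortComplexTruncLE_shortExact n
  have hq : QuasiIso (P.shortComplexTruncLEX₃ToTruncGE n (n + 1) rfl) := by
    dsimp only [CochainComplex.shortComplexTruncLEX₃ToTruncGE]
    infer_instance
  have : IsIso (Q.map (P.shortComplexTruncLEX₃ToTruncGE n (n + 1) rfl)) := inferInstance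
  refine ⟨inv (Q.map (P.shortComplexTruncLEX₃ToTruncGE n (n + 1) rfl)) ≫ (triangleOfSES h).mor₃,
    isomorphic_distinguished _ (triangleOfSES_distinguished h) _ (Iso.symm ?_)⟩
  refine Triangle.isoMk _ _ (Iso.refl _) (Iso.refl _)
    (asIso (Q.map (P.shortComplexTruncLEX₃ToTruncGE n (n + 1) rfl))) ?_ ?_ (by simp)
  · dsimp
    rw [Category.id_comp, Category.comp_id]
    rfl
  · dsimp
    rw [Category.id_comp, ← Q.map_comp, CochainComplex.g_shortComplexTruncLEX₃ToTruncGE ..]

open DerivedCategory in
/-- the canonical truncation `τ_{≥n+1}` of a complex computes the t-structure truncation -/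
lemma exists_toDTruncGEIso (P : Cx A) (n : ℤ) :
    ∃ e : toD (P.truncGE (n + 1)) ≅
        ((TStructure.t : Triangulated.TStructure (Dual.D A)).truncGE (n + 1)).obj (toD P),
      Q.map (P.πTruncGE (n + 1)) ≫ e.hom =
        ((TStructure.t : Triangulated.TStructure (Dual.D A)).truncGEπ (n + 1)).app (toD P) := by
  obtain ⟨δ, hδ⟩ := exists_cxTruncTriangle P n
  obtain ⟨e', he'⟩ := (TStructure.t : Triangulated.TStructure (Dual.D A)).triangle_iso_exists hδ
    ((TStructure.t : Triangulated.TStructure (Dual.D A)).triangleLTGE_distinguished (n + 1) (toD P))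
    (Iso.refl _) n (n + 1)
    (by change TStructure.t.IsLE (Q.obj (P.truncLE n)) n; infer_instance)
    (by change TStructure.t.IsGE (Q.obj (P.truncGE (n + 1))) (n + 1); infer_instance)
    (by change TStructure.t.IsLE ((TStructure.t.truncLT (n + 1)).obj (toD P)) n; infer_instance)
    (by infer_instance)
  have h1 : e'.hom.hom₃ ≫ e'.inv.hom₃ = 𝟙 _ := congrArg TriangleMorphism.hom₃ e'.hom_inv_id
  have h2 : e'.inv.hom₃ ≫ e'.hom.hom₃ = 𝟙 _ := congrArg TriangleMorphism.hom₃ e'.inv_hom_id
  refine ⟨⟨e'.hom.hom₃, e'.inv.hom₃, h1, h2⟩, ?_⟩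
  have h := e'.hom.comm₂
  rw [he'] at h
  exact h.trans (Category.id_comp _)

open DerivedCategory in
/-- if `τ_{≥n} K` is represented by a bounded complex of projectives in degrees `≥ n`, then
the connecting morphism `τ_{≥n} K → (τ_{<n} K)[1]` vanishes -/
lemma truncGEδLT_eq_zero_of_projective (K : Dual.D A) (n : ℤ) (P' : Cx A) (b : ℤ)
    (hP' : VanishesOutside P' n b) (hproj : ∀ i, Module.Projective A (P'.X i))
    (e : toD P' ≅ ((TStructure.t : Triangulated.TStructure (Dual.D A)).truncGE n).obj K) :
    ((TStructure.t : Triangulated.TStructure (Dual.D A)).truncGEδLT n).app K = 0 := by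
  rw [← cancel_epi e.hom, comp_zero]
  refine hom_eq_zero_of_projective_of_isLE P' n b hP' hproj _ (fun i hi => ?_) _
  have h1 : TStructure.t.IsLE
      (((TStructure.t : Triangulated.TStructure (Dual.D A)).truncLT n).obj K) (n - 1) :=
    inferInstance
  have h2 : TStructure.t.IsLE
      ((((TStructure.t : Triangulated.TStructure (Dual.D A)).truncLT n).obj K)⟦(1 : ℤ)⟧) (n - 2) :=
    TStructure.t.isLE_shift _ (n - 1) 1 (n - 2) (by omega)
  exact @DerivedCategory.isZero_of_isLE _ _ _ _ _ (n - 2) i (by omega) h2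

open DerivedCategory in
/-- **Splitting**: if `τ_{≥n} K` is represented by a bounded complex of projectives in degrees
`≥ n`, then `K ≅ τ_{<n} K ⊞ τ_{≥n} K` compatibly with the truncation maps. -/
theorem exists_splitting_of_projective (K : Dual.D A) (n : ℤ) (P' : Cx A) (b : ℤ)
    (hP' : VanishesOutside P' n b) (hproj : ∀ i, Module.Projective A (P'.X i))
    (e : toD P' ≅ ((TStructure.t : Triangulated.TStructure (Dual.D A)).truncGE n).obj K) :
    ∃ e : K ≅ ((TStructure.t : Triangulated.TStructure (Dual.D A)).truncLT n).obj K ⊞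
        ((TStructure.t : Triangulated.TStructure (Dual.D A)).truncGE n).obj K,
      ((TStructure.t : Triangulated.TStructure (Dual.D A)).truncLTι n).app K ≫ e.hom = biprod.inl ∧
      e.hom ≫ biprod.snd =
        ((TStructure.t : Triangulated.TStructure (Dual.D A)).truncGEπ n).app K := by
  obtain ⟨e', h1, h2⟩ := exists_iso_binaryBiproduct_of_distTriang _
    ((TStructure.t : Triangulated.TStructure (Dual.D A)).triangleLTGE_distinguished n K)
    (truncGEδLT_eq_zero_of_projective K n P' b hP' hproj e)
  exact ⟨e', h1, h2.symm⟩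

open DerivedCategory in
/-- **Projectivity of the top truncation** from injectivity of `Hom(K, -[-a])` on
monomorphisms. -/
theorem exists_projective_truncGE_rep (K : Dual.D A) (a b : ℤ)
    (hK : ∀ i : ℤ, b < i → IsZero ((HF A i).obj K))
    (h : ∀ (M M' : ModuleCat.{u} A) (g : M ⟶ M'), Mono g →
      ∀ x : K ⟶ (Dual.inD A M)⟦-a⟧,
        x ≫ ((DerivedCategory.singleFunctor (ModuleCat.{u} A) 0).map g)⟦-a⟧' = 0 → x = 0) :
    ∃ (P' : Cx A), VanishesOutside P' (a + 1) b ∧ (∀ i, Module.Projective A (P'.X i)) ∧
      Nonempty (toD P' ≅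
        ((TStructure.t : Triangulated.TStructure (Dual.D A)).truncGE (a + 1)).obj K) := by
  obtain ⟨P, hPb, hPproj, ⟨e⟩⟩ := exists_projective_rep K b hK
  have hop : Module.Projective A (P.opcycles (a + 1)) :=
    projective_opcycles_of_hom_injective P a b hPb hPproj (fun M M' g hg x hx => by
      have h1 := h M M' g hg (e.inv ≫ x) (by rw [Category.assoc, hx, comp_zero])
      rw [← cancel_epi e.inv, h1, comp_zero])
  obtain ⟨e1, -⟩ := exists_toDTruncGEIso P a
  exact ⟨P.truncGE (a + 1), vanishesOutside_truncGE P (a + 1) b hPb,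
    termwise_truncGE (projectiveP A) P (a + 1) (fun j _ => hPproj j) hop,
    ⟨e1 ≪≫ ((TStructure.t : Triangulated.TStructure (Dual.D A)).truncGE (a + 1)).mapIso e⟩⟩

open DerivedCategory in
/-- if `H^a(K) = 0` then `τ_{<a} K → τ_{<a+1} K` is an isomorphism -/
lemma isIso_natTransTruncLTOfLE_of_isZero_HF (K : Dual.D A) (a : ℤ)
    (hK : IsZero ((HF A a).obj K)) :
    IsIso (((TStructure.t : Triangulated.TStructure (Dual.D A)).natTransTruncLTOfLE a (a + 1)
      (by omega)).app K) := by
  rw [DerivedCategory.isIso_iff]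
  intro i
  have hfac := (TStructure.t : Triangulated.TStructure (Dual.D A)).natTransTruncLTOfLE_ι_app
    a (a + 1) (by omega) K
  by_cases hi : i < a
  · have h1 : IsIso ((HF A i).map
        (((TStructure.t : Triangulated.TStructure (Dual.D A)).truncLTι (a + 1)).app K)) :=
      isIso_HF_truncLTι K (a + 1) i (by omega)
    have h2 : IsIso ((HF A i).map
        (((TStructure.t : Triangulated.TStructure (Dual.D A)).truncLTι a).app K)) :=
      isIso_HF_truncLTι K a i hi
    have h3 : (HF A i).map (((TStructure.t : Triangulated.TStructure (Dual.D A)).natTransTruncLTOfLE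
          a (a + 1) (by omega)).app K) ≫ (HF A i).map
          (((TStructure.t : Triangulated.TStructure (Dual.D A)).truncLTι (a + 1)).app K) =
        (HF A i).map (((TStructure.t : Triangulated.TStructure (Dual.D A)).truncLTι a).app K) := by
      rw [← CategoryTheory.Functor.map_comp, hfac]
    rw [← h3] at h2
    exact IsIso.of_isIso_comp_right _ ((HF A i).map
        (((TStructure.t : Triangulated.TStructure (Dual.D A)).truncLTι (a + 1)).app K))
  · have hs : IsZero ((HF A i).obj
        (((TStructure.t : Triangulated.TStructure (Dual.D A)).truncLT a).obj K)) :=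
      isZero_HF_truncLT K a i (by omega)
    have ht : IsZero ((HF A i).obj
        (((TStructure.t : Triangulated.TStructure (Dual.D A)).truncLT (a + 1)).obj K)) := by
      by_cases hia : i = a
      · subst hia
        exact hK.of_iso (HFTruncLTIso K (i + 1) i (by omega))
      · exact isZero_HF_truncLT K (a + 1) i (by omega)
    exact ⟨0, hs.eq_of_src _ _, ht.eq_of_src _ _⟩

open DerivedCategory in
/-- **Splitting, shifted version**: if `H^a(K) = 0` and `τ_{≥a+1} K` is represented by a bounded
complex of projectives in degrees `≥ a+1`, then `K ≅ τ_{<a} K ⊞ τ_{≥a+1} K` compatibly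
with the truncation maps. -/
theorem exists_splitting_of_projective' (K : Dual.D A) (a : ℤ) (hK : IsZero ((HF A a).obj K))
    (P' : Cx A) (b : ℤ)
    (hP' : VanishesOutside P' (a + 1) b) (hproj : ∀ i, Module.Projective A (P'.X i))
    (e : toD P' ≅ ((TStructure.t : Triangulated.TStructure (Dual.D A)).truncGE (a + 1)).obj K) :
    ∃ e : K ≅ ((TStructure.t : Triangulated.TStructure (Dual.D A)).truncLT a).obj K ⊞
        ((TStructure.t : Triangulated.TStructure (Dual.D A)).truncGE (a + 1)).obj K,
      ((TStructure.t : Triangulated.TStructure (Dual.D A)).truncLTι a).app K ≫ e.hom = biprod.inl ∧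
      e.hom ≫ biprod.snd =
        ((TStructure.t : Triangulated.TStructure (Dual.D A)).truncGEπ (a + 1)).app K := by
  have hφ := isIso_natTransTruncLTOfLE_of_isZero_HF K a hK
  let φ := ((TStructure.t : Triangulated.TStructure (Dual.D A)).natTransTruncLTOfLE a (a + 1)
      (by omega)).app K
  have hfac : φ ≫ ((TStructure.t : Triangulated.TStructure (Dual.D A)).truncLTι (a + 1)).app K =
      ((TStructure.t : Triangulated.TStructure (Dual.D A)).truncLTι a).app K :=
    (TStructure.t : Triangulated.TStructure (Dual.D A)).natTransTruncLTOfLE_ι_app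
      a (a + 1) (by omega) K
  have hδ := truncGEδLT_eq_zero_of_projective K (a + 1) P' b hP' hproj e
  let T' : Triangle (Dual.D A) := Triangle.mk
    (((TStructure.t : Triangulated.TStructure (Dual.D A)).truncLTι a).app K)
    (((TStructure.t : Triangulated.TStructure (Dual.D A)).truncGEπ (a + 1)).app K)
    (0 : _ ⟶ ((((TStructure.t : Triangulated.TStructure (Dual.D A)).truncLT a).obj K))⟦(1 : ℤ)⟧)
  have hT' : T' ∈ distTriang (Dual.D A) := by
    refine isomorphic_distinguished _
      ((TStructure.t : Triangulated.TStructure (Dual.D A)).triangleLTGE_distinguished (a + 1) K) _ ?_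
    refine Triangle.isoMk _ _ (@asIso _ _ _ _ φ hφ) (Iso.refl _) (Iso.refl _) ?_ ?_ ?_
    · exact (Category.comp_id _).trans hfac.symm
    · exact (Category.comp_id _).trans (Category.id_comp _).symm
    · exact zero_comp.trans ((Category.id_comp _).trans hδ).symm
  obtain ⟨e', h1, h2⟩ := exists_iso_binaryBiproduct_of_distTriang T' hT' rfl
  exact ⟨e', h1, h2.symm⟩

end Groth.Agent.Lib.Helper12
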