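import Groth.Agent.Lib.Helper12.DRingFlatTrunc
import Groth.Agent.Lib.Helper12.DRingPCRep

/-!
# Tor amplitude and flatness of `opcycles`
-/

namespace Groth.Agent.Lib.Helper12

open CategoryTheory CategoryTheory.Limits DRing CochainComplex

attribute [local instance] HasDerivedCategory.standard

universe u

variable {A : Type u} [CommRing A]

lemma quasiIso_of_Q_map_eq_iso {X Y : Cx A} (φ : X ⟶ Y) (e : toD X ≅ toD Y)
    (h : DerivedCategory.Q.map φ = e.hom) : QuasiIso φ := by
  rw [← DerivedCategory.isIso_Q_map_iff_quasiIso, h]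
  infer_instance

/-- the concrete description of `opcycles` -/
noncomputable def opcyclesIsoQuot (P : Cx A) (a : ℤ) :
    P.opcycles a ≅ ModuleCat.of A ((P.X a) ⧸ LinearMap.range (P.d (a - 1) a).hom) :=
  P.opcyclesIsoSc' (a - 1) a (a + 1) (by simp) (by simp) ≪≫
    (P.sc' (a - 1) a (a + 1)).moduleCatOpcyclesIso

lemma flat_opcycles_iff_quot (P : Cx A) (a : ℤ) :
    Module.Flat A (P.opcycles a) ↔
      Module.Flat A ((P.X a) ⧸ LinearMap.range (P.d (a - 1) a).hom) :=
  Module.Flat.equiv_iff (opcyclesIsoQuot P a).toLinearEquiv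

/-- **Tor amplitude ⇒ flat bottom**: for a bounded above complex `P`, flat in degrees `> a`, of tor
amplitude in `[a, c]`, the cokernel of `P^{a-1} → P^a` is flat. -/
theorem flat_opcycles_of_hasTorAmplitudeIn (P : Cx A) (b : ℤ) (hb : VanishesAbove P b) (a c : ℤ)
    (hfl : ∀ j : ℤ, a < j → Module.Flat A (P.X j))
    (hamp : HasTorAmplitudeIn A a c (toD P)) : Module.Flat A (P.opcycles a) := by
  obtain ⟨F, hF, hFfl, ⟨e⟩⟩ := hamp
  have hK : ∀ i : ℤ, max b c < i → IsZero ((HF A i).obj (toD P)) := fun i hi =>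
    isZero_HF_toD_of_isZero_X P i (hb i (by have := le_max_left b c; omega))
  obtain ⟨Q, hQb, hQp, ⟨eQ⟩⟩ := exists_projective_rep (toD P) (max b c) hK
  have : Q.IsKProjective := isKProjective_of_vanishesAbove Q _ hQb hQp
  obtain ⟨φ, hφ⟩ := exists_map_of_isKProjective Q P eQ.hom
  obtain ⟨ψ, hψ⟩ := exists_map_of_isKProjective Q F (eQ ≪≫ e.symm).hom
  have hqφ : QuasiIso φ := quasiIso_of_Q_map_eq_iso φ eQ hφ
  have hqψ : QuasiIso ψ := quasiIso_of_Q_map_eq_iso ψ (eQ ≪≫ e.symm) hψ
  have hQfl : ∀ j : ℤ, a < j → Module.Flat A (Q.X j) := fun j _ => by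
    have := hQp j
    infer_instance
  have hPb : VanishesAbove P (max b c) := fun i hi => hb i (by have := le_max_left b c; omega)
  have hFb : VanishesAbove F (max b c) := fun i hi =>
    hF i (Or.inr (by have := le_max_right b c; omega))
  have h1 := flat_opcycles_iff_of_quasiIsoAt ψ a (max b c) (fun i _ => inferInstance) hQb hFb hQfl
    (fun j _ => hFfl j)
  have h2 := flat_opcycles_iff_of_isZero F (a - 1) a (by omega) (hF _ (Or.inl (by omega)))
  have h3 := flat_opcycles_iff_of_quasiIsoAt φ a (max b c) (fun i _ => inferInstance) hQb hPb hQfl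
    hfl
  rw [← h3, h1, h2]
  exact hFfl a

end Groth.Agent.Lib.Helper12
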