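import Groth.Agent.Lib.Helper12.DRingPerfectAmp

/-!
# Closure properties of tor amplitude (flat representative form)
-/

namespace Groth.Agent.Lib.Helper12

open CategoryTheory CategoryTheory.Limits DRing CochainComplex CategoryTheory.Pretriangulated

attribute [local instance] HasDerivedCategory.standard

universe u

variable {A : Type u} [CommRing A]

lemma hasTorAmplitudeIn_mono' {K : Dual.D A} {a b a' b' : ℤ} (h : HasTorAmplitudeIn A a b K)
    (ha : a' ≤ a) (hb : b ≤ b') : HasTorAmplitudeIn A a' b' K := by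
  obtain ⟨F, hF, hfl, e⟩ := h
  exact ⟨F, fun i hi => hF i (by omega), hfl, e⟩

/-- for a projective bounded above representative `Q` of an object of tor amplitude in `[a, b]`, the
truncation `Q.truncGE a` is a flat representative -/
lemma truncGE_rep_of_hasTorAmplitudeIn {K : Dual.D A} {a b : ℤ} (h : HasTorAmplitudeIn A a b K)
    (Q : Cx A) (bQ : ℤ) (hQb : VanishesAbove Q bQ) (hQp : ∀ i, Module.Projective A (Q.X i))
    (e : toD Q ≅ K) :
    VanishesOutside (Q.truncGE a) a bQ ∧ Termwise (flatP A) (Q.truncGE a) ∧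
      IsIso (DerivedCategory.Q.map (Q.πTruncGE a)) := by
  have hQfl : ∀ j, Module.Flat A (Q.X j) := fun j => by
    have := hQp j
    infer_instance
  have hfl : Module.Flat A (Q.opcycles a) :=
    flat_opcycles_of_hasTorAmplitudeIn Q bQ hQb a b (fun j _ => hQfl j)
      (hasTorAmplitudeIn_of_iso e.symm h)
  have hGE : Q.IsGE a := by
    rw [CochainComplex.isGE_iff]
    intro i hi
    exact exactAt_of_isZero_HF Q i
      ((isZero_HF_of_hasTorAmplitudeIn h i (Or.inl hi)).of_iso ((HF A i).mapIso e))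
  have hqi : QuasiIso (Q.πTruncGE a) := (Q.quasiIso_πTruncGE_iff a).mpr hGE
  exact ⟨vanishesOutside_truncGE Q a bQ hQb, termwise_truncGE (flatP A) Q a (fun j _ => hQfl j) hfl,
    (DerivedCategory.isIso_Q_map_iff_quasiIso _ _).mpr hqi⟩

/-- **cones**: if the first two vertices of a distinguished triangle have tor amplitude in
`[a, b]`, the third has tor amplitude in `[a - 1, b]` -/
theorem hasTorAmplitudeIn_cone (T : Triangle (Dual.D A)) (hT : T ∈ distTriang (Dual.D A))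
    {a b : ℤ} (h1 : HasTorAmplitudeIn A a b T.obj₁) (h2 : HasTorAmplitudeIn A a b T.obj₂) :
    HasTorAmplitudeIn A (a - 1) b T.obj₃ := by
  obtain ⟨Q1, hQ1b, hQ1p, ⟨e1⟩⟩ := exists_projective_rep T.obj₁ b
    (fun i hi => isZero_HF_of_hasTorAmplitudeIn h1 i (Or.inr hi))
  obtain ⟨Q2, hQ2b, hQ2p, ⟨e2⟩⟩ := exists_projective_rep T.obj₂ b
    (fun i hi => isZero_HF_of_hasTorAmplitudeIn h2 i (Or.inr hi))
  have : Q1.IsKProjective := isKProjective_of_vanishesAbove Q1 b hQ1b hQ1p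
  obtain ⟨f, hf⟩ := exists_map_of_isKProjective Q1 Q2 (e1.hom ≫ T.mor₁ ≫ e2.inv)
  obtain ⟨hv1, ht1, hi1⟩ := truncGE_rep_of_hasTorAmplitudeIn h1 Q1 b hQ1b hQ1p e1
  obtain ⟨hv2, ht2, hi2⟩ := truncGE_rep_of_hasTorAmplitudeIn h2 Q2 b hQ2b hQ2p e2
  let e1' : T.obj₁ ≅ toD (Q1.truncGE a) := e1.symm ≪≫ asIso (DerivedCategory.Q.map (Q1.πTruncGE a))
  let e2' : T.obj₂ ≅ toD (Q2.truncGE a) := e2.symm ≪≫ asIso (DerivedCategory.Q.map (Q2.πTruncGE a))
  have hcomm : T.mor₁ ≫ e2'.hom = e1'.hom ≫ DerivedCategory.Q.map (truncGEMap f a) := by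
    dsimp only [e1', e2', Iso.trans_hom, Iso.symm_hom, asIso_hom]
    rw [Category.assoc, ← CategoryTheory.Functor.map_comp, πTruncGE_naturality,
      CategoryTheory.Functor.map_comp, hf]
    simp only [Category.assoc, Iso.inv_hom_id_assoc]
  obtain ⟨e3⟩ := cone_iso T hT e1' e2' (truncGEMap f a) hcomm
  refine ⟨mappingCone (truncGEMap f a), ?_, termwise_cone (flatP A) _ ht1 ht2, ⟨e3.symm⟩⟩
  exact vanishesOutside_cone' _ (fun i hi => hv1 i (by omega)) (fun i hi => hv2 i (by omega))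

/-- shifts -/
theorem hasTorAmplitudeIn_shift {K : Dual.D A} {a b : ℤ} (h : HasTorAmplitudeIn A a b K) (n : ℤ) :
    HasTorAmplitudeIn A (a - n) (b - n) (K⟦n⟧) := by
  obtain ⟨F, hF, hfl, ⟨e⟩⟩ := h
  exact ⟨F⟦n⟧, vanishesOutside_shift hF n, termwise_shift (flatP A) hfl n,
    ⟨toDShiftIso F n ≪≫ (CategoryTheory.shiftFunctor (Dual.D A) n).mapIso e⟩⟩

lemma hasFiniteTorDimCx_shift {K : Dual.D A} (h : HasFiniteTorDimCx A K) (n : ℤ) :
    HasFiniteTorDimCx A (K⟦n⟧) := by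
  obtain ⟨a, b, h⟩ := h
  exact ⟨_, _, hasTorAmplitudeIn_shift h n⟩

lemma hasFiniteTorDimCx_of_iso {K K' : Dual.D A} (e : K ≅ K') (h : HasFiniteTorDimCx A K) :
    HasFiniteTorDimCx A K' := by
  obtain ⟨a, b, h⟩ := h
  exact ⟨a, b, hasTorAmplitudeIn_of_iso e h⟩

lemma hasFiniteTorDimCx_cone (T : Triangle (Dual.D A)) (hT : T ∈ distTriang (Dual.D A))
    (h1 : HasFiniteTorDimCx A T.obj₁) (h2 : HasFiniteTorDimCx A T.obj₂) :
    HasFiniteTorDimCx A T.obj₃ := by
  obtain ⟨a1, b1, h1⟩ := h1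
  obtain ⟨a2, b2, h2⟩ := h2
  exact ⟨_, _, hasTorAmplitudeIn_cone T hT
    (hasTorAmplitudeIn_mono' h1 (min_le_left a1 a2) (le_max_left b1 b2))
    (hasTorAmplitudeIn_mono' h2 (min_le_right a1 a2) (le_max_right b1 b2))⟩

/-- two out of three for finite tor dimension -/
theorem hasFiniteTorDimCx_two_out_of_three (T : Triangle (Dual.D A))
    (hT : T ∈ distTriang (Dual.D A)) :
    (HasFiniteTorDimCx A T.obj₁ → HasFiniteTorDimCx A T.obj₂ → HasFiniteTorDimCx A T.obj₃) ∧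
    (HasFiniteTorDimCx A T.obj₁ → HasFiniteTorDimCx A T.obj₃ → HasFiniteTorDimCx A T.obj₂) ∧
    (HasFiniteTorDimCx A T.obj₂ → HasFiniteTorDimCx A T.obj₃ → HasFiniteTorDimCx A T.obj₁) := by
  refine ⟨hasFiniteTorDimCx_cone T hT, fun h1 h3 => ?_, fun h2 h3 => ?_⟩
  · -- `obj₂` is the cone of `obj₃[-1] → obj₁`
    have hT' := inv_rot_of_distTriang _ hT
    exact hasFiniteTorDimCx_cone T.invRotate hT' (hasFiniteTorDimCx_shift h3 (-1)) h1
  · have hT' := rot_of_distTriang _ hT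
    have h := hasFiniteTorDimCx_cone T.rotate hT' h2 h3
    have h' := hasFiniteTorDimCx_shift h (-1)
    exact hasFiniteTorDimCx_of_iso ((shiftEquiv (Dual.D A) (1 : ℤ)).unitIso.app T.obj₁).symm h'

end Groth.Agent.Lib.Helper12
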