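import Groth.Agent.Lib.Helper12.FlatExtendScalars

/-!
# Flat base change of perfect objects
-/

namespace Groth.Agent.Lib.Helper12

open CategoryTheory CategoryTheory.Limits

attribute [local instance] HasDerivedCategory.standard

universe u

variable {A B : Type u} [CommRing A] [CommRing B] [Algebra A B]

/-- extension of scalars preserves finite projective modules -/
lemma extSc_finite_projective (N : ModuleCat.{u} A) [Module.Finite A N] [Module.Projective A N] :
    Module.Finite B ((extSc A B).obj N) ∧ Module.Projective B ((extSc A B).obj N) :=
  ⟨Module.Finite.equiv (extScObjEquiv (A := A) (B := B) N).symm,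
    Module.Projective.of_equiv (extScObjEquiv (A := A) (B := B) N).symm⟩

/-- flat base change of perfect objects -/
lemma isPerfect_extScD [Module.Flat A B] (K : Dual.D A) (h : DRing.IsPerfect A K) :
    DRing.IsPerfect B ((extScD A B).obj K) := by
  obtain ⟨E, a, b, hE, hfp, ⟨e⟩⟩ := h
  refine ⟨((extSc A B).mapHomologicalComplex (ComplexShape.up ℤ)).obj E, a, b, ?_, ?_, ⟨?_⟩⟩
  · intro i hi
    exact extSc_isZero _ (hE i hi)
  · intro i
    have := (hfp i).1
    have := (hfp i).2
    exact extSc_finite_projective (E.X i)
  · exact (extScD_toD E).symm ≪≫ (extScD A B).mapIso e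

end Groth.Agent.Lib.Helper12
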