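import Groth.Agent.Lib.Helper12.DRingPerfectAmp
import Groth.Agent.Lib.Helper12.DRingFFDescent
import Groth.Agent.Lib.Helper12.FlatExtendPerfect

/-!
# Faithfully flat descent of tor amplitude and perfectness
-/

namespace Groth.Agent.Lib.Helper12

open CategoryTheory CategoryTheory.Limits DRing CochainComplex

attribute [local instance] HasDerivedCategory.standard

universe u

variable {A B : Type u} [CommRing A] [CommRing B] [Algebra A B]

/-- the termwise extension of scalars of a complex -/
noncomputable abbrev extCx (A B : Type u) [CommRing A] [CommRing B] [Algebra A B] (E : Cx A) :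
    Cx B :=
  ((extSc A B).mapHomologicalComplex (ComplexShape.up ℤ)).obj E

/-- flat extension of scalars commutes with `opcycles` -/
noncomputable def opcyclesExtIso [Module.Flat A B] (E : Cx A) (i : ℤ) :
    (extCx A B E).opcycles i ≅ (extSc A B).obj (E.opcycles i) :=
  (E.sc i).mapOpcyclesIso (extSc A B)

lemma flat_of_flat_extSc [Module.FaithfullyFlat A B] (M : ModuleCat.{u} A)
    (h : Module.Flat B ((extSc A B).obj M)) : Module.Flat A M := by
  have h2 : Module.Flat B (TensorProduct A B M) :=
    Module.Flat.of_linearEquiv (extScObjEquiv (A := A) (B := B) M).symm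
  exact Module.Flat.of_flat_tensorProduct A M B

lemma vanishesAbove_extCx (E : Cx A) (b : ℤ) (h : VanishesAbove E b) :
    VanishesAbove (extCx A B E) b := fun i hi => extSc_isZero _ (h i hi)

/-- **Faithfully flat descent of tor amplitude.** -/
theorem hasTorAmplitudeIn_of_extScD [Module.FaithfullyFlat A B] (a b : ℤ) (K : Dual.D A)
    (hK : HasTorAmplitudeIn B a b ((extScD A B).obj K)) : HasTorAmplitudeIn A a b K := by
  have hH : ∀ i : ℤ, i < a ∨ b < i → IsZero ((HF A i).obj K) := fun i hi =>
    isZero_HF_of_extScD K i (isZero_HF_of_hasTorAmplitudeIn hK i hi)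
  obtain ⟨Q, hQb, hQp, ⟨eQ⟩⟩ := exists_projective_rep K b (fun i hi => hH i (Or.inr hi))
  have hamp : HasTorAmplitudeIn B a b (toD (extCx A B Q)) :=
    hasTorAmplitudeIn_of_iso ((extScD A B).mapIso eQ.symm ≪≫ extScD_toD Q) hK
  have hfl : Module.Flat B ((extCx A B Q).opcycles a) :=
    flat_opcycles_of_hasTorAmplitudeIn (extCx A B Q) b (vanishesAbove_extCx Q b hQb) a b
      (fun j _ => by
        have : Module.Flat A (Q.X j) := by
          have := hQp j
          infer_instance
        exact extSc_flat (Q.X j)) hamp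
  have hfl' : Module.Flat A (Q.opcycles a) :=
    flat_of_flat_extSc (B := B) (Q.opcycles a)
      (Module.Flat.of_linearEquiv (opcyclesExtIso (B := B) Q a).symm.toLinearEquiv)
  obtain ⟨G, hG, hGt, ⟨e⟩⟩ := exists_rep_of_quasiIsoAt (flatP A) flatP_kerClosed (𝟙 Q) a b b
    (fun i _ => inferInstance) hQb (fun j _ => by
      have := hQp j
      exact (inferInstance : Module.Flat A (Q.X j))) hfl'
    (fun i hi => (hH i hi).of_iso ((HF A i).mapIso eQ))
  exact ⟨G, hG, hGt, ⟨e ≪≫ eQ⟩⟩

/-- **Faithfully flat descent of perfectness.** -/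
theorem isPerfect_of_extScD [Module.FaithfullyFlat A B] (K : Dual.D A)
    (hK : IsPerfect B ((extScD A B).obj K)) : IsPerfect A K := by
  have hpc : IsPseudoCoherent' A K :=
    (isPseudoCoherent'_extScD_iff K).1 (isPseudoCoherent'_of_isPerfect hK)
  obtain ⟨E, a, b, hE, hfp, ⟨e⟩⟩ := hK
  have hamp : HasTorAmplitudeIn A a b K :=
    hasTorAmplitudeIn_of_extScD a b K
      ⟨E, hE, termwiseFlat_of_termwiseFiniteProjective hfp, ⟨e⟩⟩
  obtain ⟨G, hG, hGfp, ⟨e'⟩⟩ := exists_finiteProjective_rep_of_isPseudoCoherent' hpc hamp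
  exact ⟨G, a, b, hG, hGfp, ⟨e'⟩⟩

end Groth.Agent.Lib.Helper12
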