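import Groth.Agent.Lib.Helper12.DRingTorAmpClosure

/-!
# Tor amplitude passes to direct summands
-/
namespace Groth.Agent.Lib.Helper12

open CategoryTheory CategoryTheory.Limits DRing CochainComplex CategoryTheory.Pretriangulated

attribute [local instance] HasDerivedCategory.standard

universe u

variable {A : Type u} [CommRing A]

/-- direct summands -/
theorem hasTorAmplitudeIn_of_biprod_left {K L : Dual.D A} {a b : ℤ}
    (h : HasTorAmplitudeIn A a b (K ⊞ L)) : HasTorAmplitudeIn A a b K := by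
  have hHK : ∀ i : ℤ, i < a ∨ b < i → IsZero ((HF A i).obj K) := fun i hi =>
    isZero_HF_of_biprod_left i (isZero_HF_of_hasTorAmplitudeIn h i hi)
  have hHL : ∀ i : ℤ, i < a ∨ b < i → IsZero ((HF A i).obj L) := fun i hi =>
    isZero_HF_of_biprod_right i (isZero_HF_of_hasTorAmplitudeIn h i hi)
  obtain ⟨QK, hQKb, hQKp, ⟨eK⟩⟩ := exists_projective_rep K b (fun i hi => hHK i (Or.inr hi))
  obtain ⟨QL, hQLb, hQLp, ⟨eL⟩⟩ := exists_projective_rep L b (fun i hi => hHL i (Or.inr hi))
  let Q : Cx A := QK ⊞ QL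
  have : PreservesBinaryBiproducts (DerivedCategory.Q : Cx A ⥤ Dual.D A) :=
    preservesBinaryBiproducts_of_preservesBiproducts _
  have : ∀ i, PreservesBinaryBiproducts
      (HomologicalComplex.eval (ModuleCat.{u} A) (ComplexShape.up ℤ) i) := fun i =>
    preservesBinaryBiproducts_of_preservesBiproducts _
  let eQ : toD Q ≅ K ⊞ L := (DerivedCategory.Q).mapBiprod QK QL ≪≫ biprod.mapIso eK eL
  let eX : ∀ i, Q.X i ≅ QK.X i ⊞ QL.X i := fun i =>
    (HomologicalComplex.eval (ModuleCat.{u} A) (ComplexShape.up ℤ) i).mapBiprod QK QL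
  have hQb : VanishesAbove Q b := by
    intro i hi
    refine IsZero.of_iso ?_ (eX i)
    rw [biprod_isZero_iff]
    exact ⟨hQKb i hi, hQLb i hi⟩
  have hQfl : ∀ j, Module.Flat A (Q.X j) := fun j => by
    have h1 : Module.Flat A (QK.X j) := by
      have := hQKp j
      infer_instance
    have h2 : Module.Flat A (QL.X j) := by
      have := hQLp j
      infer_instance
    exact (flatP A).iso (eX j).symm ((flatP A).biprod h1 h2)
  have hfl : Module.Flat A (Q.opcycles a) :=
    flat_opcycles_of_hasTorAmplitudeIn Q b hQb a b (fun j _ => hQfl j)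
      (hasTorAmplitudeIn_of_iso eQ.symm h)
  have hflK : Module.Flat A (QK.opcycles a) := by
    refine Module.Flat.of_retract
      (HomologicalComplex.opcyclesMap (biprod.inl : QK ⟶ Q) a).hom
      (HomologicalComplex.opcyclesMap (biprod.fst : Q ⟶ QK) a).hom ?_
    rw [← ModuleCat.hom_comp, ← HomologicalComplex.opcyclesMap_comp, biprod.inl_fst,
      HomologicalComplex.opcyclesMap_id]
    rfl
  obtain ⟨G, hG, hGt, ⟨e⟩⟩ := exists_rep_of_quasiIsoAt (flatP A) flatP_kerClosed (𝟙 QK) a b b
    (fun i _ => inferInstance) hQKb (fun j _ => by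
      have := hQKp j
      exact (inferInstance : Module.Flat A (QK.X j))) hflK
    (fun i hi => (hHK i hi).of_iso ((HF A i).mapIso eK))
  exact ⟨G, hG, hGt, ⟨e ≪≫ eK⟩⟩

theorem hasTorAmplitudeIn_of_biprod_right {K L : Dual.D A} {a b : ℤ}
    (h : HasTorAmplitudeIn A a b (K ⊞ L)) : HasTorAmplitudeIn A a b L :=
  hasTorAmplitudeIn_of_biprod_left (K := L) (L := K)
    (hasTorAmplitudeIn_of_iso (biprod.braiding K L) h)

end Groth.Agent.Lib.Helper12
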