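import Groth.Agent.Lib.Helper12.DRingCone
import Mathlib.Algebra.Homology.DerivedCategory.ShortExact
import Mathlib.Algebra.Homology.HomologicalComplexLimits
import Mathlib.Algebra.Homology.HomologicalComplexAbelian
import Mathlib.CategoryTheory.Limits.Preserves.Shapes.Kernels

/-!
# Peeling off the bottom term of a bounded-below complex

For `E : Cx A` with `E.X (a-1) = 0`, `toBottom E a h : E ⟶ single_a (E.X a)` is a degreewise
epimorphism, its kernel `bottomKer E a h` has terms `E.X n` for `n ≠ a` and `0` for `n = a`, and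
`bottomTriangle` is the associated distinguished triangle in `D(A)`.
-/

namespace Groth.Agent.Lib.Helper12

open CategoryTheory CategoryTheory.Limits DRing CategoryTheory.Pretriangulated

attribute [local instance] HasDerivedCategory.standard

universe u

variable {A : Type u} [CommRing A]

/-- the single complex with `M` in degree `a` -/
noncomputable abbrev singleCx (a : ℤ) (M : ModuleCat.{u} A) : Cx A :=
  (HomologicalComplex.single (ModuleCat.{u} A) (ComplexShape.up ℤ) a).obj M

/-- projection to bottom term -/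
noncomputable def toBottom (E : Cx A) (a : ℤ) (h : IsZero (E.X (a - 1))) :
    E ⟶ singleCx a (E.X a) :=
  HomologicalComplex.mkHomToSingle (𝟙 _) (by
    intro i hi
    have hi' : i + 1 = a := hi
    have : i = a - 1 := by omega
    subst this
    exact h.eq_of_src _ _)

lemma isIso_toBottom_f_self (E : Cx A) (a : ℤ) (h : IsZero (E.X (a - 1))) :
    IsIso ((toBottom E a h).f a) := by
  rw [toBottom, HomologicalComplex.mkHomToSingle_f]
  infer_instance

lemma isZero_singleCx_X (a : ℤ) (M : ModuleCat.{u} A) (n : ℤ) (hn : n ≠ a) :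
    IsZero ((singleCx a M).X n) :=
  HomologicalComplex.isZero_single_obj_X _ _ _ _ hn

instance epi_toBottom (E : Cx A) (a : ℤ) (h : IsZero (E.X (a - 1))) : Epi (toBottom E a h) := by
  apply HomologicalComplex.epi_of_epi_f
  intro n
  by_cases hn : n = a
  · subst hn
    have := isIso_toBottom_f_self E n h
    infer_instance
  · exact ⟨fun _ _ _ => (isZero_singleCx_X a _ n hn).eq_of_src _ _⟩

/-- the kernel of `toBottom`: brutal truncation `σ_{>a} E` -/
noncomputable def bottomKer (E : Cx A) (a : ℤ) (h : IsZero (E.X (a - 1))) : Cx A :=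
  kernel (toBottom E a h)

/-- `(bottomKer E a h).X n ≅ kernel ((toBottom E a h).f n)` -/
noncomputable def bottomKerXIso (E : Cx A) (a : ℤ) (h : IsZero (E.X (a - 1))) (n : ℤ) :
    (bottomKer E a h).X n ≅ kernel ((toBottom E a h).f n) :=
  PreservesKernel.iso (HomologicalComplex.eval _ _ n) (toBottom E a h)

lemma isZero_bottomKer_X_self (E : Cx A) (a : ℤ) (h : IsZero (E.X (a - 1))) :
    IsZero ((bottomKer E a h).X a) := by
  have := isIso_toBottom_f_self E a h
  exact IsZero.of_iso (isZero_kernel_of_mono _) (bottomKerXIso E a h a)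

/-- for `n ≠ a`, `(bottomKer E a h).X n ≅ E.X n` -/
noncomputable def bottomKerXIsoOfNe (E : Cx A) (a : ℤ) (h : IsZero (E.X (a - 1))) (n : ℤ)
    (hn : n ≠ a) : (bottomKer E a h).X n ≅ E.X n := by
  have h0 : (toBottom E a h).f n = 0 := (isZero_singleCx_X a _ n hn).eq_of_tgt _ _
  exact bottomKerXIso E a h n ≪≫ kernel.mapIso _ (0 : E.X n ⟶ (singleCx a (E.X a)).X n)
    (Iso.refl _) (Iso.refl _) (by simp [h0]) ≪≫ kernelZeroIsoSource

lemma isZero_bottomKer_X (E : Cx A) (a : ℤ) (h : IsZero (E.X (a - 1))) (n : ℤ)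
    (hn : IsZero (E.X n)) : IsZero ((bottomKer E a h).X n) := by
  by_cases hna : n = a
  · subst hna; exact isZero_bottomKer_X_self E n h
  · exact IsZero.of_iso hn (bottomKerXIsoOfNe E a h n hna)

/-- the short complex `0 → σ_{>a}E → E → E^a[-a] → 0` -/
noncomputable def bottomSC (E : Cx A) (a : ℤ) (h : IsZero (E.X (a - 1))) :
    ShortComplex (Cx A) :=
  ShortComplex.mk (kernel.ι (toBottom E a h)) (toBottom E a h) (kernel.condition _)

lemma bottomSC_shortExact (E : Cx A) (a : ℤ) (h : IsZero (E.X (a - 1))) :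
    (bottomSC E a h).ShortExact := by
  have : Mono (bottomSC E a h).f := by dsimp [bottomSC]; infer_instance
  have : Epi (bottomSC E a h).g := by dsimp [bottomSC]; infer_instance
  exact ShortComplex.ShortExact.mk
    (ShortComplex.exact_of_f_is_kernel _ (kernelIsKernel (toBottom E a h)))

/-- the distinguished triangle `σ_{>a}E → E → E^a[-a] →` in `D(A)` -/
noncomputable def bottomTriangle (E : Cx A) (a : ℤ) (h : IsZero (E.X (a - 1))) :
    Triangle (Dual.D A) :=
  DerivedCategory.triangleOfSES (bottomSC_shortExact E a h)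

lemma bottomTriangle_distinguished (E : Cx A) (a : ℤ) (h : IsZero (E.X (a - 1))) :
    bottomTriangle E a h ∈ distTriang (Dual.D A) :=
  DerivedCategory.triangleOfSES_distinguished _

lemma bottomTriangle_obj₁ (E : Cx A) (a : ℤ) (h : IsZero (E.X (a - 1))) :
    (bottomTriangle E a h).obj₁ = toD (bottomKer E a h) := rfl

lemma bottomTriangle_obj₂ (E : Cx A) (a : ℤ) (h : IsZero (E.X (a - 1))) :
    (bottomTriangle E a h).obj₂ = toD E := rfl

lemma bottomTriangle_obj₃ (E : Cx A) (a : ℤ) (h : IsZero (E.X (a - 1))) :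
    (bottomTriangle E a h).obj₃ = toD (singleCx a (E.X a)) := rfl

lemma vanishesOutside_bottomKer {E : Cx A} {a b : ℤ} (hE : VanishesOutside E a b) :
    VanishesOutside (bottomKer E a (hE (a - 1) (Or.inl (by omega)))) (a + 1) b := by
  intro n hn
  by_cases hna : n = a
  · subst hna; exact isZero_bottomKer_X_self E n _
  · exact isZero_bottomKer_X E a _ n (hE n (by omega))

/-- A complex all of whose terms vanish is zero in `D(A)`. -/
lemma isZero_toD_of_forall_isZero (E : Cx A) (h : ∀ i, IsZero (E.X i)) : IsZero (toD E) := by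
  have hE : IsZero E := by
    rw [IsZero.iff_id_eq_zero]
    ext i : 1
    exact (h i).eq_of_src _ _
  exact DerivedCategory.Q.map_isZero hE

/-- Induction principle on bounded complexes via peeling off the bottom term. -/
theorem bounded_induction (Pr : Dual.D A → Prop) (Qm : ModuleCat.{u} A → Prop)
    (hQiso : ∀ {M N : ModuleCat.{u} A}, (M ≅ N) → Qm M → Qm N)
    (hQzero : ∀ {M : ModuleCat.{u} A}, IsZero M → Qm M)
    (hzero : ∀ K : Dual.D A, IsZero K → Pr K)
    (hsingle : ∀ (M : ModuleCat.{u} A) (a : ℤ), Qm M → Pr (toD (singleCx a M)))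
    (hext : ∀ T : Triangle (Dual.D A), T ∈ distTriang (Dual.D A) → Pr T.obj₁ → Pr T.obj₃ →
      Pr T.obj₂)
    (E : Cx A) (a b : ℤ) (hE : VanishesOutside E a b) (hQ : ∀ i, Qm (E.X i)) : Pr (toD E) := by
  suffices H : ∀ (n : ℕ) (a b : ℤ), b < a + n → ∀ E : Cx A, VanishesOutside E a b →
      (∀ i, Qm (E.X i)) → Pr (toD E) by
    obtain ⟨n, hn⟩ : ∃ n : ℕ, b < a + n := ⟨(b - a + 1).toNat, by omega⟩
    exact H n a b hn E hE hQ
  intro n
  induction n with
  | zero =>
    intro a b hab E hE hQ
    apply hzero
    apply isZero_toD_of_forall_isZero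
    intro i
    apply hE
    simp only [Nat.cast_zero, add_zero] at hab
    omega
  | succ n ih =>
    intro a b hab E hE hQ
    have h0 : IsZero (E.X (a - 1)) := hE (a - 1) (Or.inl (by omega))
    refine hext (bottomTriangle E a h0) (bottomTriangle_distinguished E a h0) ?_ ?_
    · refine ih (a + 1) b (by push_cast at hab; omega) (bottomKer E a h0)
        (vanishesOutside_bottomKer hE) ?_
      intro i
      by_cases hi : i = a
      · subst hi; exact hQzero (isZero_bottomKer_X_self E i h0)
      · exact hQiso (bottomKerXIsoOfNe E a h0 i hi).symm (hQ i)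
    · exact hsingle _ a (hQ a)

end Groth.Agent.Lib.Helper12
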