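import Groth.Agent.Lib.Helper12.DRingFamilyDescent
import Mathlib.RingTheory.Flat.Localization
import Mathlib.RingTheory.Localization.Finiteness
import Mathlib.RingTheory.LocalProperties.Submodule
import Mathlib.RingTheory.Localization.BaseChange

/-!
# Zariski descent: the localizations at elements generating the unit ideal are jointly
faithfully flat
-/

namespace Groth.Agent.Lib.Helper12

open CategoryTheory CategoryTheory.Limits DRing

attribute [local instance] HasDerivedCategory.standard

universe u

variable {R : Type u} [CommRing R] {ι : Type*} (f : ι → R)

instance flat_away (i : ι) : Module.Flat R (Localization.Away (f i)) :=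
  IsLocalization.flat _ (Submonoid.powers (f i))

theorem jointlyFF_away (hf : Ideal.span (Set.range f) = ⊤) :
    JointlyFF R (fun i => Localization.Away (f i)) where
  isZero M h := by
    have hsub : Subsingleton M := by
      refine ⟨fun x y => ?_⟩
      refine Module.eq_of_isLocalized_span (Set.range f) hf
        (fun g => TensorProduct R (Localization.Away g.1) M)
        (fun g => TensorProduct.mk R (Localization.Away g.1) M 1) x y ?_
      rintro ⟨_, i, rfl⟩
      have h1 : Subsingleton ((extSc R (Localization.Away (f i))).obj M) :=
        ModuleCat.subsingleton_of_isZero (h i)
      have h2 : Subsingleton (TensorProduct R (Localization.Away (f i)) M) :=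
        (extScObjEquiv (A := R) (B := Localization.Away (f i)) M).symm.toEquiv.subsingleton
      exact Subsingleton.elim _ _
    exact ModuleCat.isZero_of_subsingleton _
  finite M h := by
    refine Module.Finite.of_localizationSpan' (Set.range f) hf
      (Mₚ := fun g => TensorProduct R (Localization.Away g.1) M)
      (Rₚ := fun g => Localization.Away g.1)
      (fun g => TensorProduct.mk R (Localization.Away g.1) M 1) ?_
    rintro ⟨_, i, rfl⟩
    have := h i
    exact Module.Finite.equiv (extScObjEquiv (A := R) (B := Localization.Away (f i)) M)
  flat M h := by
    refine Module.flat_of_isLocalized_span (R := R) (S := R) (M := M) (Set.range f) hf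
      (fun g => TensorProduct R (Localization.Away g.1) M)
      (fun g => TensorProduct.mk R (Localization.Away g.1) M 1) ?_
    rintro ⟨_, i, rfl⟩
    have := h i
    have h2 : Module.Flat (Localization.Away (f i)) (TensorProduct R (Localization.Away (f i)) M) :=
      Module.Flat.of_linearEquiv (extScObjEquiv (A := R) (B := Localization.Away (f i)) M).symm
    exact Module.Flat.trans R (Localization.Away (f i)) _

end Groth.Agent.Lib.Helper12
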