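import Groth.Agent.Lib.Helper12.DerCAPCHom
import Mathlib.RingTheory.AdjoinRoot
import Mathlib.RingTheory.IntegralClosure.IsIntegralClosure.Basic

/-!
# Pseudo-coherence and finite ring maps: integral polynomial extensions
-/

namespace Groth.Agent.Lib.Helper12

open CategoryTheory CategoryTheory.Limits DRing CategoryTheory.Pretriangulated

attribute [local instance] HasDerivedCategory.standard

universe u

section Regular

variable {P P' : Type u} [CommRing P] [CommRing P'] (q : P →+* P')

/-- the `P`-module `P'` (via `q`) -/
noncomputable abbrev Qv : ModuleCat.{u} P := (resSc q).obj (ModuleCat.of P' P')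

/-- view an element of `P'` in `Qv q` -/
def toQv (r : P') : Qv q := r

lemma smul_toQv (p : P) (r : P') : p • toQv q r = toQv q (q p * r) :=
  ModuleCat.restrictScalars.smul_def q p (toQv q r)

/-- `q` as a `P`-linear map `P → P'` -/
noncomputable def qLin : P →ₗ[P] Qv q where
  toFun := fun p => toQv q (q p)
  map_add' := fun p p' => by
    rw [map_add]; rfl
  map_smul' := fun p p' => by
    rw [RingHom.id_apply, smul_toQv, smul_eq_mul, map_mul]

lemma qLin_apply (p : P) : qLin q p = toQv q (q p) := rfl

lemma toQv_eq_zero (r : P') : toQv q r = 0 ↔ r = 0 := Iff.rfl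

/-- a surjection whose kernel is generated by a regular element is a pseudo-coherent ring map -/
theorem resPC_of_ker_eq_span_regular (hq : Function.Surjective q) (F : P)
    (hF : ∀ x y : P, F * x = F * y → x = y) (hker : RingHom.ker q = Ideal.span {F}) :
    ResPC q := by
  intro m
  let TX : ModuleCat.{u} P := ModuleCat.of P P
  let S : ShortComplex (ModuleCat.{u} P) :=
    ShortComplex.mk (ModuleCat.ofHom (LinearMap.mulLeft P F) : TX ⟶ TX)
      (ModuleCat.ofHom (qLin q) : TX ⟶ ModuleCat.of P (Qv q)) (by
        apply ModuleCat.hom_ext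
        apply LinearMap.ext
        intro p
        change qLin q (F * p) = 0
        rw [qLin_apply, toQv_eq_zero, map_mul]
        have : F ∈ RingHom.ker q := by rw [hker]; exact Ideal.mem_span_singleton_self F
        rw [RingHom.mem_ker.1 this, zero_mul])
  have hS : S.ShortExact := by
    refine ShortComplex.ShortExact.mk' ?_ ?_ ?_
    · rw [ShortComplex.ShortExact.moduleCat_exact_iff_function_exact]
      intro p
      have h1 : (ConcreteCategory.hom S.g) p = qLin q p := rfl
      have h2 : ∀ p' : P, (ConcreteCategory.hom S.f) p' = F * p' := fun p' => rfl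
      rw [h1, Set.mem_range]
      simp only [h2]
      rw [qLin_apply, toQv_eq_zero, ← RingHom.mem_ker, hker, Ideal.mem_span_singleton']
      constructor
      · rintro ⟨a, rfl⟩; exact ⟨a, mul_comm _ _⟩
      · rintro ⟨a, rfl⟩; exact ⟨a, mul_comm _ _⟩
    · rw [ModuleCat.mono_iff_injective]
      intro p p' hpp'
      exact hF p p' hpp'
    · rw [ModuleCat.epi_iff_surjective]
      intro r
      obtain ⟨p, hp⟩ := hq (show P' from r)
      refine ⟨p, ?_⟩
      have h1 : ∀ p, (ConcreteCategory.hom S.g) p = qLin q p := fun p => rfl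
      rw [h1, qLin_apply, hp]
      rfl
  have hT := hS.singleTriangle_distinguished
  have h1 : ∀ m' : ℤ, DRing.IsPseudoCoherent P m' (Dual.inD P TX) := fun m' =>
    haveI : Module.Finite P TX := inferInstanceAs (Module.Finite P P)
    haveI : Module.Free P TX := inferInstanceAs (Module.Free P P)
    isPseudoCoherent_inD_of_finite_free TX m'
  exact (isPseudoCoherent_two_out_of_three hS.singleTriangle hT m).1 (h1 _) (h1 _)

end Regular

section FiniteFree

variable (S Q : Type u) [CommRing S] [CommRing Q] [Algebra S Q]

/-- the restriction of scalars of `Q` along `algebraMap S Q` is `Q` as an `S`-module -/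
noncomputable def resScAlgebraMapEquiv :
    ((resSc (algebraMap S Q)).obj (ModuleCat.of Q Q)) ≃ₗ[S] Q where
  toFun := fun a => a
  invFun := fun a => a
  map_add' := fun _ _ => rfl
  map_smul' := fun s a => by
    have h1 : (s • a : (resSc (algebraMap S Q)).obj (ModuleCat.of Q Q)) =
        algebraMap S Q s * (show Q from a) :=
      ModuleCat.restrictScalars.smul_def (algebraMap S Q) s a
    have h2 : (s • (show Q from a) : Q) = algebraMap S Q s * (show Q from a) :=
      Algebra.smul_def s _
    exact h1.trans h2.symm
  left_inv := fun _ => rfl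
  right_inv := fun _ => rfl

/-- the restriction of scalars of `Q` along `algebraMap S Q` is `Q` as an `S`-module -/
noncomputable def resScAlgebraMapIso :
    (resSc (algebraMap S Q)).obj (ModuleCat.of Q Q) ≅ ModuleCat.of S Q :=
  LinearEquiv.toModuleIso (resScAlgebraMapEquiv S Q)

/-- a finite free algebra is a pseudo-coherent ring map -/
theorem resPC_algebraMap_of_finite_free [Module.Finite S Q] [Module.Free S Q] :
    ResPC (algebraMap S Q) := by
  intro m
  have h : IsPseudoCoherent S m (Dual.inD S (ModuleCat.of S Q)) :=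
    isPseudoCoherent_inD_of_finite_free _ m
  exact isPseudoCoherent_of_iso' (inDMapIso (resScAlgebraMapIso S Q)).symm h

end FiniteFree

section OneVariable

open Polynomial

variable {S B : Type u} [CommRing S] [CommRing B]

/-- If `γ : S[X] → B` sends `X` to an element integral over `S`, then restriction along `γ` is
`m`-pseudo-coherent over `S[X]` iff the restriction along `γ ∘ C` is `m`-pseudo-coherent over
`S`. -/
theorem isPseudoCoherent_restrictD_polynomial_iff (γ : S[X] →+* B)
    (h : (γ.comp Polynomial.C).IsIntegralElem (γ Polynomial.X)) (K : Dual.D B) (m : ℤ) :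
    IsPseudoCoherent S[X] m ((restrictD γ).obj K) ↔
      IsPseudoCoherent S m ((restrictD (γ.comp Polynomial.C)).obj K) := by
  obtain ⟨F, hF, hF0⟩ := h
  let q : S[X] →+* AdjoinRoot F := AdjoinRoot.mk F
  let γbar : AdjoinRoot F →+* B := AdjoinRoot.lift (γ.comp C) (γ X) hF0
  have hγ : γbar.comp q = γ := by
    apply Polynomial.ringHom_ext
    · intro s
      simp [γbar, q]
    · simp [γbar, q]
  have hγC : γbar.comp (algebraMap S (AdjoinRoot F)) = γ.comp C := by
    ext s
    simp [γbar, AdjoinRoot.algebraMap_eq]
  have hq : ResPC q := by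
    refine resPC_of_ker_eq_span_regular q AdjoinRoot.mk_surjective F
      (fun x y hxy => hF.isRegular.left hxy) ?_
    ext x
    rw [RingHom.mem_ker, AdjoinRoot.mk_eq_zero, Ideal.mem_span_singleton]
  have hι : ResPC (algebraMap S (AdjoinRoot F)) :=
    haveI := hF.finite_adjoinRoot
    haveI := hF.free_adjoinRoot
    resPC_algebraMap_of_finite_free _ _
  have e1 := isPseudoCoherent_restrictD_comp_iff' (g := γbar) hq K m
  have e2 := isPseudoCoherent_restrictD_comp_iff' (g := γbar) hι K m
  rw [hγ] at e1
  rw [hγC] at e2
  exact e1.trans e2.symm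

end OneVariable

section MultiVariable

variable {B : Type u} [CommRing B]

/-- If `γ : S[X₁..X_k] → B` sends each `X_j` to an element integral over `S`, then restriction
along `γ` is `m`-pseudo-coherent over `S[X₁..X_k]` iff the restriction along `γ ∘ C` is
`m`-pseudo-coherent over `S`. -/
theorem isPseudoCoherent_restrictD_mvPolynomial_iff : ∀ (k : ℕ) (S : Type u) [CommRing S]
    (γ : MvPolynomial (Fin k) S →+* B)
    (_ : ∀ j, (γ.comp MvPolynomial.C).IsIntegralElem (γ (MvPolynomial.X j)))
    (K : Dual.D B) (m : ℤ),
    IsPseudoCoherent (MvPolynomial (Fin k) S) m ((restrictD γ).obj K) ↔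
      IsPseudoCoherent S m ((restrictD (γ.comp MvPolynomial.C)).obj K) := by
  intro k
  induction k with
  | zero =>
    intro S _ γ h K m
    exact (isPseudoCoherent_restrictD_comp_iff' (g := γ)
      (resPC_of_bijective (MvPolynomial.C : S →+* MvPolynomial (Fin 0) S)
        ⟨MvPolynomial.C_injective _ _, MvPolynomial.C_surjective _⟩) K m).symm
  | succ k ih =>
    intro S _ γ h K m
    let e := MvPolynomial.finSuccEquiv S k
    let γ' : Polynomial (MvPolynomial (Fin k) S) →+* B :=
      γ.comp (e.symm : Polynomial (MvPolynomial (Fin k) S) →+* MvPolynomial (Fin (k + 1)) S)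
    have hγ' : ∀ x, γ' (e x) = γ x := fun x => by
      change γ (e.symm (e x)) = γ x
      rw [AlgEquiv.symm_apply_apply]
    have hγ : γ'.comp (e : MvPolynomial (Fin (k + 1)) S →+* Polynomial (MvPolynomial (Fin k) S))
        = γ := RingHom.ext hγ'
    have h1 : IsPseudoCoherent (MvPolynomial (Fin (k + 1)) S) m ((restrictD γ).obj K) ↔
        IsPseudoCoherent (Polynomial (MvPolynomial (Fin k) S)) m ((restrictD γ').obj K) := by
      have := isPseudoCoherent_restrictD_comp_iff' (g := γ')
        (resPC_of_bijective
          (e : MvPolynomial (Fin (k + 1)) S →+* Polynomial (MvPolynomial (Fin k) S))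
          e.bijective) K m
      rwa [hγ] at this
    have hX : γ' Polynomial.X = γ (MvPolynomial.X 0) := by
      rw [← hγ', MvPolynomial.finSuccEquiv_X_zero]
    have hCX : ∀ j : Fin k, γ' (Polynomial.C (MvPolynomial.X j)) = γ (MvPolynomial.X j.succ) :=
      fun j => by rw [← hγ', MvPolynomial.finSuccEquiv_X_succ]
    have hCC : (γ'.comp Polynomial.C).comp MvPolynomial.C = γ.comp MvPolynomial.C := by
      ext s
      change γ' (Polynomial.C (MvPolynomial.C s)) = γ (MvPolynomial.C s)
      rw [← hγ']
      congr 1
      simp [e, MvPolynomial.finSuccEquiv_apply]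
    have hint : (γ'.comp Polynomial.C).IsIntegralElem (γ' Polynomial.X) := by
      rw [hX]
      apply RingHom.IsIntegralElem.of_comp (f := (MvPolynomial.C : S →+* MvPolynomial (Fin k) S))
      rw [hCC]
      exact h 0
    have h2 := isPseudoCoherent_restrictD_polynomial_iff γ' hint K m
    have h3 := ih S (γ'.comp Polynomial.C) (fun j => by
      rw [hCC]
      change (γ.comp MvPolynomial.C).IsIntegralElem (γ' (Polynomial.C (MvPolynomial.X j)))
      rw [hCX]
      exact h j.succ) K m
    rw [hCC] at h3
    exact h1.trans (h2.trans h3)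

end MultiVariable

section Double

variable {R B : Type u} [CommRing R] [CommRing B] [Algebra R B]

/-- `R[z₁..z_{l+n}] ≃ R[x₁..xₙ][y₁..y_l]` as `R`-algebras -/
noncomputable def doubleEquiv (R : Type u) [CommRing R] (l n : ℕ) :
    MvPolynomial (Fin (l + n)) R ≃ₐ[R] MvPolynomial (Fin l) (MvPolynomial (Fin n) R) :=
  (MvPolynomial.renameEquiv R finSumFinEquiv).symm.trans (MvPolynomial.sumAlgEquiv R (Fin l) (Fin n))

/-- relative pseudo-coherence can be tested on a surjection from an iterated polynomial ring -/
theorem isRelPseudoCoherent_iff_double {l n : ℕ}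
    (δ : MvPolynomial (Fin l) (MvPolynomial (Fin n) R) →ₐ[R] B) (hδ : Function.Surjective δ)
    (m : ℤ) (K : Dual.D B) :
    DerCA.IsRelPseudoCoherent R B m K ↔
      IsPseudoCoherent (MvPolynomial (Fin l) (MvPolynomial (Fin n) R)) m
        ((restrictD (δ : MvPolynomial (Fin l) (MvPolynomial (Fin n) R) →+* B)).obj K) := by
  let σ := doubleEquiv R l n
  let δ' : MvPolynomial (Fin (l + n)) R →ₐ[R] B := δ.comp σ.toAlgHom
  have hδ' : Function.Surjective δ' := hδ.comp σ.surjective
  rw [isRelPseudoCoherent_iff_via δ' hδ']
  exact isPseudoCoherent_restrictD_comp_iff'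
    (g := (δ : MvPolynomial (Fin l) (MvPolynomial (Fin n) R) →+* B))
    (resPC_of_bijective
      (σ : MvPolynomial (Fin (l + n)) R →+* MvPolynomial (Fin l) (MvPolynomial (Fin n) R))
      σ.bijective) K m

end Double

section Finite

variable {R A B : Type u} [CommRing R] [CommRing A] [CommRing B]
  [Algebra R A] [Algebra A B] [Algebra R B] [IsScalarTower R A B]

/-- for a finite map `A → B` of finite type `R`-algebras, relative pseudo-coherence over `R` of
an object of `D(B)` can be tested after restriction to `A` -/
theorem isRelPseudoCoherent_iff_restrict_of_finite [Algebra.FiniteType R A]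
    [Algebra.FiniteType R B] [Module.Finite A B] (K : Dual.D B) (m : ℤ) :
    DerCA.IsRelPseudoCoherent R B m K ↔
      DerCA.IsRelPseudoCoherent R A m ((restrictD (algebraMap A B)).obj K) := by
  obtain ⟨n, α, hα⟩ := exists_presentation R A
  obtain ⟨l, β, hβ⟩ := exists_presentation R B
  let φ : MvPolynomial (Fin n) R →+* B :=
    (algebraMap A B).comp (α : MvPolynomial (Fin n) R →+* A)
  let δ₀ : MvPolynomial (Fin l) (MvPolynomial (Fin n) R) →+* B :=
    MvPolynomial.eval₂Hom φ (fun j => β (MvPolynomial.X j))
  have hδC : δ₀.comp MvPolynomial.C = φ := by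
    ext x
    · simp [δ₀]
    · simp [δ₀]
  have hδX : ∀ j, δ₀ (MvPolynomial.X j) = β (MvPolynomial.X j) := fun j => by simp [δ₀]
  have hcomm : ∀ r : R, δ₀ (algebraMap R _ r) = algebraMap R B r := fun r => by
    rw [MvPolynomial.algebraMap_apply]
    change (δ₀.comp MvPolynomial.C) (algebraMap R _ r) = _
    rw [hδC]
    change algebraMap A B (α (algebraMap R _ r)) = _
    rw [AlgHom.commutes, ← IsScalarTower.algebraMap_apply]
  let δ : MvPolynomial (Fin l) (MvPolynomial (Fin n) R) →ₐ[R] B :=
    { δ₀ with commutes' := hcomm }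
  have hβδ : δ₀.comp (MvPolynomial.map (MvPolynomial.C : R →+* MvPolynomial (Fin n) R)) =
      (β : MvPolynomial (Fin l) R →+* B) := by
    apply MvPolynomial.ringHom_ext
    · intro r
      have := hcomm r
      rw [MvPolynomial.algebraMap_apply, MvPolynomial.algebraMap_eq] at this
      simp only [RingHom.comp_apply, MvPolynomial.map_C]
      rw [this]
      exact (β.commutes r).symm
    · intro j
      simp only [RingHom.comp_apply, MvPolynomial.map_X]
      exact hδX j
  have hδ : Function.Surjective δ := by
    intro b
    obtain ⟨p, rfl⟩ := hβ b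
    exact ⟨MvPolynomial.map MvPolynomial.C p, RingHom.congr_fun hβδ p⟩
  rw [isRelPseudoCoherent_iff_double δ hδ, isRelPseudoCoherent_iff_via α hα]
  have hφ : φ.IsIntegral :=
    RingHom.IsIntegral.trans _ _ (RingHom.isIntegral_of_surjective _ hα)
      (fun x => IsIntegral.of_finite A x)
  have h1 := isPseudoCoherent_restrictD_mvPolynomial_iff l _ δ₀ (fun j => by
    rw [hδC]
    exact hφ _) K m
  rw [hδC] at h1
  exact h1.trans (isPseudoCoherent_restrictD_comp_iff (α : MvPolynomial (Fin n) R →+* A)
    (algebraMap A B) K m)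

end Finite

end Groth.Agent.Lib.Helper12
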