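import Groth.Agent.Lib.Helper12.DerCAFinite
import Groth.Agent.Lib.Helper12.FlatExtendScalars
import Mathlib.RingTheory.TensorProduct.MvPolynomial

/-!
# Pseudo-coherent ring maps are stable under polynomial extension; change of base ring for
relative pseudo-coherence
-/

namespace Groth.Agent.Lib.Helper12

open CategoryTheory CategoryTheory.Limits DRing CategoryTheory.Pretriangulated

attribute [local instance] HasDerivedCategory.standard

universe u

section MapPC

variable {P A : Type u} [CommRing P] [CommRing A]

/-- if `α : P → A` is a pseudo-coherent ring map, so is `P[y₁..y_k] → A[y₁..y_k]` -/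
theorem resPC_mvPolynomial_map (α : P →+* A) (hα : ResPC α) (k : ℕ) :
    ResPC (MvPolynomial.map α : MvPolynomial (Fin k) P →+* MvPolynomial (Fin k) A) := by
  letI : Algebra P A := α.toAlgebra
  letI := MvPolynomial.algebraMvPolynomial (σ := Fin k) (R := P) (S := A)
  have h1 : IsPseudoCoherent' P (Dual.inD P A) := (resPC_iff_isPseudoCoherentModule' α).1 hα
  have hbc := (inferInstance : Algebra.IsPushout P (MvPolynomial (Fin k) P) A
    (MvPolynomial (Fin k) A)).out
  let l := hbc.equiv
  have h4 : ResPC (algebraMap (MvPolynomial (Fin k) P) (MvPolynomial (Fin k) A)) := fun m => by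
    have h2 := isPseudoCoherent_extScD (B := MvPolynomial (Fin k) P) m (Dual.inD P A)
      (isPseudoCoherent_of_isPseudoCoherent' h1 m)
    have h3 := isPseudoCoherent_of_iso' (extScD_inD A ≪≫ inDMapIso l.toModuleIso) h2
    exact isPseudoCoherent_of_iso' (inDMapIso (resScAlgebraMapIso _ _)).symm h3
  exact h4

end MapPC

section Intermediate

variable {R A B : Type u} [CommRing R] [CommRing A] [CommRing B]
  [Algebra R A] [Algebra A B] [Algebra R B] [IsScalarTower R A B]

/-- if `A` is pseudo-coherent relative to `R`, then relative pseudo-coherence over `A` and over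
`R` agree on `D(B)` -/
theorem isRelPseudoCoherent_iff_of_pseudoCoherent_intermediate [Algebra.FiniteType R A]
    [Algebra.FiniteType A B] (hA : DerCA.IsRelPseudoCoherentModuleAll R A A)
    (K : Dual.D B) (m : ℤ) :
    DerCA.IsRelPseudoCoherent A B m K ↔ DerCA.IsRelPseudoCoherent R B m K := by
  obtain ⟨n, α, hα⟩ := exists_presentation R A
  obtain ⟨k, β, hβ⟩ := exists_presentation A B
  have hαpc : ResPC (α : MvPolynomial (Fin n) R →+* A) := fun m' =>
    (isRelPseudoCoherentModule_iff_via α hα m' (ModuleCat.of A A)).1 (hA m')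
  have hμ := resPC_mvPolynomial_map (α : MvPolynomial (Fin n) R →+* A) hαpc k
  let δ₀ : MvPolynomial (Fin k) (MvPolynomial (Fin n) R) →+* B :=
    (β : MvPolynomial (Fin k) A →+* B).comp (MvPolynomial.map (α : MvPolynomial (Fin n) R →+* A))
  have hcomm : ∀ r : R, δ₀ (algebraMap R _ r) = algebraMap R B r := fun r => by
    rw [MvPolynomial.algebraMap_apply]
    change β (MvPolynomial.map (α : MvPolynomial (Fin n) R →+* A)
      (MvPolynomial.C (algebraMap R _ r))) = _
    rw [MvPolynomial.map_C]
    change β (MvPolynomial.C (α (algebraMap R _ r))) = _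
    rw [AlgHom.commutes, ← MvPolynomial.algebraMap_eq, AlgHom.commutes,
      ← IsScalarTower.algebraMap_apply]
  let δ : MvPolynomial (Fin k) (MvPolynomial (Fin n) R) →ₐ[R] B :=
    { δ₀ with commutes' := hcomm }
  have hδ : Function.Surjective δ :=
    hβ.comp (MvPolynomial.map_surjective (α : MvPolynomial (Fin n) R →+* A) hα)
  rw [isRelPseudoCoherent_iff_via β hβ, isRelPseudoCoherent_iff_double δ hδ]
  exact (isPseudoCoherent_restrictD_comp_iff' (g := (β : MvPolynomial (Fin k) A →+* B)) hμ K m).symm

end Intermediate

end Groth.Agent.Lib.Helper12
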