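import Groth.Agent.Lib.Helper12.LocalizationBaseChange
import Groth.Agent.Lib.Helper12.DerCAFinite
import Groth.Agent.Lib.Helper12.DRingZariskiDescent
import Mathlib.RingTheory.Localization.Away.AdjoinRoot

/-!
# Relative pseudo-coherence and localization
-/

namespace Groth.Agent.Lib.Helper12

open CategoryTheory CategoryTheory.Limits DRing Polynomial

attribute [local instance] HasDerivedCategory.standard

universe u

section Regular

variable {P : Type u} [CommRing P]

lemma regular_C_mul_X_sub_one (r : P) (z : P[X]) (h : (C r * X - 1) * z = 0) : z = 0 := by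
  have h' : C r * X * z = z := by
    rw [sub_mul, one_mul, sub_eq_zero] at h
    exact h
  ext n
  induction n with
  | zero =>
    have := congrArg (fun p => p.coeff 0) h'
    simp only [mul_assoc, coeff_C_mul, coeff_X_mul_zero, mul_zero] at this
    rw [← this, coeff_zero]
  | succ n ih =>
    have := congrArg (fun p => p.coeff (n + 1)) h'
    simp only [mul_assoc, coeff_C_mul, coeff_X_mul] at this
    rw [← this, ih, coeff_zero, mul_zero, coeff_zero]

/-- the presentation `P[X] → P_{g'}`, `X ↦ 1/g'` -/
noncomputable def awayq (g' : P) : P[X] →+* Localization.Away g' :=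
  ((Localization.awayEquivAdjoin g').symm : AdjoinRoot (C g' * X - 1) →+* Localization.Away g').comp
    (AdjoinRoot.mk (C g' * X - 1))

lemma awayq_surjective (g' : P) : Function.Surjective (awayq g') :=
  (Localization.awayEquivAdjoin g').symm.surjective.comp AdjoinRoot.mk_surjective

lemma awayq_C (g' : P) (p : P) : awayq g' (C p) = algebraMap P (Localization.Away g') p := by
  change (Localization.awayEquivAdjoin g').symm (AdjoinRoot.mk _ (C p)) = _
  rw [AdjoinRoot.mk_C, ← AdjoinRoot.algebraMap_eq, AlgEquiv.commutes]

lemma ker_awayq (g' : P) : RingHom.ker (awayq g') = Ideal.span {C g' * X - 1} := by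
  ext z
  rw [RingHom.mem_ker, Ideal.mem_span_singleton]
  change (Localization.awayEquivAdjoin g').symm (AdjoinRoot.mk _ z) = 0 ↔ _
  rw [map_eq_zero_iff _ (Localization.awayEquivAdjoin g').symm.injective, AdjoinRoot.mk_eq_zero]

theorem resPC_awayq (g' : P) : ResPC (awayq g') :=
  resPC_of_ker_eq_span_regular (awayq g') (awayq_surjective g') (C g' * X - 1)
    (fun x y hxy => by
      have : (C g' * X - 1) * (x - y) = 0 := by rw [mul_sub, hxy, sub_self]
      exact sub_eq_zero.1 (regular_C_mul_X_sub_one g' _ this))
    (ker_awayq g')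

end Regular

section BaseChangeD

variable {P A : Type u} [CommRing P] [CommRing A] (π : P →+* A) (g' : P)

instance flat_away_single : Module.Flat P (Localization.Away g') :=
  IsLocalization.flat _ (Submonoid.powers g')

/-- base change along a localization commutes with restriction of scalars, on `D` -/
noncomputable def bcDIso (K : Cx A) :
    (restrictD (awayψ π g')).obj (toD (extCx A (Localization.Away (π g')) K)) ≅
      (extScD P (Localization.Away g')).obj ((restrictD π).obj (toD K)) :=
  restrictD_toD (awayψ π g') _ ≪≫ DerivedCategory.Q.mapIso (bcCxIso π g' K).symm ≪≫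
    (extScD_toD ((restrictCx π).obj K)).symm ≪≫
    (extScD P (Localization.Away g')).mapIso (restrictD_toD π K).symm

lemma awayψ_surjective (hπ : Function.Surjective π) : Function.Surjective (awayψ π g') := by
  rw [Localization.awayMap_surjective_iff]
  intro a
  obtain ⟨b, rfl⟩ := hπ a
  exact ⟨b, 0, by simp⟩

end BaseChangeD

section RelPC

variable {R A : Type u} [CommRing R] [CommRing A] [Algebra R A]

/-- the ring map `R[x₁..xₙ][X] → A_g` -/
noncomputable def awayδ₀ {n : ℕ} (α : MvPolynomial (Fin n) R →ₐ[R] A) (g' : MvPolynomial (Fin n) R) :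
    (MvPolynomial (Fin n) R)[X] →+* Localization.Away ((α : MvPolynomial (Fin n) R →+* A) g') :=
  (awayψ (α : MvPolynomial (Fin n) R →+* A) g').comp (awayq g')

lemma awayδ₀_C_algebraMap {n : ℕ} (α : MvPolynomial (Fin n) R →ₐ[R] A)
    (g' : MvPolynomial (Fin n) R) (r : R) :
    awayδ₀ α g' (C (algebraMap R (MvPolynomial (Fin n) R) r)) =
      algebraMap R (Localization.Away ((α : MvPolynomial (Fin n) R →+* A) g')) r := by
  have h3 : awayδ₀ α g' (C (algebraMap R (MvPolynomial (Fin n) R) r)) =
      (awayψ (α : MvPolynomial (Fin n) R →+* A) g')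
        (awayq g' (C (algebraMap R (MvPolynomial (Fin n) R) r))) := rfl
  rw [h3, awayq_C]
  have h2 := congrArg (fun φ => φ (algebraMap R (MvPolynomial (Fin n) R) r))
    (awayψ_comp (α : MvPolynomial (Fin n) R →+* A) g')
  simp only [RingHom.comp_apply] at h2
  rw [h2]
  have h4 : (α : MvPolynomial (Fin n) R →+* A) (algebraMap R (MvPolynomial (Fin n) R) r) =
      algebraMap R A r := α.commutes r
  rw [h4, ← IsScalarTower.algebraMap_apply]

/-- the presentation `R[x₁..x_{n+1}] → A_g` -/
noncomputable def awayδ {n : ℕ} (α : MvPolynomial (Fin n) R →ₐ[R] A) (g' : MvPolynomial (Fin n) R) :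
    MvPolynomial (Fin (n + 1)) R →ₐ[R]
      Localization.Away ((α : MvPolynomial (Fin n) R →+* A) g') where
  toRingHom := (awayδ₀ α g').comp
    (MvPolynomial.finSuccEquiv R n : MvPolynomial (Fin (n + 1)) R →+* _)
  commutes' := fun r => by
    change awayδ₀ α g' (MvPolynomial.finSuccEquiv R n (algebraMap R _ r)) = _
    rw [AlgEquiv.commutes]
    exact awayδ₀_C_algebraMap α g' r

lemma awayδ_surjective {n : ℕ} (α : MvPolynomial (Fin n) R →ₐ[R] A)
    (hα : Function.Surjective α) (g' : MvPolynomial (Fin n) R) :
    Function.Surjective (awayδ α g') := by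
  have h1 : Function.Surjective (awayδ₀ α g') :=
    (awayψ_surjective (α : MvPolynomial (Fin n) R →+* A) g' hα).comp (awayq_surjective g')
  exact h1.comp (MvPolynomial.finSuccEquiv R n).surjective

/-- **(E')** relative pseudo-coherence over `R` on `D(A_g)` can be tested over `P_{g'}` where
`P = R[x₁..xₙ] ↠ A` and `g'` lifts `g` -/
theorem isRelPseudoCoherent_away_iff {n : ℕ} (α : MvPolynomial (Fin n) R →ₐ[R] A)
    (hα : Function.Surjective α) (g' : MvPolynomial (Fin n) R) (m : ℤ)
    (L : Dual.D (Localization.Away ((α : MvPolynomial (Fin n) R →+* A) g'))) :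
    DerCA.IsRelPseudoCoherent R (Localization.Away ((α : MvPolynomial (Fin n) R →+* A) g')) m L ↔
      IsPseudoCoherent (Localization.Away g') m
        ((restrictD (awayψ (α : MvPolynomial (Fin n) R →+* A) g')).obj L) := by
  rw [isRelPseudoCoherent_iff_via (awayδ α g') (awayδ_surjective α hα g')]
  have h5 := isPseudoCoherent_restrictD_comp_equiv_iff
    (MvPolynomial.finSuccEquiv R n : MvPolynomial (Fin (n + 1)) R →+* _)
    (MvPolynomial.finSuccEquiv R n).bijective (awayδ₀ α g') L m
  have h6 := isPseudoCoherent_restrictD_comp_iff' (f := awayq g')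
    (g := awayψ (α : MvPolynomial (Fin n) R →+* A) g') (resPC_awayq g') L m
  exact h5.trans h6


/-- relative pseudo-coherence of a localized complex, in terms of a presentation -/
theorem isRelPseudoCoherent_extCx_away_iff {n : ℕ} (α : MvPolynomial (Fin n) R →ₐ[R] A)
    (hα : Function.Surjective α) (g' : MvPolynomial (Fin n) R) (m : ℤ) (K : Cx A) :
    DerCA.IsRelPseudoCoherent R (Localization.Away ((α : MvPolynomial (Fin n) R →+* A) g')) m
        (toD (extCx A (Localization.Away ((α : MvPolynomial (Fin n) R →+* A) g')) K)) ↔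
      IsPseudoCoherent (Localization.Away g') m
        ((extScD (MvPolynomial (Fin n) R) (Localization.Away g')).obj
          ((restrictD (α : MvPolynomial (Fin n) R →+* A)).obj (toD K))) := by
  rw [isRelPseudoCoherent_away_iff α hα g' m]
  have e := bcDIso (α : MvPolynomial (Fin n) R →+* A) g' K
  exact ⟨isPseudoCoherent_of_iso' e, isPseudoCoherent_of_iso' e.symm⟩

end RelPC

end Groth.Agent.Lib.Helper12
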