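import Groth.Agent.Lib.Helper12.DerCARelTermwise
import Groth.Agent.Lib.Helper12.DRingPCRep
import Groth.Prelude.Def_MoreMor

/-!
# Pseudo-coherent ring maps (`MoreMor.IsPseudoCoherentHom`) and `ResPC`
-/

namespace Groth.Agent.Lib.Helper12

open CategoryTheory CategoryTheory.Limits DRing CategoryTheory.Pretriangulated

attribute [local instance] HasDerivedCategory.standard

universe u

section

variable {P A : Type u} [CommRing P] [CommRing A]

/-- the `P`-module `A` (through the algebra structure `φ.toAlgebra`) is the restriction of scalars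
of `A` -/
noncomputable def toAlgebraModuleIso (φ : P →+* A) :
    (letI := φ.toAlgebra; ModuleCat.of P A) ≅ (resSc φ).obj (ModuleCat.of A A) :=
  letI := φ.toAlgebra
  LinearEquiv.toModuleIso
    { toFun := fun a => (show (resSc φ).obj (ModuleCat.of A A) from a)
      invFun := fun a => (show A from a)
      map_add' := fun _ _ => rfl
      map_smul' := fun _ _ => rfl
      left_inv := fun _ => rfl
      right_inv := fun _ => rfl }

/-- `ResPC φ` in terms of the module `A` over `P` through `φ.toAlgebra` -/
theorem resPC_iff_isPseudoCoherentModule' (φ : P →+* A) :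
    ResPC φ ↔ (letI := φ.toAlgebra; DRing.IsPseudoCoherentModule' P A) := by
  letI := φ.toAlgebra
  have e := inDMapIso (toAlgebraModuleIso φ)
  constructor
  · intro h
    exact isPseudoCoherent'_of_forall fun m => isPseudoCoherent_of_iso' e.symm (h m)
  · intro h m
    exact isPseudoCoherent_of_iso' e (isPseudoCoherent_of_isPseudoCoherent' h m)

end

section

variable {R A : Type u} [CommRing R] [CommRing A] [Algebra R A]

/-- a pseudo-coherent ring map has a presentation which is `ResPC` -/
theorem exists_resPC_of_isPseudoCoherentHom (h : MoreMor.IsPseudoCoherentHom R A) :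
    ∃ (n : ℕ) (φ : MvPolynomial (Fin n) R →ₐ[R] A), Function.Surjective φ ∧
      ResPC (φ : MvPolynomial (Fin n) R →+* A) := by
  obtain ⟨n, φ, hφ, hpc⟩ := h
  exact ⟨n, φ, hφ, (resPC_iff_isPseudoCoherentModule' (φ : MvPolynomial (Fin n) R →+* A)).2 hpc⟩

theorem isPseudoCoherentHom_iff :
    MoreMor.IsPseudoCoherentHom R A ↔
      ∃ (n : ℕ) (φ : MvPolynomial (Fin n) R →ₐ[R] A), Function.Surjective φ ∧
        ResPC (φ : MvPolynomial (Fin n) R →+* A) := by
  constructor
  · exact exists_resPC_of_isPseudoCoherentHom
  · rintro ⟨n, φ, hφ, h⟩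
    exact ⟨n, φ, hφ, (resPC_iff_isPseudoCoherentModule' (φ : MvPolynomial (Fin n) R →+* A)).1 h⟩

/-- for a pseudo-coherent ring map `R → A`, relative pseudo-coherence over `R` is the same as
pseudo-coherence over `A` -/
theorem isRelPseudoCoherent_iff_isPseudoCoherent_of_isPseudoCoherentHom
    (hRA : MoreMor.IsPseudoCoherentHom R A) (m : ℤ) (K : Dual.D A) :
    DerCA.IsRelPseudoCoherent R A m K ↔ DRing.IsPseudoCoherent A m K := by
  obtain ⟨n, φ, hφ, h⟩ := exists_resPC_of_isPseudoCoherentHom hRA
  rw [isRelPseudoCoherent_iff_via φ hφ]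
  exact (isPseudoCoherent_restrictD_iff h m K).symm

end

end Groth.Agent.Lib.Helper12
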