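import Groth.Agent.Lib.Helper12.DerCALocalizationZariski
import Groth.Agent.Lib.Helper12.DerCAPCHom
import Groth.Agent.Lib.Helper12.DerCAIntermediate
import Mathlib.Algebra.MvPolynomial.Equiv

/-!
# `R → R_f` is a pseudo-coherent ring map; relative pseudo-coherence over `R_f` and over `R`
-/

namespace Groth.Agent.Lib.Helper12

open CategoryTheory CategoryTheory.Limits DRing Polynomial

attribute [local instance] HasDerivedCategory.standard

universe u

variable {R : Type u} [CommRing R]

/-- `R[x₁] ≃ R[X]` -/
noncomputable def finOnePolyEquiv (R : Type u) [CommRing R] :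
    MvPolynomial (Fin 1) R ≃ₐ[R] R[X] :=
  MvPolynomial.uniqueAlgEquiv R (Fin 1)

/-- the presentation `R[x₁] → R_f` -/
noncomputable def awayPres (f : R) : MvPolynomial (Fin 1) R →ₐ[R] Localization.Away f where
  toRingHom := (awayq f).comp (finOnePolyEquiv R : MvPolynomial (Fin 1) R →+* R[X])
  commutes' := fun r => by
    change awayq f (finOnePolyEquiv R (algebraMap R _ r)) = _
    rw [AlgEquiv.commutes]
    exact awayq_C f r

lemma awayPres_surjective (f : R) : Function.Surjective (awayPres f) :=
  (awayq_surjective f).comp (finOnePolyEquiv R).surjective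

lemma resPC_awayPres (f : R) : ResPC (awayPres f : MvPolynomial (Fin 1) R →+* Localization.Away f) :=
  ResPC.comp (f := (finOnePolyEquiv R : MvPolynomial (Fin 1) R →+* R[X])) (g := awayq f)
    (resPC_of_bijective _ (finOnePolyEquiv R).bijective) (resPC_awayq f)

theorem isPseudoCoherentHom_away (f : R) : MoreMor.IsPseudoCoherentHom R (Localization.Away f) :=
  isPseudoCoherentHom_iff.2 ⟨1, awayPres f, awayPres_surjective f, resPC_awayPres f⟩

theorem isRelPseudoCoherentModuleAll_away (f : R) :
    DerCA.IsRelPseudoCoherentModuleAll R (Localization.Away f) (Localization.Away f) := by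
  intro m
  rw [isRelPseudoCoherent_iff_isPseudoCoherent_of_isPseudoCoherentHom (isPseudoCoherentHom_away f)]
  exact isPseudoCoherent_inD_of_finite_free (ModuleCat.of _ (Localization.Away f)) m

instance finiteType_away (f : R) : Algebra.FiniteType R (Localization.Away f) :=
  have := IsLocalization.Away.finitePresentation f (S := Localization.Away f)
  inferInstance

/-- relative pseudo-coherence over `R_f` and over `R` agree -/
theorem isRelPseudoCoherent_away_base_iff (f : R) {A : Type u} [CommRing A] [Algebra R A]
    [Algebra (Localization.Away f) A] [IsScalarTower R (Localization.Away f) A]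
    [Algebra.FiniteType (Localization.Away f) A] (L : Dual.D A) (m : ℤ) :
    DerCA.IsRelPseudoCoherent (Localization.Away f) A m L ↔ DerCA.IsRelPseudoCoherent R A m L :=
  isRelPseudoCoherent_iff_of_pseudoCoherent_intermediate (isRelPseudoCoherentModuleAll_away f) L m

/-- relative pseudo-coherence passes to principal localizations -/
theorem isRelPseudoCoherent_extCx_away {R A : Type u} [CommRing R] [CommRing A] [Algebra R A]
    [Algebra.FiniteType R A] (g : A) (K : Cx A) (m : ℤ)
    (h : DerCA.IsRelPseudoCoherent R A m (toD K)) :
    DerCA.IsRelPseudoCoherent R (Localization.Away g) m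
      (toD (extCx A (Localization.Away g) K)) := by
  obtain ⟨n, α, hα⟩ := exists_presentation R A
  obtain ⟨g', rfl⟩ := hα g
  exact (isRelPseudoCoherent_extCx_away_iff α hα g' m K).2
    (isPseudoCoherent_extScD m _ ((isRelPseudoCoherent_iff_via α hα m _).1 h))

end Groth.Agent.Lib.Helper12
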