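import Groth.Agent.Lib.Helper12.DerCALocalization

/-!
# Relative pseudo-coherence is Zariski local on the source
-/

namespace Groth.Agent.Lib.Helper12

open CategoryTheory CategoryTheory.Limits DRing

attribute [local instance] HasDerivedCategory.standard

universe u

section Kill

variable {P A : Type u} [CommRing P] [CommRing A] (π : P →+* A) (h₀ : P)

/-- localizing the restriction of an `A`-module at an element of the kernel of `P → A` gives `0` -/
lemma isZero_extSc_resSc_of_mem_ker (hh : π h₀ = 0) (M : ModuleCat.{u} A) :
    IsZero ((extSc P (Localization.Away h₀)).obj ((resSc π).obj M)) := by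
  have hloc : IsLocalizedModule (Submonoid.powers h₀)
      ((ModuleCat.extendRestrictScalarsAdj (algebraMap P (Localization.Away h₀))).unit.app
        ((resSc π).obj M)).hom := isLocalizedModule_unit _ _
  have hsub := (IsLocalizedModule.subsingleton_iff (Submonoid.powers h₀)
    ((ModuleCat.extendRestrictScalarsAdj (algebraMap P (Localization.Away h₀))).unit.app
      ((resSc π).obj M)).hom).2 (fun m => ⟨h₀, Submonoid.mem_powers h₀, by
        change π h₀ • (show M from m) = 0
        rw [hh, zero_smul]⟩)
  have : Subsingleton ((extSc P (Localization.Away h₀)).obj ((resSc π).obj M)) := hsub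
  exact ModuleCat.isZero_of_subsingleton _

lemma isZero_extScD_restrictD_of_mem_ker (hh : π h₀ = 0) (K : Cx A) :
    IsZero ((extScD P (Localization.Away h₀)).obj ((restrictD π).obj (toD K))) := by
  have e : (extScD P (Localization.Away h₀)).obj ((restrictD π).obj (toD K)) ≅
      toD (extCx P (Localization.Away h₀) ((restrictCx π).obj K)) :=
    (extScD P (Localization.Away h₀)).mapIso (restrictD_toD π K) ≪≫ extScD_toD _
  refine IsZero.of_iso (isZero_toD_of_forall_isZero _ (fun i => ?_)) e
  exact isZero_extSc_resSc_of_mem_ker π h₀ hh (K.X i)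

end Kill

section Zariski

variable {R A : Type u} [CommRing R] [CommRing A] [Algebra R A]

/-- **Zariski descent for relative pseudo-coherence** in terms of a presentation and lifts -/
theorem isRelPseudoCoherent_iff_away {n : ℕ} (α : MvPolynomial (Fin n) R →ₐ[R] A)
    (hα : Function.Surjective α) {r : ℕ} (g : Fin r → MvPolynomial (Fin n) R)
    (hg : Ideal.span (Set.range fun i => (α : MvPolynomial (Fin n) R →+* A) (g i)) = ⊤)
    (K : Cx A) (m : ℤ) :
    DerCA.IsRelPseudoCoherent R A m (toD K) ↔
      ∀ i, DerCA.IsRelPseudoCoherent R
        (Localization.Away ((α : MvPolynomial (Fin n) R →+* A) (g i))) m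
        (toD (extCx A (Localization.Away ((α : MvPolynomial (Fin n) R →+* A) (g i))) K)) := by
  rw [isRelPseudoCoherent_iff_via α hα]
  constructor
  · intro h i
    rw [isRelPseudoCoherent_extCx_away_iff α hα (g i) m K]
    exact isPseudoCoherent_extScD m _ h
  · intro h
    -- an element of the kernel completing the `g i` to a generating family
    have h1 : Ideal.span (Set.range g) ⊔ RingHom.ker (α : MvPolynomial (Fin n) R →+* A) = ⊤ := by
      have h2 : Ideal.map (α : MvPolynomial (Fin n) R →+* A) (Ideal.span (Set.range g)) = ⊤ := by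
        rw [Ideal.map_span, ← Set.range_comp]
        exact hg
      have h3 := Ideal.comap_map_of_surjective (α : MvPolynomial (Fin n) R →+* A) hα
        (Ideal.span (Set.range g))
      rw [h2, Ideal.comap_top] at h3
      rw [RingHom.ker_eq_comap_bot]
      exact h3.symm
    have h1' : (1 : MvPolynomial (Fin n) R) ∈
        Ideal.span (Set.range g) ⊔ RingHom.ker (α : MvPolynomial (Fin n) R →+* A) := by
      rw [h1]; trivial
    obtain ⟨s, hs, h₀, hh₀, hsum⟩ := Submodule.mem_sup.1 h1'
    let f' : Option (Fin r) → MvPolynomial (Fin n) R := fun o => o.elim h₀ g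
    have hf' : Ideal.span (Set.range f') = ⊤ := by
      rw [Ideal.eq_top_iff_one, ← hsum]
      refine Ideal.add_mem _ ?_ ?_
      · refine Ideal.span_mono ?_ hs
        rintro _ ⟨i, rfl⟩
        exact ⟨some i, rfl⟩
      · exact Ideal.subset_span ⟨none, rfl⟩
    refine isPseudoCoherent_of_family (jointlyFF_away f' hf') (fun o => ?_)
    cases o with
    | none =>
      exact isPseudoCoherent_of_isZero_HF m _ (fun i _ => (HF _ i).map_isZero
        (isZero_extScD_restrictD_of_mem_ker (α : MvPolynomial (Fin n) R →+* A) h₀
          (RingHom.mem_ker.1 hh₀) K))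
    | some i =>
      exact (isRelPseudoCoherent_extCx_away_iff α hα (g i) m K).1 (h i)

end Zariski

end Groth.Agent.Lib.Helper12
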