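import Groth.Agent.Lib.Helper12.DerCARel
import Mathlib.Algebra.MvPolynomial.Equiv

/-!
# Restriction of scalars along composites; pseudo-coherent ring maps; independence of
presentation for relative pseudo-coherence
-/

namespace Groth.Agent.Lib.Helper12

open CategoryTheory CategoryTheory.Limits DRing CategoryTheory.Pretriangulated

attribute [local instance] HasDerivedCategory.standard

universe u

section Comp

variable {R₁ R₂ R₃ : Type u} [CommRing R₁] [CommRing R₂] [CommRing R₃]
  (f : R₁ →+* R₂) (g : R₂ →+* R₃)

/-- restriction of complexes along a composite -/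
noncomputable def restrictCxCompIso (X : Cx R₃) :
    (restrictCx (g.comp f)).obj X ≅ (restrictCx f).obj ((restrictCx g).obj X) :=
  HomologicalComplex.Hom.isoOfComponents
    (fun i => ModuleCat.restrictScalarsComp'App f g _ rfl (X.X i))
    (fun i j _ => (ModuleCat.restrictScalarsComp'App_hom_naturality f g _ rfl (X.d i j)).symm)

/-- restriction along a composite, on `D` -/
lemma exists_restrictD_comp_iso (K : Dual.D R₃) :
    Nonempty ((restrictD (g.comp f)).obj K ≅ (restrictD f).obj ((restrictD g).obj K)) := by
  let X : Cx R₃ := DerivedCategory.Q.objPreimage K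
  let e : toD X ≅ K := DerivedCategory.Q.objObjPreimageIso K
  exact ⟨(restrictD (g.comp f)).mapIso e.symm ≪≫ restrictD_toD (g.comp f) X ≪≫
    DerivedCategory.Q.mapIso (restrictCxCompIso f g X) ≪≫
    (restrictD_toD f ((restrictCx g).obj X)).symm ≪≫
    (restrictD f).mapIso (restrictD_toD g X).symm ≪≫
    (restrictD f).mapIso ((restrictD g).mapIso e)⟩

lemma isPseudoCoherent_restrictD_comp_iff (K : Dual.D R₃) (m : ℤ) :
    IsPseudoCoherent R₁ m ((restrictD (g.comp f)).obj K) ↔
      IsPseudoCoherent R₁ m ((restrictD f).obj ((restrictD g).obj K)) := by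
  obtain ⟨e⟩ := exists_restrictD_comp_iso f g K
  exact ⟨isPseudoCoherent_of_iso' e, isPseudoCoherent_of_iso' e.symm⟩

/-- restriction of a module in degree `0` -/
noncomputable def restrictD_inD (N : ModuleCat.{u} R₂) :
    (restrictD f).obj (Dual.inD R₂ N) ≅ Dual.inD R₁ ((resSc f).obj N) :=
  ((resSc f).mapDerivedCategorySingleFunctor 0).app N

variable {f g}

/-- pseudo-coherent ring maps compose -/
theorem ResPC.comp (hf : ResPC f) (hg : ResPC g) : ResPC (g.comp f) := by
  intro m
  have h1 := isPseudoCoherent_restrictD hf (hg m)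
  have h2 := isPseudoCoherent_of_iso' (restrictD_inD f _) h1
  exact isPseudoCoherent_of_iso'
    (inDMapIso (ModuleCat.restrictScalarsComp'App f g _ rfl (ModuleCat.of R₃ R₃)).symm) h2

/-- pseudo-coherence is transported along a pseudo-coherent composite -/
theorem isPseudoCoherent_restrictD_comp_iff' (hf : ResPC f) (K : Dual.D R₃) (m : ℤ) :
    IsPseudoCoherent R₁ m ((restrictD (g.comp f)).obj K) ↔
      IsPseudoCoherent R₂ m ((restrictD g).obj K) := by
  rw [isPseudoCoherent_restrictD_comp_iff]
  exact (isPseudoCoherent_restrictD_iff hf m _).symm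

end Comp

section Bijective

variable {A B : Type u} [CommRing A] [CommRing B]

/-- a bijective ring map is pseudo-coherent -/
theorem resPC_of_bijective (φ : A →+* B) (hφ : Function.Bijective φ) : ResPC φ := by
  intro m
  let e := RingEquiv.ofBijective φ hφ
  let l : ((resSc φ).obj (ModuleCat.of B B)) ≃ₗ[A] A :=
    { toFun := fun x => e.symm x
      invFun := fun a => e a
      map_add' := fun x y => map_add e.symm x y
      map_smul' := fun a x => by
        have h1 : (a • x : (resSc φ).obj (ModuleCat.of B B)) = φ a * (show B from x) :=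
          ModuleCat.restrictScalars.smul_def φ a x
        rw [h1, RingHom.id_apply, smul_eq_mul, map_mul]
        congr 1
        exact e.symm_apply_apply a
      left_inv := fun x => e.apply_symm_apply x
      right_inv := fun a => e.symm_apply_apply a }
  have h : IsPseudoCoherent A m (Dual.inD A (ModuleCat.of A A)) :=
    haveI : Module.Finite A (ModuleCat.of A A) := inferInstanceAs (Module.Finite A A)
    haveI : Module.Free A (ModuleCat.of A A) := inferInstanceAs (Module.Free A A)
    isPseudoCoherent_inD_of_finite_free _ m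
  exact isPseudoCoherent_of_iso' (inDMapIso l.toModuleIso).symm h

end Bijective

end Groth.Agent.Lib.Helper12

namespace Groth.Agent.Lib.Helper12

open CategoryTheory CategoryTheory.Limits DRing CategoryTheory.Pretriangulated Polynomial

attribute [local instance] HasDerivedCategory.standard

universe u

section PolyEval

variable (T : Type u) [CommRing T] (t : T)

/-- the `T[X]`-module `T` (via `X ↦ t`) -/
noncomputable abbrev Tev : ModuleCat.{u} T[X] :=
  (resSc (Polynomial.evalRingHom t)).obj (ModuleCat.of T T)

/-- view an element of `T` in `Tev T t` -/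
def toTev (r : T) : Tev T t := r

lemma smul_toTev (q : T[X]) (r : T) :
    q • toTev T t r = toTev T t (Polynomial.eval t q * r) :=
  ModuleCat.restrictScalars.smul_def (Polynomial.evalRingHom t) q (toTev T t r)

/-- evaluation at `t` as a `T[X]`-linear map `T[X] → T` -/
noncomputable def evLin : T[X] →ₗ[T[X]] Tev T t where
  toFun := fun p => toTev T t (Polynomial.eval t p)
  map_add' := fun p q => by
    rw [Polynomial.eval_add]; rfl
  map_smul' := fun q p => by
    rw [RingHom.id_apply, smul_toTev, smul_eq_mul, Polynomial.eval_mul]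

lemma evLin_apply (p : T[X]) : evLin T t p = toTev T t (Polynomial.eval t p) := rfl

lemma toTev_eq_zero (r : T) : toTev T t r = 0 ↔ r = 0 := Iff.rfl

/-- evaluation of polynomials at a point is a pseudo-coherent ring map -/
theorem resPC_evalRingHom : ResPC (Polynomial.evalRingHom t) := by
  intro m
  let TX : ModuleCat.{u} T[X] := ModuleCat.of T[X] T[X]
  let S : ShortComplex (ModuleCat.{u} T[X]) :=
    ShortComplex.mk (ModuleCat.ofHom (LinearMap.mulLeft T[X] (X - C t : T[X])) : TX ⟶ TX)
      (ModuleCat.ofHom (evLin T t) : TX ⟶ ModuleCat.of T[X] (Tev T t)) (by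
        apply ModuleCat.hom_ext
        apply LinearMap.ext
        intro p
        change evLin T t ((X - C t) * p) = 0
        rw [evLin_apply, toTev_eq_zero]
        simp)
  have hS : S.ShortExact := by
    refine ShortComplex.ShortExact.mk' ?_ ?_ ?_
    · rw [ShortComplex.ShortExact.moduleCat_exact_iff_function_exact]
      intro p
      have h1 : (ConcreteCategory.hom S.g) p = evLin T t p := rfl
      have h2 : ∀ q : T[X], (ConcreteCategory.hom S.f) q = (X - C t) * q := fun q => rfl
      rw [h1, Set.mem_range]
      simp only [h2]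
      rw [evLin_apply, toTev_eq_zero, ← Polynomial.IsRoot.def, ← Polynomial.dvd_iff_isRoot]
      constructor
      · rintro ⟨q, rfl⟩; exact ⟨q, rfl⟩
      · rintro ⟨q, rfl⟩; exact ⟨q, rfl⟩
    · rw [ModuleCat.mono_iff_injective]
      intro p q hpq
      have hpq' : (X - C t) * p = (X - C t) * q := hpq
      exact (Polynomial.monic_X_sub_C t).isRegular.left hpq'
    · rw [ModuleCat.epi_iff_surjective]
      intro r
      refine ⟨Polynomial.C (show T from r), ?_⟩
      have h1 : ∀ p, (ConcreteCategory.hom S.g) p = evLin T t p := fun p => rfl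
      rw [h1, evLin_apply, Polynomial.eval_C]
      rfl
  have hT := hS.singleTriangle_distinguished
  have h1 : ∀ m' : ℤ, DRing.IsPseudoCoherent T[X] m' (Dual.inD T[X] TX) := fun m' =>
    haveI : Module.Finite T[X] TX := inferInstanceAs (Module.Finite T[X] T[X])
    haveI : Module.Free T[X] TX := inferInstanceAs (Module.Free T[X] T[X])
    isPseudoCoherent_inD_of_finite_free TX m'
  exact (isPseudoCoherent_two_out_of_three hS.singleTriangle hT m).1 (h1 _) (h1 _)

end PolyEval

section MvEval

/-- evaluation of multivariate polynomials at a point is a pseudo-coherent ring map -/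
theorem resPC_aeval : ∀ (k : ℕ) (S : Type u) [CommRing S] (f : Fin k → S),
    ResPC (MvPolynomial.aeval f : MvPolynomial (Fin k) S →ₐ[S] S).toRingHom := by
  intro k
  induction k with
  | zero =>
    intro S _ f
    apply resPC_of_bijective
    have h : (MvPolynomial.aeval f : MvPolynomial (Fin 0) S →ₐ[S] S) =
        (MvPolynomial.isEmptyAlgEquiv S (Fin 0)).toAlgHom := by
      apply MvPolynomial.algHom_ext
      intro i
      exact i.elim0
    rw [h]
    exact (MvPolynomial.isEmptyAlgEquiv S (Fin 0)).bijective
  | succ k ih =>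
    intro S _ f
    let T := MvPolynomial (Fin k) S
    let e := MvPolynomial.finSuccEquiv S k
    let ev : T[X] →+* T := Polynomial.evalRingHom (MvPolynomial.C (f 0))
    let φ₃ : T →+* S := (MvPolynomial.aeval (Fin.tail f) : T →ₐ[S] S).toRingHom
    have hcomp : (MvPolynomial.aeval f : MvPolynomial (Fin (k + 1)) S →ₐ[S] S).toRingHom =
        (φ₃.comp ev).comp e.toAlgHom.toRingHom := by
      apply MvPolynomial.ringHom_ext
      · intro s
        simp [φ₃, ev, e, MvPolynomial.finSuccEquiv_apply]
        exact (MvPolynomial.eval_C (f := Fin.tail f) s).symm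
      · intro i
        refine Fin.cases ?_ (fun j => ?_) i
        · simp [φ₃, ev, e, MvPolynomial.finSuccEquiv_X_zero]
          exact (MvPolynomial.eval_C (f := Fin.tail f) (f 0)).symm
        · simp [φ₃, ev, e, MvPolynomial.finSuccEquiv_X_succ]
          exact (MvPolynomial.eval_X (f := Fin.tail f) j).symm
    rw [hcomp]
    refine ResPC.comp (resPC_of_bijective _ e.bijective) ?_
    exact ResPC.comp (resPC_evalRingHom T _) (ih S (Fin.tail f))

end MvEval

end Groth.Agent.Lib.Helper12

namespace Groth.Agent.Lib.Helper12

open CategoryTheory CategoryTheory.Limits DRing CategoryTheory.Pretriangulated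

attribute [local instance] HasDerivedCategory.standard

universe u

section Independence

variable {R A : Type u} [CommRing R] [CommRing A]

/-- Key one-sided comparison: if `α : R[x₁..xₙ] → A`, and `f j` are lifts along `α` of arbitrary
elements `b j : A`, then restriction along `α` is `m`-pseudo-coherent iff restriction along
`α ∘ aeval f : R[x][y₁..y_k] → A` is. -/
theorem isPseudoCoherent_restrictD_aeval_iff {n k : ℕ} (α : MvPolynomial (Fin n) R →+* A)
    (f : Fin k → MvPolynomial (Fin n) R) (K : Dual.D A) (m : ℤ) :
    IsPseudoCoherent (MvPolynomial (Fin k) (MvPolynomial (Fin n) R)) m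
      ((restrictD (α.comp (MvPolynomial.aeval f :
        MvPolynomial (Fin k) (MvPolynomial (Fin n) R) →ₐ[MvPolynomial (Fin n) R]
          MvPolynomial (Fin n) R).toRingHom)).obj K) ↔
    IsPseudoCoherent (MvPolynomial (Fin n) R) m ((restrictD α).obj K) :=
  isPseudoCoherent_restrictD_comp_iff' (resPC_aeval k (MvPolynomial (Fin n) R) f) K m

/-- transport along a ring isomorphism of the source -/
theorem isPseudoCoherent_restrictD_comp_equiv_iff {Q Q' B : Type u} [CommRing Q] [CommRing Q']
    [CommRing B] (σ : Q →+* Q') (hσ : Function.Bijective σ) (γ' : Q' →+* B) (K : Dual.D B)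
    (m : ℤ) :
    IsPseudoCoherent Q m ((restrictD (γ'.comp σ)).obj K) ↔
      IsPseudoCoherent Q' m ((restrictD γ').obj K) :=
  isPseudoCoherent_restrictD_comp_iff' (resPC_of_bijective σ hσ) K m

/-- **Independence of the presentation** for relative pseudo-coherence. -/
theorem isRelPseudoCoherentVia_iff_of_surjective [Algebra R A]
    {n k : ℕ} (α : MvPolynomial (Fin n) R →ₐ[R] A) (hα : Function.Surjective α)
    (β : MvPolynomial (Fin k) R →ₐ[R] A) (hβ : Function.Surjective β) (K : Dual.D A) (m : ℤ) :
    DerCA.IsRelPseudoCoherentVia α m K ↔ DerCA.IsRelPseudoCoherentVia β m K := by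
  classical
  choose f hf using fun j : Fin k => hα (β (MvPolynomial.X j))
  choose g hg using fun i : Fin n => hβ (α (MvPolynomial.X i))
  let π : MvPolynomial (Fin k) (MvPolynomial (Fin n) R) →+* (MvPolynomial (Fin n) R) :=
    (MvPolynomial.aeval f : MvPolynomial (Fin k) (MvPolynomial (Fin n) R) →ₐ[(MvPolynomial (Fin n) R)]
      (MvPolynomial (Fin n) R)).toRingHom
  let π' : MvPolynomial (Fin n) (MvPolynomial (Fin k) R) →+* (MvPolynomial (Fin k) R) :=
    (MvPolynomial.aeval g : MvPolynomial (Fin n) (MvPolynomial (Fin k) R) →ₐ[(MvPolynomial (Fin k) R)]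
      (MvPolynomial (Fin k) R)).toRingHom
  let γ : MvPolynomial (Fin k) (MvPolynomial (Fin n) R) →+* A :=
    (α : (MvPolynomial (Fin n) R) →+* A).comp π
  let γ' : MvPolynomial (Fin n) (MvPolynomial (Fin k) R) →+* A :=
    (β : (MvPolynomial (Fin k) R) →+* A).comp π'
  let σ : MvPolynomial (Fin k) (MvPolynomial (Fin n) R) ≃ₐ[R]
      MvPolynomial (Fin n) (MvPolynomial (Fin k) R) :=
    MvPolynomial.commAlgEquiv R (Fin k) (Fin n)
  have hγC : (γ'.comp (σ : MvPolynomial (Fin k) (MvPolynomial (Fin n) R) →+*
      MvPolynomial (Fin n) (MvPolynomial (Fin k) R))).comp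
      MvPolynomial.C = γ.comp MvPolynomial.C := by
    apply MvPolynomial.ringHom_ext
    · intro r
      simp [γ, γ', π, π', σ]
    · intro i
      simp [γ, γ', π, π', σ, hg]
  have hγ : γ'.comp (σ : MvPolynomial (Fin k) (MvPolynomial (Fin n) R) →+*
      MvPolynomial (Fin n) (MvPolynomial (Fin k) R)) = γ := by
    apply MvPolynomial.ringHom_ext
    · intro p
      exact RingHom.congr_fun hγC p
    · intro j
      simp [γ, γ', π, π', σ, hf]
  unfold DerCA.IsRelPseudoCoherentVia
  rw [← isPseudoCoherent_restrictD_aeval_iff (α : MvPolynomial (Fin n) R →+* A) f K m,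
    ← isPseudoCoherent_restrictD_aeval_iff (β : MvPolynomial (Fin k) R →+* A) g K m]
  change IsPseudoCoherent _ m ((restrictD γ).obj K) ↔ IsPseudoCoherent _ m ((restrictD γ').obj K)
  rw [← hγ]
  exact isPseudoCoherent_restrictD_comp_equiv_iff _ σ.bijective γ' K m

end Independence

end Groth.Agent.Lib.Helper12
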