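import Groth.Agent.Lib.Helper12.DRingRestrictPerfect
import Groth.Prelude.Def_DerCA

/-!
# Relative pseudo-coherence: basic tools
-/

namespace Groth.Agent.Lib.Helper12

open CategoryTheory CategoryTheory.Limits DRing CategoryTheory.Pretriangulated

attribute [local instance] HasDerivedCategory.standard

universe u

variable {A B : Type u} [CommRing A] [CommRing B] (φ : A →+* B)

/-- restriction of scalars commutes with binary biproducts -/
lemma exists_restrictD_biprod_iso (K L : Dual.D B) :
    Nonempty ((restrictD φ).obj (K ⊞ L) ≅ (restrictD φ).obj K ⊞ (restrictD φ).obj L) := by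
  have hT := (restrictD φ).map_distinguished _ (binaryBiproductTriangle_distinguished K L)
  obtain ⟨e, -, -⟩ := exists_iso_binaryBiproduct_of_distTriang _ hT (by
    change (restrictD φ).map 0 ≫ _ = 0
    rw [CategoryTheory.Functor.map_zero, zero_comp])
  exact ⟨e⟩

/-- a finite module stays finite after restriction along a surjective ring map -/
lemma finite_resSc_of_surjective (hφ : Function.Surjective φ) (M : ModuleCat.{u} B)
    [h : Module.Finite B M] : Module.Finite A ((resSc φ).obj M) := by
  obtain ⟨s, hs⟩ := h.fg_top
  let N := (resSc φ).obj M
  let s' : Finset N := s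
  refine ⟨⟨s', ?_⟩⟩
  rw [eq_top_iff]
  rintro x -
  have hx : (show M from x) ∈ Submodule.span B (s : Set M) := by rw [hs]; trivial
  have key : ∀ y : M, y ∈ Submodule.span B (s : Set M) →
      (show N from y) ∈ Submodule.span A (s' : Set N) := by
    intro y hy
    induction hy using Submodule.span_induction with
    | mem y hy => exact Submodule.subset_span hy
    | zero => exact Submodule.zero_mem _
    | add y z _ _ hy hz => exact Submodule.add_mem _ hy hz
    | smul b y _ hy =>
      obtain ⟨a, rfl⟩ := hφ b
      have h1 := Submodule.smul_mem (Submodule.span A (s' : Set N)) a hy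
      rwa [ModuleCat.restrictScalars.smul_def] at h1
  exact key x hx

end Groth.Agent.Lib.Helper12
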