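import Groth.Agent.Lib.Helper12.DerCAPresentation

/-!
# API for relative pseudo-coherence (`DerCA.IsRelPseudoCoherent`)
-/

namespace Groth.Agent.Lib.Helper12

open CategoryTheory CategoryTheory.Limits DRing CategoryTheory.Pretriangulated

attribute [local instance] HasDerivedCategory.standard

universe u

section

variable (R A : Type u) [CommRing R] [CommRing A] [Algebra R A]

/-- a finite type algebra has a presentation by a polynomial ring in finitely many variables -/
lemma exists_presentation [Algebra.FiniteType R A] :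
    ∃ (n : ℕ) (α : MvPolynomial (Fin n) R →ₐ[R] A), Function.Surjective α :=
  Algebra.FiniteType.iff_quotient_mvPolynomial''.1 inferInstance

variable {R A}

/-- relative `m`-pseudo-coherence may be tested on any given presentation -/
theorem isRelPseudoCoherent_iff_via {n : ℕ} (α : MvPolynomial (Fin n) R →ₐ[R] A)
    (hα : Function.Surjective α) (m : ℤ) (K : Dual.D A) :
    DerCA.IsRelPseudoCoherent R A m K ↔ DerCA.IsRelPseudoCoherentVia α m K := by
  constructor
  · rintro ⟨k, β, hβ, h⟩
    exact (isRelPseudoCoherentVia_iff_of_surjective β hβ α hα K m).1 h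
  · intro h
    exact ⟨n, α, hα, h⟩

theorem isRelPseudoCoherentAll_iff_via {n : ℕ} (α : MvPolynomial (Fin n) R →ₐ[R] A)
    (hα : Function.Surjective α) (K : Dual.D A) :
    DerCA.IsRelPseudoCoherentAll R A K ↔ ∀ m, DerCA.IsRelPseudoCoherentVia α m K :=
  forall_congr' fun m => isRelPseudoCoherent_iff_via α hα m K

/-- relative version of two-out-of-three -/
theorem isRelPseudoCoherent_two_out_of_three [Algebra.FiniteType R A]
    (T : Triangle (Dual.D A)) (hT : T ∈ distTriang (Dual.D A)) (m : ℤ) :
    (DerCA.IsRelPseudoCoherent R A (m + 1) T.obj₁ → DerCA.IsRelPseudoCoherent R A m T.obj₂ →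
        DerCA.IsRelPseudoCoherent R A m T.obj₃) ∧
      (DerCA.IsRelPseudoCoherent R A m T.obj₁ → DerCA.IsRelPseudoCoherent R A m T.obj₃ →
        DerCA.IsRelPseudoCoherent R A m T.obj₂) ∧
      (DerCA.IsRelPseudoCoherent R A (m + 1) T.obj₂ → DerCA.IsRelPseudoCoherent R A m T.obj₃ →
        DerCA.IsRelPseudoCoherent R A (m + 1) T.obj₁) := by
  obtain ⟨n, α, hα⟩ := exists_presentation R A
  simp only [isRelPseudoCoherent_iff_via α hα]
  have hT' := (restrictD (α : MvPolynomial (Fin n) R →+* A)).map_distinguished T hT
  exact isPseudoCoherent_two_out_of_three _ hT' m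

end

end Groth.Agent.Lib.Helper12
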