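import Groth.Agent.Lib.Helper12.DRingPerfect
import Groth.Agent.Lib.Helper12.DRingRestrict
import Groth.Prelude.Def_DualSh
import Mathlib.RingTheory.Flat.Stability

/-!
# Relatively perfect objects (`Dual2.IsRelPerfect`)
-/

namespace Groth.Agent.Lib.Helper12

open CategoryTheory CategoryTheory.Limits DRing CategoryTheory.Pretriangulated

attribute [local instance] HasDerivedCategory.standard

universe u

section

variable {R A : Type u} [CommRing R] [CommRing A] [Algebra R A]

/-- restriction of scalars of a flat module along a flat ring map is flat -/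
lemma flat_resSc_of_flat [Module.Flat R A] (N : ModuleCat.{u} A) [Module.Flat A N] :
    Module.Flat R ((resSc (algebraMap R A)).obj N) := by
  letI : Module R N := Module.compHom N (algebraMap R A)
  haveI : IsScalarTower R A N := IsScalarTower.of_algebraMap_smul fun _ _ => rfl
  exact Module.Flat.trans R A N

/-- the restriction of scalars of a bounded complex of flat modules along a flat ring map has finite
tor dimension -/
lemma hasTorAmplitudeIn_restrictD_toD [Module.Flat R A] (E : Cx A) (a b : ℤ)
    (hE : VanishesOutside E a b) (hfl : TermwiseFlat E) :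
    HasTorAmplitudeIn R a b ((restrictD (algebraMap R A)).obj (toD E)) := by
  refine ⟨(restrictCx (algebraMap R A)).obj E, fun i hi => ?_, fun i => ?_,
    ⟨(restrictD_toD (algebraMap R A) E).symm⟩⟩
  · exact (resSc (algebraMap R A)).map_isZero (hE i hi)
  · have := hfl i
    exact flat_resSc_of_flat (E.X i)

/-- perfect objects over a flat `R`-algebra are `R`-perfect -/
theorem isRelPerfect_of_isPerfect [Module.Flat R A] (K : Dual.D A) (hK : IsPerfect A K) :
    Dual2.IsRelPerfect R A K := by
  refine ⟨isPseudoCoherent'_of_isPerfect hK, ?_⟩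
  obtain ⟨E, a, b, hE, hfp, ⟨e⟩⟩ := hK
  obtain ⟨F, hF1, hF2, ⟨e'⟩⟩ := hasTorAmplitudeIn_restrictD_toD (R := R) E a b hE (fun i => by
    have := (hfp i).2
    infer_instance)
  exact ⟨a, b, F, hF1, hF2, ⟨e' ≪≫ (restrictD (algebraMap R A)).mapIso e⟩⟩

end

end Groth.Agent.Lib.Helper12
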