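import Groth.Agent.Lib.Helper12.DerCARelAPI
import Groth.Agent.Lib.Helper12.DRingPCHomology

/-!
# Relative pseudo-coherence: termwise and cohomological criteria
-/

namespace Groth.Agent.Lib.Helper12

open CategoryTheory CategoryTheory.Limits DRing CategoryTheory.Pretriangulated

attribute [local instance] HasDerivedCategory.standard

universe u

section

variable {R A : Type u} [CommRing R] [CommRing A] [Algebra R A]

/-- relative pseudo-coherence of a module in terms of a presentation -/
theorem isRelPseudoCoherentModule_iff_via {n : ℕ} (α : MvPolynomial (Fin n) R →ₐ[R] A)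
    (hα : Function.Surjective α) (m : ℤ) (M : ModuleCat.{u} A) :
    DerCA.IsRelPseudoCoherentModule R A m M ↔
      IsPseudoCoherent (MvPolynomial (Fin n) R) m
        (Dual.inD (MvPolynomial (Fin n) R)
          ((resSc (α : MvPolynomial (Fin n) R →+* A)).obj M)) := by
  have h1 := isRelPseudoCoherent_iff_via α hα m (Dual.inD A M)
  have e := restrictD_inD (α : MvPolynomial (Fin n) R →+* A) M
  exact h1.trans ⟨isPseudoCoherent_of_iso' e, isPseudoCoherent_of_iso' e.symm⟩

/-- termwise criterion, relative version -/
theorem isRelPseudoCoherent_toD_of_termwise [Algebra.FiniteType R A] (m : ℤ) (K : Cx A) (b : ℤ)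
    (hb : VanishesAbove K b)
    (h : ∀ i : ℤ, DerCA.IsRelPseudoCoherentModule R A (m - i) (K.X i)) :
    DerCA.IsRelPseudoCoherent R A m (toD K) := by
  obtain ⟨n, α, hα⟩ := exists_presentation R A
  rw [isRelPseudoCoherent_iff_via α hα]
  refine isPseudoCoherent_of_iso' (restrictD_toD (α : MvPolynomial (Fin n) R →+* A) K).symm ?_
  refine isPseudoCoherent_toD_of_termwise m _ b
    (fun i hi => (resSc (α : MvPolynomial (Fin n) R →+* A)).map_isZero (hb i hi)) (fun i => ?_)
  exact (isRelPseudoCoherentModule_iff_via α hα (m - i) (K.X i)).1 (h i)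

/-- cohomological criterion, relative version -/
theorem isRelPseudoCoherent_of_homology [Algebra.FiniteType R A] (m : ℤ) (K : Dual.D A) (b : ℤ)
    (hK : ∀ i : ℤ, b < i → IsZero ((HF A i).obj K))
    (h : ∀ i : ℤ, m ≤ i → DerCA.IsRelPseudoCoherentModule R A (m - i) ((HF A i).obj K)) :
    DerCA.IsRelPseudoCoherent R A m K := by
  obtain ⟨n, α, hα⟩ := exists_presentation R A
  rw [isRelPseudoCoherent_iff_via α hα]
  refine isPseudoCoherent_of_homology m _ b
    (fun i hi => (isZero_HF_restrictD_iff (α : MvPolynomial (Fin n) R →+* A) K i).2 (hK i hi))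
    (fun i hi => ?_)
  have h1 := (isRelPseudoCoherentModule_iff_via α hα (m - i) ((HF A i).obj K)).1 (h i hi)
  exact isPseudoCoherent_of_iso'
    (inDMapIso ((HFRestrictIso (α : MvPolynomial (Fin n) R →+* A) i).app K)).symm h1

end

end Groth.Agent.Lib.Helper12
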