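import Groth.Agent.Lib.Helper12.DerivedComputeKh
import Groth.Agent.Lib.Helper12.DRingPCRep

/-!
# Computing derived base change `K ⊗^L_A B` on K-projective complexes
-/

namespace Groth.Agent.Lib.Helper12

open CategoryTheory CategoryTheory.Limits DRing

attribute [local instance] HasDerivedCategory.standard

universe u

variable {A B : Type u} [CommRing A] [CommRing B] (φ : A →+* B)

/-- termwise extension of scalars of a complex along a ring homomorphism -/
noncomputable abbrev bcCx (P : Cx A) : Cx B :=
  ((ModuleCat.extendScalars.{u, u, u} φ).mapHomologicalComplex (ComplexShape.up ℤ)).obj P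

/-- termwise extension of scalars of a chain map -/
noncomputable abbrev bcCxMap {P P' : Cx A} (f : P ⟶ P') : bcCx φ P ⟶ bcCx φ P' :=
  ((ModuleCat.extendScalars.{u, u, u} φ).mapHomologicalComplex (ComplexShape.up ℤ)).map f

variable [HasLBaseChange φ]

/-- **derived base change is computed termwise on K-projective complexes** -/
noncomputable def LBaseChangeIso (P : Cx A) [P.IsKProjective] :
    (LBaseChange φ).obj (toD P) ≅ toD (bcCx φ P) :=
  derivedTermwiseIso (ModuleCat.extendScalars.{u, u, u} φ) P

lemma LBaseChangeIso_hom_naturality {P P' : Cx A} [P.IsKProjective] [P'.IsKProjective]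
    (f : P ⟶ P') :
    (LBaseChange φ).map (DerivedCategory.Q.map f) ≫ (LBaseChangeIso φ P').hom =
      (LBaseChangeIso φ P).hom ≫ DerivedCategory.Q.map (bcCxMap φ f) :=
  derivedTermwiseIso_hom_naturality (ModuleCat.extendScalars.{u, u, u} φ) f

end Groth.Agent.Lib.Helper12
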