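import Groth.Agent.Lib.Helper12.DerivedSingleHom
import Mathlib.Algebra.Category.ModuleCat.Adjunctions
import Mathlib.CategoryTheory.Functor.Derived.LeftDerived
import Mathlib.Logic.Small.Basic

/-!
# Computing total left derived functors with values in `D(B)` on projective-like objects

Let `L : C ⥤ D` be a localization functor, `F : C ⥤ D(B)` and `(LF, ε)` a left derived functor
of `F` (a right Kan extension of `F` along `L`).  If `P : C` is such that every morphism
`L P ⟶ L X` lifts to `P ⟶ X` and `F` identifies two lifts of the same morphism, then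
`ε_P : LF (L P) ⟶ F P` is an isomorphism.  No resolutions are needed: one tests the universal
property of the Kan extension against the functors `Y ↦ (free module on Hom(L P, Y))[-k]`.
-/

namespace Groth.Agent.Lib.Helper12

open CategoryTheory CategoryTheory.Limits DRing

attribute [local instance] HasDerivedCategory.standard

universe u v₁ u₁ v₂ u₂

variable {B : Type u} [CommRing B]

section ShrinkHom

variable {D : Type u₂} [Category.{v₂} D] (Y₀ : D) [∀ Y : D, Small.{u} (Y₀ ⟶ Y)]

/-- the corepresentable functor `Hom(Y₀, -)`, shrunk to `Type u` -/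
noncomputable def shrinkHom : D ⥤ Type u where
  obj Y := Shrink.{u} (Y₀ ⟶ Y)
  map y := TypeCat.ofHom (fun s => equivShrink _ (((equivShrink _).symm s) ≫ y))
  map_id Y := by
    ext s
    simp
  map_comp y y' := by
    ext s
    simp

lemma shrinkHom_map_apply {Y Y' : D} (y : Y ⟶ Y') (s : Shrink.{u} (Y₀ ⟶ Y)) :
    (equivShrink _).symm ((shrinkHom Y₀).map y s) = ((equivShrink _).symm s) ≫ y :=
  Equiv.symm_apply_apply _ _

/-- the test functor `Y ↦ (free B-module on Hom(Y₀, Y))[-k]` -/
noncomputable def testFunctor (k : ℤ) : D ⥤ Dual.D B :=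
  shrinkHom Y₀ ⋙ ModuleCat.free B ⋙
    HomologicalComplex.single (ModuleCat.{u} B) (ComplexShape.up ℤ) k ⋙ DerivedCategory.Q

instance projective_free (S : Type u) : Module.Projective B ((ModuleCat.free B).obj S) :=
  inferInstanceAs (Module.Projective B (S →₀ B))

/-- the value of the test functor, with clean types -/
noncomputable abbrev testObj (k : ℤ) (Y : D) : Dual.D B :=
  toD (singleCx k ((ModuleCat.free B).obj (Shrink.{u} (Y₀ ⟶ Y))))

/-- the action of the test functor on morphisms, with clean types -/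
noncomputable abbrev testMap (k : ℤ) {Y Y' : D} (y : Y ⟶ Y') :
    testObj (B := B) Y₀ k Y ⟶ testObj (B := B) Y₀ k Y' :=
  DerivedCategory.Q.map ((HomologicalComplex.single (ModuleCat.{u} B) (ComplexShape.up ℤ) k).map
    ((ModuleCat.free B).map ((shrinkHom Y₀).map y)))

lemma testFunctor_map (k : ℤ) {Y Y' : D} (y : Y ⟶ Y') :
    (testFunctor (B := B) Y₀ k).map y = testMap Y₀ k y := rfl

variable {Y₀}

/-- the function `Hom(Y₀, Y) → H^k(Z)` classifying a morphism `testObj Y ⟶ Z` -/
noncomputable def testΘ (k : ℤ) {Y : D} {Z : Dual.D B} (g : testObj (B := B) Y₀ k Y ⟶ Z)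
    (s : Shrink.{u} (Y₀ ⟶ Y)) : (HF B k).obj Z :=
  (homClass (k := k) (M := (ModuleCat.free B).obj (Shrink.{u} (Y₀ ⟶ Y))) g).hom
    (ModuleCat.freeMk s)

lemma testΘ_comp (k : ℤ) {Y : D} {Z Z' : Dual.D B}
    (g : testObj (B := B) Y₀ k Y ⟶ Z) (f : Z ⟶ Z') (s : Shrink.{u} (Y₀ ⟶ Y)) :
    testΘ k (g ≫ f) s = ((HF B k).map f).hom (testΘ k g s) := by
  dsimp only [testΘ]
  rw [homClass_comp]
  rfl

lemma testΘ_map (k : ℤ) {Y Y' : D} (y : Y ⟶ Y') {Z : Dual.D B}
    (g : testObj (B := B) Y₀ k Y' ⟶ Z) (s : Shrink.{u} (Y₀ ⟶ Y)) :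
    testΘ k (testMap Y₀ k y ≫ g) s = testΘ k g ((shrinkHom Y₀).map y s) := by
  dsimp only [testΘ, testMap]
  rw [homClass_precomp, ModuleCat.hom_comp, LinearMap.comp_apply]
  congr 1
  exact ModuleCat.free_map_apply _ _

lemma testΘ_zero (k : ℤ) {Y : D} {Z : Dual.D B} (s : Shrink.{u} (Y₀ ⟶ Y)) :
    testΘ (B := B) k (0 : testObj (B := B) Y₀ k Y ⟶ Z) s = 0 := by
  dsimp only [testΘ]
  rw [(homClass_eq_zero_iff _).2 rfl]
  rfl

lemma testΘ_injective (k : ℤ) {Y : D} {Z : Dual.D B} :
    Function.Injective (testΘ (B := B) (Y₀ := Y₀) k (Y := Y) (Z := Z)) := by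
  intro g g' h
  apply homClass_injective
  apply ModuleCat.free_hom_ext
  intro s
  exact congrFun h s

lemma testΘ_surjective (k : ℤ) {Y : D} {Z : Dual.D B} :
    Function.Surjective (testΘ (B := B) (Y₀ := Y₀) k (Y := Y) (Z := Z)) := by
  intro τ
  obtain ⟨g, hg⟩ := homClass_surjective (k := k)
    (M := (ModuleCat.free B).obj (Shrink.{u} (Y₀ ⟶ Y))) Z
    (ModuleCat.freeDesc (TypeCat.ofHom τ))
  refine ⟨g, ?_⟩
  funext s
  dsimp only [testΘ]
  rw [hg]
  exact ModuleCat.freeDesc_apply _ _

end ShrinkHom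

section Abstract

variable {C : Type u₁} [Category.{v₁} C] {D : Type u₂} [Category.{v₂} D]

/-- a chosen lift of a morphism `L P ⟶ L X` -/
lemma exists_liftHom (L : C ⥤ D) (P : C) [∀ Y : D, Small.{u} (L.obj P ⟶ Y)]
    (hsurj : ∀ X : C, Function.Surjective (fun s : P ⟶ X => L.map s))
    (X : C) (s : Shrink.{u} (L.obj P ⟶ L.obj X)) :
    ∃ t : P ⟶ X, L.map t = (equivShrink _).symm s :=
  hsurj X ((equivShrink _).symm s)

theorem surjective_HF_map_counit (L : C ⥤ D) (W : MorphismProperty C) [L.IsLocalization W]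
    (F : C ⥤ Dual.D B) (LF : D ⥤ Dual.D B) (ε : L ⋙ LF ⟶ F) [LF.IsLeftDerivedFunctor ε W]
    (P : C) [∀ Y : D, Small.{u} (L.obj P ⟶ Y)]
    (hsurj : ∀ X : C, Function.Surjective (fun s : P ⟶ X => L.map s))
    (hF : ∀ (X : C) (s s' : P ⟶ X), L.map s = L.map s' → F.map s = F.map s') (k : ℤ) :
    Function.Surjective ((HF B k).map (ε.app P)).hom := by
  intro x
  choose lift hlift using exists_liftHom.{u} L P hsurj
  have hβ : ∀ X : C, ∃ b : testObj (B := B) (L.obj P) k (L.obj X) ⟶ F.obj X,
      ∀ s, testΘ k b s = ((HF B k).map (F.map (lift X s))).hom x := fun X => by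
    obtain ⟨b, hb⟩ := testΘ_surjective (B := B) (Y₀ := L.obj P) k (Y := L.obj X) (Z := F.obj X)
      (fun s => ((HF B k).map (F.map (lift X s))).hom x)
    exact ⟨b, congrFun hb⟩
  choose b hb using hβ
  let β : L ⋙ testFunctor (B := B) (L.obj P) k ⟶ F :=
    { app := b
      naturality := fun X X' u => by
        apply testΘ_injective (B := B) (Y₀ := L.obj P) k
        funext s
        have h1 : testΘ k (testMap (L.obj P) k (L.map u) ≫ b X') s =
            testΘ k (b X') ((shrinkHom (L.obj P)).map (L.map u) s) := testΘ_map k (L.map u) (b X') s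
        have h2 : testΘ k (b X ≫ F.map u) s = ((HF B k).map (F.map u)).hom (testΘ k (b X) s) :=
          testΘ_comp k (b X) (F.map u) s
        refine h1.trans (Eq.trans ?_ h2.symm)
        rw [hb X s]
        refine (hb X' _).trans ?_
        have h3 : F.map (lift X' ((shrinkHom (L.obj P)).map (L.map u) s)) =
            F.map (lift X s) ≫ F.map u := by
          rw [← F.map_comp]
          apply hF
          refine (hlift X' _).trans ?_
          rw [L.map_comp, hlift X s]
          exact shrinkHom_map_apply _ _ _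
        rw [h3, CategoryTheory.Functor.map_comp]
        rfl }
  have hfac : (LF.leftDerivedLift ε W _ β).app (L.obj P) ≫ ε.app P = b P :=
    LF.leftDerived_fac_app ε W _ β P
  let g : testObj (B := B) (L.obj P) k (L.obj P) ⟶ LF.obj (L.obj P) :=
    (LF.leftDerivedLift ε W _ β).app (L.obj P)
  refine ⟨testΘ k g (equivShrink _ (𝟙 _)), ?_⟩
  have h1 : ((HF B k).map (ε.app P)).hom (testΘ k g (equivShrink _ (𝟙 _))) =
      testΘ k (g ≫ ε.app P) (equivShrink _ (𝟙 _)) := (testΘ_comp k g (ε.app P) _).symm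
  rw [h1]
  have h2 : g ≫ ε.app P = b P := hfac
  rw [h2, hb]
  have h3 : F.map (lift P (equivShrink _ (𝟙 _))) = 𝟙 _ := by
    rw [← F.map_id]
    apply hF
    rw [hlift, L.map_id]
    exact Equiv.symm_apply_apply _ _
  rw [h3, CategoryTheory.Functor.map_id]
  rfl

theorem injective_HF_map_counit (L : C ⥤ D) (W : MorphismProperty C) [L.IsLocalization W]
    (F : C ⥤ Dual.D B) (LF : D ⥤ Dual.D B) (ε : L ⋙ LF ⟶ F) [LF.IsLeftDerivedFunctor ε W]
    (P : C) [∀ Y : D, Small.{u} (L.obj P ⟶ Y)]
    (hsurj : ∀ X : C, Function.Surjective (fun s : P ⟶ X => L.map s)) (k : ℤ) :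
    Function.Injective ((HF B k).map (ε.app P)).hom := by
  rw [injective_iff_map_eq_zero]
  intro y hy
  choose lift hlift using exists_liftHom.{u} L P hsurj
  have hγ : ∀ Y : D, ∃ c : testObj (B := B) (L.obj P) k Y ⟶ LF.obj Y,
      ∀ s, testΘ k c s = ((HF B k).map (LF.map ((equivShrink _).symm s))).hom y := fun Y => by
    obtain ⟨c, hc⟩ := testΘ_surjective (B := B) (Y₀ := L.obj P) k (Y := Y) (Z := LF.obj Y)
      (fun s => ((HF B k).map (LF.map ((equivShrink _).symm s))).hom y)
    exact ⟨c, congrFun hc⟩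
  choose c hc using hγ
  let γ : testFunctor (B := B) (L.obj P) k ⟶ LF :=
    { app := c
      naturality := fun Y Y' v => by
        apply testΘ_injective (B := B) (Y₀ := L.obj P) k
        funext s
        have h1 : testΘ k (testMap (L.obj P) k v ≫ c Y') s =
            testΘ k (c Y') ((shrinkHom (L.obj P)).map v s) := testΘ_map k v (c Y') s
        have h2 : testΘ k (c Y ≫ LF.map v) s = ((HF B k).map (LF.map v)).hom (testΘ k (c Y) s) :=
          testΘ_comp k (c Y) (LF.map v) s
        refine h1.trans (Eq.trans ?_ h2.symm)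
        rw [hc Y s]
        refine (hc Y' _).trans ?_
        have h3 : (equivShrink (L.obj P ⟶ Y')).symm ((shrinkHom (L.obj P)).map v s) =
            (equivShrink _).symm s ≫ v := shrinkHom_map_apply _ _ _
        rw [h3, CategoryTheory.Functor.map_comp, CategoryTheory.Functor.map_comp]
        rfl }
  have hγ0 : γ = 0 := by
    refine LF.leftDerived_ext ε W _ γ 0 ?_
    ext X
    apply testΘ_injective (B := B) (Y₀ := L.obj P) k
    funext s
    have h1 : testΘ k (c (L.obj X) ≫ ε.app X) s =
        ((HF B k).map (ε.app X)).hom (testΘ k (c (L.obj X)) s) := testΘ_comp k _ _ s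
    have h2 : testΘ k ((0 : testObj (B := B) (L.obj P) k (L.obj X) ⟶ LF.obj (L.obj X)) ≫ ε.app X) s
        = 0 := by
      rw [zero_comp]
      exact testΘ_zero k s
    refine h1.trans (Eq.trans ?_ h2.symm)
    rw [hc, ← hlift X s]
    have h3 : LF.map (L.map (lift X s)) ≫ ε.app X = ε.app P ≫ F.map (lift X s) :=
      ε.naturality (lift X s)
    have h4 : ((HF B k).map (ε.app X)).hom
        (((HF B k).map (LF.map (L.map (lift X s)))).hom y) =
        ((HF B k).map (LF.map (L.map (lift X s)) ≫ ε.app X)).hom y := by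
      rw [CategoryTheory.Functor.map_comp]
      rfl
    rw [h4, h3, CategoryTheory.Functor.map_comp, ModuleCat.hom_comp, LinearMap.comp_apply, hy,
      map_zero]
  have h5 : testΘ k (c (L.obj P)) (equivShrink _ (𝟙 _)) = y := by
    rw [hc, Equiv.symm_apply_apply, CategoryTheory.Functor.map_id,
      CategoryTheory.Functor.map_id]
    rfl
  have h6 : c (L.obj P) = 0 := by
    have := congrArg (fun t => t.app (L.obj P)) hγ0
    exact this
  rw [← h5, h6]
  exact testΘ_zero k _

/-- **Computation of a total left derived functor on projective-like objects.** -/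
theorem isIso_counit_app (L : C ⥤ D) (W : MorphismProperty C) [L.IsLocalization W]
    (F : C ⥤ Dual.D B) (LF : D ⥤ Dual.D B) (ε : L ⋙ LF ⟶ F) [LF.IsLeftDerivedFunctor ε W]
    (P : C) [∀ Y : D, Small.{u} (L.obj P ⟶ Y)]
    (hsurj : ∀ X : C, Function.Surjective (fun s : P ⟶ X => L.map s))
    (hF : ∀ (X : C) (s s' : P ⟶ X), L.map s = L.map s' → F.map s = F.map s') :
    IsIso (ε.app P) := by
  rw [DerivedCategory.isIso_iff]
  intro k
  rw [ConcreteCategory.isIso_iff_bijective]
  exact ⟨injective_HF_map_counit L W F LF ε P hsurj k,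
    surjective_HF_map_counit L W F LF ε P hsurj hF k⟩

end Abstract

end Groth.Agent.Lib.Helper12
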