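import Groth.Agent.Lib.Helper12.DerivedCompute
import Groth.Prelude.Def_DDual2
import Mathlib.Algebra.Homology.DerivedCategory.KProjective

/-!
# Computing left derived functors `K(A) ⥤ D(B)` on K-projective complexes
-/

namespace Groth.Agent.Lib.Helper12

open CategoryTheory CategoryTheory.Limits DRing

attribute [local instance] HasDerivedCategory.standard

universe u

variable {A B : Type u} [CommRing A] [CommRing B]

/-- abbreviation: the homotopy category of complexes of `A`-modules -/
abbrev Kh (A : Type u) [CommRing A] : Type (u + 1) :=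
  HomotopyCategory (ModuleCat.{u} A) (ComplexShape.up ℤ)

/-- abbreviation: quasi-isomorphisms in the homotopy category -/
abbrev WKh (A : Type u) [CommRing A] : MorphismProperty (Kh A) :=
  HomotopyCategory.quasiIso (ModuleCat.{u} A) (ComplexShape.up ℤ)

instance small_hom_Qh (P : Cx A) [P.IsKProjective] (Y : Dual.D A) :
    Small.{u} ((DerivedCategory.Qh.obj ((HomotopyCategory.quotient _ _).obj P) : Dual.D A) ⟶ Y) := by
  let X : Kh A := DerivedCategory.Qh.objPreimage Y
  let e : DerivedCategory.Qh.obj X ≅ Y := DerivedCategory.Qh.objObjPreimageIso Y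
  let f : ((HomotopyCategory.quotient _ _).obj P ⟶ X) →
      ((DerivedCategory.Qh.obj ((HomotopyCategory.quotient _ _).obj P) : Dual.D A) ⟶ Y) :=
    fun s => DerivedCategory.Qh.map s ≫ e.hom
  refine small_of_surjective (f := f) ?_
  intro t
  obtain ⟨s, hs⟩ := (CochainComplex.IsKProjective.Qh_map_bijective P X).surjective (t ≫ e.inv)
  exact ⟨s, by simp [f, hs]⟩

/-- **Computation of a left derived functor on a K-projective complex** (functors out of `K(A)`) -/
theorem isIso_totalLeftDerivedCounit_app_of_isKProjective (F : Kh A ⥤ Dual.D B)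
    [F.HasLeftDerivedFunctor (WKh A)] (P : Cx A) [P.IsKProjective] :
    IsIso ((F.totalLeftDerivedCounit DerivedCategory.Qh (WKh A)).app
      ((HomotopyCategory.quotient _ _).obj P)) := by
  refine isIso_counit_app DerivedCategory.Qh (WKh A) F _ _ ((HomotopyCategory.quotient _ _).obj P)
    ?_ ?_
  · intro X
    exact (CochainComplex.IsKProjective.Qh_map_bijective P X).surjective
  · intro X s s' h
    rw [(CochainComplex.IsKProjective.Qh_map_bijective P X).injective h]

section Termwise

variable (G : ModuleCat.{u} A ⥤ ModuleCat.{u} B) [G.Additive]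

/-- the functor `K(A) ⥤ D(B)` induced termwise by an additive functor -/
noncomputable abbrev termwiseKh : Kh A ⥤ Dual.D B :=
  G.mapHomotopyCategory (ComplexShape.up ℤ) ⋙ DerivedCategory.Qh

/-- on (classes of) complexes, `termwiseKh G` is `G` applied termwise -/
noncomputable def termwiseKhFactors :
    HomotopyCategory.quotient _ _ ⋙ termwiseKh G ≅
      G.mapHomologicalComplex (ComplexShape.up ℤ) ⋙ DerivedCategory.Q :=
  (Functor.associator _ _ _).symm ≪≫
    Functor.isoWhiskerRight (G.mapHomotopyCategoryFactors _) DerivedCategory.Qh ≪≫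
    Functor.associator _ _ _ ≪≫
    Functor.isoWhiskerLeft _ (DerivedCategory.quotientCompQhIso _)

variable [(termwiseKh G).HasLeftDerivedFunctor (WKh A)]

/-- the total left derived functor of `termwiseKh G` -/
noncomputable abbrev derivedTermwise : Dual.D A ⥤ Dual.D B :=
  (termwiseKh G).totalLeftDerived DerivedCategory.Qh (WKh A)

/-- **the left derived functor of a termwise functor is computed termwise on K-projective
complexes** -/
noncomputable def derivedTermwiseIso (P : Cx A) [P.IsKProjective] :
    (derivedTermwise G).obj (toD P) ≅ toD ((G.mapHomologicalComplex (ComplexShape.up ℤ)).obj P) :=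
  (derivedTermwise G).mapIso ((DerivedCategory.quotientCompQhIso _).app P).symm ≪≫
    @asIso _ _ _ _ (((termwiseKh G).totalLeftDerivedCounit DerivedCategory.Qh (WKh A)).app
      ((HomotopyCategory.quotient _ _).obj P))
      (isIso_totalLeftDerivedCounit_app_of_isKProjective (termwiseKh G) P) ≪≫
    (termwiseKhFactors G).app P

lemma derivedTermwiseIso_hom_naturality {P P' : Cx A} [P.IsKProjective] [P'.IsKProjective]
    (f : P ⟶ P') :
    (derivedTermwise G).map (DerivedCategory.Q.map f) ≫ (derivedTermwiseIso G P').hom =
      (derivedTermwiseIso G P).hom ≫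
        DerivedCategory.Q.map ((G.mapHomologicalComplex (ComplexShape.up ℤ)).map f) := by
  dsimp only [derivedTermwiseIso, Iso.trans_hom, Functor.mapIso_hom, Iso.symm_hom, asIso_hom,
    Iso.app_inv, Iso.app_hom]
  have h1 := DerivedCategory.quotientCompQhIso_inv_naturality f
  have h2 := ((termwiseKh G).totalLeftDerivedCounit DerivedCategory.Qh (WKh A)).naturality
    ((HomotopyCategory.quotient _ _).map f)
  have h3 := (termwiseKhFactors G).hom.naturality f
  simp only [Functor.comp_map] at h2 h3
  rw [← Category.assoc, ← CategoryTheory.Functor.map_comp, h1, CategoryTheory.Functor.map_comp,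
    Category.assoc, reassoc_of% h2, h3]
  simp only [Category.assoc]

end Termwise

end Groth.Agent.Lib.Helper12
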