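import Mathlib

/-!
# Descending dependent recursion over `ℤ`

Given a family of types `T j` (`j : ℤ`) and a relation `P j : T j → T (j+1) → Prop`, if we have a
family which is good in all large degrees and every family good in degrees `> m` can be modified
in degree `m` to become good in degrees `≥ m`, then there is a family good in all degrees.
-/

set_option autoImplicit false

namespace Groth.Agent.Lib.Helper12

universe u

theorem exists_family_of_descending_step {T : ℤ → Type u} (P : ∀ j, T j → T (j + 1) → Prop)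
    (N : ℤ) (g₀ : ∀ j, T j) (h₀ : ∀ j, N ≤ j → P j (g₀ j) (g₀ (j + 1)))
    (step : ∀ (m : ℤ) (g : ∀ j, T j), (∀ j, m + 1 ≤ j → P j (g j) (g (j + 1))) →
      ∃ t : T m, P m t (g (m + 1))) :
    ∃ g : ∀ j, T j, ∀ j, P j (g j) (g (j + 1)) := by
  classical
  -- the sequence of successive approximations
  let S : ∀ k : ℕ, {g : ∀ j, T j // ∀ j, N - k ≤ j → P j (g j) (g (j + 1))} := fun k =>
    Nat.rec (motive := fun k => {g : ∀ j, T j // ∀ j, N - k ≤ j → P j (g j) (g (j + 1))})
      ⟨g₀, fun j hj => h₀ j (by simpa using hj)⟩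
      (fun k Sk => by
        have hk : ∀ j, (N - (k + 1 : ℕ)) + 1 ≤ j → P j (Sk.1 j) (Sk.1 (j + 1)) := by
          intro j hj
          exact Sk.2 j (by push_cast at hj; omega)
        let t := Classical.choose (step (N - (k + 1 : ℕ)) Sk.1 hk)
        have ht := Classical.choose_spec (step (N - (k + 1 : ℕ)) Sk.1 hk)
        refine ⟨Function.update Sk.1 (N - (k + 1 : ℕ)) t, ?_⟩
        intro j hj
        by_cases hjm : j = N - (k + 1 : ℕ)
        · subst hjm
          rw [Function.update_self, Function.update_of_ne (by omega)]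
          exact ht
        · rw [Function.update_of_ne hjm, Function.update_of_ne (by omega)]
          exact Sk.2 j (by push_cast at hj hjm ⊢; omega)) k
  have hS_succ : ∀ (k : ℕ) (j : ℤ), N - k ≤ j → (S (k + 1)).1 j = (S k).1 j := by
    intro k j hj
    show (Function.update (S k).1 (N - (k + 1 : ℕ)) _) j = _
    rw [Function.update_of_ne (by push_cast; omega)]
  have hS_stab : ∀ (k i : ℕ) (j : ℤ), N - k ≤ j → (S (k + i)).1 j = (S k).1 j := by
    intro k i
    induction i with
    | zero => intro j _; rfl
    | succ i ih =>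
      intro j hj
      rw [← add_assoc, hS_succ (k + i) j (by push_cast; omega), ih j hj]
  have hS_stab' : ∀ (k k' : ℕ) (j : ℤ), k ≤ k' → N - k ≤ j → (S k').1 j = (S k).1 j := by
    intro k k' j hkk' hj
    obtain ⟨i, rfl⟩ := Nat.exists_eq_add_of_le hkk'
    exact hS_stab k i j hj
  refine ⟨fun j => (S (N - j).toNat).1 j, ?_⟩
  intro j
  have h1 : N - ((N - j).toNat : ℤ) ≤ j := by omega
  have h2 : N - ((N - (j + 1)).toNat : ℤ) ≤ j + 1 := by omega
  have h3 : (S (N - (j + 1)).toNat).1 (j + 1) = (S (N - j).toNat).1 (j + 1) :=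
    (hS_stab' (N - (j + 1)).toNat (N - j).toNat (j + 1) (by omega) h2).symm
  show P j ((S (N - j).toNat).1 j) ((S (N - (j + 1)).toNat).1 (j + 1))
  rw [h3]
  exact (S (N - j).toNat).2 j h1

end Groth.Agent.Lib.Helper12
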