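import Mathlib
import Groth.Agent.Lib.Helper12.BassCriterion
import Groth.Agent.Lib.Helper12.DualizingBC
import Groth.Agent.Lib.Helper12.DRingCanTrunc

/-!
# A Noetherian ring with a dualizing complex has finite Krull dimension (helper12)

For a Noetherian local ring `R` with dualizing complex `ω`, let `t` be the top degree in which
`Ext^i(κ, ω) ≠ 0`.  Passing to the localization at a non-maximal prime strictly decreases `t`
(Bass's lemma + Nakayama), while the lowest cohomological degree of `ω` does not decrease.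
-/

set_option autoImplicit false
universe u
open CategoryTheory CategoryTheory.Limits

attribute [local instance] HasDerivedCategory.standard

namespace Groth.Agent.Lib.Helper12.DualDim
open Groth.Agent.Lib.Helper12 Groth.Agent.Lib.Helper12.FlatHomBC DRing Pretriangulated
open Groth.Agent.Lib.Helper12.Bass
open Groth.Agent.Lib.Helper36.InjAmp

variable {A : Type u} [CommRing A]

/-- Nakayama step: if `Ext^i(M, K) = 0` for all finite `M` and `i > t`, `p` is a prime and
`x ∉ p` lies in the Jacobson radical, then `Ext^t(A/p, K) = 0`. -/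
theorem subsingleton_hom_quotient_prime [IsNoetherianRing A] (K : Dual.D A) (a₀ : ℤ)
    (hlow : ∀ j : ℤ, j < a₀ → IsZero ((HF A j).obj K))
    (hfin : ∀ j : ℤ, Module.Finite A ((HF A j).obj K)) (t : ℤ)
    (hall : ∀ (M : Type u) [AddCommGroup M] [Module A M] [Module.Finite A M], VanishAbove K t M)
    (p : Ideal A) (hp : p.IsPrime) (x : A) (hxp : x ∉ p) (hxJ : x ∈ (⊥ : Ideal A).jacobson) :
    Subsingleton (Dual.inD A (A ⧸ p) ⟶ K⟦t⟧) := by
  have hTfin : Module.Finite A (Dual.inD A (A ⧸ p) ⟶ K⟦t⟧) :=
    HomFinite.finite_hom _ (K⟦t⟧) (DualizingBC.isPseudoCoherent'_inD (A ⧸ p)) (a₀ - t)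
      (fun j hj => isZero_HF_shift K t j (hlow _ (by omega)))
      (fun j => HomFinite.finite_HF_shift K t j (hfin _))
  let R : Submodule A (A ⧸ p) := LinearMap.range (LinearMap.lsmul A (A ⧸ p) x)
  have hN : VanishAbove K t ((A ⧸ p) ⧸ R) := hall _
  have hsurj : ∀ f : Dual.inD A (A ⧸ p) ⟶ K⟦t⟧,
      ∃ z : Dual.inD A (A ⧸ p) ⟶ K⟦t⟧, f = x • z := by
    intro f
    let S : ShortComplex (ModuleCat.{u} A) :=
      ShortComplex.mk (ModuleCat.ofHom (LinearMap.lsmul A (A ⧸ p) x)) (ModuleCat.ofHom R.mkQ) (by
        refine ModuleCat.hom_ext (LinearMap.ext fun z => ?_)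
        show R.mkQ (LinearMap.lsmul A (A ⧸ p) x z) = 0
        rw [Submodule.mkQ_apply, Submodule.Quotient.mk_eq_zero]
        exact ⟨z, rfl⟩)
    have hS : S.ShortExact := by
      have hmono : Mono S.f := by
        rw [ModuleCat.mono_iff_injective]
        show Function.Injective (LinearMap.lsmul A (A ⧸ p) x)
        rw [← LinearMap.ker_eq_bot, LinearMap.ker_eq_bot']
        intro z hz
        obtain ⟨z, rfl⟩ := Ideal.Quotient.mk_surjective z
        have h1 : Ideal.Quotient.mk p (x * z) = 0 := by
          rw [map_mul]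
          exact hz
        rw [Ideal.Quotient.eq_zero_iff_mem] at h1 ⊢
        exact (hp.mem_or_mem h1).resolve_left hxp
      have hepi : Epi S.g := (ModuleCat.epi_iff_surjective _).mpr R.mkQ_surjective
      refine ShortComplex.ShortExact.mk ?_
      rw [ShortComplex.moduleCat_exact_iff_range_eq_ker]
      show R = LinearMap.ker R.mkQ
      rw [Submodule.ker_mkQ]
    have hT := inv_rot_of_distTriang _ hS.singleTriangle_distinguished
    obtain ⟨z, hz⟩ := Triangle.yoneda_exact₂ _ hT f
      (hom_shift_neg_one_eq_zero _ _ t (fun g => by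
        have i3 : Subsingleton (hS.singleTriangle.obj₃ ⟶ K⟦t + 1⟧) := hN (t + 1) (by omega)
        exact Subsingleton.elim _ _) _)
    exact ⟨z, hz.trans (map_lsmul_comp x _ z)⟩
  have hbot : (⊤ : Submodule A (Dual.inD A (A ⧸ p) ⟶ K⟦t⟧)) = ⊥ :=
    Submodule.eq_bot_of_le_smul_of_le_jacobson_bot (Ideal.span {x}) _ hTfin.fg_top (by
      intro f _
      obtain ⟨z, rfl⟩ := hsurj f
      exact Submodule.smul_mem_smul (Ideal.mem_span_singleton_self x) trivial)
      ((Ideal.span_singleton_le_iff_mem _).mpr hxJ)
  refine ⟨fun f g => ?_⟩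
  have hf : f ∈ (⊥ : Submodule A (Dual.inD A (A ⧸ p) ⟶ K⟦t⟧)) := hbot ▸ Submodule.mem_top
  have hg : g ∈ (⊥ : Submodule A (Dual.inD A (A ⧸ p) ⟶ K⟦t⟧)) := hbot ▸ Submodule.mem_top
  rw [Submodule.mem_bot] at hf hg
  rw [hf, hg]

/-- base change of the vanishing of `Ext^i(A/q, K)` to the residue field of the local ring
at `q` -/
theorem subsingleton_hom_residue_localization [IsNoetherianRing A] (K : Dual.D A) (a₀ : ℤ)
    (hlow : ∀ j : ℤ, j < a₀ → IsZero ((HF A j).obj K)) (q : Ideal A) [q.IsPrime]
    [Module.Flat A (Localization.AtPrime q)] (i : ℤ)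
    (h : Subsingleton (Dual.inD A (A ⧸ q) ⟶ K⟦i⟧)) :
    Subsingleton (Dual.inD (Localization.AtPrime q)
      (Localization.AtPrime q ⧸ IsLocalRing.maximalIdeal (Localization.AtPrime q)) ⟶
        ((extScD A (Localization.AtPrime q)).obj K)⟦i⟧) := by
  have h2 := DualizingBC.subsingleton_hom_extScD (B := Localization.AtPrime q)
    (Dual.inD A (A ⧸ q)) K (DualizingBC.isPseudoCoherent'_inD (A ⧸ q)) a₀ hlow i h
  have hq : q.map (algebraMap A (Localization.AtPrime q)) =
      IsLocalRing.maximalIdeal (Localization.AtPrime q) :=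
    Localization.AtPrime.map_eq_maximalIdeal
  let e : (extScD A (Localization.AtPrime q)).obj (Dual.inD A (A ⧸ q)) ≅
      Dual.inD (Localization.AtPrime q)
        (Localization.AtPrime q ⧸ IsLocalRing.maximalIdeal (Localization.AtPrime q)) :=
    extScD_inD (A ⧸ q) ≪≫ inDMapIso
      (Algebra.TensorProduct.quotIdealMapEquivTensorQuot (Localization.AtPrime q)
        q).toLinearEquiv.symm.toModuleIso ≪≫
      inDMapIso (Submodule.quotEquivOfEq _ _ hq).toModuleIso
  exact ⟨fun f g => by
    rw [← cancel_epi e.hom]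
    exact Subsingleton.elim _ _⟩

/-- over a Noetherian local ring, a dualizing complex has a nonzero `Ext^i(κ, ω)` -/
theorem exists_nontrivial_hom_residue [IsLocalRing A] [IsNoetherianRing A] (ω : Dual.D A)
    (hω : Dual.IsDualizing A ω) :
    ∃ i : ℤ, Nontrivial (Dual.inD A (A ⧸ IsLocalRing.maximalIdeal A) ⟶ ω⟦i⟧) := by
  by_contra hcon
  have hsub : ∀ i : ℤ, Subsingleton (Dual.inD A (A ⧸ IsLocalRing.maximalIdeal A) ⟶ ω⟦i⟧) :=
    fun i => not_nontrivial_iff_subsingleton.mp (fun h => hcon ⟨i, h⟩)
  obtain ⟨a, b, hab⟩ := hω.finite_injective_dimension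
  have hz := DualizingBC.isZero_HF_of_finite_injective_dimension ω a b hab
  have hlow : ∀ j : ℤ, j < a → IsZero ((HF A j).obj ω) := fun j hj => hz j (Or.inl hj)
  have hall : ∀ i : ℤ, IsZero ((HF A i).obj ω) := by
    intro i
    apply isZero_HF_of_hom_ring_eq_zero
    intro f
    have := vanishAbove_of_maximal (K := ω) (b := i - 1) a hlow hω.finite_cohomology
      (fun m hm j _ => by
        have hmm := IsLocalRing.eq_maximalIdeal hm
        subst hmm
        exact hsub j) A i (by omega)
    exact Subsingleton.elim _ _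
  have hzero : IsZero ω := isZero_of_forall_isZero_HF ω hall
  have h10 : (1 : A) = 0 := hω.toEnd_bijective.1 (hzero.eq_of_src _ _)
  exact one_ne_zero h10

/-- the localization step: at a non-maximal prime the top degree of `Ext(κ, ω)` drops -/
theorem localization_step (R : Type u) [CommRing R] [IsLocalRing R] [IsNoetherianRing R]
    (ω : Dual.D R) (hω : Dual.IsDualizing R ω) (a t : ℤ)
    (hlo : ∀ j : ℤ, j < a → IsZero ((HF R j).obj ω))
    (ht : ∀ i : ℤ, t < i →
      Subsingleton (Dual.inD R (R ⧸ IsLocalRing.maximalIdeal R) ⟶ ω⟦i⟧))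
    (q : Ideal R) [hq : q.IsPrime] (hqm : q < IsLocalRing.maximalIdeal R)
    [Module.Flat R (Localization.AtPrime q)] [IsNoetherianRing (Localization.AtPrime q)] :
    Dual.IsDualizing (Localization.AtPrime q) ((extScD R (Localization.AtPrime q)).obj ω) ∧
    (∀ j : ℤ, j < a →
      IsZero ((HF (Localization.AtPrime q) j).obj ((extScD R (Localization.AtPrime q)).obj ω))) ∧
    (∀ i : ℤ, t - 1 < i → Subsingleton (Dual.inD (Localization.AtPrime q)
      (Localization.AtPrime q ⧸ IsLocalRing.maximalIdeal (Localization.AtPrime q)) ⟶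
        ((extScD R (Localization.AtPrime q)).obj ω)⟦i⟧)) ∧ a ≤ t - 1 := by
  have hω' : Dual.IsDualizing (Localization.AtPrime q)
      ((extScD R (Localization.AtPrime q)).obj ω) :=
    DualizingBC.isDualizing_extScD_of_ideals_extended (B := Localization.AtPrime q)
      (fun J => ⟨J.under R, IsLocalization.map_under q.primeCompl _ J⟩) ω hω
  have hlo' : ∀ j : ℤ, j < a →
      IsZero ((HF (Localization.AtPrime q) j).obj ((extScD R (Localization.AtPrime q)).obj ω)) :=
    fun j hj => isZero_HF_extScD ω j (hlo j hj)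
  have hall : ∀ (M : Type u) [AddCommGroup M] [Module R M] [Module.Finite R M],
      VanishAbove ω t M := fun M _ _ _ =>
    vanishAbove_of_maximal a hlo hω.finite_cohomology (fun m hm => by
      have hmm := IsLocalRing.eq_maximalIdeal hm
      subst hmm
      exact ht) M
  obtain ⟨x, hxm, hxq⟩ := SetLike.exists_of_lt hqm
  have hxJ : x ∈ (⊥ : Ideal R).jacobson := by
    rw [IsLocalRing.jacobson_eq_maximalIdeal ⊥ bot_ne_top]
    exact hxm
  have ht0 : Subsingleton (Dual.inD R (R ⧸ q) ⟶ ω⟦t⟧) :=
    subsingleton_hom_quotient_prime ω a hlo hω.finite_cohomology t hall q hq x hxq hxJ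
  have ht' : ∀ i : ℤ, t - 1 < i → Subsingleton (Dual.inD (Localization.AtPrime q)
      (Localization.AtPrime q ⧸ IsLocalRing.maximalIdeal (Localization.AtPrime q)) ⟶
        ((extScD R (Localization.AtPrime q)).obj ω)⟦i⟧) := by
    intro i hi
    apply subsingleton_hom_residue_localization ω a hlo q i
    by_cases hit : i = t
    · subst hit
      exact ht0
    · exact hall (R ⧸ q) i (by omega)
  refine ⟨hω', hlo', ht', ?_⟩
  obtain ⟨i, hi⟩ := exists_nontrivial_hom_residue _ hω'
  by_contra hcon
  by_cases hia : i < a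
  · exact not_subsingleton _ (subsingleton_hom_inD_of_lt a hlo'
      (Localization.AtPrime q ⧸ IsLocalRing.maximalIdeal (Localization.AtPrime q)) i hia)
  · exact not_subsingleton _ (ht' i (by omega))

/-- the height of the maximal ideal of a Noetherian local ring with a dualizing complex is
bounded by the width of the range of degrees of `ω` -/
theorem height_maximalIdeal_le (d : ℕ) : ∀ (R : Type u) [CommRing R] [IsLocalRing R]
    [IsNoetherianRing R] (ω : Dual.D R) (_ : Dual.IsDualizing R ω) (a t : ℤ)
    (_ : ∀ j : ℤ, j < a → IsZero ((HF R j).obj ω))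
    (_ : ∀ i : ℤ, t < i →
      Subsingleton (Dual.inD R (R ⧸ IsLocalRing.maximalIdeal R) ⟶ ω⟦i⟧))
    (_ : t - a ≤ d), (IsLocalRing.maximalIdeal R).height ≤ d := by
  induction d with
  | zero =>
    intro R _ _ _ ω hω a t hlo ht hd
    rw [Ideal.height_le_iff]
    intro q hq hqm
    have : Module.Flat R (Localization.AtPrime q) := IsLocalization.flat _ q.primeCompl
    have : IsNoetherianRing (Localization.AtPrime q) :=
      IsLocalization.isNoetherianRing q.primeCompl _ inferInstance
    have := (localization_step R ω hω a t hlo ht q hqm).2.2.2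
    exfalso
    push_cast at hd
    omega
  | succ d ih =>
    intro R _ _ _ ω hω a t hlo ht hd
    rw [Ideal.height_le_iff]
    intro q hq hqm
    have : Module.Flat R (Localization.AtPrime q) := IsLocalization.flat _ q.primeCompl
    have : IsNoetherianRing (Localization.AtPrime q) :=
      IsLocalization.isNoetherianRing q.primeCompl _ inferInstance
    obtain ⟨hω', hlo', ht', hat⟩ := localization_step R ω hω a t hlo ht q hqm
    have h1 := ih (Localization.AtPrime q) _ hω' a (t - 1) hlo' ht' (by push_cast at hd; omega)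
    have h2 : ((IsLocalRing.maximalIdeal (Localization.AtPrime q)).height : WithBot ℕ∞) =
        q.height := by
      rw [IsLocalRing.maximalIdeal_height_eq_ringKrullDim,
        IsLocalization.AtPrime.ringKrullDim_eq_height q]
    have h3 : (IsLocalRing.maximalIdeal (Localization.AtPrime q)).height = q.height := by
      exact_mod_cast h2
    rw [← h3]
    exact lt_of_le_of_lt h1 (by exact_mod_cast Nat.lt_succ_self d)

/-- **A Noetherian ring with a dualizing complex has finite Krull dimension.** -/
theorem ringKrullDim_lt_top [IsNoetherianRing A] (ω : Dual.D A) (hω : Dual.IsDualizing A ω) :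
    ringKrullDim A < ⊤ := by
  obtain ⟨a, b, hab⟩ := hω.finite_injective_dimension
  have hz := DualizingBC.isZero_HF_of_finite_injective_dimension ω a b hab
  have hlow : ∀ j : ℤ, j < a → IsZero ((HF A j).obj ω) := fun j hj => hz j (Or.inl hj)
  have key : ∀ ⦃q : Ideal A⦄, q.IsPrime → q.height ≤ ((b - a).toNat : ℕ) := by
    intro q hq
    have : Module.Flat A (Localization.AtPrime q) := IsLocalization.flat _ q.primeCompl
    have : IsNoetherianRing (Localization.AtPrime q) :=
      IsLocalization.isNoetherianRing q.primeCompl _ inferInstance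
    have hω' : Dual.IsDualizing (Localization.AtPrime q)
        ((extScD A (Localization.AtPrime q)).obj ω) :=
      DualizingBC.isDualizing_extScD_of_ideals_extended (B := Localization.AtPrime q)
        (fun J => ⟨J.under A, IsLocalization.map_under q.primeCompl _ J⟩) ω hω
    have h1 := height_maximalIdeal_le (b - a).toNat (Localization.AtPrime q) _ hω' a b
      (fun j hj => isZero_HF_extScD ω j (hlow j hj))
      (fun i hi => subsingleton_hom_residue_localization ω a hlow q i (hab (A ⧸ q) i (Or.inr hi)))
      (Int.self_le_toNat _)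
    have h2 : ((IsLocalRing.maximalIdeal (Localization.AtPrime q)).height : WithBot ℕ∞) =
        q.height := by
      rw [IsLocalRing.maximalIdeal_height_eq_ringKrullDim,
        IsLocalization.AtPrime.ringKrullDim_eq_height q]
    have h3 : (IsLocalRing.maximalIdeal (Localization.AtPrime q)).height = q.height := by
      exact_mod_cast h2
    rw [← h3]
    exact h1
  have hle : ringKrullDim A ≤ (((b - a).toNat : ℕ) : WithBot ℕ∞) :=
    (ringKrullDim_le_iff_height_le _).mpr (fun q hq => by exact_mod_cast key hq)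
  refine lt_of_le_of_lt hle ?_
  exact WithBot.coe_lt_coe.mpr (ENat.natCast_lt_top _)

end Groth.Agent.Lib.Helper12.DualDim
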