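import Mathlib
import Groth.Agent.Lib.Helper12.ModDualExt
import Groth.Agent.Lib.Helper12.CoextCohomology

/-!
# `H^i(Hom_A(M, E)) ≃ Ext^i(M, E)` linearly, for a K-injective complex `E` (helper12)
-/

set_option autoImplicit false
universe u
open CategoryTheory CategoryTheory.Limits
attribute [local instance] HasDerivedCategory.standard
namespace Groth.Agent.Lib.Helper12.ModDual
open Groth.Agent.Lib.Helper12 DRing Pretriangulated
open Groth.Agent.Lib.Helper36.InjAmp

section HomCohomology
variable {A : Type u} [CommRing A] (E : Cx A) (M : ModuleCat.{u} A) (i : ℤ)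

/-- the short complex computing `H^i(Hom(M,E))` -/
noncomputable abbrev Ssc : ShortComplex (ModuleCat.{u} A) := (D₀ E M).sc' (i - 1) i (i + 1)

lemma D₀_d_apply (j k : ℤ) (f : M ⟶ E.X j) : ((D₀ E M).d j k).hom f = f ≫ E.d j k := rfl

lemma cocycle_cond (z : LinearMap.ker (Ssc E M i).g.hom) :
    ∀ j : ℤ, (ComplexShape.up ℤ).Rel i j → (z.1 : M ⟶ E.X i) ≫ E.d i j = 0 := by
  intro j hj
  have hj' : i + 1 = j := hj
  subst hj'
  exact z.2

/-- the chain map attached to a cocycle -/
noncomputable def cocycleMap (z : LinearMap.ker (Ssc E M i).g.hom) : singleCx i M ⟶ E :=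
  HomologicalComplex.mkHomFromSingle (z.1 : M ⟶ E.X i) (cocycle_cond E M i z)

lemma cocycleMap_f (z : LinearMap.ker (Ssc E M i).g.hom) :
    (cocycleMap E M i z).f i =
      (HomologicalComplex.singleObjXSelf (ComplexShape.up ℤ) i M).hom ≫ (z.1 : M ⟶ E.X i) :=
  HomologicalComplex.mkHomFromSingle_f _ _

/-- cocycle to derived-category morphism -/
noncomputable def cocycleHom :
    LinearMap.ker (Ssc E M i).g.hom →ₗ[A] (toD (singleCx i M) ⟶ toD E) where
  toFun z := DerivedCategory.Q.map (cocycleMap E M i z)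
  map_add' z z' := by
    rw [← Functor.map_add]
    congr 1
    refine HomologicalComplex.from_single_hom_ext ?_
    rw [HomologicalComplex.add_f_apply, cocycleMap_f, cocycleMap_f, cocycleMap_f]
    have h : ((z + z').1 : M ⟶ E.X i) = (z.1 : M ⟶ E.X i) + (z'.1 : M ⟶ E.X i) := rfl
    exact (congrArg (fun t => (HomologicalComplex.singleObjXSelf (ComplexShape.up ℤ) i M).hom ≫ t)
      h).trans (Preadditive.comp_add _ _ _ _ _ _)
  map_smul' a z := by
    rw [RingHom.id_apply, ← Functor.map_smul]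
    congr 1
    refine HomologicalComplex.from_single_hom_ext ?_
    rw [HomologicalComplex.smul_f_apply, cocycleMap_f, cocycleMap_f]
    have h : ((a • z).1 : M ⟶ E.X i) = a • (z.1 : M ⟶ E.X i) := rfl
    exact (congrArg (fun t => (HomologicalComplex.singleObjXSelf (ComplexShape.up ℤ) i M).hom ≫ t)
      h).trans (Linear.comp_smul _ _ _ _ _ _)

variable [E.IsKInjective]

lemma cocycleHom_surjective : Function.Surjective (cocycleHom E M i) := by
  intro α
  obtain ⟨γ, rfl⟩ := exists_map_of_isKInjective (singleCx i M) E α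
  have hcoc : ((HomologicalComplex.singleObjXSelf (ComplexShape.up ℤ) i M).inv ≫ γ.f i) ≫
      E.d i (i + 1) = 0 := by
    rw [Category.assoc, γ.comm i (i + 1), HomologicalComplex.single_obj_d, zero_comp, comp_zero]
  refine ⟨⟨(HomologicalComplex.singleObjXSelf (ComplexShape.up ℤ) i M).inv ≫ γ.f i, hcoc⟩, ?_⟩
  change DerivedCategory.Q.map (cocycleMap E M i _) = DerivedCategory.Q.map γ
  congr 1
  refine HomologicalComplex.from_single_hom_ext ?_
  rw [cocycleMap_f]
  exact Iso.hom_inv_id_assoc _ _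

lemma cocycleHom_ker :
    LinearMap.ker (cocycleHom E M i) = LinearMap.range (Ssc E M i).moduleCatToCycles := by
  ext z
  rw [LinearMap.mem_ker, LinearMap.mem_range]
  constructor
  · intro hz
    have hγ : DerivedCategory.Q.map (cocycleMap E M i z) = DerivedCategory.Q.map 0 := by
      rw [CategoryTheory.Functor.map_zero]
      exact hz
    obtain ⟨H⟩ := homotopy_of_Q_map_eq_of_isKInjective _ E _ 0 hγ
    have hc := H.comm i
    rw [dNext_eq _ (show (ComplexShape.up ℤ).Rel i (i + 1) by simp),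
      prevD_eq _ (show (ComplexShape.up ℤ).Rel (i - 1) i by simp),
      HomologicalComplex.single_obj_d, zero_comp, zero_add, HomologicalComplex.zero_f, add_zero,
      cocycleMap_f] at hc
    refine ⟨(HomologicalComplex.singleObjXSelf (ComplexShape.up ℤ) i M).inv ≫ H.hom i (i - 1),
      Subtype.ext ?_⟩
    change ((HomologicalComplex.singleObjXSelf (ComplexShape.up ℤ) i M).inv ≫ H.hom i (i - 1)) ≫
      E.d (i - 1) i = (z.1 : M ⟶ E.X i)
    rw [Category.assoc, ← hc]
    exact Iso.inv_hom_id_assoc _ _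
  · rintro ⟨y, rfl⟩
    change DerivedCategory.Q.map (cocycleMap E M i _) = 0
    rw [DerivedCategory.Q_map_eq_of_homotopy _ (fromSingleNullHomotopy i M E _
      (y : M ⟶ E.X (i - 1)) ?_), CategoryTheory.Functor.map_zero]
    rw [cocycleMap_f]
    exact Eq.trans rfl (Iso.inv_hom_id_assoc
      (HomologicalComplex.singleObjXSelf (ComplexShape.up ℤ) i M)
      (((Ssc E M i).moduleCatToCycles y).1 : M ⟶ E.X i)).symm

/-- **`H^i(Hom_A(M, E)) ≃ Hom_{D(A)}(M[-i], E)` for a K-injective complex `E`** -/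
noncomputable def HFDEquiv : (HF A i).obj (D E M) ≃ₗ[A] (toD (singleCx i M) ⟶ toD E) :=
  (HFQIso i (D₀ E M) ≪≫ (D₀ E M).homologyIsoSc' (i - 1) i (i + 1) (by simp) (by simp) ≪≫
    (Ssc E M i).moduleCatHomologyIso).toLinearEquiv ≪≫ₗ
  (Submodule.quotEquivOfEq _ _ (cocycleHom_ker E M i).symm) ≪≫ₗ
  (cocycleHom E M i).quotKerEquivOfSurjective (cocycleHom_surjective E M i)

/-- **`H^i(Hom_A(M, E)) ≃ Ext^i(M, E)` for a K-injective complex `E`** -/
noncomputable def HFDEquiv' : (HF A i).obj (D E M) ≃ₗ[A] (Dual.inD A M ⟶ (toD E)⟦i⟧) :=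
  HFDEquiv E M i ≪≫ₗ (CoextCx.singleHomEquiv (toD E) M i).symm

end HomCohomology
end Groth.Agent.Lib.Helper12.ModDual
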