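import Mathlib
import Groth.Agent.Lib.Helper12.DualizingDim
import Groth.Agent.Lib.Helper12.ResidueExtMain
import Groth.Agent.Lib.Helper12.MinimalPrimeDualizing
import Groth.Agent.Lib.Helper12.HomComplexCohomology
import Groth.Agent.Lib.Helper12.ConverseDualizing

/-!
# The dimension function of a dualizing complex (helper12)

For a dualizing complex `ω` over a Noetherian ring and a prime `p` there is exactly one degree
`d(p)` with `Ext^i(A/p, ω)_p ≠ 0`, and `d(q) = d(p) + 1` when `q` covers `p`.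
-/

set_option autoImplicit false
universe u
open CategoryTheory CategoryTheory.Limits
attribute [local instance] HasDerivedCategory.standard
namespace Groth.Agent.Lib.Helper12.DimFn
open Groth.Agent.Lib.Helper12 Groth.Agent.Lib.Helper12.FlatHomBC DRing Pretriangulated TensorProduct
open Groth.Agent.Lib.Helper12.Bass Groth.Agent.Lib.Helper12.ModDual
open Groth.Agent.Lib.Helper36.InjAmp

section Part1
variable {A : Type u} [CommRing A] [IsNoetherianRing A]
attribute [local instance] homModA homModAMod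

/-- **the degree of a prime with respect to a dualizing complex** -/
theorem exists_degree (ω : Dual.D A) (hω : Dual.IsDualizing A ω) (p : Ideal A) [hp : p.IsPrime] :
    ∃ d : ℤ, ∀ i : ℤ, Nontrivial (LocalizedModule p.primeCompl
      (Dual.inD A (A ⧸ p) ⟶ ω⟦i⟧)) ↔ i = d := by
  let S : Submonoid A := p.primeCompl
  let B := Localization.AtPrime p
  haveI : Module.Flat A B := IsLocalization.flat _ S
  haveI : IsNoetherianRing B := IsLocalization.isNoetherianRing S _ inferInstance
  have hωB : Dual.IsDualizing B ((extScD A B).obj ω) :=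
    DualizingBC.isDualizing_extScD_of_ideals_extended (B := B)
      (fun J => ⟨J.under A, IsLocalization.map_under S _ J⟩) ω hω
  obtain ⟨a, b, hab⟩ := hω.finite_injective_dimension
  have hz := DualizingBC.isZero_HF_of_finite_injective_dimension ω a b hab
  have hlow : ∀ j : ℤ, j < a → IsZero ((HF A j).obj ω) := fun j hj => hz j (Or.inl hj)
  -- the comparison
  have hq : p.map (algebraMap A B) = IsLocalRing.maximalIdeal B :=
    Localization.AtPrime.map_eq_maximalIdeal
  let e : (extScD A B).obj (Dual.inD A (A ⧸ p)) ≅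
      Dual.inD B (B ⧸ IsLocalRing.maximalIdeal B) :=
    extScD_inD (A ⧸ p) ≪≫ inDMapIso
      (Algebra.TensorProduct.quotIdealMapEquivTensorQuot B p).toLinearEquiv.symm.toModuleIso ≪≫
      inDMapIso (Submodule.quotEquivOfEq _ _ hq).toModuleIso
  have hcmp : ∀ i : ℤ, Nonempty (LocalizedModule S (Dual.inD A (A ⧸ p) ⟶ ω⟦i⟧) ≃
      (Dual.inD B (B ⧸ IsLocalRing.maximalIdeal B) ⟶ ((extScD A B).obj ω)⟦i⟧)) := by
    intro i
    let e3 := (IsLocalizedModule.isBaseChange S B
      (LocalizedModule.mkLinearMap S (Dual.inD A (A ⧸ p) ⟶ ω⟦i⟧))).equiv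
    let e4 := Equiv.ofBijective _ (bijective_homBCShift (B := B) (Dual.inD A (A ⧸ p)) ω
      (DualizingBC.isPseudoCoherent'_inD (A ⧸ p)) a hlow i)
    exact ⟨e3.symm.toEquiv.trans (e4.trans (Iso.homCongr e (Iso.refl _)))⟩
  -- the local result
  obtain ⟨a', b', E', hE', hinj', ⟨e'⟩⟩ := exists_injective_model _ hωB
  have hωE : Dual.IsDualizing B (toD E') := DualizingBC.isDualizing_of_iso e'.symm hωB
  obtain ⟨d, hd1, ⟨hd2⟩⟩ := ResExt.main_E E' a' b' hE' hinj' hωE (IsLocalRing.maximalIdeal B)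
  refine ⟨d, fun i => ?_⟩
  obtain ⟨c⟩ := hcmp i
  let c' : (Dual.inD B (B ⧸ IsLocalRing.maximalIdeal B) ⟶ ((extScD A B).obj ω)⟦i⟧) ≃
      (Dual.inD B (B ⧸ IsLocalRing.maximalIdeal B) ⟶ (toD E')⟦i⟧) :=
    Iso.homCongr (Iso.refl _) ((shiftFunctor (Dual.D B) i).mapIso e'.symm)
  constructor
  · intro hnt
    by_contra hne
    have : Subsingleton (Dual.inD B (B ⧸ IsLocalRing.maximalIdeal B) ⟶ (toD E')⟦i⟧) :=
      ⟨fun x y => (hd1 i hne x).trans (hd1 i hne y).symm⟩
    have h2 : Subsingleton (LocalizedModule S (Dual.inD A (A ⧸ p) ⟶ ω⟦i⟧)) :=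
      (c.trans c').subsingleton
    exact not_subsingleton _ h2
  · rintro rfl
    have : Nontrivial (B ⧸ IsLocalRing.maximalIdeal B) :=
      Ideal.Quotient.nontrivial_iff.mpr (IsLocalRing.maximalIdeal.isMaximal B).ne_top
    have h1 : Nontrivial (Dual.inD B (B ⧸ IsLocalRing.maximalIdeal B) ⟶ (toD E')⟦i⟧) :=
      hd2.toEquiv.nontrivial
    exact (c.trans c').nontrivial

end Part1

section Zq
variable {A : Type u} [CommRing A]

/-- the localization of `M` at `S` vanishes -/
def Zq (S : Submonoid A) (M : Type*) [AddCommGroup M] [Module A M] : Prop :=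
  ∀ m : M, ∃ s ∈ S, s • m = 0

lemma zq_iff (S : Submonoid A) (M : Type*) [AddCommGroup M] [Module A M] :
    Zq S M ↔ Subsingleton (LocalizedModule S M) :=
  LocalizedModule.subsingleton_iff.symm

lemma Zq.of_linearEquiv {S : Submonoid A} {M N : Type*} [AddCommGroup M] [Module A M]
    [AddCommGroup N] [Module A N] (e : M ≃ₗ[A] N) (h : Zq S M) : Zq S N := by
  intro n
  obtain ⟨s, hs, hsm⟩ := h (e.symm n)
  refine ⟨s, hs, ?_⟩
  rw [← map_smul] at hsm
  exact e.symm.injective (hsm.trans (map_zero _).symm)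

lemma Zq.mono {S S' : Submonoid A} (hSS : S ≤ S') {M : Type*} [AddCommGroup M] [Module A M]
    (h : Zq S M) : Zq S' M := fun m => by
  obtain ⟨s, hs, hsm⟩ := h m
  exact ⟨s, hSS hs, hsm⟩

lemma Zq.of_exact {S : Submonoid A} {M₁ M₂ M₃ : Type*} [AddCommGroup M₁] [Module A M₁]
    [AddCommGroup M₂] [Module A M₂] [AddCommGroup M₃] [Module A M₃]
    (f : M₁ →ₗ[A] M₂) (g : M₂ →ₗ[A] M₃) (hfg : Function.Exact f g)
    (h₁ : Zq S M₁) (h₃ : Zq S M₃) : Zq S M₂ := by
  intro y
  obtain ⟨s₃, hs₃, h3⟩ := h₃ (g y)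
  rw [← map_smul] at h3
  obtain ⟨z, hz⟩ := (hfg (s₃ • y)).mp h3
  obtain ⟨s₁, hs₁, h1⟩ := h₁ z
  refine ⟨s₁ * s₃, S.mul_mem hs₁ hs₃, ?_⟩
  rw [mul_smul, ← hz, ← map_smul, h1, map_zero]

lemma Zq.of_nakayama (q : Ideal A) [hq : q.IsPrime] (M : Type*) [AddCommGroup M] [Module A M]
    [Module.Finite A M] (x : A) (hx : x ∈ q)
    (h : ∀ y : M, ∃ s ∈ q.primeCompl, ∃ z : M, s • y = x • z) : Zq q.primeCompl M := by
  rw [zq_iff]
  have hfin : Module.Finite (Localization.AtPrime q) (LocalizedModule q.primeCompl M) :=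
    Module.Finite.of_isLocalizedModule q.primeCompl
      (LocalizedModule.mkLinearMap q.primeCompl M)
  have htop : (⊤ : Submodule (Localization.AtPrime q) (LocalizedModule q.primeCompl M)) = ⊥ := by
    refine Submodule.eq_bot_of_le_smul_of_le_jacobson_bot
      (IsLocalRing.maximalIdeal (Localization.AtPrime q)) ⊤ Module.Finite.fg_top ?_
      (IsLocalRing.maximalIdeal_le_jacobson _)
    intro n _
    induction n using LocalizedModule.induction_on with
    | h y t =>
      obtain ⟨s, hs, z, hsz⟩ := h y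
      have h1 : LocalizedModule.mk y t =
          (algebraMap A (Localization.AtPrime q) x) • LocalizedModule.mk z (⟨s, hs⟩ * t) := by
        rw [algebraMap_smul, LocalizedModule.smul'_mk, ← hsz, LocalizedModule.mk_eq]
        refine ⟨1, ?_⟩
        simp only [one_smul, Submonoid.smul_def, Submonoid.coe_mul, mul_smul]
        rw [smul_comm]
      rw [h1]
      refine Submodule.smul_mem_smul ?_ Submodule.mem_top
      exact (IsLocalization.AtPrime.to_map_mem_maximal_iff (Localization.AtPrime q) q x).mpr hx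
  refine ⟨fun n n' => ?_⟩
  have h1 : n ∈ (⊤ : Submodule (Localization.AtPrime q) (LocalizedModule q.primeCompl M)) :=
    Submodule.mem_top
  have h2 : n' ∈ (⊤ : Submodule (Localization.AtPrime q) (LocalizedModule q.primeCompl M)) :=
    Submodule.mem_top
  rw [htop] at h1 h2
  rw [(Submodule.mem_bot _).mp h1, (Submodule.mem_bot _).mp h2]

end Zq

variable {A : Type u} [CommRing A]

section X
variable (E : Cx A) (hinj : ∀ i, Injective (E.X i))

include hinj in
lemma zq_of_shortExact (S' : Submonoid A) (S : ShortComplex (ModuleCat.{u} A))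
    (hS : S.ShortExact) (i : ℤ) (h₁ : Zq S' ((HF A i).obj (D E S.X₁)))
    (h₃ : Zq S' ((HF A i).obj (D E S.X₃))) : Zq S' ((HF A i).obj (D E S.X₂)) := by
  have hex := DerivedCategory.HomologySequence.exact₂ _
    (dualTriangle_distinguished E hinj S hS) i
  rw [ShortComplex.ShortExact.moduleCat_exact_iff_function_exact] at hex
  exact Zq.of_exact _ _ hex h₃ h₁

include hinj in
lemma zq_of_regular [IsNoetherianRing A] (a b : ℤ) (hE : VanishesOutside E a b)
    (hfin : ∀ j : ℤ, Module.Finite A ((HF A j).obj (toD E)))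
    (q : Ideal A) [q.IsPrime] (M C : ModuleCat.{u} A) [Module.Finite A M]
    (x : A) (hx : x ∈ q) (g : M ⟶ C) (w : (x • 𝟙 M) ≫ g = 0)
    (hS : (ShortComplex.mk (x • 𝟙 M) g w).ShortExact) (i : ℤ)
    (h : Zq q.primeCompl ((HF A (i + 1)).obj (D E C))) :
    Zq q.primeCompl ((HF A i).obj (D E M)) := by
  have hfinM : Module.Finite A ((HF A i).obj (D E M)) :=
    finD_of_finite E hinj hfin a (fun j hj => hE j (Or.inl hj)) M i
  refine Zq.of_nakayama q _ x hx (fun y => ?_)
  have hT := dualTriangle_distinguished E hinj _ hS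
  have hex := DerivedCategory.HomologySequence.exact₃ _ hT i (i + 1) rfl
  rw [ShortComplex.ShortExact.moduleCat_exact_iff_function_exact] at hex
  let δm : (HF A i).obj (D E M) ⟶ (HF A (i + 1)).obj (D E C) :=
    DerivedCategory.HomologySequence.δ (dualTriangle E hinj _ hS) i (i + 1) rfl
  obtain ⟨s, hs, hsy⟩ := h (δm.hom y)
  have hsy' : δm.hom (s • y) = 0 := by
    rw [map_smul]
    exact hsy
  obtain ⟨z, hz⟩ := (hex (s • y)).mp hsy'
  refine ⟨s, hs, z, ?_⟩
  have h1 : (HF A i).map (Dmap E (x • 𝟙 M)) = x • 𝟙 _ := by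
    rw [Dmap_smul, Dmap_id, Functor.map_smul, CategoryTheory.Functor.map_id]
  have h2 : ((HF A i).map (Dmap E (x • 𝟙 M))).hom z = s • y := hz
  rw [h1] at h2
  exact h2.symm

end X

section Primes
variable [IsNoetherianRing A] (E : Cx A) (hinj : ∀ i, Injective (E.X i))

lemma zq_quotient_of_not_le (q P : Ideal A) [q.IsPrime] (hPq : ¬ P ≤ q) (i : ℤ) :
    Zq q.primeCompl ((HF A i).obj (D E (ModuleCat.of A (A ⧸ P)))) := by
  obtain ⟨s, hsP, hsq⟩ := SetLike.not_le_iff_exists.mp hPq
  exact fun y => ⟨s, hsq, ResExt.smul_HF_D_eq_zero E P i s hsP y⟩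

include hinj in
theorem zq_of_killed (p q : Ideal A) [hp : p.IsPrime] [q.IsPrime]
    (hcov : ∀ P : Ideal A, P.IsPrime → p < P → P ≤ q → P = q) (x : A) (hxp : x ∉ p) (i : ℤ)
    (hq : Zq q.primeCompl ((HF A i).obj (D E (ModuleCat.of A (A ⧸ q)))))
    (N : Type u) [AddCommGroup N] [Module A N] [hN : Module.Finite A N]
    (hkill : ∀ y ∈ p ⊔ Ideal.span {x}, ∀ n : N, y • n = 0) :
    Zq q.primeCompl ((HF A i).obj (D E (ModuleCat.of A N))) := by
  revert hkill
  refine IsNoetherianRing.induction_on_isQuotientEquivQuotientPrime A hN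
    (motive := fun N _ _ _ => (∀ y ∈ p ⊔ Ideal.span {x}, ∀ n : N, y • n = 0) →
      Zq q.primeCompl ((HF A i).obj (D E (ModuleCat.of A N)))) ?_ ?_ ?_
  · intro N _ _ _ _ _ y
    have hz : IsZero ((HF A i).obj (D E (ModuleCat.of A N))) :=
      (HF A i).map_isZero (isZero_D E (ModuleCat.isZero_of_subsingleton _))
    have := ModuleCat.subsingleton_of_isZero hz
    exact ⟨1, Submonoid.one_mem _, Subsingleton.elim _ _⟩
  · intro N _ _ _ P e hkill
    have hIP : p ⊔ Ideal.span {x} ≤ P.asIdeal := by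
      intro y hy
      have h1 := hkill y hy (e.symm 1)
      have h2 : y • (1 : A ⧸ P.asIdeal) = 0 := by
        rw [← e.apply_symm_apply 1, ← map_smul, h1, map_zero]
      rw [← Ideal.Quotient.eq_zero_iff_mem]
      rw [← h2]
      simp [Algebra.smul_def]
    have htr : Zq q.primeCompl ((HF A i).obj (D E (ModuleCat.of A (A ⧸ P.asIdeal)))) →
        Zq q.primeCompl ((HF A i).obj (D E (ModuleCat.of A N))) := fun h =>
      Zq.of_linearEquiv ((HF A i).mapIso (DmapIso E e.toModuleIso)).toLinearEquiv h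
    apply htr
    by_cases hPq : P.asIdeal ≤ q
    · have hpP : p < P.asIdeal := by
        refine lt_of_le_of_ne (le_sup_left.trans hIP) (fun h => hxp ?_)
        rw [h]
        exact hIP (Submodule.mem_sup_right (Ideal.subset_span rfl))
      have hPeq : P.asIdeal = q := hcov P.asIdeal P.isPrime hpP hPq
      rw [hPeq]
      exact hq
    · exact zq_quotient_of_not_le E q P.asIdeal hPq i
  · intro N₁ _ _ _ N₂ _ _ _ N₃ _ _ _ f g hf hg hfg h₁ h₃ hkill
    let S : ShortComplex (ModuleCat.{u} A) :=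
      ShortComplex.mk (ModuleCat.ofHom f) (ModuleCat.ofHom g) (by
        refine ModuleCat.hom_ext (LinearMap.ext fun x => ?_)
        exact hfg.apply_apply_eq_zero x)
    have hS : S.ShortExact := by
      have hmono : Mono S.f := (ModuleCat.mono_iff_injective _).mpr hf
      have hepi : Epi S.g := (ModuleCat.epi_iff_surjective _).mpr hg
      refine ShortComplex.ShortExact.mk ?_
      rw [ShortComplex.moduleCat_exact_iff_range_eq_ker]
      exact (LinearMap.exact_iff.mp hfg).symm
    refine zq_of_shortExact E hinj _ S hS i (h₁ ?_) (h₃ ?_)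
    · intro y hy n
      apply hf
      rw [map_smul, hkill y hy, map_zero]
    · intro y hy n
      obtain ⟨n', rfl⟩ := hg n
      rw [← map_smul, hkill y hy, map_zero]

end Primes

section Final
variable {A : Type u} [CommRing A] [IsNoetherianRing A]

/-- **the degree jumps by one along a covering of primes** -/
theorem degree_succ (ω : Dual.D A) (hω : Dual.IsDualizing A ω) (p q : Ideal A) [hp : p.IsPrime]
    [hq : q.IsPrime] (hpq : p < q)
    (hcov : ∀ P : Ideal A, P.IsPrime → p < P → P ≤ q → P = q) (dp dq : ℤ)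
    (hdp : ∀ i : ℤ, Nontrivial (LocalizedModule p.primeCompl
      (Dual.inD A (A ⧸ p) ⟶ ω⟦i⟧)) ↔ i = dp)
    (hdq : ∀ i : ℤ, Nontrivial (LocalizedModule q.primeCompl
      (Dual.inD A (A ⧸ q) ⟶ ω⟦i⟧)) ↔ i = dq) : dq = dp + 1 := by
  obtain ⟨a, b, E, hE, hinj, ⟨e⟩⟩ := exists_injective_model ω hω
  have hinj' : ∀ j, Injective (E.X j) := fun j => by
    have := hinj j
    exact Module.injective_object_of_injective_module A (E.X j)
  have hGE : E.IsStrictlyGE a := by
    rw [CochainComplex.isStrictlyGE_iff]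
    intro j hj
    exact hE j (Or.inl hj)
  have hKI : E.IsKInjective := CochainComplex.isKInjective_of_injective E a
  have hfin : ∀ j : ℤ, Module.Finite A ((HF A j).obj (toD E)) := fun j => by
    have := hω.finite_cohomology j
    exact Module.Finite.equiv ((HF A j).mapIso e.symm).toLinearEquiv
  -- translation
  let L : ∀ (P : Ideal A) (i : ℤ), (HF A i).obj (D E (ModuleCat.of A (A ⧸ P))) ≃ₗ[A]
      (Dual.inD A (A ⧸ P) ⟶ ω⟦i⟧) := fun P i =>
    HFDEquiv' E (ModuleCat.of A (A ⧸ P)) i ≪≫ₗ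
      Linear.homCongr A (Iso.refl _) ((shiftFunctor (Dual.D A) i).mapIso e)
  have hq' : ∀ i : ℤ, i ≠ dq →
      Zq q.primeCompl ((HF A i).obj (D E (ModuleCat.of A (A ⧸ q)))) := by
    intro i hi
    refine Zq.of_linearEquiv (L q i).symm ?_
    rw [zq_iff, ← not_nontrivial_iff_subsingleton, hdq i]
    exact hi
  obtain ⟨x, hxq, hxp⟩ := SetLike.exists_of_lt hpq
  have hle : p ≤ Submodule.comap LinearMap.id (p ⊔ Ideal.span {x}) := by
    rw [Submodule.comap_id]; exact le_sup_left
  have w : (x • 𝟙 (ModuleCat.of A (A ⧸ p))) ≫ ModuleCat.ofHom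
      (Submodule.mapQ p (p ⊔ Ideal.span {x}) LinearMap.id (by
        rw [Submodule.comap_id]; exact le_sup_left)) = 0 := by
    refine ModuleCat.hom_ext (LinearMap.ext fun y => ?_)
    obtain ⟨r, rfl⟩ := Ideal.Quotient.mk_surjective y
    change Submodule.mapQ p (p ⊔ Ideal.span {x}) LinearMap.id hle
      (x • Submodule.Quotient.mk r) = 0
    rw [← Submodule.Quotient.mk_smul, Submodule.mapQ_apply, Submodule.Quotient.mk_eq_zero]
    refine Submodule.mem_sup_right ?_
    rw [LinearMap.id_apply, smul_eq_mul]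
    exact Ideal.mul_mem_right _ _ (Ideal.subset_span rfl)
  have hS := ConvDual.shortExact_quotient_prime p x hxp w
  have hC : ∀ i : ℤ, i ≠ dq → Zq q.primeCompl
      ((HF A i).obj (D E (ModuleCat.of A (A ⧸ (p ⊔ Ideal.span {x}))))) := by
    intro i hi
    refine zq_of_killed E hinj' p q hcov x hxp i (hq' i hi) (A ⧸ (p ⊔ Ideal.span {x})) ?_
    intro y hy n
    obtain ⟨r, rfl⟩ := Ideal.Quotient.mk_surjective n
    rw [Algebra.smul_def, Ideal.Quotient.algebraMap_eq, ← map_mul,
      Ideal.Quotient.eq_zero_iff_mem]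
    exact Ideal.mul_mem_right _ _ hy
  by_contra hne
  have h1 : Zq q.primeCompl ((HF A dp).obj (D E (ModuleCat.of A (A ⧸ p)))) :=
    zq_of_regular E hinj' a b hE hfin q _ _ x hxq _ w hS dp (hC (dp + 1) (fun h => hne h.symm))
  have h2 : Zq p.primeCompl ((HF A dp).obj (D E (ModuleCat.of A (A ⧸ p)))) := by
    refine Zq.mono (fun s hs => ?_) h1
    exact fun hsp => hs (hpq.le hsp)
  have h3 : Zq p.primeCompl (Dual.inD A (A ⧸ p) ⟶ ω⟦dp⟧) := Zq.of_linearEquiv (L p dp) h2
  rw [zq_iff] at h3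
  have h4 := (hdp dp).mpr rfl
  exact not_subsingleton _ h3

/-- **the dimension function of a dualizing complex** -/
theorem exists_dimension_function (ω : Dual.D A) (hω : Dual.IsDualizing A ω) :
    ∃ δ : PrimeSpectrum A → ℤ,
      (∀ (p : PrimeSpectrum A) (i : ℤ), Nontrivial (LocalizedModule p.asIdeal.primeCompl
        (Dual.inD A (A ⧸ p.asIdeal) ⟶ ω⟦i⟧)) ↔ i = -δ p) ∧
      ∀ p q : PrimeSpectrum A, p ⋖ q → δ p = δ q + 1 := by
  choose d hd using fun p : PrimeSpectrum A => exists_degree ω hω p.asIdeal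
  refine ⟨fun p => -d p, fun p i => ?_, fun p q hpq => ?_⟩
  · rw [neg_neg]
    exact hd p i
  · have hlt : p.asIdeal < q.asIdeal := hpq.lt
    have hcov : ∀ P : Ideal A, P.IsPrime → p.asIdeal < P → P ≤ q.asIdeal → P = q.asIdeal := by
      intro P hP hpP hPq
      by_contra hne
      have h1 : p < (⟨P, hP⟩ : PrimeSpectrum A) := hpP
      have h2 : (⟨P, hP⟩ : PrimeSpectrum A) < q := lt_of_le_of_ne hPq (fun h => hne (by
        rw [← h]))
      exact hpq.2 h1 h2
    have := degree_succ ω hω p.asIdeal q.asIdeal hlt hcov (d p) (d q) (hd p) (hd q)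
    change -d p = -d q + 1
    omega

end Final

end Groth.Agent.Lib.Helper12.DimFn
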