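import Mathlib
import Groth.Agent.Lib.Helper12.ConverseDualizing
import Groth.Agent.Lib.Helper12.ArtinianDualizing
import Groth.Agent.Lib.Helper2.InjHull6
import Groth.Agent.Lib.Helper12.MinimalPrimeDualizing
/-!
# Duality for finite length modules over a local ring with a normalized dualizing complex
(helper12)
-/

set_option autoImplicit false
universe u
open CategoryTheory CategoryTheory.Limits
attribute [local instance] HasDerivedCategory.standard
namespace Groth.Agent.Lib.Helper12.FLDual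
open Groth.Agent.Lib.Helper12 DRing Groth.Agent.Lib.Helper12.ModDual
open Groth.Agent.Lib.Helper36.InjAmp Groth.Agent.Lib.Helper12.ResExt Groth.Agent.Lib.Helper12.FlatHomBC
open Groth.Agent.Lib.Helper12.CoextCx Groth.Agent.Lib.Helper12.FinDual

section P1
variable {A : Type u} [CommRing A] [IsLocalRing A]

lemma exists_pow_maximalIdeal_smul_eq_zero (N : Type*) [AddCommGroup N] [Module A N]
    (hN : IsFiniteLength A N) :
    ∃ k : ℕ, ∀ x ∈ (IsLocalRing.maximalIdeal A) ^ (k + 1), ∀ n : N, x • n = 0 := by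
  obtain ⟨hNoe, hArt⟩ := isFiniteLength_iff_isNoetherian_isArtinian.mp hN
  let f : ℕ →o (Submodule A N)ᵒᵈ :=
    ⟨fun k => OrderDual.toDual ((IsLocalRing.maximalIdeal A) ^ k • (⊤ : Submodule A N)),
      fun k l hkl => by
        change (IsLocalRing.maximalIdeal A) ^ l • (⊤ : Submodule A N) ≤
          (IsLocalRing.maximalIdeal A) ^ k • (⊤ : Submodule A N)
        exact Submodule.smul_mono_left (Ideal.pow_le_pow_right hkl)⟩
  obtain ⟨n, hn⟩ := IsArtinian.monotone_stabilizes f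
  have h1 : (IsLocalRing.maximalIdeal A) ^ n • (⊤ : Submodule A N) =
      (IsLocalRing.maximalIdeal A) ^ (n + 1) • (⊤ : Submodule A N) := hn (n + 1) (by omega)
  have h2 : (IsLocalRing.maximalIdeal A) ^ n • (⊤ : Submodule A N) = ⊥ := by
    refine Submodule.eq_bot_of_le_smul_of_le_jacobson_bot (IsLocalRing.maximalIdeal A) _
      (IsNoetherian.noetherian _) ?_ (IsLocalRing.maximalIdeal_le_jacobson _)
    rw [← Submodule.mul_smul, ← pow_succ']
    exact h1.le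
  refine ⟨n, fun x hx m => ?_⟩
  have h3 : x • m ∈ (IsLocalRing.maximalIdeal A) ^ (n + 1) • (⊤ : Submodule A N) :=
    Submodule.smul_mem_smul hx Submodule.mem_top
  rw [← h1, h2] at h3
  exact (Submodule.mem_bot A).mp h3

lemma isMaximal_of_isPrime_quotient_pow (k : ℕ)
    (P : Ideal (A ⧸ (IsLocalRing.maximalIdeal A) ^ (k + 1))) [hP : P.IsPrime] : P.IsMaximal := by
  have h1 : (P.comap (Ideal.Quotient.mk _)).IsPrime := Ideal.comap_isPrime _ P
  have h2 : (IsLocalRing.maximalIdeal A) ^ (k + 1) ≤ P.comap (Ideal.Quotient.mk _) := by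
    intro x hx
    rw [Ideal.mem_comap, Ideal.Quotient.eq_zero_iff_mem.mpr hx]
    exact P.zero_mem
  have h3 : IsLocalRing.maximalIdeal A ≤ P.comap (Ideal.Quotient.mk _) :=
    h1.le_of_pow_le h2
  have h4 : P.comap (Ideal.Quotient.mk _) = IsLocalRing.maximalIdeal A :=
    ((IsLocalRing.maximalIdeal.isMaximal A).eq_of_le h1.ne_top h3).symm
  have h5 : (P.comap (Ideal.Quotient.mk ((IsLocalRing.maximalIdeal A) ^ (k + 1)))).IsMaximal := by
    rw [h4]; exact IsLocalRing.maximalIdeal.isMaximal A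
  have h6 := Ideal.map_comap_of_surjective (Ideal.Quotient.mk ((IsLocalRing.maximalIdeal A) ^ (k + 1)))
    Ideal.Quotient.mk_surjective P
  rw [← h6]
  exact (Ideal.map_eq_top_or_isMaximal_of_surjective _ Ideal.Quotient.mk_surjective h5).resolve_left
    (by rw [h6]; exact hP.ne_top)

end P1

section HomTors
variable {A : Type u} [CommRing A] (𝔞 : Ideal A) (N : Type u) [AddCommGroup N] [Module A N]
  [Module (A ⧸ 𝔞) N] [IsScalarTower A (A ⧸ 𝔞) N] (EE : Type u) [AddCommGroup EE] [Module A EE]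

lemma mk_smul_eq (a : A) (n : N) : (Ideal.Quotient.mk 𝔞 a) • n = a • n := by
  rw [← Ideal.Quotient.algebraMap_eq, algebraMap_smul]

/-- `Hom_{A/𝔞}(N, E[𝔞]) ≃ Hom_A(N, E)` -/
noncomputable def homTorsionEquiv :
    (N →ₗ[A ⧸ 𝔞] ↥(Submodule.torsionBySet A EE (𝔞 : Set A))) ≃+ (N →ₗ[A] EE) where
  toFun u :=
    { toFun := fun n => ((u n : Submodule.torsionBySet A EE (𝔞 : Set A)) : EE)
      map_add' := fun n n' => by rw [map_add]; rfl
      map_smul' := fun a n => by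
        rw [← mk_smul_eq 𝔞 N a n, map_smul, Submodule.torsionBySet.mk_smul]
        rfl }
  invFun v :=
    { toFun := fun n => ⟨v n, by
        rw [Submodule.mem_torsionBySet_iff]
        intro x
        have h1 : (Ideal.Quotient.mk 𝔞 (x : A)) = 0 := Ideal.Quotient.eq_zero_iff_mem.mpr x.2
        rw [← map_smul, ← mk_smul_eq 𝔞 N, h1, zero_smul, map_zero]⟩
      map_add' := fun n n' => by
        ext
        simp
      map_smul' := fun b n => by
        obtain ⟨a, rfl⟩ := Ideal.Quotient.mk_surjective b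
        ext
        rw [RingHom.id_apply, Submodule.torsionBySet.mk_smul, mk_smul_eq]
        simp }
  left_inv u := by
    ext n
    rfl
  right_inv v := by
    ext n
    rfl
  map_add' u u' := by
    ext n
    rfl

lemma homTorsionEquiv_smul (a : A) (u : N →ₗ[A ⧸ 𝔞] ↥(Submodule.torsionBySet A EE (𝔞 : Set A))) :
    homTorsionEquiv 𝔞 N EE ((Ideal.Quotient.mk 𝔞 a) • u) = a • homTorsionEquiv 𝔞 N EE u := by
  ext n
  change (((Ideal.Quotient.mk 𝔞 a) • u n : Submodule.torsionBySet A EE (𝔞 : Set A)) : EE) =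
    a • ((u n : Submodule.torsionBySet A EE (𝔞 : Set A)) : EE)
  rw [Submodule.torsionBySet.mk_smul]
  rfl

end HomTors

section Main
variable {A : Type u} [CommRing A] [IsLocalRing A] [IsNoetherianRing A]
attribute [local instance] FinAdj.homModA'

set_option maxHeartbeats 1600000 in
theorem finiteLength_duality (ω : Dual.D A) (hω : Dual.IsDualizing A ω)
    (hn : Dual.IsNormalized A ω) (EE : Type u) [AddCommGroup EE] [Module A EE]
    (f : IsLocalRing.ResidueField A →ₗ[A] EE) (hf : InjHull.IsInjectiveHull f)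
    (k : ℕ) (N : Type u) [AddCommGroup N] [Module A N] [Module.Finite A N]
    (hkill : ∀ x ∈ (IsLocalRing.maximalIdeal A) ^ (k + 1), ∀ n : N, x • n = 0) :
    (∀ i : ℤ, i ≠ 0 → Subsingleton (Dual.inD A N ⟶ ω⟦i⟧)) ∧
      Nonempty ((Dual.inD A N ⟶ ω) ≃ₗ[A] (N →ₗ[A] EE)) := by
  set 𝔞 : Ideal A := (IsLocalRing.maximalIdeal A) ^ (k + 1) with h𝔞
  have h𝔞m : 𝔞 ≤ IsLocalRing.maximalIdeal A := Ideal.pow_le_self (by omega)
  have hnt : Nontrivial (A ⧸ 𝔞) := Ideal.Quotient.nontrivial_iff.mpr (fun h =>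
    (IsLocalRing.maximalIdeal.isMaximal A).ne_top (top_le_iff.mp (h ▸ h𝔞m)))
  have hloc : IsLocalRing (A ⧸ 𝔞) :=
    IsLocalRing.of_surjective' (Ideal.Quotient.mk 𝔞) Ideal.Quotient.mk_surjective
  -- model
  obtain ⟨a, b, E₀, hE₀, hinj, ⟨e⟩⟩ := exists_injective_model ω hω
  have hω₀ : Dual.IsDualizing A (toD E₀) := DualizingBC.isDualizing_of_iso e.symm hω
  have hinj' : ∀ i, Injective (E₀.X i) := fun i => by
    have := hinj i
    exact Module.injective_object_of_injective_module A (E₀.X i)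
  have hGE : E₀.IsStrictlyGE a := by
    rw [CochainComplex.isStrictlyGE_iff]
    intro j hj
    exact hE₀ j (Or.inl hj)
  have hKI : E₀.IsKInjective := CochainComplex.isKInjective_of_injective E₀ a
  have hKW : (W (algebraMap A (A ⧸ 𝔞)) E₀).IsKInjective :=
    isKInjective_W _ E₀ a (fun j hj => hE₀ j (Or.inl hj)) hinj'
  have hfinBA : Module.Finite A (BA (algebraMap A (A ⧸ 𝔞))) :=
    Module.Finite.equiv (PolyDual.resScEquiv (A := A) (B := A ⧸ 𝔞) (A ⧸ 𝔞)).symm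
  have hT : Dual.IsDualizing (A ⧸ 𝔞) (toD (W (algebraMap A (A ⧸ 𝔞)) E₀)) :=
    isDualizing_coext (algebraMap A (A ⧸ 𝔞)) E₀ a b hE₀ hinj hω₀
  -- normalized
  have hnT : Dual.IsNormalized (A ⧸ 𝔞) (toD (W (algebraMap A (A ⧸ 𝔞)) E₀)) := by
    intro i hi
    let e1 := ConvDual.extCoextEquiv (B := A ⧸ 𝔞) E₀
      (ModuleCat.of (A ⧸ 𝔞) (IsLocalRing.ResidueField (A ⧸ 𝔞))) i
    let eM : (resSc (algebraMap A (A ⧸ 𝔞))).obj
        (ModuleCat.of (A ⧸ 𝔞) (IsLocalRing.ResidueField (A ⧸ 𝔞))) ≅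
        ModuleCat.of A (IsLocalRing.ResidueField A) :=
      ((PolyDual.resScEquiv (A := A) (B := A ⧸ 𝔞) (IsLocalRing.ResidueField (A ⧸ 𝔞))) ≪≫ₗ
        (Groth.Agent.Lib.Helper2.residueFieldQuotientEquiv 𝔞).symm).toModuleIso
    let e2 : (Dual.inD A ((resSc (algebraMap A (A ⧸ 𝔞))).obj
        (ModuleCat.of (A ⧸ 𝔞) (IsLocalRing.ResidueField (A ⧸ 𝔞)))) ⟶ (toD E₀)⟦i⟧) ≃ₗ[A]
        (Dual.inD A (IsLocalRing.ResidueField A) ⟶ ω⟦i⟧) :=
      Linear.homCongr A (inDMapIso eM) ((shiftFunctor (Dual.D A) i).mapIso e)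
    have := hn i hi
    exact (e1 ≪≫ₗ e2).subsingleton
  -- dimension zero
  have h0 : ringKrullDim (A ⧸ 𝔞) = 0 := by
    have hK : Ring.KrullDimLE 0 (A ⧸ 𝔞) :=
      Ring.krullDimLE_zero_iff.mpr (fun P hP => isMaximal_of_isPrime_quotient_pow k P)
    exact le_antisymm (by exact_mod_cast Ring.krullDimLE_iff.mp hK)
      ringKrullDim_nonneg_of_nontrivial
  obtain ⟨g, hg⟩ :=
    Groth.Agent.Lib.Helper2.exists_isInjectiveHull_torsionBy_quotient_local 𝔞 f hf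
  obtain ⟨eT⟩ := ArtDual.nonempty_iso_inD_injectiveHull h0 _ hT hnT _ g hg
  -- `N` as a module over the quotient
  have htors : Module.IsTorsionBySet A N (𝔞 : Set A) := fun n x => hkill x.1 x.2 n
  letI : Module (A ⧸ 𝔞) N := htors.module
  have hst : IsScalarTower A (A ⧸ 𝔞) N := htors.isScalarTower
  have hfinB : Module.Finite (A ⧸ 𝔞) N := Module.Finite.of_restrictScalars_finite A (A ⧸ 𝔞) N
  let NB : ModuleCat.{u} (A ⧸ 𝔞) := ModuleCat.of (A ⧸ 𝔞) N
  let ch : ∀ i : ℤ, (Dual.inD A N ⟶ ω⟦i⟧) ≃ₗ[A]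
      (Dual.inD (A ⧸ 𝔞) N ⟶ (toD (W (algebraMap A (A ⧸ 𝔞)) E₀))⟦i⟧) := fun i =>
    (Linear.homCongr A
      (inDMapIso (PolyDual.resScEquiv (A := A) (B := A ⧸ 𝔞) N).toModuleIso.symm)
      ((shiftFunctor (Dual.D A) i).mapIso e.symm)) ≪≫ₗ (ConvDual.extCoextEquiv (B := A ⧸ 𝔞) E₀ NB i).symm
  constructor
  · intro i hi
    have hprime : ∀ q : PrimeSpectrum (A ⧸ 𝔞),
        q.asIdeal = IsLocalRing.maximalIdeal (A ⧸ 𝔞) := fun q =>
      IsLocalRing.eq_maximalIdeal (isMaximal_of_isPrime_quotient_pow k q.asIdeal)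
    have h1 : Bass.VanishAt (toD (W (algebraMap A (A ⧸ 𝔞)) E₀)) i
        ((A ⧸ 𝔞) ⧸ IsLocalRing.maximalIdeal (A ⧸ 𝔞)) := hnT i hi
    have h2 : Subsingleton (Dual.inD (A ⧸ 𝔞) N ⟶ (toD (W (algebraMap A (A ⧸ 𝔞)) E₀))⟦i⟧) :=
      MinPrime.vanishAt_of_unique_prime _ hprime h1 N
    exact (ch i).subsingleton
  · -- degree zero
    let T := toD (W (algebraMap A (A ⧸ 𝔞)) E₀)
    let EB : ModuleCat.{u} (A ⧸ 𝔞) := ModuleCat.of (A ⧸ 𝔞) (LocCoh.torsionBy 𝔞 EE)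
    let c0 : (Dual.inD A N ⟶ ω) ≃ₗ[A] (Dual.inD A N ⟶ ω⟦(0 : ℤ)⟧) :=
      Linear.homCongr A (Iso.refl _) ((shiftFunctorZero (Dual.D A) ℤ).app ω).symm
    let c2 : (Dual.inD (A ⧸ 𝔞) N ⟶ T⟦(0 : ℤ)⟧) ≃ₗ[A ⧸ 𝔞]
        (Dual.inD (A ⧸ 𝔞) N ⟶ Dual.inD (A ⧸ 𝔞) (LocCoh.torsionBy 𝔞 EE)) :=
      Linear.homCongr (A ⧸ 𝔞) (Iso.refl _) ((shiftFunctorZero (Dual.D (A ⧸ 𝔞)) ℤ).app T ≪≫ eT)
    let c3 : (NB ⟶ EB) ≃ₗ[A ⧸ 𝔞]
        (Dual.inD (A ⧸ 𝔞) N ⟶ Dual.inD (A ⧸ 𝔞) (LocCoh.torsionBy 𝔞 EE)) :=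
      LinearEquiv.ofBijective
        ((DerivedCategory.singleFunctor (ModuleCat.{u} (A ⧸ 𝔞)) 0).mapLinearMap (A ⧸ 𝔞))
        ⟨(DerivedCategory.singleFunctor (ModuleCat.{u} (A ⧸ 𝔞)) 0).map_injective,
          (DerivedCategory.singleFunctor (ModuleCat.{u} (A ⧸ 𝔞)) 0).map_surjective⟩
    let c4 : (NB ⟶ EB) ≃ₗ[A ⧸ 𝔞] (N →ₗ[A ⧸ 𝔞] LocCoh.torsionBy 𝔞 EE) :=
      ModuleCat.homLinearEquiv (S := A ⧸ 𝔞)
    let cB : (Dual.inD (A ⧸ 𝔞) N ⟶ T⟦(0 : ℤ)⟧) ≃ₗ[A ⧸ 𝔞] (N →ₗ[A ⧸ 𝔞] LocCoh.torsionBy 𝔞 EE) :=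
      c2 ≪≫ₗ c3.symm ≪≫ₗ c4
    let c1 := c0 ≪≫ₗ ch 0
    refine ⟨{ toFun := fun y => homTorsionEquiv 𝔞 N EE (cB (c1 y))
              invFun := fun v => c1.symm (cB.symm ((homTorsionEquiv 𝔞 N EE).symm v))
              left_inv := fun y => by simp
              right_inv := fun v => by simp
              map_add' := fun y y' => by rw [map_add, map_add, map_add]
              map_smul' := fun r y => ?_ }⟩
    have h1 : c1 (r • y) = (Ideal.Quotient.mk 𝔞 r) • c1 y := by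
      rw [map_smul]
      rfl
    rw [h1, map_smul, homTorsionEquiv_smul]
    rfl

end Main

end Groth.Agent.Lib.Helper12.FLDual
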