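import Mathlib
import Groth.Agent.Lib.Helper12.DimensionFunction
import Groth.Agent.Lib.Helper12.ArtinianDualizing
import Groth.Agent.Lib.Helper12.ShriekDualizing
import Groth.Agent.Lib.Helper2.InjHull6

/-!
# The cohomology of a normalized dualizing complex at a minimal prime (helper12)
-/

set_option autoImplicit false
universe u
open CategoryTheory CategoryTheory.Limits
attribute [local instance] HasDerivedCategory.standard
namespace Groth.Agent.Lib.Helper12.DimFn
open Groth.Agent.Lib.Helper12 Groth.Agent.Lib.Helper12.FlatHomBC DRing Pretriangulated TensorProduct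
open Groth.Agent.Lib.Helper12.Bass Groth.Agent.Lib.Helper12.ModDual
open Groth.Agent.Lib.Helper36.InjAmp

section MinPrime
variable {A : Type u} [CommRing A] [IsNoetherianRing A]
attribute [local instance] homModA homModAMod

/-- comparison of the localized `Ext(A/p, ω)` with `Ext(κ(p), ω_p)` -/
theorem nonempty_localized_hom_equiv (ω : Dual.D A) (hω : Dual.IsDualizing A ω) (p : Ideal A)
    [hp : p.IsPrime] (i : ℤ) :
    Nonempty (LocalizedModule p.primeCompl (Dual.inD A (A ⧸ p) ⟶ ω⟦i⟧) ≃
      (Dual.inD (Localization.AtPrime p)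
        (Localization.AtPrime p ⧸ IsLocalRing.maximalIdeal (Localization.AtPrime p)) ⟶
        ((extScD A (Localization.AtPrime p)).obj ω)⟦i⟧)) := by
  let S : Submonoid A := p.primeCompl
  let B := Localization.AtPrime p
  haveI : Module.Flat A B := IsLocalization.flat _ S
  obtain ⟨a, b, hab⟩ := hω.finite_injective_dimension
  have hz := DualizingBC.isZero_HF_of_finite_injective_dimension ω a b hab
  have hlow : ∀ j : ℤ, j < a → IsZero ((HF A j).obj ω) := fun j hj => hz j (Or.inl hj)
  have hq : p.map (algebraMap A B) = IsLocalRing.maximalIdeal B :=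
    Localization.AtPrime.map_eq_maximalIdeal
  let e : (extScD A B).obj (Dual.inD A (A ⧸ p)) ≅
      Dual.inD B (B ⧸ IsLocalRing.maximalIdeal B) :=
    extScD_inD (A ⧸ p) ≪≫ inDMapIso
      (Algebra.TensorProduct.quotIdealMapEquivTensorQuot B p).toLinearEquiv.symm.toModuleIso ≪≫
      inDMapIso (Submodule.quotEquivOfEq _ _ hq).toModuleIso
  let e3 := (IsLocalizedModule.isBaseChange S B
    (LocalizedModule.mkLinearMap S (Dual.inD A (A ⧸ p) ⟶ ω⟦i⟧))).equiv
  let e4 := Equiv.ofBijective _ (bijective_homBCShift (B := B) (Dual.inD A (A ⧸ p)) ω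
    (DualizingBC.isPseudoCoherent'_inD (A ⧸ p)) a hlow i)
  exact ⟨e3.symm.toEquiv.trans (e4.trans (Iso.homCongr e (Iso.refl _)))⟩

/-- **at a minimal prime the degree of `Ext(A/p, ω)_p` is the degree of the cohomology of
`ω_p`** -/
theorem nontrivial_localized_HD_iff_of_minimal (ω : Dual.D A) (hω : Dual.IsDualizing A ω)
    (p : Ideal A) (hp : p ∈ minimalPrimes A) (d : ℤ)
    (hd : ∀ i : ℤ, Nontrivial (LocalizedModule (Ideal.primeCompl p (hp := hp.1.1))
      (Dual.inD A (A ⧸ p) ⟶ ω⟦i⟧)) ↔ i = d) (i : ℤ) :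
    Nontrivial (LocalizedModule (Ideal.primeCompl p (hp := hp.1.1)) (Dual.HD A ω i)) ↔
      i = d := by
  haveI : p.IsPrime := hp.1.1
  let S : Submonoid A := p.primeCompl
  let B := Localization.AtPrime p
  haveI : Module.Flat A B := IsLocalization.flat _ S
  haveI : IsNoetherianRing B := IsLocalization.isNoetherianRing S _ inferInstance
  have hωB : Dual.IsDualizing B ((extScD A B).obj ω) :=
    DualizingBC.isDualizing_extScD_of_ideals_extended (B := B)
      (fun J => ⟨J.under A, IsLocalization.map_under S _ J⟩) ω hω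
  have hB : ∀ j : ℤ, Nontrivial (Dual.inD B (B ⧸ IsLocalRing.maximalIdeal B) ⟶
      ((extScD A B).obj ω)⟦j⟧) ↔ j = d := by
    intro j
    obtain ⟨c⟩ := nonempty_localized_hom_equiv ω hω p j
    rw [← hd j]
    exact ⟨fun h => by
      haveI := h
      exact c.nontrivial, fun h => by
      haveI := h
      exact c.symm.nontrivial⟩
  -- all primes of `B` are maximal
  have hprime : ∀ q : PrimeSpectrum B, q.asIdeal = IsLocalRing.maximalIdeal B := by
    intro q
    have h1 : q.asIdeal.comap (algebraMap A B) ≤ p := by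
      have := IsLocalRing.le_maximalIdeal q.isPrime.ne_top
      intro x hx
      have h2 : algebraMap A B x ∈ IsLocalRing.maximalIdeal B := this hx
      exact (IsLocalization.AtPrime.to_map_mem_maximal_iff B p x).mp h2
    have h2 : p ≤ q.asIdeal.comap (algebraMap A B) :=
      hp.2 ⟨Ideal.comap_isPrime _ _, bot_le⟩ h1
    have h3 : q.asIdeal.comap (algebraMap A B) = p := le_antisymm h1 h2
    have h4 : q.asIdeal = (q.asIdeal.comap (algebraMap A B)).map (algebraMap A B) :=
      (IsLocalization.map_under S _ _).symm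
    rw [h4, h3]
    exact Localization.AtPrime.map_eq_maximalIdeal
  have h0 : ringKrullDim B = 0 := by
    have hK : Ring.KrullDimLE 0 B := Ring.krullDimLE_zero_iff.mpr (fun P hP => by
      have := hprime ⟨P, hP⟩
      change P = _ at this
      rw [this]
      exact IsLocalRing.maximalIdeal.isMaximal B)
    exact le_antisymm (by exact_mod_cast Ring.krullDimLE_iff.mp hK)
      ringKrullDim_nonneg_of_nontrivial
  -- the shifted complex is normalized
  have hω' : Dual.IsDualizing B (((extScD A B).obj ω)⟦d⟧) := Shriek.isDualizing_shift _ hωB d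
  have hn' : Dual.IsNormalized B (((extScD A B).obj ω)⟦d⟧) := by
    intro j hj
    have h1 : ¬ Nontrivial (Dual.inD B (B ⧸ IsLocalRing.maximalIdeal B) ⟶
        ((extScD A B).obj ω)⟦d + j⟧) := fun h => by
      have := (hB (d + j)).mp h
      omega
    rw [not_nontrivial_iff_subsingleton] at h1
    have h1' : Subsingleton (Dual.inD B (IsLocalRing.ResidueField B) ⟶
        ((extScD A B).obj ω)⟦d + j⟧) := h1
    exact ⟨fun x y => by
      rw [← cancel_mono ((shiftFunctorAdd' (Dual.D B) d j (d + j) rfl).app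
        ((extScD A B).obj ω)).inv]
      exact Subsingleton.elim _ _⟩
  obtain ⟨E, _, _, f, hf⟩ :=
    Groth.Agent.Lib.Helper2.exists_injectiveHull B (IsLocalRing.ResidueField B)
  obtain ⟨eT⟩ := ArtDual.nonempty_iso_inD_injectiveHull h0 _ hω' hn' E f hf
  have hEnt : Nontrivial E := hf.injective.nontrivial
  -- cohomology of `ω_B`
  have hHF : ∀ j : ℤ, IsZero ((HF B j).obj ((extScD A B).obj ω)) ↔ j ≠ d := by
    intro j
    let e1 : (HF B (j - d)).obj (((extScD A B).obj ω)⟦d⟧) ≅ (HF B j).obj ((extScD A B).obj ω) :=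
      (HFShiftIso (A := B) d (j - d) j (by omega)).app _
    let e2 : (HF B (j - d)).obj (((extScD A B).obj ω)⟦d⟧) ≅ (HF B (j - d)).obj (Dual.inD B E) :=
      (HF B (j - d)).mapIso eT
    constructor
    · intro hz hjd
      subst hjd
      have h1 : IsZero ((HF B (j - j)).obj (Dual.inD B E)) := hz.of_iso (e2.symm ≪≫ e1)
      rw [sub_self] at h1
      have h2 : IsZero (ModuleCat.of B E) := h1.of_iso (HFSingleIso 0 (ModuleCat.of B E)).symm
      have := ModuleCat.subsingleton_of_isZero h2
      exact not_subsingleton E this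
    · intro hjd
      exact (isZero_HF_single 0 (ModuleCat.of B E) (j - d) (by omega)).of_iso (e1.symm ≪≫ e2)
  rw [MinPrime.nontrivial_localizedModule_iff S ω i]
  change ¬ IsZero ((HF B i).obj ((extScD A B).obj ω)) ↔ i = d
  rw [hHF i, not_not]

end MinPrime
section Local
variable {A : Type u} [CommRing A] [IsLocalRing A] [IsNoetherianRing A]

/-- for a normalized dualizing complex over a local ring the degree of a prime is minus its
coheight -/
theorem degree_eq_neg_coheight (ω : Dual.D A) (hω : Dual.IsDualizing A ω)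
    (hn : Dual.IsNormalized A ω) (d : PrimeSpectrum A → ℤ)
    (hd : ∀ (P : PrimeSpectrum A) (i : ℤ), Nontrivial (LocalizedModule P.asIdeal.primeCompl
      (Dual.inD A (A ⧸ P.asIdeal) ⟶ ω⟦i⟧)) ↔ i = d P) :
    ∀ (n : ℕ) (P : PrimeSpectrum A), Order.coheight P = n → d P = -(n : ℤ) := by
  intro n
  induction n with
  | zero =>
    intro P hP
    have hmax : IsMax P := Order.coheight_eq_zero.mp (by exact_mod_cast hP)
    have hPm : P = IsLocalRing.closedPoint A := by
      have h1 : P ≤ IsLocalRing.closedPoint A :=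
        IsLocalRing.le_maximalIdeal P.isPrime.ne_top
      exact le_antisymm h1 (hmax h1)
    subst hPm
    by_contra hne
    have h1 : d (IsLocalRing.closedPoint A) ≠ 0 := by simpa using hne
    have h2 := (hd (IsLocalRing.closedPoint A) (d (IsLocalRing.closedPoint A))).mpr rfl
    have h3 : Subsingleton (Dual.inD A (A ⧸ (IsLocalRing.closedPoint A).asIdeal) ⟶
        ω⟦d (IsLocalRing.closedPoint A)⟧) := hn _ h1
    have h4 : Subsingleton (LocalizedModule (IsLocalRing.closedPoint A).asIdeal.primeCompl
        (Dual.inD A (A ⧸ (IsLocalRing.closedPoint A).asIdeal) ⟶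
          ω⟦d (IsLocalRing.closedPoint A)⟧)) := by
      rw [LocalizedModule.subsingleton_iff]
      intro m
      exact ⟨1, Submonoid.one_mem _, Subsingleton.elim _ _⟩
    exact not_subsingleton _ h4
  | succ n ih =>
    intro P hP
    have hP' : Order.coheight P = (n : ℕ∞) + 1 := by exact_mod_cast hP
    obtain ⟨-, ⟨y, hy, hcy⟩, hall⟩ := Order.coheight_eq_coe_add_one_iff.mp hP'
    have hlt : P.asIdeal < y.asIdeal := hy
    have hcov : ∀ Q : Ideal A, Q.IsPrime → P.asIdeal < Q → Q ≤ y.asIdeal → Q = y.asIdeal := by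
      intro Q hQ hPQ hQy
      by_contra hne
      have h1 : P < (⟨Q, hQ⟩ : PrimeSpectrum A) := hPQ
      have h2 : (⟨Q, hQ⟩ : PrimeSpectrum A) < y := lt_of_le_of_ne hQy (fun h => hne (by
        rw [← h]))
      have h3 := hall ⟨Q, hQ⟩ h1
      have h4 := Order.coheight_add_one_le h2
      rw [hcy] at h4
      have h5 : (n : ℕ∞) + 1 ≤ n := h4.trans h3
      have h6 : (n + 1 : ℕ) ≤ n := by exact_mod_cast h5
      omega
    have h1 := degree_succ ω hω P.asIdeal y.asIdeal hlt hcov (d P) (d y) (hd P) (hd y)
    have h2 := ih y hcy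
    push_cast
    omega

/-- **the cohomology of a normalized dualizing complex at a minimal prime** -/
theorem nontrivial_localized_HD_iff (ω : Dual.D A) (hω : Dual.IsDualizing A ω)
    (hn : Dual.IsNormalized A ω) (p : Ideal A) (hp : p ∈ minimalPrimes A) (e : ℕ)
    (he : ringKrullDim (A ⧸ p) = e) (i : ℤ) :
    Nontrivial (LocalizedModule (Ideal.primeCompl p (hp := hp.1.1)) (Dual.HD A ω i)) ↔
      i = -(e : ℤ) := by
  haveI : p.IsPrime := hp.1.1
  choose d hd using fun P : PrimeSpectrum A => exists_degree ω hω P.asIdeal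
  let P : PrimeSpectrum A := ⟨p, hp.1.1⟩
  have hco : Order.coheight P = e := by
    have h1 : PrimeSpectrum.zeroLocus (p : Set A) = Set.Ici P := by
      ext Q
      rw [PrimeSpectrum.mem_zeroLocus, Set.mem_Ici]
      rfl
    have h2 : ((Order.coheight P : ℕ∞) : WithBot ℕ∞) = ((e : ℕ∞) : WithBot ℕ∞) := by
      rw [Order.coheight_eq_krullDim_Ici, ← h1, ← ringKrullDim_quotient, he]
      rfl
    exact_mod_cast h2
  have hdP : d P = -(e : ℤ) := degree_eq_neg_coheight ω hω hn d hd e P hco
  have := nontrivial_localized_HD_iff_of_minimal ω hω p hp (d P) (hd P) i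
  rw [this, hdP]

end Local

end Groth.Agent.Lib.Helper12.DimFn
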