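import Mathlib
import Groth.Agent.Lib.Helper12.MinimalPrimeDegree
import Groth.Agent.Lib.Helper12.BassCriterion
import Groth.Agent.Lib.Helper12.DetectsZero
import Groth.Agent.S0364

/-!
# A pointwise dualizing complex over a ring of finite Krull dimension is dualizing (helper12)
-/

set_option autoImplicit false
universe u
open CategoryTheory CategoryTheory.Limits
attribute [local instance] HasDerivedCategory.standard
namespace Groth.Agent.Lib.Helper12.PtDual
open Groth.Agent.Lib.Helper12 Groth.Agent.Lib.Helper12.FlatHomBC DRing Pretriangulated TensorProduct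
open Groth.Agent.Lib.Helper12.Bass Groth.Agent.Lib.Helper12.ModDual
open Groth.Agent.Lib.Helper12.DimFn
open Groth.Agent.Lib.Helper36.InjAmp

lemma exists_nat_eq_of_le (x : WithBot ℕ∞) (D : ℕ) (h0 : 0 ≤ x) (hD : x ≤ (D : WithBot ℕ∞)) :
    ∃ e : ℕ, x = (e : WithBot ℕ∞) ∧ e ≤ D := by
  cases x with
  | bot => exact absurd h0 (by simp)
  | coe n =>
    have hn : n ≤ (D : ℕ∞) := by exact_mod_cast hD
    obtain ⟨k, rfl⟩ := ENat.ne_top_iff_exists.mp (ne_top_of_le_ne_top (ENat.natCast_ne_top D) hn)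
    exact ⟨k, rfl, by exact_mod_cast hn⟩

lemma exists_nat_le_of_lt_top (x : WithBot ℕ∞) (h : x < ⊤) : ∃ D : ℕ, x ≤ (D : WithBot ℕ∞) := by
  cases x with
  | bot => exact ⟨0, bot_le⟩
  | coe n =>
    have hn : n ≠ ⊤ := by
      rintro rfl
      exact lt_irrefl _ h
    obtain ⟨k, rfl⟩ := ENat.ne_top_iff_exists.mp hn
    exact ⟨k, le_rfl⟩

section Gen
variable {A : Type u} [CommRing A]

lemma nontrivial_localizedModule_of_linearEquiv {S : Submonoid A} {M N : Type*} [AddCommGroup M]
    [Module A M] [AddCommGroup N] [Module A N] (e : M ≃ₗ[A] N)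
    (h : Nontrivial (LocalizedModule S M)) : Nontrivial (LocalizedModule S N) := by
  rw [← not_subsingleton_iff_nontrivial] at h ⊢
  intro h2
  apply h
  rw [← zq_iff] at h2 ⊢
  exact h2.of_linearEquiv e.symm

lemma zq_tensor {B : Type u} [CommRing B] [Algebra A B] (P : Ideal B) [hP : P.IsPrime]
    (H : Type u) [AddCommGroup H] [Module A H]
    (h : Zq (P.comap (algebraMap A B)).primeCompl H) :
    Zq (A := B) P.primeCompl (B ⊗[A] H) := by
  intro y
  induction y using TensorProduct.induction_on with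
  | zero => exact ⟨1, Submonoid.one_mem _, smul_zero _⟩
  | tmul b x =>
    obtain ⟨s, hs, hsx⟩ := h x
    refine ⟨algebraMap A B s, fun hmem => hs (Ideal.mem_comap.mpr hmem), ?_⟩
    rw [TensorProduct.smul_tmul', algebraMap_smul, TensorProduct.smul_tmul, hsx,
      TensorProduct.tmul_zero]
  | add y₁ y₂ h₁ h₂ =>
    obtain ⟨s₁, hs₁, h1⟩ := h₁
    obtain ⟨s₂, hs₂, h2⟩ := h₂
    refine ⟨s₁ * s₂, Submonoid.mul_mem _ hs₁ hs₂, ?_⟩
    have e1 : (s₁ * s₂) • y₁ = s₂ • s₁ • y₁ := by rw [mul_comm, mul_smul]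
    rw [smul_add, e1, h1, smul_zero, mul_smul, h2, smul_zero, add_zero]

end Gen

section StepA
variable {A : Type u} [CommRing A] [IsNoetherianRing A]

/-- uniform upper bound for the cohomology at the minimal primes -/
theorem exists_upper_bound_minimal (R : Dual.D A)
    (hloc : ∀ p : PrimeSpectrum A, Dual.IsDualizing (Localization.AtPrime p.asIdeal)
      ((extScD A (Localization.AtPrime p.asIdeal)).obj R)) :
    ∃ C : ℤ, ∀ (p : Ideal A) (hp : p ∈ minimalPrimes A) (j : ℤ), C < j →
      Zq (Ideal.primeCompl p (hp := hp.1.1)) (Dual.HD A R j) := by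
  haveI : Finite (minimalPrimes A) := (minimalPrimes.finite_of_isNoetherianRing A).to_subtype
  choose a b hab using fun q : minimalPrimes A =>
    (hloc ⟨q.1, q.2.1.1⟩).finite_injective_dimension
  obtain ⟨C, hC⟩ := Finite.exists_le b
  refine ⟨C, fun p hp j hj => ?_⟩
  haveI : p.IsPrime := hp.1.1
  rw [zq_iff, ← not_nontrivial_iff_subsingleton,
    MinPrime.nontrivial_localizedModule_iff p.primeCompl R j, not_not]
  have := hC ⟨p, hp⟩
  exact DualizingBC.isZero_HF_of_finite_injective_dimension _ (a ⟨p, hp⟩) (b ⟨p, hp⟩)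
    (hab ⟨p, hp⟩) j (Or.inr (by omega))

end StepA

section StepC
variable {B : Type u} [CommRing B] [IsLocalRing B] [IsNoetherianRing B]

/-- over a local ring: the top cohomology at a minimal prime sits in degree `n - dim B/P` where
`n` is the degree of the residue field -/
theorem nontrivial_localized_HD_of_degree (ω : Dual.D B) (hω : Dual.IsDualizing B ω) (n : ℤ)
    (hn : ∀ i : ℤ, i ≠ n → Subsingleton (Dual.inD B (B ⧸ IsLocalRing.maximalIdeal B) ⟶ ω⟦i⟧))
    (P : Ideal B) (hP : P ∈ minimalPrimes B) (e : ℕ) (he : ringKrullDim (B ⧸ P) = e) :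
    Nontrivial (LocalizedModule (Ideal.primeCompl P (hp := hP.1.1)) (Dual.HD B ω (n - e))) := by
  haveI : P.IsPrime := hP.1.1
  have hω' : Dual.IsDualizing B (ω⟦n⟧) := Shriek.isDualizing_shift _ hω n
  have hn' : Dual.IsNormalized B (ω⟦n⟧) := by
    intro j hj
    have h1' : Subsingleton (Dual.inD B (IsLocalRing.ResidueField B) ⟶ ω⟦n + j⟧) :=
      hn (n + j) (by omega)
    exact ⟨fun x y => by
      rw [← cancel_mono ((shiftFunctorAdd' (Dual.D B) n j (n + j) rfl).app ω).inv]
      exact Subsingleton.elim _ _⟩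
  have h1 := (nontrivial_localized_HD_iff (ω⟦n⟧) hω' hn' P hP e he (-(e : ℤ))).mpr rfl
  exact nontrivial_localizedModule_of_linearEquiv
    ((HFShiftIso (A := B) n (-(e : ℤ)) (n - e) (by omega)).app ω).toLinearEquiv h1

end StepC

section StepD
variable {A : Type u} [CommRing A] [IsNoetherianRing A]
attribute [local instance] homModA homModAMod

/-- comparison of the localized `Ext(A/p, R)` with `Ext(κ(p), R_p)` for bounded below `R` -/
theorem nonempty_localized_hom_equiv' (R : Dual.D A) (a : ℤ)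
    (hlow : ∀ j : ℤ, j < a → IsZero ((HF A j).obj R)) (p : Ideal A)
    [hp : p.IsPrime] (i : ℤ) :
    Nonempty (LocalizedModule p.primeCompl (Dual.inD A (A ⧸ p) ⟶ R⟦i⟧) ≃
      (Dual.inD (Localization.AtPrime p)
        (Localization.AtPrime p ⧸ IsLocalRing.maximalIdeal (Localization.AtPrime p)) ⟶
        ((extScD A (Localization.AtPrime p)).obj R)⟦i⟧)) := by
  let S : Submonoid A := p.primeCompl
  let B := Localization.AtPrime p
  haveI : Module.Flat A B := IsLocalization.flat _ S
  have hq : p.map (algebraMap A B) = IsLocalRing.maximalIdeal B :=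
    Localization.AtPrime.map_eq_maximalIdeal
  let e : (extScD A B).obj (Dual.inD A (A ⧸ p)) ≅
      Dual.inD B (B ⧸ IsLocalRing.maximalIdeal B) :=
    extScD_inD (A ⧸ p) ≪≫ inDMapIso
      (Algebra.TensorProduct.quotIdealMapEquivTensorQuot B p).toLinearEquiv.symm.toModuleIso ≪≫
      inDMapIso (Submodule.quotEquivOfEq _ _ hq).toModuleIso
  let e3 := (IsLocalizedModule.isBaseChange S B
    (LocalizedModule.mkLinearMap S (Dual.inD A (A ⧸ p) ⟶ R⟦i⟧))).equiv
  let e4 := Equiv.ofBijective _ (bijective_homBCShift (B := B) (Dual.inD A (A ⧸ p)) R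
    (DualizingBC.isPseudoCoherent'_inD (A ⧸ p)) a hlow i)
  exact ⟨e3.symm.toEquiv.trans (e4.trans (Iso.homCongr e (Iso.refl _)))⟩

/-- vanishing of `Ext(A/m, R)` can be checked after localizing at the maximal ideal `m` -/
theorem subsingleton_hom_maximal (R : Dual.D A) (a : ℤ)
    (hlow : ∀ j : ℤ, j < a → IsZero ((HF A j).obj R)) (m : Ideal A) [hm : m.IsMaximal] (i : ℤ)
    (h : Subsingleton (Dual.inD (Localization.AtPrime m)
        (Localization.AtPrime m ⧸ IsLocalRing.maximalIdeal (Localization.AtPrime m)) ⟶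
        ((extScD A (Localization.AtPrime m)).obj R)⟦i⟧)) :
    Subsingleton (Dual.inD A (A ⧸ m) ⟶ R⟦i⟧) := by
  obtain ⟨c⟩ := nonempty_localized_hom_equiv' R a hlow m i
  have h1 : Subsingleton (LocalizedModule m.primeCompl (Dual.inD A (A ⧸ m) ⟶ R⟦i⟧)) :=
    c.subsingleton
  rw [← zq_iff] at h1
  have hkill : ∀ y ∈ m, ∀ f : Dual.inD A (A ⧸ m) ⟶ R⟦i⟧, y • f = 0 := by
    intro y hy f
    rw [← map_lsmul_comp y (A ⧸ m) f]
    have h0 : ModuleCat.ofHom (LinearMap.lsmul A (A ⧸ m) y) = 0 := by
      refine ModuleCat.hom_ext (LinearMap.ext fun z => ?_)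
      show y • z = 0
      obtain ⟨z, rfl⟩ := Ideal.Quotient.mk_surjective z
      rw [← Ideal.Quotient.mk_eq_mk, ← Submodule.Quotient.mk_smul, Submodule.Quotient.mk_eq_zero]
      exact m.mul_mem_right z hy
    rw [h0, Functor.map_zero, zero_comp]
  have h0 : ∀ f : Dual.inD A (A ⧸ m) ⟶ R⟦i⟧, f = 0 := by
    intro f
    obtain ⟨s, hs, hsf⟩ := h1 f
    obtain ⟨y, z, hz, hyz⟩ := hm.exists_inv hs
    have : f = (y * s + z) • f := by rw [hyz, one_smul]
    rw [this, add_smul, mul_smul, hsf, smul_zero, hkill z hz, add_zero]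
  exact ⟨fun f g => (h0 f).trans (h0 g).symm⟩

end StepD

section Main
variable {A : Type u} [CommRing A] [IsNoetherianRing A]

/-- **uniform bound for the degrees of the residue fields** -/
theorem exists_bound_maximal (hdim : ringKrullDim A < ⊤) (R : Dual.D A) (a : ℤ)
    (hlow : ∀ j : ℤ, j < a → IsZero ((HF A j).obj R))
    (hloc : ∀ p : PrimeSpectrum A, Dual.IsDualizing (Localization.AtPrime p.asIdeal)
      ((extScD A (Localization.AtPrime p.asIdeal)).obj R)) :
    ∃ b : ℤ, ∀ m : Ideal A, m.IsMaximal → ∀ i : ℤ, b < i →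
      Subsingleton (Dual.inD A (A ⧸ m) ⟶ R⟦i⟧) := by
  obtain ⟨C, hC⟩ := exists_upper_bound_minimal R hloc
  obtain ⟨D, hD⟩ := exists_nat_le_of_lt_top _ hdim
  refine ⟨C + D, fun m hm i hi => ?_⟩
  haveI := hm
  let B := Localization.AtPrime m
  haveI : IsNoetherianRing B := IsLocalization.isNoetherianRing m.primeCompl _ inferInstance
  haveI : Module.Flat A B := IsLocalization.flat _ m.primeCompl
  have hωB : Dual.IsDualizing B ((extScD A B).obj R) := hloc ⟨m, hm.isPrime⟩
  obtain ⟨n, hn, -⟩ := Groth.Agent.S0364.result B _ hωB (IsLocalRing.maximalIdeal B)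
  apply subsingleton_hom_maximal R a hlow m i
  apply hn
  intro hin
  subst hin
  obtain ⟨P, hP, -⟩ := Ideal.exists_minimalPrimes_le (I := (⊥ : Ideal B))
    (J := IsLocalRing.maximalIdeal B) bot_le
  haveI : P.IsPrime := hP.1.1
  have hBdim : ringKrullDim B ≤ D := by
    rw [IsLocalization.AtPrime.ringKrullDim_eq_height m B]
    exact Ideal.height_le_ringKrullDim_of_isPrime.trans hD
  obtain ⟨e, he, heD⟩ := exists_nat_eq_of_le (ringKrullDim (B ⧸ P)) D
    ringKrullDim_nonneg_of_nontrivial ((ringKrullDim_quotient_le P).trans hBdim)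
  have hnt := nontrivial_localized_HD_of_degree _ hωB i hn P hP e he
  have hp₀ : P.comap (algebraMap A B) ∈ minimalPrimes A := by
    have h1 := IsLocalization.minimalPrimes_map m.primeCompl B (⊥ : Ideal A)
    rw [Ideal.map_bot] at h1
    have h2 : P ∈ (⊥ : Ideal B).minimalPrimes := hP
    rw [h1] at h2
    exact h2
  by_cases hlt : C < i - e
  · have hz := hC _ hp₀ (i - e) hlt
    have hz' := zq_tensor P _ hz
    let e1 := ((HFExtIso (A := A) (B := B) (i - e)).app R).toLinearEquiv
    let e2 := extScObjEquiv (A := A) (B := B) ((HF A (i - e)).obj R)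
    have hz'' : Zq (A := B) P.primeCompl (Dual.HD B ((extScD A B).obj R) (i - e)) :=
      hz'.of_linearEquiv (e1.trans e2).symm
    rw [zq_iff] at hz''
    exact not_subsingleton _ hz''
  · have : (e : ℤ) ≤ D := by exact_mod_cast heD
    omega

/-- **a pointwise dualizing complex on a Noetherian ring of finite Krull dimension is
dualizing** -/
theorem isDualizing_of_pointwise (hdim : ringKrullDim A < ⊤) (R : Dual.D A)
    (hfin : ∀ i : ℤ, Module.Finite A (Dual.HD A R i))
    (hbdd : ∃ a : ℤ, ∀ i : ℤ, i < a → Subsingleton (Dual.HD A R i))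
    (hloc : ∀ p : PrimeSpectrum A, Dual.IsDualizing (Localization.AtPrime p.asIdeal)
      ((extScD A (Localization.AtPrime p.asIdeal)).obj R)) : Dual.IsDualizing A R := by
  obtain ⟨a, ha⟩ := hbdd
  have hlow : ∀ j : ℤ, j < a → IsZero ((HF A j).obj R) := fun j hj => by
    have := ha j hj
    exact ModuleCat.isZero_of_subsingleton _
  obtain ⟨b, hb⟩ := exists_bound_maximal hdim R a hlow hloc
  exact DualizingBC.isDualizing_of_detectsZero
    (fun p : PrimeSpectrum A => Localization.AtPrime p.asIdeal)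
    detectsZero_prime detectsZero_prime R hfin
    ⟨a, b, finite_injective_dimension_of_maximal R a b hlow hfin hb⟩ hloc

end Main
end Groth.Agent.Lib.Helper12.PtDual
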