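import Mathlib
import Groth.Agent.Lib.Helper12.ConverseDualizing
import Groth.Agent.Lib.Helper12.FiniteLengthDual
import Groth.Agent.Lib.Helper12.DualizingAscent
import Groth.Agent.Lib.Helper12.PointwiseDualizing
import Groth.Agent.S0364

/-!
# Ascent of dualizing complexes along flat maps with Gorenstein fibres (helper12)
-/

set_option autoImplicit false
universe u
open CategoryTheory CategoryTheory.Limits
attribute [local instance] HasDerivedCategory.standard
namespace Groth.Agent.Lib.Helper12.GorAscent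
open Groth.Agent.Lib.Helper12 DRing Groth.Agent.Lib.Helper12.ModDual
open Groth.Agent.Lib.Helper36.InjAmp Groth.Agent.Lib.Helper12.ResExt Groth.Agent.Lib.Helper12.FlatHomBC
open Groth.Agent.Lib.Helper12.CoextCx Groth.Agent.Lib.Helper12.FinDual
open Groth.Agent.Lib.Helper12.ConvDual TensorProduct

section StageA
variable {A B : Type u} [CommRing A] [CommRing B] [Algebra A B]
attribute [local instance] FinAdj.homModA'

/-- a `B`-module `A`-linearly isomorphic to `B` is `B`-linearly isomorphic to `B`, for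
`A → B` surjective -/
noncomputable def upgradeEquiv' (hs : Function.Surjective (algebraMap A B)) (Y : ModuleCat.{u} B)
    (e : (resSc (algebraMap A B)).obj Y ≃ₗ[A] B) : Y ≃ₗ[B] B where
  toFun y := e y
  invFun b := e.symm b
  left_inv := e.left_inv
  right_inv := e.right_inv
  map_add' := e.map_add
  map_smul' b y := by
    obtain ⟨a, rfl⟩ := hs b
    have h1 : (algebraMap A B a) • y = (a • (show (resSc (algebraMap A B)).obj Y from y)) := rfl
    rw [h1]
    change e (a • _) = _
    rw [map_smul]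
    rw [RingHom.id_apply, Algebra.smul_def, smul_eq_mul]

/-- if `Ext_A(B, E)` is `B` in exactly one degree `d`, the coextension of `E` is `B[-d]` -/
theorem nonempty_coext_iso_shift (hs : Function.Surjective (algebraMap A B))
    (E : Cx A) [E.IsKInjective] [(W (algebraMap A B) E).IsKInjective] (d : ℤ)
    (hvan : ∀ i : ℤ, i ≠ d → ∀ f : Dual.inD A B ⟶ (toD E)⟦i⟧, f = 0)
    (hd : Nonempty ((Dual.inD A B ⟶ (toD E)⟦d⟧) ≃ₗ[A] B)) :
    Nonempty (toD (W (algebraMap A B) E) ≅ (Dual.inD B B)⟦-d⟧) := by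
  obtain ⟨hd⟩ := hd
  have hz : ∀ j : ℤ, j ≠ d → IsZero ((HF B j).obj (toD (W (algebraMap A B) E))) := by
    intro j hj
    have : Subsingleton (Dual.inD A B ⟶ (toD E)⟦j⟧) :=
      ⟨fun f g => (hvan j hj f).trans (hvan j hj g).symm⟩
    have h1 : Subsingleton ((resSc (algebraMap A B)).obj
        ((HF B j).obj (toD (W (algebraMap A B) E)))) := (HFCoextEquiv E j).subsingleton
    have h2 : Subsingleton ((HF B j).obj (toD (W (algebraMap A B) E))) := h1
    exact ModuleCat.isZero_of_subsingleton _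
  obtain ⟨Y, ⟨e⟩, ⟨eY⟩⟩ := exists_iso_single _ d hz
  let e1 : (resSc (algebraMap A B)).obj Y ≃ₗ[A] B :=
    ((resSc (algebraMap A B)).mapIso eY).symm.toLinearEquiv ≪≫ₗ HFCoextEquiv E d ≪≫ₗ hd
  let e2 : Y ≅ ModuleCat.of B B := (upgradeEquiv' hs Y e1).toModuleIso
  exact ⟨e ≪≫ (DerivedCategory.singleFunctor (ModuleCat.{u} B) d).mapIso e2 ≪≫
      singleFunctorShiftIso d (ModuleCat.of B B)⟩

end StageA

section StageB
variable {A D : Type u} [CommRing A] [CommRing D] [Algebra A D] [Module.Flat A D]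

/-- a bounded below injective model of the base change of a dualizing complex -/
theorem exists_injective_model_extScD (ω : Dual.D A) (hω : Dual.IsDualizing A ω) :
    ∃ (a' : ℤ) (L : Cx D), (∀ i, Injective (L.X i)) ∧ (∀ j : ℤ, j < a' → IsZero (L.X j)) ∧
      Nonempty (toD L ≅ (extScD A D).obj ω) := by
  obtain ⟨a', b', E, hE, hinj, ⟨e⟩⟩ := exists_injective_model ω hω
  let K : Cx D := ((extSc A D).mapHomologicalComplex (ComplexShape.up ℤ)).obj E
  have hK : K.IsStrictlyGE a' := by
    rw [CochainComplex.isStrictlyGE_iff]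
    intro j hj
    exact (extSc A D).map_isZero (hE j (Or.inl hj))
  obtain ⟨L, i, hi, hL, hLGE⟩ :=
    CochainComplex.Plus.modelCategoryQuillen.exists_quasiIso_injective K a'
  refine ⟨a', L, hL, fun j hj => CochainComplex.isZero_of_isStrictlyGE L a' j hj, ⟨?_⟩⟩
  exact (asIso (DerivedCategory.Q.map i)).symm ≪≫ (extScD_toD E).symm ≪≫
    (extScD A D).mapIso e

end StageB

section StageC
variable {A D : Type u} [CommRing A] [CommRing D] [IsLocalRing A] [IsLocalRing D]
  [IsNoetherianRing A] [IsNoetherianRing D] [Algebra A D] [Module.Flat A D]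
attribute [local instance] FinAdj.homModA' homModA homModAMod

set_option maxHeartbeats 1600000 in
/-- **ascent of dualizing complexes along a flat local homomorphism whose closed fibre has `B̄[0]`
as a dualizing complex (i.e. is Gorenstein)** -/
theorem isDualizing_extScD_of_fibre (J : Ideal D)
    (hJ : J = (IsLocalRing.maximalIdeal A).map (algebraMap A D))
    (hle : J ≤ IsLocalRing.maximalIdeal D)
    (hG : Dual.IsDualizing (D ⧸ J) (Dual.inD (D ⧸ J) (D ⧸ J)))
    (ω : Dual.D A) (hω : Dual.IsDualizing A ω) :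
    Dual.IsDualizing D ((extScD A D).obj ω) := by
  subst hJ
  set J : Ideal D := (IsLocalRing.maximalIdeal A).map (algebraMap A D) with hJ
  have hnt : Nontrivial (D ⧸ J) := Ideal.Quotient.nontrivial_iff.mpr (fun h =>
    (IsLocalRing.maximalIdeal.isMaximal D).ne_top (top_le_iff.mp (h ▸ hle)))
  have hloc : IsLocalRing (D ⧸ J) :=
    IsLocalRing.of_surjective' (Ideal.Quotient.mk J) Ideal.Quotient.mk_surjective
  obtain ⟨d, hd1, ⟨hd2⟩⟩ := Groth.Agent.S0364.result A ω hω (IsLocalRing.maximalIdeal A)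
  obtain ⟨e', he1, ⟨he2⟩⟩ := Groth.Agent.S0364.result (D ⧸ J) _ hG
    (IsLocalRing.maximalIdeal (D ⧸ J))
  obtain ⟨a, b, hab⟩ := hω.finite_injective_dimension
  have hz := DualizingBC.isZero_HF_of_finite_injective_dimension ω a b hab
  have hlow : ∀ j : ℤ, j < a → IsZero ((HF A j).obj ω) := fun j hj => hz j (Or.inl hj)
  obtain ⟨a', L, hLinj, hLGE, ⟨eL⟩⟩ := exists_injective_model_extScD (D := D) ω hω
  have hGE : L.IsStrictlyGE a' := by
    rw [CochainComplex.isStrictlyGE_iff]
    exact hLGE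
  have hKI : L.IsKInjective := CochainComplex.isKInjective_of_injective L a'
  have hKW : (W (algebraMap D (D ⧸ J)) L).IsKInjective :=
    isKInjective_W _ L a' hLGE hLinj
  -- `Ext_D(D/J, R)`
  let eJ : (D ⧸ J) ≃ₗ[D] D ⊗[A] (A ⧸ IsLocalRing.maximalIdeal A) :=
    (Algebra.TensorProduct.quotIdealMapEquivTensorQuot D (IsLocalRing.maximalIdeal A)).toLinearEquiv
  have hW0 : ∀ i : ℤ, i ≠ d → ∀ f : Dual.inD D (D ⧸ J) ⟶ (toD L)⟦i⟧, f = 0 := by
    intro i hi f
    have h1 := DualizingAscent.subsingleton_hom_inD_extScD_of_equiv (B := D) ω a hlow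
      (A ⧸ IsLocalRing.maximalIdeal A) (D ⧸ J) eJ i (hd1 i hi)
    have h2 : f ≫ ((shiftFunctor (Dual.D D) i).mapIso eL).hom = 0 := Subsingleton.elim _ _
    rw [← cancel_mono ((shiftFunctor (Dual.D D) i).mapIso eL).hom, h2, zero_comp]
  have hWd : Nonempty ((Dual.inD D (D ⧸ J) ⟶ (toD L)⟦d⟧) ≃ₗ[D] (D ⧸ J)) := by
    let e0 : (extScD A D).obj (Dual.inD A (A ⧸ IsLocalRing.maximalIdeal A)) ≅
        Dual.inD D (D ⧸ J) :=
      extScD_inD (A ⧸ IsLocalRing.maximalIdeal A) ≪≫ inDMapIso eJ.symm.toModuleIso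
    let e4 := LinearEquiv.ofBijective (homBCShift D (Dual.inD A (A ⧸ IsLocalRing.maximalIdeal A))
      ω d) (bijective_homBCShift (B := D) (Dual.inD A (A ⧸ IsLocalRing.maximalIdeal A)) ω
      (DualizingBC.isPseudoCoherent'_inD (A ⧸ IsLocalRing.maximalIdeal A)) a hlow d)
    let e5 := Linear.homCongr D e0 ((shiftFunctor (Dual.D D) d).mapIso eL.symm)
    let e6 := LinearEquiv.baseChange A D _ _ hd2
    exact ⟨e5.symm ≪≫ₗ e4.symm ≪≫ₗ e6 ≪≫ₗ eJ.symm⟩
  obtain ⟨eW⟩ := nonempty_coext_iso_shift (A := D) (B := D ⧸ J) Ideal.Quotient.mk_surjective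
    L d hW0 hWd
  -- residue fields
  let N : ModuleCat.{u} (D ⧸ J) := ModuleCat.of (D ⧸ J) (IsLocalRing.ResidueField (D ⧸ J))
  let eM : (resSc (algebraMap D (D ⧸ J))).obj N ≅ ModuleCat.of D (IsLocalRing.ResidueField D) :=
    ((PolyDual.resScEquiv (A := D) (B := D ⧸ J) (IsLocalRing.ResidueField (D ⧸ J))) ≪≫ₗ
      (Groth.Agent.Lib.Helper2.residueFieldQuotientEquiv J).symm).toModuleIso
  have hchain : ∀ i j : ℤ, -d + i = j → Nonempty
      ((Dual.inD D (IsLocalRing.ResidueField D) ⟶ ((extScD A D).obj ω)⟦i⟧) ≃ₗ[D]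
        (Dual.inD (D ⧸ J) (IsLocalRing.ResidueField (D ⧸ J)) ⟶
          (Dual.inD (D ⧸ J) (D ⧸ J))⟦j⟧)) := by
    intro i j hij
    let e1 := ConvDual.extCoextEquiv (B := D ⧸ J) L N i
    let e2 := Linear.homCongr D (inDMapIso eM) ((shiftFunctor (Dual.D D) i).mapIso eL)
    let e3 := Linear.homCongr (D ⧸ J) (Iso.refl (Dual.inD (D ⧸ J) N))
      ((shiftFunctor (Dual.D (D ⧸ J)) i).mapIso eW ≪≫
        ((shiftFunctorAdd' (Dual.D (D ⧸ J)) (-d) i j hij).symm.app (Dual.inD (D ⧸ J) (D ⧸ J))))
    exact ⟨e2.symm ≪≫ₗ e1.symm ≪≫ₗ e3.restrictScalars D⟩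
  refine isDualizing_of_ext_residue _
    (fun i => DualizingBC.finite_HF_extScD ω i (hω.finite_cohomology i))
    ⟨a, fun i hi => ?_⟩ (d + e') ?_ ?_
  · exact ModuleCat.subsingleton_of_isZero (isZero_HF_extScD ω i (hlow i hi))
  · intro i hi
    obtain ⟨c⟩ := hchain i (-d + i) rfl
    have h1 : Subsingleton (Dual.inD (D ⧸ J) (IsLocalRing.ResidueField (D ⧸ J)) ⟶
        (Dual.inD (D ⧸ J) (D ⧸ J))⟦-d + i⟧) := he1 (-d + i) (by omega)
    exact c.toEquiv.subsingleton
  · obtain ⟨c⟩ := hchain (d + e') e' (by omega)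
    exact ⟨c ≪≫ₗ (he2.restrictScalars D) ≪≫ₗ
      (Groth.Agent.Lib.Helper2.residueFieldQuotientEquiv J).symm⟩

end StageC

section StageD
variable {A B : Type u} [CommRing A] [CommRing B] [IsNoetherianRing A] [IsNoetherianRing B]
  [Algebra A B] [Module.Flat A B]

/-- **pointwise ascent**: for a flat map `A → B`, a prime `q` of `B` whose fibre local ring is
Gorenstein (in the form: `B̄[0]` is dualizing for `B̄ = B_q/pB_q`), the base change of a dualizing
complex of `A` to `B_q` is dualizing -/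
theorem isDualizing_extScD_atPrime (q : Ideal B) [hq : q.IsPrime] (p₀ : Ideal A)
    (hpq : q.comap (algebraMap A B) = p₀)
    (hG : Dual.IsDualizing
      (Localization.AtPrime q ⧸ (p₀.map (algebraMap A B)).map
        (algebraMap B (Localization.AtPrime q)))
      (Dual.inD _ (Localization.AtPrime q ⧸ (p₀.map
        (algebraMap A B)).map (algebraMap B (Localization.AtPrime q)))))
    (ω : Dual.D A) (hω : Dual.IsDualizing A ω) :
    Dual.IsDualizing (Localization.AtPrime q)
      ((extScD B (Localization.AtPrime q)).obj ((extScD A B).obj ω)) := by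
  subst hpq
  set p : Ideal A := q.comap (algebraMap A B) with hp
  let Ap := Localization.AtPrime p
  let Dq := Localization.AtPrime q
  haveI : IsNoetherianRing Ap := IsLocalization.isNoetherianRing p.primeCompl _ inferInstance
  haveI : IsNoetherianRing Dq := IsLocalization.isNoetherianRing q.primeCompl _ inferInstance
  letI : Algebra Ap Dq := (Localization.localRingHom p q (algebraMap A B) rfl).toAlgebra
  haveI : IsScalarTower A Ap Dq := IsScalarTower.of_algebraMap_eq (fun c => by
    rw [IsScalarTower.algebraMap_apply A B Dq]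
    exact (Localization.localRingHom_to_map p q (algebraMap A B) rfl c).symm)
  haveI : Module.Flat A Ap := IsLocalization.flat _ p.primeCompl
  haveI : Module.Flat B Dq := IsLocalization.flat _ q.primeCompl
  haveI : Module.Flat A Dq := Module.Flat.trans A B Dq
  haveI : Module.Flat Ap Dq := (Module.flat_iff_of_isLocalization Ap p.primeCompl Dq).2 inferInstance
  have hmA : IsLocalRing.maximalIdeal Ap = p.map (algebraMap A Ap) :=
    (IsLocalization.AtPrime.map_eq_maximalIdeal p Ap).symm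
  have hmD : IsLocalRing.maximalIdeal Dq = q.map (algebraMap B Dq) :=
    (IsLocalization.AtPrime.map_eq_maximalIdeal q Dq).symm
  have hker : (p.map (algebraMap A B)).map (algebraMap B Dq) =
      (IsLocalRing.maximalIdeal Ap).map (algebraMap Ap Dq) := by
    rw [hmA, Ideal.map_map, Ideal.map_map, ← IsScalarTower.algebraMap_eq,
      ← IsScalarTower.algebraMap_eq]
  have hle : (p.map (algebraMap A B)).map (algebraMap B Dq) ≤ IsLocalRing.maximalIdeal Dq := by
    rw [hmD]
    apply Ideal.map_mono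
    rw [Ideal.map_le_iff_le_comap]
  have hωp : Dual.IsDualizing Ap ((extScD A Ap).obj ω) :=
    DualizingBC.isDualizing_extScD_of_ideals_extended (B := Ap)
      (fun J => ⟨J.under A, IsLocalization.map_under p.primeCompl _ J⟩) ω hω
  have h1 := isDualizing_extScD_of_fibre (A := Ap) (D := Dq) _ hker hle hG _ hωp
  obtain ⟨e1⟩ := Shriek.extScD_trans A Ap Dq ω
  obtain ⟨e2⟩ := Shriek.extScD_trans A B Dq ω
  exact DualizingBC.isDualizing_of_iso (e1.symm ≪≫ e2) h1

end StageD
end Groth.Agent.Lib.Helper12.GorAscent
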