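import Mathlib
import Groth.Agent.Lib.Helper12.GorensteinAscent
import Groth.Agent.Lib.Helper12.DualizingDim
import Groth.Agent.Lib.Helper33.GorFibreRing
import Groth.Agent.Lib.Helper33.GorRing
import Groth.Agent.S11179

/-!
# Ascent of dualizing complexes along flat maps with Gorenstein fibre rings (helper12)
-/

set_option autoImplicit false
universe u
open CategoryTheory CategoryTheory.Limits
attribute [local instance] HasDerivedCategory.standard
namespace Groth.Agent.Lib.Helper12.GorAscent
open Groth.Agent.Lib.Helper12 DRing TensorProduct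
open Groth.Agent.Lib.Helper33.GorTransfer Groth.Agent.Lib.Helper33.GorRing

/-- a finite type algebra over a Noetherian ring of finite Krull dimension has finite Krull
dimension -/
theorem ringKrullDim_lt_top_of_finiteType (A B : Type u) [CommRing A] [CommRing B] [Algebra A B]
    [IsNoetherianRing A] [hft : Algebra.FiniteType A B] (h : ringKrullDim A < ⊤) :
    ringKrullDim B < ⊤ := by
  obtain ⟨n, f, hf⟩ := Algebra.FiniteType.iff_quotient_mvPolynomial''.mp hft
  refine lt_of_le_of_lt (ringKrullDim_le_of_surjective f.toRingHom hf) ?_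
  rw [MvPolynomial.ringKrullDim_of_isNoetherianRing]
  obtain ⟨D, hD⟩ := PtDual.exists_nat_le_of_lt_top _ h
  refine lt_of_le_of_lt (add_le_add_left hD _) ?_
  have h1 : ((D : WithBot ℕ∞) + ((Nat.card (Fin n) : ℕ) : WithBot ℕ∞)) =
      (((D + Nat.card (Fin n) : ℕ) : ℕ∞) : WithBot ℕ∞) := by
    push_cast
    rfl
  rw [h1]
  exact WithBot.coe_lt_coe.mpr (ENat.natCast_lt_top _)

section StageE
variable {A B : Type u} [CommRing A] [CommRing B] [IsNoetherianRing A] [IsNoetherianRing B]
  [Algebra A B] [Module.Flat A B]

/-- pointwise ascent at the prime of `B` corresponding to a prime of the fibre ring -/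
theorem isDualizing_extScD_atPrime_of_fiber (p : Ideal A) [p.IsPrime] (q' : Ideal (p.Fiber B))
    [q'.IsPrime] (hfib : LocCoh.IsGorensteinLocalRing (Localization.AtPrime q'))
    (ω : Dual.D A) (hω : Dual.IsDualizing A ω) :
    Dual.IsDualizing (Localization.AtPrime (q'.comap Algebra.TensorProduct.includeRight))
      ((extScD B (Localization.AtPrime (q'.comap Algebra.TensorProduct.includeRight))).obj
        ((extScD A B).obj ω)) := by
  have hpr : (q'.comap Algebra.TensorProduct.includeRight).comap (algebraMap A B) = p := by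
    have h1 : p = q'.comap (algebraMap A (p.Fiber B)) := Ideal.over_def q' p
    refine Eq.trans ?_ h1.symm
    ext c
    rw [Ideal.mem_comap, Ideal.mem_comap, Ideal.mem_comap]
    have h2 : (Algebra.TensorProduct.includeRight : B →ₐ[A] p.Fiber B) (algebraMap A B c) =
        algebraMap A (p.Fiber B) c := by
      show (1 : p.ResidueField) ⊗ₜ[A] (algebraMap A B c) = algebraMap A (p.Fiber B) c
      rw [Algebra.TensorProduct.algebraMap_apply, Algebra.algebraMap_eq_smul_one,
        Algebra.algebraMap_eq_smul_one (A := p.ResidueField), TensorProduct.smul_tmul]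
    rw [h2]
  have hF := gorenstein_of_ringEquiv (Ideal.Fiber.algEquivAux₂ p q').toRingEquiv hfib
  haveI : IsNoetherianRing (Localization.AtPrime (q'.comap
      (Algebra.TensorProduct.includeRight : B →ₐ[A] p.Fiber B))) :=
    IsLocalization.isNoetherianRing (q'.comap
      (Algebra.TensorProduct.includeRight : B →ₐ[A] p.Fiber B)).primeCompl _ inferInstance
  have hle : (p.map (algebraMap A B)).map (algebraMap B (Localization.AtPrime (q'.comap
      (Algebra.TensorProduct.includeRight : B →ₐ[A] p.Fiber B)))) ≤
      IsLocalRing.maximalIdeal _ := by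
    rw [← IsLocalization.AtPrime.map_eq_maximalIdeal (q'.comap
      (Algebra.TensorProduct.includeRight : B →ₐ[A] p.Fiber B))]
    apply Ideal.map_mono
    rw [Ideal.map_le_iff_le_comap, hpr]
  have hnt : Nontrivial (Localization.AtPrime (q'.comap
      (Algebra.TensorProduct.includeRight : B →ₐ[A] p.Fiber B)) ⧸
      (p.map (algebraMap A B)).map (algebraMap B _)) :=
    Ideal.Quotient.nontrivial_iff.mpr (fun h =>
      (IsLocalRing.maximalIdeal.isMaximal _).ne_top (top_le_iff.mp (h ▸ hle)))
  haveI : IsLocalRing (Localization.AtPrime (q'.comap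
      (Algebra.TensorProduct.includeRight : B →ₐ[A] p.Fiber B)) ⧸
      (p.map (algebraMap A B)).map (algebraMap B _)) :=
    IsLocalRing.of_surjective' (Ideal.Quotient.mk _) Ideal.Quotient.mk_surjective
  exact isDualizing_extScD_atPrime _ p hpr ((Groth.Agent.S11179.result _).mp hF) ω hω

/-- **ascent of dualizing complexes along a flat map with Gorenstein fibres to a ring of finite
Krull dimension** -/
theorem isDualizing_extScD_of_gorenstein_fibres (hdim : ringKrullDim B < ⊤)
    (hG : ∀ p : PrimeSpectrum A, LocCoh.IsGorensteinRing (B ⊗[A] p.asIdeal.ResidueField))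
    (ω : Dual.D A) (hω : Dual.IsDualizing A ω) :
    Dual.IsDualizing B ((extScD A B).obj ω) := by
  obtain ⟨a, b, hab⟩ := hω.finite_injective_dimension
  have hz := DualizingBC.isZero_HF_of_finite_injective_dimension ω a b hab
  refine PtDual.isDualizing_of_pointwise hdim _
    (fun i => DualizingBC.finite_HF_extScD ω i (hω.finite_cohomology i))
    ⟨a, fun i hi => ModuleCat.subsingleton_of_isZero
      (isZero_HF_extScD ω i (hz i (Or.inl hi)))⟩ (fun q => ?_)
  set p : Ideal A := q.asIdeal.comap (algebraMap A B) with hp
  haveI := hG ⟨p, inferInstance⟩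
  haveI hF : LocCoh.IsGorensteinRing (p.Fiber B) :=
    isGorensteinRing_of_ringEquiv (Algebra.TensorProduct.comm A B p.ResidueField).toRingEquiv
  let q'S : PrimeSpectrum (p.Fiber B) :=
    PrimeSpectrum.preimageEquivFiber A B ⟨p, inferInstance⟩ ⟨q, rfl⟩
  have h : q'S.asIdeal.comap (Algebra.TensorProduct.includeRight : B →ₐ[A] p.Fiber B) =
      q.asIdeal := by
    have := (PrimeSpectrum.preimageEquivFiber A B ⟨p, inferInstance⟩).left_inv ⟨q, rfl⟩
    exact congrArg (fun z => z.1.asIdeal) this
  have main : ∀ (r : Ideal B) [r.IsPrime],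
      r = q'S.asIdeal.comap (Algebra.TensorProduct.includeRight : B →ₐ[A] p.Fiber B) →
      Dual.IsDualizing (Localization.AtPrime r)
        ((extScD B (Localization.AtPrime r)).obj ((extScD A B).obj ω)) := by
    intro r _ hr
    subst hr
    exact isDualizing_extScD_atPrime_of_fiber p q'S.asIdeal
      (hF.isGorensteinLocalRing_localization q'S.asIdeal) ω hω
  exact main q.asIdeal h.symm

end StageE
end Groth.Agent.Lib.Helper12.GorAscent
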