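import Mathlib
import Groth.Agent.Lib.Helper12.GorensteinFibres
import Groth.Agent.Lib.Helper33.GorField
import Groth.Agent.Lib.Helper33.GorDescent

/-!
# Base change of dualizing complexes along `A → K ⊗_k A` (helper12)
-/

set_option autoImplicit false
universe u
open CategoryTheory CategoryTheory.Limits
attribute [local instance] HasDerivedCategory.standard
namespace Groth.Agent.Lib.Helper12.GorAscent
open Groth.Agent.Lib.Helper12 DRing TensorProduct
open Groth.Agent.Lib.Helper33.GorTransfer Groth.Agent.Lib.Helper33.GorRing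

section FieldExt
variable (k K : Type u) [Field k] [Field K] [Algebra k K] (A : Type u) [CommRing A] [Algebra k A]
  [Algebra.FiniteType k A]

/-- the fibre rings of `A → A ⊗_k K` are Gorenstein -/
theorem isGorensteinRing_fibre_fieldExt (p : Ideal A) [p.IsPrime] :
    LocCoh.IsGorensteinRing ((A ⊗[k] K) ⊗[A] p.ResidueField) := by
  haveI : Algebra.EssFiniteType k p.ResidueField := Algebra.EssFiniteType.comp k A p.ResidueField
  have hfg : ∃ s : Finset p.ResidueField,
      IntermediateField.adjoin k (s : Set p.ResidueField) = ⊤ :=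
    IntermediateField.fg_top k p.ResidueField
  haveI : LocCoh.IsGorensteinLocalRing K := gorenstein_of_field K
  haveI : LocCoh.IsGorensteinRing K :=
    Groth.Agent.Lib.Helper33.GorDescent.isGorensteinRing_of_isGorensteinLocalRing K
  haveI h1 : LocCoh.IsGorensteinRing (p.ResidueField ⊗[k] K) :=
    Groth.Agent.Lib.Helper33.GorField.isGorensteinRing_tensor_of_fg k p.ResidueField hfg K
  let e1 : p.ResidueField ⊗[A] (A ⊗[k] K) ≃ₐ[A] p.ResidueField ⊗[k] K :=
    Algebra.TensorProduct.cancelBaseChange k A A p.ResidueField K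
  let e2 : (A ⊗[k] K) ⊗[A] p.ResidueField ≃ₐ[A] p.ResidueField ⊗[A] (A ⊗[k] K) :=
    Algebra.TensorProduct.comm A (A ⊗[k] K) p.ResidueField
  exact isGorensteinRing_of_ringEquiv (e2.trans e1).symm.toRingEquiv


/-- **base change of a dualizing complex along `A → K ⊗_k A`** -/
theorem isDualizing_extScD_fieldExt [IsNoetherianRing A] (ω : Dual.D A)
    (hω : Dual.IsDualizing A ω) :
    letI : Algebra A (K ⊗[k] A) :=
      (Algebra.TensorProduct.includeRight : A →ₐ[k] K ⊗[k] A).toRingHom.toAlgebra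
    ∃ (_ : Module.Flat A (K ⊗[k] A)),
      Dual.IsDualizing (K ⊗[k] A) ((extScD A (K ⊗[k] A)).obj ω) := by
  letI algT : Algebra A (K ⊗[k] A) :=
    (Algebra.TensorProduct.includeRight : A →ₐ[k] K ⊗[k] A).toRingHom.toAlgebra
  let σ : A ⊗[k] K ≃ₐ[k] K ⊗[k] A := Algebra.TensorProduct.comm k A K
  haveI : IsNoetherianRing (K ⊗[k] A) := Algebra.FiniteType.isNoetherianRing K (K ⊗[k] A)
  haveI : IsNoetherianRing (A ⊗[k] K) := isNoetherianRing_of_ringEquiv _ σ.symm.toRingEquiv
  have hdimK : ringKrullDim K < ⊤ := by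
    rw [ringKrullDim_eq_zero_of_field]
    exact WithBot.coe_lt_coe.mpr (ENat.natCast_lt_top 0)
  have hdimT : ringKrullDim (K ⊗[k] A) < ⊤ := ringKrullDim_lt_top_of_finiteType K _ hdimK
  have hdimT' : ringKrullDim (A ⊗[k] K) < ⊤ := by
    rw [ringKrullDim_eq_of_ringEquiv σ.toRingEquiv]
    exact hdimT
  have h1 : Dual.IsDualizing (A ⊗[k] K) ((extScD A (A ⊗[k] K)).obj ω) :=
    isDualizing_extScD_of_gorenstein_fibres hdimT'
      (fun p => isGorensteinRing_fibre_fieldExt k K A p.asIdeal) ω hω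
  letI : Algebra (A ⊗[k] K) (K ⊗[k] A) := (σ : A ⊗[k] K →+* K ⊗[k] A).toAlgebra
  haveI : IsScalarTower A (A ⊗[k] K) (K ⊗[k] A) := IsScalarTower.of_algebraMap_eq (fun a => by
    show (1 : K) ⊗ₜ[k] a = σ (a ⊗ₜ[k] (1 : K))
    rfl)
  have hsurj : Function.Surjective (algebraMap (A ⊗[k] K) (K ⊗[k] A)) := σ.surjective
  haveI : Module.Flat (A ⊗[k] K) (K ⊗[k] A) := by
    let el : (K ⊗[k] A) ≃ₗ[A ⊗[k] K] (A ⊗[k] K) :=
      { toFun := σ.symm
        invFun := σ
        left_inv := σ.right_inv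
        right_inv := σ.left_inv
        map_add' := map_add σ.symm
        map_smul' := fun q x => by
          change σ.symm (σ q * x) = q * σ.symm x
          rw [map_mul, AlgEquiv.symm_apply_apply] }
    exact Module.Flat.of_linearEquiv el
  haveI : Module.Flat A (K ⊗[k] A) := Module.Flat.trans A (A ⊗[k] K) (K ⊗[k] A)
  have h2 := Shriek.isDualizing_extScD_of_surjective hsurj _ h1
  obtain ⟨e⟩ := Shriek.extScD_trans A (A ⊗[k] K) (K ⊗[k] A) ω
  exact ⟨inferInstance, DualizingBC.isDualizing_of_iso e.symm h2⟩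

end FieldExt
end Groth.Agent.Lib.Helper12.GorAscent
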