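import Mathlib
import Groth.Agent.Lib.Helper12.ConverseDualizing
import Groth.Agent.Lib.Helper12.HomComplexCohomology
import Groth.Agent.Lib.Helper12.DualizingDim
import Groth.Agent.Lib.Helper12.DRingFour
import Groth.Agent.S0364

/-!
# Uniqueness of dualizing complexes over a Noetherian local ring (helper12)
-/

set_option autoImplicit false
universe u
open CategoryTheory CategoryTheory.Limits
attribute [local instance] HasDerivedCategory.standard
namespace Groth.Agent.Lib.Helper12.DualUnique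
open Groth.Agent.Lib.Helper12 DRing Groth.Agent.Lib.Helper12.ModDual
open Groth.Agent.Lib.Helper36.InjAmp Groth.Agent.Lib.Helper12.ResExt Groth.Agent.Lib.Helper12.FlatHomBC
open Groth.Agent.Lib.Helper12.CoextCx Groth.Agent.Lib.Helper12.FinDual
open Groth.Agent.Lib.Helper12.ConvDual

section Dev
variable {A : Type u} [CommRing A] [IsLocalRing A] [IsNoetherianRing A]

/-- **generic dévissage over a Noetherian local ring** -/
theorem devissage_local (P : ModuleCat.{u} A → Prop)
    (h0 : ∀ M : ModuleCat.{u} A, IsZero M → P M)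
    (hiso : ∀ {M N : ModuleCat.{u} A} (_ : M ≅ N), P M → P N)
    (hext : ∀ S : ShortComplex (ModuleCat.{u} A), S.ShortExact → P S.X₁ → P S.X₃ → P S.X₂)
    (hκ : P (ModuleCat.of A (IsLocalRing.ResidueField A)))
    (hnak : ∀ (M M' : ModuleCat.{u} A) [Module.Finite A M] (x : A),
      x ∈ IsLocalRing.maximalIdeal A → ∀ (g : M ⟶ M') (w : (x • 𝟙 M) ≫ g = 0),
      (ShortComplex.mk (x • 𝟙 M) g w).ShortExact → P M' → P M) :
    ∀ (I : Ideal A) (M : Type u) [AddCommGroup M] [Module A M] [Module.Finite A M],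
      (∀ y ∈ I, ∀ m : M, y • m = 0) → P (ModuleCat.of A M) := by
  intro I
  induction I using IsNoetherian.induction with
  | hgt I IH =>
    intro M _ _ hM
    refine IsNoetherianRing.induction_on_isQuotientEquivQuotientPrime A hM
      (motive := fun N _ _ _ => (∀ y ∈ I, ∀ n : N, y • n = 0) →
        P (ModuleCat.of A N)) ?_ ?_ ?_
    · intro N _ _ _ _ _
      exact h0 _ (ModuleCat.isZero_of_subsingleton _)
    · intro N _ _ _ q e hkill
      have hIq : I ≤ q.asIdeal := by
        intro y hy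
        have h1 := hkill y hy (e.symm 1)
        have h2 : y • (1 : A ⧸ q.asIdeal) = 0 := by
          rw [← e.apply_symm_apply 1, ← map_smul, h1, map_zero]
        rw [← Ideal.Quotient.eq_zero_iff_mem]
        rw [← h2]
        simp [Algebra.smul_def]
      have hq := q.isPrime
      have hkq : ∀ y ∈ q.asIdeal, ∀ n : A ⧸ q.asIdeal, y • n = 0 := by
        intro y hy n
        obtain ⟨r, rfl⟩ := Ideal.Quotient.mk_surjective n
        rw [Algebra.smul_def, Ideal.Quotient.algebraMap_eq, ← map_mul,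
          Ideal.Quotient.eq_zero_iff_mem]
        exact Ideal.mul_mem_right _ _ hy
      suffices H : P (ModuleCat.of A (A ⧸ q.asIdeal)) from
        hiso e.symm.toModuleIso H
      rcases hIq.lt_or_eq with hlt | heq
      · exact IH q.asIdeal hlt (A ⧸ q.asIdeal) hkq
      · by_cases hqm : q.asIdeal = IsLocalRing.maximalIdeal A
        · rw [hqm]
          exact hκ
        · have hlt : q.asIdeal < IsLocalRing.maximalIdeal A :=
            lt_of_le_of_ne (IsLocalRing.le_maximalIdeal hq.ne_top) hqm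
          obtain ⟨x, hxm, hxq⟩ := SetLike.exists_of_lt hlt
          have hle : q.asIdeal ≤ Submodule.comap LinearMap.id (q.asIdeal ⊔ Ideal.span {x}) := by
            rw [Submodule.comap_id]; exact le_sup_left
          have w : (x • 𝟙 (ModuleCat.of A (A ⧸ q.asIdeal))) ≫ ModuleCat.ofHom
              (Submodule.mapQ q.asIdeal (q.asIdeal ⊔ Ideal.span {x}) LinearMap.id (by
                rw [Submodule.comap_id]; exact le_sup_left)) = 0 := by
            refine ModuleCat.hom_ext (LinearMap.ext fun y => ?_)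
            obtain ⟨r, rfl⟩ := Ideal.Quotient.mk_surjective y
            change Submodule.mapQ q.asIdeal (q.asIdeal ⊔ Ideal.span {x}) LinearMap.id hle
              (x • Submodule.Quotient.mk r) = 0
            rw [← Submodule.Quotient.mk_smul, Submodule.mapQ_apply,
              Submodule.Quotient.mk_eq_zero]
            refine Submodule.mem_sup_right ?_
            rw [LinearMap.id_apply, smul_eq_mul]
            exact Ideal.mul_mem_right _ _ (Ideal.subset_span rfl)
          have hS := shortExact_quotient_prime q.asIdeal x hxq w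
          have hJ : I < q.asIdeal ⊔ Ideal.span {x} := by
            rw [heq]
            refine lt_of_le_of_ne le_sup_left (fun h => hxq ?_)
            rw [h]
            exact Submodule.mem_sup_right (Ideal.subset_span rfl)
          have h' : P
              (ModuleCat.of A (A ⧸ (q.asIdeal ⊔ Ideal.span {x}))) := by
            refine IH _ hJ (A ⧸ (q.asIdeal ⊔ Ideal.span {x})) ?_
            intro y hy n
            obtain ⟨r, rfl⟩ := Ideal.Quotient.mk_surjective n
            rw [Algebra.smul_def, Ideal.Quotient.algebraMap_eq, ← map_mul,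
              Ideal.Quotient.eq_zero_iff_mem]
            exact Ideal.mul_mem_right _ _ hy
          exact hnak _ _ x hxm _ w hS h'
    · intro N₁ _ _ _ N₂ _ _ _ N₃ _ _ _ f g hf hg hfg h₁ h₃ hkill
      let S : ShortComplex (ModuleCat.{u} A) :=
        ShortComplex.mk (ModuleCat.ofHom f) (ModuleCat.ofHom g) (by
          refine ModuleCat.hom_ext (LinearMap.ext fun x => ?_)
          exact hfg.apply_apply_eq_zero x)
      have hS : S.ShortExact := by
        have hmono : Mono S.f := (ModuleCat.mono_iff_injective _).mpr hf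
        have hepi : Epi S.g := (ModuleCat.epi_iff_surjective _).mpr hg
        refine ShortComplex.ShortExact.mk ?_
        rw [ShortComplex.moduleCat_exact_iff_range_eq_ker]
        exact (LinearMap.exact_iff.mp hfg).symm
      refine hext S hS (h₁ ?_) (h₃ ?_)
      · intro y hy n
        apply hf
        rw [map_smul, hkill y hy, map_zero]
      · intro y hy n
        obtain ⟨n', rfl⟩ := hg n
        rw [← map_smul, hkill y hy, map_zero]


end Dev

section VanDef
variable {A : Type u} [CommRing A] (E : Cx A) (T : Dual.D A)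

/-- vanishing of `Hom(D_E(M), T[n])` for `n ≠ 0` -/
def Van (M : ModuleCat.{u} A) : Prop :=
  ∀ k : ℤ, k ≠ 0 → ∀ g : (D E M)⟦k⟧ ⟶ T, g = 0

variable {E T}

lemma Van.of_isZero {M : ModuleCat.{u} A} (hM : IsZero M) : Van E T M := by
  have hD : IsZero (D E M) := by
    rw [IsZero.iff_id_eq_zero, ← Dmap_id, hM.eq_of_src (𝟙 M) 0, Dmap_zero]
  intro k _ g
  exact ((shiftFunctor (Dual.D A) k).map_isZero hD).eq_of_src _ _

lemma Van.of_iso {M N : ModuleCat.{u} A} (e : M ≅ N) (h : Van E T M) : Van E T N := by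
  have hcomp : Dmap E e.hom ≫ Dmap E e.inv = 𝟙 _ := by
    rw [← Dmap_comp, e.inv_hom_id, Dmap_id]
  intro k hk g
  have h1 := h k hk ((Dmap E e.inv)⟦k⟧' ≫ g)
  have h2 : (Dmap E e.hom)⟦k⟧' ≫ (Dmap E e.inv)⟦k⟧' ≫ g = 0 := by rw [h1, comp_zero]
  rwa [← Functor.map_comp_assoc, hcomp, CategoryTheory.Functor.map_id, Category.id_comp] at h2

lemma Van.of_shortExact (hinj : ∀ i, Injective (E.X i)) (S : ShortComplex (ModuleCat.{u} A))
    (hS : S.ShortExact) (h₁ : Van E T S.X₁) (h₃ : Van E T S.X₃) : Van E T S.X₂ := by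
  intro k hk g
  exact dual_squeeze₂ E hinj S hS k (h₃ k hk) (h₁ k hk) g

end VanDef

section VanNak
variable {A : Type u} [CommRing A] [IsLocalRing A] [IsNoetherianRing A] (E : Cx A) (a b : ℤ)
  (hE : VanishesOutside E a b) (hinj : ∀ i, Injective (E.X i))
  (hfin : ∀ j : ℤ, Module.Finite A ((HF A j).obj (toD E)))
  (T : Dual.D A) (aT : ℤ) (hTlow : ∀ j : ℤ, j < aT → IsZero ((HF A j).obj T))
  (hTfin : ∀ j : ℤ, Module.Finite A ((HF A j).obj T))

include hE hinj hfin hTlow hTfin in
lemma finite_hom_DT (M : ModuleCat.{u} A) [Module.Finite A M] (n : ℤ) :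
    Module.Finite A (D E M ⟶ T⟦n⟧) := by
  have hpc : IsPseudoCoherent' A (D E M) :=
    HomFinite.isPseudoCoherent'_of_finite_HF (D E M) b
      (fun i hi => isZero_HF_toD_of_isZero_X _ i (isZero_D₀_X E M i (hE i (Or.inr hi))))
      (finD_of_finite E hinj hfin a (fun i hi => hE i (Or.inl hi)) M)
  exact HomFinite.finite_hom (D E M) (T⟦n⟧) hpc (aT - n)
    (fun i hi => isZero_HF_shift T n i (hTlow _ (by omega)))
    (fun i => HomFinite.finite_HF_shift T n i (hTfin _))

include hE hinj hfin hTlow hTfin in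
theorem van_of_nakayama (M M' : ModuleCat.{u} A) [Module.Finite A M] (x : A)
    (hx : x ∈ IsLocalRing.maximalIdeal A) (g : M ⟶ M') (w : (x • 𝟙 M) ≫ g = 0)
    (hS : (ShortComplex.mk (x • 𝟙 M) g w).ShortExact)
    (h' : Van E T M') : Van E T M := by
  set S := ShortComplex.mk (x • 𝟙 M) g w with hSdef
  have hjac : IsLocalRing.maximalIdeal A ≤ (⊥ : Ideal A).jacobson :=
    IsLocalRing.maximalIdeal_le_jacobson _
  have hDf : Dmap E S.f = x • 𝟙 (D E M) := by
    change Dmap E (x • 𝟙 M) = _
    rw [Dmap_smul, Dmap_id]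
  have hvan : ∀ n : ℤ, n ≠ 0 → ∀ y : D E M ⟶ T⟦n⟧, y = 0 := by
    intro n hn
    have h1 : ∀ f : D E M' ⟶ T⟦n⟧, f = 0 :=
      (hom_shift_eq_zero_iff _ _ n).mpr (h' (-n) (by omega))
    have hfinM := finite_hom_DT E a b hE hinj hfin T aT hTlow hTfin M n
    have htop : (⊤ : Submodule A (D E M ⟶ T⟦n⟧)) = ⊥ := by
      refine Submodule.eq_bot_of_le_smul_of_le_jacobson_bot (IsLocalRing.maximalIdeal A) ⊤
        Module.Finite.fg_top ?_ hjac
      intro y _
      obtain ⟨z, hz⟩ := dual_exact₂ E hinj S hS y (h1 _)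
      have hz' : y = x • z := by
        rw [hz, hDf, Linear.smul_comp, Category.id_comp]
      rw [hz']
      exact Submodule.smul_mem_smul hx Submodule.mem_top
    intro y
    have : y ∈ (⊤ : Submodule A (D E M ⟶ T⟦n⟧)) := Submodule.mem_top
    rw [htop] at this
    exact (Submodule.mem_bot A).mp this
  intro k hk y
  obtain ⟨n, rfl⟩ : ∃ n : ℤ, k = -n := ⟨-k, by omega⟩
  exact (hom_shift_eq_zero_iff _ _ n).mp (hvan n (by omega)) y

end VanNak

section Main
variable {A : Type u} [CommRing A] [IsLocalRing A] [IsNoetherianRing A]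
open Groth.Agent.Lib.Helper12.Bass Pretriangulated

/-- a morphism between bounded below objects with finite cohomology inducing bijections on
`Hom(κ, -[n])` for all `n` is an isomorphism -/
theorem isIso_of_bijective_residue {K L : Dual.D A} (θ : K ⟶ L) (aK aL : ℤ)
    (hKlow : ∀ j : ℤ, j < aK → IsZero ((HF A j).obj K))
    (hKfin : ∀ j : ℤ, Module.Finite A ((HF A j).obj K))
    (hLlow : ∀ j : ℤ, j < aL → IsZero ((HF A j).obj L))
    (hLfin : ∀ j : ℤ, Module.Finite A ((HF A j).obj L))
    (hbij : ∀ n : ℤ, Function.Bijective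
      (fun x : Dual.inD A (IsLocalRing.ResidueField A) ⟶ K⟦n⟧ => x ≫ θ⟦n⟧')) : IsIso θ := by
  obtain ⟨C, g, h, hTri⟩ := distinguished_cocone_triangle θ
  let F := preadditiveCoyoneda.obj (Opposite.op (Dual.inD A (IsLocalRing.ResidueField A)))
  have hiso : ∀ n : ℤ, IsIso ((F.shift n).map θ) := by
    intro n
    rw [ConcreteCategory.isIso_iff_bijective]
    exact hbij n
  have hker : F.homologicalKernel C :=
    (F.homologicalKernel.trW_iff_of_distinguished _ hTri).mp
      ((F.mem_homologicalKernel_trW_iff θ).mpr hiso)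
  have hC0 : ∀ n : ℤ, Subsingleton (Dual.inD A (IsLocalRing.ResidueField A) ⟶ C⟦n⟧) := by
    intro n
    have h1 : IsZero ((F.shift n).obj C) := (F.mem_homologicalKernel_iff C).mp hker n
    exact AddCommGrpCat.subsingleton_of_isZero h1
  -- the cone is bounded below with finite cohomology
  have hCfin : ∀ j : ℤ, Module.Finite A ((HF A j).obj C) := fun j =>
    finite_of_exact _ (DerivedCategory.HomologySequence.exact₃ _ hTri j (j + 1) rfl)
      (hLfin j) (hKfin (j + 1))
  have hClow : ∀ j : ℤ, j < min aL (aK - 1) → IsZero ((HF A j).obj C) := fun j hj => by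
    have hex := DerivedCategory.HomologySequence.exact₃ _ hTri j (j + 1) rfl
    have h1 : IsZero ((HF A j).obj L) := hLlow j (lt_of_lt_of_le hj (min_le_left _ _))
    have h3 : IsZero ((HF A (j + 1)).obj K) := hKlow (j + 1) (by
      have := lt_of_lt_of_le hj (min_le_right _ _)
      omega)
    exact hex.isZero_of_both_zeros (h1.eq_of_src _ _) (h3.eq_of_tgt _ _)
  have hall : ∀ i : ℤ, IsZero ((HF A i).obj C) := by
    intro i
    apply isZero_HF_of_hom_ring_eq_zero
    intro f
    have := vanishAbove_of_maximal (K := C) (b := i - 1) (min aL (aK - 1)) hClow hCfin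
      (fun m hm j _ => by
        have hmm := IsLocalRing.eq_maximalIdeal hm
        subst hmm
        exact hC0 j) A i (by omega)
    exact Subsingleton.elim _ _
  have hCz : IsZero C := isZero_of_forall_isZero_HF C hall
  exact (Triangle.isZero₃_iff_isIso₁ _ hTri).mp hCz


set_option maxHeartbeats 1600000 in
/-- **two normalized dualizing complexes over a Noetherian local ring are isomorphic** -/
theorem nonempty_iso_of_normalized (E : Cx A) (a b : ℤ) (hE : VanishesOutside E a b)
    (hinj : ∀ i, Module.Injective A (E.X i))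
    (hωE : Dual.IsDualizing A (toD E)) (hnE : Dual.IsNormalized A (toD E))
    (T : Dual.D A) (hT : Dual.IsDualizing A T) (hnT : Dual.IsNormalized A T) :
    Nonempty (toD E ≅ T) := by
  have hinj' : ∀ i, Injective (E.X i) := fun i => by
    have := hinj i
    exact Module.injective_object_of_injective_module A (E.X i)
  have hGE : E.IsStrictlyGE a := by
    rw [CochainComplex.isStrictlyGE_iff]
    intro j hj
    exact hE j (Or.inl hj)
  have hKI : E.IsKInjective := CochainComplex.isKInjective_of_injective E a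
  have hκnt : Nontrivial (A ⧸ IsLocalRing.maximalIdeal A) :=
    Ideal.Quotient.nontrivial_iff.mpr (IsLocalRing.maximalIdeal.isMaximal A).ne_top
  -- degrees
  obtain ⟨nE, hE1, ⟨hE2⟩⟩ := Groth.Agent.S0364.result A (toD E) hωE (IsLocalRing.maximalIdeal A)
  have hnE0 : nE = 0 := by
    by_contra hne
    have h1 : Subsingleton (Dual.inD A (A ⧸ IsLocalRing.maximalIdeal A) ⟶ (toD E)⟦nE⟧) :=
      hnE nE hne
    have h2 := hE2.symm.toEquiv.subsingleton
    exact not_subsingleton _ h2
  subst hnE0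
  obtain ⟨nT, hT1, ⟨hT2⟩⟩ := Groth.Agent.S0364.result A T hT (IsLocalRing.maximalIdeal A)
  have hnT0 : nT = 0 := by
    by_contra hne
    have h1 : Subsingleton (Dual.inD A (A ⧸ IsLocalRing.maximalIdeal A) ⟶ T⟦nT⟧) :=
      hnT nT hne
    have h2 := hT2.symm.toEquiv.subsingleton
    exact not_subsingleton _ h2
  subst hnT0
  -- bounds
  obtain ⟨aT, bT, habT⟩ := hT.finite_injective_dimension
  have hzT := DualizingBC.isZero_HF_of_finite_injective_dimension T aT bT habT
  have hTlow : ∀ j : ℤ, j < aT → IsZero ((HF A j).obj T) := fun j hj => hzT j (Or.inl hj)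
  have hTfin : ∀ j : ℤ, Module.Finite A ((HF A j).obj T) := hT.finite_cohomology
  have hfinE : ∀ j : ℤ, Module.Finite A ((HF A j).obj (toD E)) := hωE.finite_cohomology
  obtain ⟨aE, bE, habE⟩ := hωE.finite_injective_dimension
  have hzE := DualizingBC.isZero_HF_of_finite_injective_dimension (toD E) aE bE habE
  have hElow : ∀ j : ℤ, j < aE → IsZero ((HF A j).obj (toD E)) := fun j hj => hzE j (Or.inl hj)
  -- `D E κ ≅ κ`
  let κM : ModuleCat.{u} A := ModuleCat.of A (IsLocalRing.ResidueField A)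
  have hzκ : ∀ j : ℤ, j ≠ 0 → IsZero ((HF A j).obj (D E κM)) := fun j hj => by
    have h1 : Subsingleton (Dual.inD A (IsLocalRing.ResidueField A) ⟶ (toD E)⟦j⟧) := hnE j hj
    have h2 : Subsingleton ((HF A j).obj (D E κM)) := (HFDEquiv' E κM j).toEquiv.subsingleton
    exact ModuleCat.isZero_of_subsingleton _
  obtain ⟨Y, ⟨e⟩, ⟨eY⟩⟩ := exists_iso_single (D E κM) 0 hzκ
  let eYκ : Y ≅ κM := (eY.symm.toLinearEquiv ≪≫ₗ HFDEquiv' E κM 0 ≪≫ₗ hE2).toModuleIso
  let c : D E κM ≅ Dual.inD A (IsLocalRing.ResidueField A) :=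
    e ≪≫ (DerivedCategory.singleFunctor (ModuleCat.{u} A) 0).mapIso eYκ
  -- `Van κ`
  have hVκ : Van E T κM := by
    intro k hk g
    obtain ⟨n, rfl⟩ : ∃ n : ℤ, k = -n := ⟨-k, by omega⟩
    refine (hom_shift_eq_zero_iff _ _ n).mp (fun y => ?_) g
    have h1 : Subsingleton (Dual.inD A (IsLocalRing.ResidueField A) ⟶ T⟦n⟧) :=
      hnT n (by omega)
    rw [← cancel_epi c.inv]
    exact Subsingleton.elim _ _
  have hV : ∀ (M : Type u) [AddCommGroup M] [Module A M] [Module.Finite A M],
      Van E T (ModuleCat.of A M) := fun M _ _ _ =>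
    devissage_local (Van E T) (fun M h => Van.of_isZero h) (fun e h => h.of_iso e)
      (fun S hS h1 h3 => Van.of_shortExact hinj' S hS h1 h3) hVκ
      (fun M M' _ x hx g w hS h' =>
        van_of_nakayama E a b hE hinj' hfinE T aT hTlow hTfin M M' x hx g w hS h') ⊥ M
      (fun y hy m => by
        rw [Ideal.mem_bot] at hy
        rw [hy, zero_smul])
  -- the short exact sequence `0 → m → A → κ → 0`
  let S : ShortComplex (ModuleCat.{u} A) :=
    ShortComplex.mk (ModuleCat.ofHom (IsLocalRing.maximalIdeal A).subtype)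
      (ModuleCat.ofHom (Algebra.linearMap A (IsLocalRing.ResidueField A))) (by
        refine ModuleCat.hom_ext (LinearMap.ext fun x => ?_)
        exact (IsLocalRing.residue_eq_zero_iff _).mpr x.2)
  have hS : S.ShortExact := by
    have hmono : Mono S.f := (ModuleCat.mono_iff_injective _).mpr
      (IsLocalRing.maximalIdeal A).injective_subtype
    have hepi : Epi S.g := (ModuleCat.epi_iff_surjective _).mpr IsLocalRing.residue_surjective
    refine ShortComplex.ShortExact.mk ?_
    rw [ShortComplex.moduleCat_exact_iff_range_eq_ker]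
    ext x
    constructor
    · rintro ⟨y, rfl⟩
      exact (IsLocalRing.residue_eq_zero_iff _).mpr y.2
    · intro hx
      exact ⟨⟨x, (IsLocalRing.residue_eq_zero_iff _).mp hx⟩, rfl⟩
  -- a nonzero map `κ → T`
  obtain ⟨t₀, ht₀⟩ : ∃ t₀ : Dual.inD A (IsLocalRing.ResidueField A) ⟶ T⟦(0 : ℤ)⟧, t₀ ≠ 0 := by
    have hnt : Nontrivial (Dual.inD A (IsLocalRing.ResidueField A) ⟶ T⟦(0 : ℤ)⟧) :=
      hT2.toEquiv.nontrivial
    exact @exists_ne _ hnt 0
  let sT := (shiftFunctorZero (Dual.D A) ℤ).app T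
  let sE := (shiftFunctorZero (Dual.D A) ℤ).app (toD E)
  let y₀ : D E κM ⟶ T := c.hom ≫ t₀ ≫ sT.hom
  obtain ⟨y', hy'⟩ := dual_factor₁ E hinj' S hS y₀
    (fun z => hV (IsLocalRing.maximalIdeal A) (-1) (by omega) z)
  let f' : toD E ⟶ T := (unitIsoD E).inv ≫ y'
  suffices IsIso f' from ⟨asIso f'⟩
  refine isIso_of_bijective_residue f' aE aT hElow hfinE hTlow hTfin (fun n => ?_)
  by_cases hn : n = 0
  · subst hn
    -- Schur
    let φ₀ : (Dual.inD A (IsLocalRing.ResidueField A) ⟶ (toD E)⟦(0 : ℤ)⟧) →ₗ[A]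
        (Dual.inD A (IsLocalRing.ResidueField A) ⟶ T⟦(0 : ℤ)⟧) :=
      Linear.rightComp A _ (f'⟦(0 : ℤ)⟧')
    let hE2' : (Dual.inD A (IsLocalRing.ResidueField A) ⟶ (toD E)⟦(0 : ℤ)⟧) ≃ₗ[A]
        (A ⧸ IsLocalRing.maximalIdeal A) := hE2
    let hT2' : (Dual.inD A (IsLocalRing.ResidueField A) ⟶ T⟦(0 : ℤ)⟧) ≃ₗ[A]
        (A ⧸ IsLocalRing.maximalIdeal A) := hT2
    let ψ : (A ⧸ IsLocalRing.maximalIdeal A) →ₗ[A] (A ⧸ IsLocalRing.maximalIdeal A) :=
      hT2'.toLinearMap ∘ₗ φ₀ ∘ₗ hE2'.symm.toLinearMap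
    haveI : IsSimpleModule A (A ⧸ IsLocalRing.maximalIdeal A) :=
      isSimpleModule_iff_isCoatom.mpr (Ideal.isMaximal_def.mp (IsLocalRing.maximalIdeal.isMaximal A))
    have hφ₀ : φ₀ ≠ 0 := by
      intro h0
      let g₀ : Dual.inD A (IsLocalRing.ResidueField A) ⟶ (toD E)⟦(0 : ℤ)⟧ :=
        c.inv ≫ Dmap E S.g ≫ (unitIsoD E).hom ≫ sE.inv
      have h1 : φ₀ g₀ = t₀ := by
        change (c.inv ≫ Dmap E S.g ≫ (unitIsoD E).hom ≫ sE.inv) ≫ f'⟦(0 : ℤ)⟧' = t₀
        have hnat : sE.inv ≫ f'⟦(0 : ℤ)⟧' = f' ≫ sT.inv :=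
          ((shiftFunctorZero (Dual.D A) ℤ).inv.naturality f').symm
        simp only [Category.assoc]
        rw [hnat]
        change c.inv ≫ Dmap E S.g ≫ (unitIsoD E).hom ≫ ((unitIsoD E).inv ≫ y') ≫ sT.inv = t₀
        have h2 : c.inv ≫ Dmap E S.g ≫ (unitIsoD E).hom ≫ ((unitIsoD E).inv ≫ y') ≫ sT.inv =
            c.inv ≫ (Dmap E S.g ≫ y') ≫ sT.inv := by
          simp only [Category.assoc, Iso.hom_inv_id_assoc]
        rw [h2, ← hy']
        change c.inv ≫ (c.hom ≫ t₀ ≫ sT.hom) ≫ sT.inv = t₀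
        simp
      rw [h0] at h1
      exact ht₀ h1.symm
    have hcomp : ∀ x, φ₀ x = hT2'.symm (ψ (hE2' x)) := by
      intro x
      change φ₀ x = hT2'.symm (hT2' (φ₀ (hE2'.symm (hE2' x))))
      rw [hE2'.symm_apply_apply, hT2'.symm_apply_apply]
    have hψ : ψ ≠ 0 := by
      intro h0
      apply hφ₀
      ext x
      rw [hcomp x, h0]
      simp
    have hψb : Function.Bijective ψ := (LinearMap.bijective_or_eq_zero ψ).resolve_right hψ
    have hφb : Function.Bijective φ₀ := by
      have h1 : (φ₀ : _ → _) = hT2'.symm ∘ ψ ∘ hE2' := by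
        funext x
        exact hcomp x
      rw [h1]
      exact hT2'.symm.bijective.comp (hψb.comp hE2'.bijective)
    exact hφb
  · have h1 : Subsingleton (Dual.inD A (IsLocalRing.ResidueField A) ⟶ (toD E)⟦n⟧) := hnE n hn
    have h2 : Subsingleton (Dual.inD A (IsLocalRing.ResidueField A) ⟶ T⟦n⟧) := hnT n hn
    exact ⟨fun x y _ => Subsingleton.elim x y, fun y => ⟨0, Subsingleton.elim _ _⟩⟩

end Main
end Groth.Agent.Lib.Helper12.DualUnique
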