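import Mathlib
import Groth.Prelude.Def_DDual2
import Groth.Agent.Lib.Helper12.DRingSingle
import Groth.Agent.Lib.Helper12.DRingCone

/-!
# Cocycle description of `Hom_{D(A)}(P, M[-k])` for a K-projective complex `P`
-/

set_option autoImplicit false

open CategoryTheory CategoryTheory.Limits DRing

attribute [local instance] HasDerivedCategory.standard

namespace Groth.Agent.Lib.Helper12

universe u

variable {A : Type u} [CommRing A]

/-- the submodule of cocycles: maps `P^k → M` killing the incoming differential -/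
def cocyc (P : Cx A) (k : ℤ) (M : ModuleCat.{u} A) : Submodule A (P.X k ⟶ M) where
  carrier := {g | P.d (k - 1) k ≫ g = 0}
  add_mem' {a b} ha hb := by
    show P.d (k - 1) k ≫ (a + b) = 0
    rw [Preadditive.comp_add, ha, hb, add_zero]
  zero_mem' := comp_zero
  smul_mem' r a ha := by
    show P.d (k - 1) k ≫ (r • a) = 0
    rw [Linear.comp_smul, ha, smul_zero]

lemma mem_cocyc {P : Cx A} {k : ℤ} {M : ModuleCat.{u} A} (g : P.X k ⟶ M) :
    g ∈ cocyc P k M ↔ P.d (k - 1) k ≫ g = 0 := Iff.rfl

/-- the chain map attached to a cocycle -/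
noncomputable def toSingle {P : Cx A} {k : ℤ} {M : ModuleCat.{u} A} (g : P.X k ⟶ M)
    (hg : g ∈ cocyc P k M) : P ⟶ singleCx k M :=
  HomologicalComplex.mkHomToSingle g (by
    intro i hi
    have hi' : i + 1 = k := hi
    obtain rfl : i = k - 1 := by omega
    exact hg)

lemma toSingle_f {P : Cx A} {k : ℤ} {M : ModuleCat.{u} A} (g : P.X k ⟶ M)
    (hg : g ∈ cocyc P k M) :
    (toSingle g hg).f k = g ≫ (HomologicalComplex.singleObjXSelf (ComplexShape.up ℤ) k M).inv :=
  HomologicalComplex.mkHomToSingle_f _ _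

/-- naturality of `toDSingleIso` -/
lemma toDSingleIso_hom_naturality (k : ℤ) {M M' : ModuleCat.{u} A} (u : M ⟶ M') :
    DerivedCategory.Q.map ((HomologicalComplex.single (ModuleCat.{u} A) (ComplexShape.up ℤ) k).map u) ≫
      (toDSingleIso k M').hom =
    (toDSingleIso k M).hom ≫
      ((DerivedCategory.singleFunctor (ModuleCat.{u} A) 0).map u)⟦-k⟧' := by
  have h1 := (DerivedCategory.singleFunctorIsoCompQ (ModuleCat.{u} A) k).inv.naturality u
  have h2 := (((DerivedCategory.singleFunctors (ModuleCat.{u} A)).shiftIso (-k) k 0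
    (by omega)).inv).naturality u
  show DerivedCategory.Q.map
      ((HomologicalComplex.single (ModuleCat.{u} A) (ComplexShape.up ℤ) k).map u) ≫
      ((DerivedCategory.singleFunctorIsoCompQ (ModuleCat.{u} A) k).inv.app M' ≫
        ((DerivedCategory.singleFunctors (ModuleCat.{u} A)).shiftIso (-k) k 0
          (by omega)).inv.app M') =
    ((DerivedCategory.singleFunctorIsoCompQ (ModuleCat.{u} A) k).inv.app M ≫
        ((DerivedCategory.singleFunctors (ModuleCat.{u} A)).shiftIso (-k) k 0
          (by omega)).inv.app M) ≫ _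
  exact (Category.assoc _ _ _).symm.trans ((congrArg (· ≫ _) h1).trans
    ((Category.assoc _ _ _).trans ((congrArg (_ ≫ ·) h2).trans (Category.assoc _ _ _).symm)))

lemma toSingle_add {P : Cx A} {k : ℤ} {M : ModuleCat.{u} A} (g g' : P.X k ⟶ M)
    (hg : g ∈ cocyc P k M) (hg' : g' ∈ cocyc P k M) (hgg' : g + g' ∈ cocyc P k M) :
    toSingle (g + g') hgg' = toSingle g hg + toSingle g' hg' := by
  apply HomologicalComplex.to_single_hom_ext
  rw [HomologicalComplex.add_f_apply, toSingle_f, toSingle_f, toSingle_f, Preadditive.add_comp]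

lemma toSingle_smul {P : Cx A} {k : ℤ} {M : ModuleCat.{u} A} (r : A) (g : P.X k ⟶ M)
    (hg : g ∈ cocyc P k M) (hrg : r • g ∈ cocyc P k M) :
    toSingle (r • g) hrg = r • toSingle g hg := by
  apply HomologicalComplex.to_single_hom_ext
  rw [HomologicalComplex.smul_f_apply, toSingle_f, toSingle_f, Linear.smul_comp]

/-- the class of a cocycle -/
noncomputable def cls (P : Cx A) (k : ℤ) (M : ModuleCat.{u} A) :
    cocyc P k M →ₗ[A] (toD P ⟶ (Dual.inD A M)⟦-k⟧) where
  toFun g := DerivedCategory.Q.map (toSingle g.1 g.2) ≫ (toDSingleIso k M).hom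
  map_add' g g' := by
    show DerivedCategory.Q.map (toSingle (g.1 + g'.1) (g + g').2) ≫ _ = _
    rw [toSingle_add g.1 g'.1 g.2 g'.2, Functor.map_add, Preadditive.add_comp]
  map_smul' r g := by
    show DerivedCategory.Q.map (toSingle (r • g.1) (r • g).2) ≫ _ = _
    rw [toSingle_smul r g.1 g.2, Functor.map_smul, Linear.smul_comp]
    rfl

lemma cls_apply (P : Cx A) (k : ℤ) (M : ModuleCat.{u} A) (g : cocyc P k M) :
    cls P k M g = DerivedCategory.Q.map (toSingle g.1 g.2) ≫ (toDSingleIso k M).hom := rfl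

/-- every morphism `P → M[-k]` in `D(A)` is the class of a cocycle, for K-projective `P` -/
theorem cls_surjective (P : Cx A) [P.IsKProjective] (k : ℤ) (M : ModuleCat.{u} A) :
    Function.Surjective (cls P k M) := by
  intro e
  obtain ⟨γ, hγ⟩ := exists_map_of_isKProjective P (singleCx k M) (e ≫ (toDSingleIso k M).inv)
  let g : P.X k ⟶ M := γ.f k ≫ (HomologicalComplex.singleObjXSelf (ComplexShape.up ℤ) k M).hom
  have hg : g ∈ cocyc P k M := by
    show P.d (k - 1) k ≫ γ.f k ≫ _ = 0
    rw [← Category.assoc, ← γ.comm]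
    have : (singleCx k M).d (k - 1) k = 0 := by
      apply (HomologicalComplex.isZero_single_obj_X (ComplexShape.up ℤ) k M (k - 1)
        (by omega)).eq_of_src
    rw [this, comp_zero, zero_comp]
  refine ⟨⟨g, hg⟩, ?_⟩
  have h1 : toSingle g hg = γ := by
    apply HomologicalComplex.to_single_hom_ext
    rw [toSingle_f]
    simp only [g, Category.assoc, Iso.hom_inv_id, Category.comp_id]
  rw [cls_apply]
  show DerivedCategory.Q.map (toSingle g hg) ≫ _ = e
  rw [h1, hγ, Category.assoc, Iso.inv_hom_id, Category.comp_id]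

/-- naturality of the class in the module -/
lemma cls_comp (P : Cx A) (k : ℤ) {M M' : ModuleCat.{u} A} (u : M ⟶ M') (g : P.X k ⟶ M)
    (hg : g ∈ cocyc P k M) (hg' : g ≫ u ∈ cocyc P k M') :
    cls P k M' ⟨g ≫ u, hg'⟩ =
      cls P k M ⟨g, hg⟩ ≫ ((DerivedCategory.singleFunctor (ModuleCat.{u} A) 0).map u)⟦-k⟧' := by
  rw [cls_apply, cls_apply, Category.assoc, ← toDSingleIso_hom_naturality, ← Category.assoc,
    ← Functor.map_comp]
  congr 2
  apply HomologicalComplex.to_single_hom_ext
  rw [HomologicalComplex.comp_f, toSingle_f, toSingle_f, HomologicalComplex.single_map_f_self]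
  simp only [Category.assoc, Iso.inv_hom_id_assoc]

lemma comp_mem_cocyc {P : Cx A} {k : ℤ} {M M' : ModuleCat.{u} A} (u : M ⟶ M') (g : P.X k ⟶ M)
    (hg : g ∈ cocyc P k M) : g ≫ u ∈ cocyc P k M' := by
  show P.d (k - 1) k ≫ g ≫ u = 0
  rw [← Category.assoc, (mem_cocyc g).mp hg, zero_comp]

end Groth.Agent.Lib.Helper12
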