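import Mathlib
import Groth.Prelude.Def_DDual2
import Groth.Agent.Lib.Helper12.ExtCocycle

/-!
# Artin–Rees for `Ext` out of a pseudo-coherent complex (Stacks 15.100.2)
-/

set_option autoImplicit false

open CategoryTheory CategoryTheory.Limits DRing

attribute [local instance] HasDerivedCategory.standard

namespace Groth.Agent.Lib.Helper12

universe u

variable {A : Type u} [CommRing A]

/-- a map from a finite free module with values in `J M` lies in `J Hom(F, M)` -/
lemma hom_mem_smul_top_of_forall_mem (F M : ModuleCat.{u} A) [Module.Finite A F] [Module.Free A F]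
    (J : Ideal A) (g : F ⟶ M) (hg : ∀ x : F, g.hom x ∈ J • (⊤ : Submodule A M)) :
    g ∈ J • (⊤ : Submodule A (F ⟶ M)) := by
  classical
  let ι := Module.Free.ChooseBasisIndex A F
  let b : Module.Basis ι A F := Module.Free.chooseBasis A F
  -- the linear map `m ↦ (x ↦ b.coord i x • m)`
  let δ : ι → (M →ₗ[A] (F ⟶ M)) := fun i =>
    { toFun := fun m => ModuleCat.ofHom ((b.coord i).smulRight m)
      map_add' := fun m m' => by
        refine ModuleCat.hom_ext (LinearMap.ext fun x => ?_)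
        show b.coord i x • (m + m') = b.coord i x • m + b.coord i x • m'
        rw [smul_add]
      map_smul' := fun r m => by
        refine ModuleCat.hom_ext (LinearMap.ext fun x => ?_)
        show b.coord i x • (r • m) = r • (b.coord i x • m)
        rw [smul_comm] }
  have hsum : g = ∑ i, δ i (g.hom (b i)) := by
    refine ModuleCat.hom_ext (b.ext fun j => ?_)
    rw [ModuleCat.hom_sum, LinearMap.sum_apply]
    have : ∀ i, (δ i (g.hom (b i))).hom (b j) = if i = j then g.hom (b j) else 0 := by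
      intro i
      show b.coord i (b j) • g.hom (b i) = _
      rw [Module.Basis.coord_apply, Module.Basis.repr_self, Finsupp.single_apply]
      by_cases hij : j = i
      · subst hij
        simp
      · rw [if_neg hij, if_neg (Ne.symm hij), zero_smul]
    simp only [this, Finset.sum_ite_eq', Finset.mem_univ, if_true]
  rw [hsum]
  refine Submodule.sum_mem _ (fun i _ => ?_)
  have h1 : Submodule.map (δ i) (J • (⊤ : Submodule A M)) ≤ J • (⊤ : Submodule A (F ⟶ M)) := by
    rw [Submodule.map_smul'']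
    exact Submodule.smul_mono le_rfl le_top
  exact h1 ⟨_, hg (b i), rfl⟩

/-- the class map sends `J • cocycles` into `J • Hom` -/
lemma cls_mem_smul_top (P : Cx A) (k : ℤ) (M : ModuleCat.{u} A) (J : Ideal A)
    (g : P.X k ⟶ M) (hg : g ∈ cocyc P k M) (hgJ : g ∈ J • cocyc P k M) :
    cls P k M ⟨g, hg⟩ ∈ J • (⊤ : Submodule A (toD P ⟶ (Dual.inD A M)⟦-k⟧)) := by
  have h1 : (J • (⊤ : Submodule A (cocyc P k M))).map (cocyc P k M).subtype = J • cocyc P k M := by
    rw [Submodule.map_smul'', Submodule.map_top, Submodule.range_subtype]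
  rw [← h1] at hgJ
  obtain ⟨g', hg', hgg'⟩ := hgJ
  have : g' = ⟨g, hg⟩ := Subtype.ext hgg'
  subst this
  have h2 : Submodule.map (cls P k M) (J • (⊤ : Submodule A (cocyc P k M))) ≤
      J • (⊤ : Submodule A (toD P ⟶ (Dual.inD A M)⟦-k⟧)) := by
    rw [Submodule.map_smul'']
    exact Submodule.smul_mono le_rfl le_top
  exact h2 ⟨_, hg', rfl⟩

variable [IsNoetherianRing A]

/-- **Artin–Rees for Ext**: the core statement -/
theorem exists_cls_mem_smul_top (I : Ideal A) (P : Cx A) (k : ℤ) [Module.Finite A (P.X k)]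
    [Module.Free A (P.X k)] (M : ModuleCat.{u} A) [Module.Finite A M] :
    ∃ c : ℕ, ∀ r : ℕ, c ≤ r → ∀ (g : P.X k ⟶ M) (hg : g ∈ cocyc P k M),
      (∀ x : P.X k, g.hom x ∈ I ^ r • (⊤ : Submodule A M)) →
      cls P k M ⟨g, hg⟩ ∈ I ^ (r - c) • (⊤ : Submodule A (toD P ⟶ (Dual.inD A M)⟦-k⟧)) := by
  have : Module.Finite A (P.X k ⟶ M) :=
    Module.Finite.equiv (ModuleCat.homLinearEquiv (S := A) (M := P.X k) (N := M)).symm
  obtain ⟨c, hc⟩ := Ideal.exists_pow_inf_eq_pow_smul I (cocyc P k M)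
  refine ⟨c, fun r hr g hg hgI => ?_⟩
  apply cls_mem_smul_top
  have h1 : g ∈ I ^ r • (⊤ : Submodule A (P.X k ⟶ M)) ⊓ cocyc P k M :=
    ⟨hom_mem_smul_top_of_forall_mem _ _ _ g hgI, hg⟩
  rw [hc r hr] at h1
  exact Submodule.smul_mono le_rfl inf_le_right h1

/-- **Stacks 15.100.2**: for `K` pseudo-coherent and `M` finite, the image of
`Ext^p(K, I^n M) → Ext^p(K, M)` is contained in `I^(n-c) Ext^p(K, M)`. -/
theorem ext_from_pseudoCoherent_into_pow_mul_image (I : Ideal A)
    (K : Dual.D A) (hK : DRing.IsPseudoCoherent' A K) (M : Type u) [AddCommGroup M] [Module A M]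
    [Module.Finite A M] (p : ℤ) :
    ∃ c : ℕ, ∀ n : ℕ, c ≤ n →
      ∀ e : K ⟶ (Dual.inD A ↥(I ^ n • ⊤ : Submodule A M))⟦p⟧,
        e ≫ ((DerivedCategory.singleFunctor (ModuleCat.{u} A) 0).map
              (ModuleCat.ofHom (I ^ n • ⊤ : Submodule A M).subtype))⟦p⟧' ∈
          (I ^ (n - c) • ⊤ : Submodule A (K ⟶ (Dual.inD A M)⟦p⟧)) := by
  obtain ⟨k, rfl⟩ : ∃ k : ℤ, p = -k := ⟨-p, by ring⟩
  obtain ⟨P, b, hPb, hPf, ⟨eK⟩⟩ := hK
  have : P.IsKProjective := isKProjective_of_vanishesAbove P b hPb (fun i => by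
    have := (hPf i).2
    infer_instance)
  have := (hPf k).1
  have := (hPf k).2
  obtain ⟨c, hc⟩ := exists_cls_mem_smul_top I P k (ModuleCat.of A M)
  refine ⟨c, fun n hn e => ?_⟩
  obtain ⟨g, hg⟩ := cls_surjective P k (ModuleCat.of A ↥(I ^ n • ⊤ : Submodule A M)) (eK.hom ≫ e)
  let u : ModuleCat.of A ↥(I ^ n • ⊤ : Submodule A M) ⟶ ModuleCat.of A M :=
    ModuleCat.ofHom (I ^ n • ⊤ : Submodule A M).subtype
  have hgu := comp_mem_cocyc u g.1 g.2
  have h1 := hc n hn (g.1 ≫ u) hgu (fun x => (g.1.hom x).2)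
  rw [cls_comp P k u g.1 g.2 hgu] at h1
  have hg' : cls P k _ ⟨g.1, g.2⟩ = eK.hom ≫ e := hg
  rw [hg', Category.assoc] at h1
  -- transport along `eK`
  let T : (toD P ⟶ (Dual.inD A M)⟦-k⟧) →ₗ[A] (K ⟶ (Dual.inD A M)⟦-k⟧) :=
    { toFun := fun y => eK.inv ≫ y
      map_add' := fun y y' => Preadditive.comp_add _ _ _ _ _ _
      map_smul' := fun r y => Linear.comp_smul _ _ _ _ _ _ }
  have h2 : Submodule.map T (I ^ (n - c) • (⊤ : Submodule A (toD P ⟶ (Dual.inD A M)⟦-k⟧))) ≤
      I ^ (n - c) • (⊤ : Submodule A (K ⟶ (Dual.inD A M)⟦-k⟧)) := by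
    rw [Submodule.map_smul'']
    exact Submodule.smul_mono le_rfl le_top
  have h3 := h2 ⟨_, h1, rfl⟩
  have h4 : T (eK.hom ≫ e ≫ ((DerivedCategory.singleFunctor (ModuleCat.{u} A) 0).map u)⟦-k⟧') =
      e ≫ ((DerivedCategory.singleFunctor (ModuleCat.{u} A) 0).map u)⟦-k⟧' := by
    show eK.inv ≫ eK.hom ≫ _ = _
    rw [Iso.inv_hom_id_assoc]
  rw [h4] at h3
  exact h3

end Groth.Agent.Lib.Helper12
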