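import Mathlib
import Groth.Prelude.Def_DDual2
import Groth.Agent.Lib.Helper12.ExtArtinRees

/-!
# The long exact `Ext` sequence of `0 → N → M → M/N → 0` and essential constancy (Stacks 15.100.3)
-/

set_option autoImplicit false

open CategoryTheory CategoryTheory.Limits DRing Pretriangulated

attribute [local instance] HasDerivedCategory.standard

namespace Groth.Agent.Lib.Helper12

universe u

section General

variable {C : Type*} [Category C] [Preadditive C] [HasZeroObject C] [HasShift C ℤ]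
  [∀ n : ℤ, (shiftFunctor C n).Additive] [Pretriangulated C]

lemma exact₂_shift (T : Triangle C) (hT : T ∈ distTriang C) (i : ℤ) {X : C}
    (e : X ⟶ T.obj₂⟦i⟧) (he : e ≫ T.mor₂⟦i⟧' = 0) :
    ∃ g : X ⟶ T.obj₁⟦i⟧, e = g ≫ T.mor₁⟦i⟧' := by
  have hT' := Triangle.shift_distinguished T hT i
  obtain ⟨g, hg⟩ : ∃ g : X ⟶ T.obj₁⟦i⟧, e = g ≫ (i.negOnePow • T.mor₁⟦i⟧') :=
    Triangle.coyoneda_exact₂ _ hT' e (by
      show e ≫ (i.negOnePow • T.mor₂⟦i⟧') = 0
      rw [Linear.comp_units_smul, he, smul_zero])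
  refine ⟨i.negOnePow • g, ?_⟩
  rw [hg, Linear.comp_units_smul, Linear.units_smul_comp]

lemma exact₃_shift (T : Triangle C) (hT : T ∈ distTriang C) (i : ℤ) {X : C}
    (e : X ⟶ T.obj₃⟦i⟧) (he : e ≫ T.mor₃⟦i⟧' = 0) :
    ∃ g : X ⟶ T.obj₂⟦i⟧, e = g ≫ T.mor₂⟦i⟧' := by
  have hT' := Triangle.shift_distinguished T hT i
  obtain ⟨g, hg⟩ : ∃ g : X ⟶ T.obj₂⟦i⟧, e = g ≫ (i.negOnePow • T.mor₂⟦i⟧') :=
    Triangle.coyoneda_exact₃ _ hT' e (by
      show e ≫ (i.negOnePow • (T.mor₃⟦i⟧' ≫ (shiftFunctorComm C 1 i).hom.app T.obj₁)) = 0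
      rw [Linear.comp_units_smul, ← Category.assoc, he, zero_comp, smul_zero])
  refine ⟨i.negOnePow • g, ?_⟩
  rw [hg, Linear.comp_units_smul, Linear.units_smul_comp]

/-- a double shift `(u⟦1⟧')⟦i⟧'` kills whatever `u⟦i+1⟧'` kills -/
lemma comp_shift_shift_eq_zero {X Y Z : C} (u : Y ⟶ Z) (i : ℤ)
    (h : ∀ y : X ⟶ Y⟦i + 1⟧, y ≫ u⟦i + 1⟧' = 0) (y : X ⟶ (Y⟦(1 : ℤ)⟧)⟦i⟧) :
    y ≫ (u⟦(1 : ℤ)⟧')⟦i⟧' = 0 := by
  have hn := (shiftFunctorAdd' C 1 i (i + 1) (by omega)).hom.naturality u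
  have h1 : (u⟦(1 : ℤ)⟧')⟦i⟧' = (shiftFunctorAdd' C 1 i (i + 1) (by omega)).inv.app Y ≫
      u⟦i + 1⟧' ≫ (shiftFunctorAdd' C 1 i (i + 1) (by omega)).hom.app Z := by
    rw [hn, Iso.inv_hom_id_app_assoc]
    rfl
  rw [h1, ← Category.assoc, ← Category.assoc, h, zero_comp]

end General

variable {A : Type u} [CommRing A]

section Sub

variable {M : Type u} [AddCommGroup M] [Module A M]

/-- the short complex `0 → N → M → M/N → 0` -/
def subSC (N : Submodule A M) : ShortComplex (ModuleCat.{u} A) :=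
  ShortComplex.mk (ModuleCat.ofHom N.subtype) (ModuleCat.ofHom N.mkQ) (by
    refine ModuleCat.hom_ext (LinearMap.ext fun x => ?_)
    show N.mkQ (N.subtype x) = 0
    simp)

lemma subSC_shortExact (N : Submodule A M) : (subSC N).ShortExact := by
  have hmono : Mono (subSC N).f := (ModuleCat.mono_iff_injective _).mpr N.injective_subtype
  have hepi : Epi (subSC N).g := (ModuleCat.epi_iff_surjective _).mpr N.mkQ_surjective
  refine ShortComplex.ShortExact.mk ?_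
  rw [ShortComplex.moduleCat_exact_iff_range_eq_ker]
  show LinearMap.range N.subtype = LinearMap.ker N.mkQ
  rw [Submodule.range_subtype, Submodule.ker_mkQ]

/-- the morphism of short complexes attached to `N' ≤ N` -/
def subSCMap (N' N : Submodule A M) (h : N' ≤ N) : subSC N' ⟶ subSC N where
  τ₁ := ModuleCat.ofHom (Submodule.inclusion h)
  τ₂ := 𝟙 _
  τ₃ := ModuleCat.ofHom (Submodule.mapQ N' N LinearMap.id h)
  comm₁₂ := by
    refine ModuleCat.hom_ext (LinearMap.ext fun x => ?_)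
    rfl
  comm₂₃ := by
    refine ModuleCat.hom_ext (LinearMap.ext fun x => ?_)
    rfl

/-- the connecting morphism of `0 → N → M → M/N → 0`, with explicit source and target -/
noncomputable def extδ (N : Submodule A M) :
    Dual.inD A (M ⧸ N) ⟶ (Dual.inD A ↥N)⟦(1 : ℤ)⟧ :=
  (subSC_shortExact N).singleδ

variable (K : Dual.D A)

lemma ext_exact₂ (N : Submodule A M) (i : ℤ) (e : K ⟶ (Dual.inD A M)⟦i⟧)
    (he : e ≫ ((DerivedCategory.singleFunctor (ModuleCat.{u} A) 0).map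
      (ModuleCat.ofHom N.mkQ))⟦i⟧' = 0) :
    ∃ g : K ⟶ (Dual.inD A ↥N)⟦i⟧, e = g ≫
      ((DerivedCategory.singleFunctor (ModuleCat.{u} A) 0).map (ModuleCat.ofHom N.subtype))⟦i⟧' :=
  exact₂_shift _ (subSC_shortExact N).singleTriangle_distinguished i e he

lemma ext_exact₃ (N : Submodule A M) (i : ℤ) (e : K ⟶ (Dual.inD A (M ⧸ N))⟦i⟧)
    (he : e ≫ (extδ N)⟦i⟧' = 0) :
    ∃ g : K ⟶ (Dual.inD A M)⟦i⟧, e = g ≫
      ((DerivedCategory.singleFunctor (ModuleCat.{u} A) 0).map (ModuleCat.ofHom N.mkQ))⟦i⟧' :=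
  exact₃_shift _ (subSC_shortExact N).singleTriangle_distinguished i e he

lemma extδ_naturality (N' N : Submodule A M) (h : N' ≤ N) :
    (DerivedCategory.singleFunctor (ModuleCat.{u} A) 0).map
        (ModuleCat.ofHom (Submodule.mapQ N' N LinearMap.id h)) ≫ extδ N =
      extδ N' ≫
        ((DerivedCategory.singleFunctor (ModuleCat.{u} A) 0).map
          (ModuleCat.ofHom (Submodule.inclusion h)))⟦(1 : ℤ)⟧' :=
  ((ShortComplex.ShortExact.singleTriangle.map (subSC_shortExact N') (subSC_shortExact N)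
    (subSCMap N' N h)).comm₃).symm

lemma ext_comp_mapQ_comp_extδ (N' N : Submodule A M) (h : N' ≤ N) (i : ℤ)
    (e : K ⟶ (Dual.inD A (M ⧸ N'))⟦i⟧) :
    (e ≫ ((DerivedCategory.singleFunctor (ModuleCat.{u} A) 0).map
        (ModuleCat.ofHom (Submodule.mapQ N' N LinearMap.id h)))⟦i⟧') ≫ (extδ N)⟦i⟧' =
      (e ≫ (extδ N')⟦i⟧') ≫ (((DerivedCategory.singleFunctor (ModuleCat.{u} A) 0).map
          (ModuleCat.ofHom (Submodule.inclusion h)))⟦(1 : ℤ)⟧')⟦i⟧' := by
  rw [Category.assoc, Category.assoc, ← Functor.map_comp, ← Functor.map_comp, extδ_naturality]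

end Sub

end Groth.Agent.Lib.Helper12
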