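import Mathlib
import Groth.Prelude.Def_DDual2
import Groth.Agent.Lib.Helper12.ExtLES

/-!
# Essential constancy of `Ext^i(K, M/I^n M)` (Stacks 15.100.3)
-/

set_option autoImplicit false

open CategoryTheory CategoryTheory.Limits DRing Pretriangulated

attribute [local instance] HasDerivedCategory.standard

namespace Groth.Agent.Lib.Helper12

universe u

variable {A : Type u} [CommRing A]

/-- a finite module all of whose elements are `I`-power torsion is killed by a power of `I` -/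
lemma exists_pow_annihilates {E : Type*} [AddCommGroup E] [Module A E] [Module.Finite A E]
    (I : Ideal A) (h : ∀ e : E, ∃ n : ℕ, ∀ x ∈ I ^ n, x • e = 0) :
    ∃ N : ℕ, ∀ x ∈ I ^ N, ∀ e : E, x • e = 0 := by
  classical
  obtain ⟨S, hS⟩ := (Module.Finite.fg_top : (⊤ : Submodule A E).FG)
  choose n hn using h
  refine ⟨S.sup n, fun x hx e => ?_⟩
  have he : e ∈ Submodule.span A (S : Set E) := hS ▸ Submodule.mem_top
  induction he using Submodule.span_induction with
  | mem s hs => exact hn s x (Ideal.pow_le_pow_right (Finset.le_sup hs) hx)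
  | zero => exact smul_zero x
  | add a b _ _ ha hb => rw [smul_add, ha, hb, add_zero]
  | smul r a _ ha => rw [smul_comm, ha, smul_zero]

variable [IsNoetherianRing A]

/-- `Ext^p(K, M)` is a finite module for `K` pseudo-coherent and `M` finite (Noetherian ring) -/
theorem finite_ext_of_pseudoCoherent (K : Dual.D A) (hK : DRing.IsPseudoCoherent' A K)
    (M : Type u) [AddCommGroup M] [Module A M] [Module.Finite A M] (p : ℤ) :
    Module.Finite A (K ⟶ (Dual.inD A M)⟦p⟧) := by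
  obtain ⟨k, rfl⟩ : ∃ k : ℤ, p = -k := ⟨-p, by ring⟩
  obtain ⟨P, b, hPb, hPf, ⟨eK⟩⟩ := hK
  have : P.IsKProjective := isKProjective_of_vanishesAbove P b hPb (fun i => by
    have := (hPf i).2
    infer_instance)
  have := (hPf k).1
  have := (hPf k).2
  have : Module.Finite A (P.X k ⟶ ModuleCat.of A M) :=
    Module.Finite.equiv (ModuleCat.homLinearEquiv (S := A) (M := P.X k)
      (N := ModuleCat.of A M)).symm
  have : IsNoetherian A (P.X k ⟶ ModuleCat.of A M) := isNoetherian_of_isNoetherianRing_of_finite A _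
  let T : (toD P ⟶ (Dual.inD A M)⟦-k⟧) →ₗ[A] (K ⟶ (Dual.inD A M)⟦-k⟧) :=
    { toFun := fun y => eK.inv ≫ y
      map_add' := fun y y' => Preadditive.comp_add _ _ _ _ _ _
      map_smul' := fun r y => Linear.comp_smul _ _ _ _ _ _ }
  have hsurj : Function.Surjective (T ∘ₗ cls P k (ModuleCat.of A M)) := by
    intro e
    obtain ⟨g, hg⟩ := cls_surjective P k (ModuleCat.of A M) (eK.hom ≫ e)
    refine ⟨g, ?_⟩
    show eK.inv ≫ cls P k _ g = e
    rw [hg, Iso.inv_hom_id_assoc]
  exact Module.Finite.of_surjective _ hsurj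

/-- for `n` large the map `Ext^p(K, I^n M) → Ext^p(K, M)` vanishes, when `Ext^p(K, M)` is
`I`-power torsion -/
theorem ext_map_pow_eq_zero (I : Ideal A) (K : Dual.D A) (hK : DRing.IsPseudoCoherent' A K)
    (M : Type u) [AddCommGroup M] [Module A M] [Module.Finite A M] (p : ℤ)
    (htors : ∀ e : K ⟶ (Dual.inD A M)⟦p⟧, ∃ n : ℕ, ∀ x ∈ I ^ n, x • e = 0) :
    ∃ m0 : ℕ, ∀ m : ℕ, m0 ≤ m →
      ∀ e : K ⟶ (Dual.inD A ↥(I ^ m • ⊤ : Submodule A M))⟦p⟧,
        e ≫ ((DerivedCategory.singleFunctor (ModuleCat.{u} A) 0).map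
              (ModuleCat.ofHom (I ^ m • ⊤ : Submodule A M).subtype))⟦p⟧' = 0 := by
  have := finite_ext_of_pseudoCoherent K hK M p
  obtain ⟨N, hN⟩ := exists_pow_annihilates I htors
  obtain ⟨c, hc⟩ := ext_from_pseudoCoherent_into_pow_mul_image I K hK M p
  refine ⟨c + N, fun m hm e => ?_⟩
  have h1 := hc m (by omega) e
  have h2 : ∀ y ∈ (I ^ (m - c) • ⊤ : Submodule A (K ⟶ (Dual.inD A M)⟦p⟧)), y = 0 := by
    intro y hy
    refine Submodule.smul_induction_on hy (fun r hr y _ => ?_) (fun y y' hy hy' => ?_)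
    · exact hN r (Ideal.pow_le_pow_right (by omega) hr) y
    · rw [hy, hy', add_zero]
  exact h2 _ h1

/-- **Stacks 15.100.3** -/
theorem ext_essentially_constant (I : Ideal A) (K : Dual.D A) (hK : DRing.IsPseudoCoherent' A K)
    (a : ℤ)
    (htors : ∀ (M : Type u) [AddCommGroup M] [Module A M], Module.Finite A M → ∀ i : ℤ, a ≤ i →
      ∀ e : K ⟶ (Dual.inD A M)⟦i⟧, ∃ n : ℕ, ∀ x ∈ I ^ n, x • e = 0)
    (M : Type u) [AddCommGroup M] [Module A M] [Module.Finite A M] (i : ℤ) (hi : a ≤ i) :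
    let Mq : ℕ → Submodule A M := fun n => I ^ n • ⊤
    let c : ∀ n : ℕ, (K ⟶ (Dual.inD A M)⟦i⟧) → (K ⟶ (Dual.inD A (M ⧸ Mq n))⟦i⟧) :=
      fun n e => e ≫ ((DerivedCategory.singleFunctor (ModuleCat.{u} A) 0).map
        (ModuleCat.ofHom (Mq n).mkQ))⟦i⟧'
    let t : ∀ n m : ℕ, n ≤ m → (K ⟶ (Dual.inD A (M ⧸ Mq m))⟦i⟧) →
        (K ⟶ (Dual.inD A (M ⧸ Mq n))⟦i⟧) :=
      fun n m hnm e => e ≫ ((DerivedCategory.singleFunctor (ModuleCat.{u} A) 0).map (ModuleCat.ofHom
        (Submodule.mapQ (Mq m) (Mq n) (LinearMap.id : M →ₗ[A] M)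
          (Submodule.smul_mono_left (Ideal.pow_le_pow_right hnm)))))⟦i⟧'
    (∃ m : ℕ, Function.Injective (c m)) ∧
      ∀ n : ℕ, ∃ (m' : ℕ) (hnm : n ≤ m'), Set.range (t n m' hnm) ⊆ Set.range (c n) := by
  intro Mq c t
  constructor
  · obtain ⟨m0, hm0⟩ := ext_map_pow_eq_zero I K hK M i (htors M inferInstance i hi)
    refine ⟨m0, fun e e' hee' => ?_⟩
    have h1 : (e - e') ≫ ((DerivedCategory.singleFunctor (ModuleCat.{u} A) 0).map
        (ModuleCat.ofHom (Mq m0).mkQ))⟦i⟧' = 0 := by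
      rw [Preadditive.sub_comp]
      exact sub_eq_zero.mpr hee'
    obtain ⟨g, hg⟩ := ext_exact₂ K (Mq m0) i (e - e') h1
    rw [hm0 m0 le_rfl g] at hg
    exact sub_eq_zero.mp hg
  · intro n
    have : IsNoetherian A M := isNoetherian_of_isNoetherianRing_of_finite A M
    have hfin : Module.Finite A ↥(Mq n) := inferInstance
    obtain ⟨r0, hr0⟩ := ext_map_pow_eq_zero I K hK ↥(Mq n) (i + 1)
      (htors ↥(Mq n) hfin (i + 1) (by omega))
    have hle : Mq (n + r0) ≤ Mq n := Submodule.smul_mono_left (Ideal.pow_le_pow_right (by omega))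
    refine ⟨n + r0, by omega, ?_⟩
    rintro _ ⟨e, rfl⟩
    -- the inclusion factors through `I^r0 (I^n M)`
    have hmem : ∀ x : ↥(Mq (n + r0)),
        Submodule.inclusion hle x ∈ (I ^ r0 • ⊤ : Submodule A ↥(Mq n)) := by
      intro x
      have h1 : (I ^ r0 • ⊤ : Submodule A ↥(Mq n)).map (Mq n).subtype = Mq (n + r0) := by
        rw [Submodule.map_smul'', Submodule.map_top, Submodule.range_subtype]
        show I ^ r0 • I ^ n • (⊤ : Submodule A M) = I ^ (n + r0) • ⊤
        rw [← mul_smul, ← pow_add, add_comm]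
      have h2 : (x : M) ∈ (I ^ r0 • ⊤ : Submodule A ↥(Mq n)).map (Mq n).subtype := by
        rw [h1]
        exact x.2
      obtain ⟨y, hy, hyx⟩ := h2
      have : y = Submodule.inclusion hle x := Subtype.ext hyx
      rw [← this]
      exact hy
    let j : ↥(Mq (n + r0)) →ₗ[A] ↥(I ^ r0 • ⊤ : Submodule A ↥(Mq n)) :=
      LinearMap.codRestrict _ (Submodule.inclusion hle) hmem
    have hj : ModuleCat.ofHom (Submodule.inclusion hle) =
        ModuleCat.ofHom j ≫ ModuleCat.ofHom (I ^ r0 • ⊤ : Submodule A ↥(Mq n)).subtype := by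
      refine ModuleCat.hom_ext (LinearMap.ext fun x => ?_)
      rfl
    -- the composite with `δ` vanishes
    have hδ : (t n (n + r0) (by omega) e) ≫ (extδ (Mq n))⟦i⟧' = 0 := by
      refine (ext_comp_mapQ_comp_extδ K (Mq (n + r0)) (Mq n) hle i e).trans ?_
      rw [hj, Functor.map_comp, Functor.map_comp, Functor.map_comp, ← Category.assoc]
      exact comp_shift_shift_eq_zero _ i (fun y => hr0 r0 le_rfl y) _
    obtain ⟨g, hg⟩ := ext_exact₃ K (Mq n) i _ hδ
    exact ⟨g, hg.symm⟩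

end Groth.Agent.Lib.Helper12
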