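import Mathlib
import Groth.Prelude.Def_DDual2
import Groth.Agent.Lib.Helper12.ExtLES

/-!
# Artin–Rees for `Ext` in the source variable (Stacks 15.100.1)
-/

set_option autoImplicit false

open CategoryTheory CategoryTheory.Limits DRing Pretriangulated

attribute [local instance] HasDerivedCategory.standard

namespace Groth.Agent.Lib.Helper12

universe u

variable {A : Type u} [CommRing A]

section KerSC

variable {X Y : Type u} [AddCommGroup X] [Module A X] [AddCommGroup Y] [Module A Y]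

/-- the short complex `0 → ker g → X → Y → 0` -/
def kerSC (g : X →ₗ[A] Y) : ShortComplex (ModuleCat.{u} A) :=
  ShortComplex.mk (ModuleCat.ofHom (LinearMap.ker g).subtype) (ModuleCat.ofHom g) (by
    refine ModuleCat.hom_ext (LinearMap.ext fun x => ?_)
    exact x.2)

lemma kerSC_shortExact (g : X →ₗ[A] Y) (hg : Function.Surjective g) : (kerSC g).ShortExact := by
  have hmono : Mono (kerSC g).f :=
    (ModuleCat.mono_iff_injective _).mpr (LinearMap.ker g).injective_subtype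
  have hepi : Epi (kerSC g).g := (ModuleCat.epi_iff_surjective _).mpr hg
  refine ShortComplex.ShortExact.mk ?_
  rw [ShortComplex.moduleCat_exact_iff_range_eq_ker]
  show LinearMap.range (LinearMap.ker g).subtype = LinearMap.ker g
  rw [Submodule.range_subtype]

/-- the connecting morphism of `0 → ker g → X → Y → 0` -/
noncomputable def kerδ (g : X →ₗ[A] Y) (hg : Function.Surjective g) :
    Dual.inD A Y ⟶ (Dual.inD A ↥(LinearMap.ker g))⟦(1 : ℤ)⟧ :=
  (kerSC_shortExact g hg).singleδ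

end KerSC

/-- no higher `Ext` out of a projective module -/
lemma hom_inD_projective_eq_zero (F N : Type u) [AddCommGroup F] [Module A F] [AddCommGroup N]
    [Module A N] [Module.Projective A F] (p : ℕ)
    (e : Dual.inD A F ⟶ (Dual.inD A N)⟦((p + 1 : ℕ) : ℤ)⟧) : e = 0 := by
  have : HasExt.{u+1} (ModuleCat.{u} A) := hasExt_of_hasDerivedCategory (ModuleCat.{u} A)
  have : Projective (ModuleCat.of A F) := by
    rw [← IsProjective.iff_projective]
    infer_instance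
  let E : Abelian.Ext.{u+1} (ModuleCat.of A F) (ModuleCat.of A N) (p + 1) ≃
      ShiftedHom ((DerivedCategory.singleFunctor (ModuleCat.{u} A) 0).obj (ModuleCat.of A F))
        ((DerivedCategory.singleFunctor (ModuleCat.{u} A) 0).obj (ModuleCat.of A N))
        ((p + 1 : ℕ) : ℤ) := Abelian.Ext.homEquiv
  have h : E.symm e = 0 := Abelian.Ext.eq_zero_of_projective _
  have h2 := congrArg E h
  rw [Equiv.apply_symm_apply] at h2
  rw [h2]
  exact (Abelian.Ext.zero_hom.{u+1} (ModuleCat.of A F) (ModuleCat.of A N) (p + 1))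

/-- the statement proved by induction on `p` -/
def SourceAR (I : Ideal A) (N : Type u) [AddCommGroup N] [Module A N] (p : ℕ) : Prop :=
  ∀ (M : Type u) [AddCommGroup M] [Module A M] [Module.Finite A M], ∃ c : ℕ, ∀ k : ℕ,
    ∀ e : Dual.inD A M ⟶ (Dual.inD A N)⟦(p : ℤ)⟧,
      ∃ e' : Dual.inD A ↥(I ^ (k + c) • ⊤ : Submodule A M) ⟶
          (Dual.inD A ↥(I ^ k • ⊤ : Submodule A N))⟦(p : ℤ)⟧,
        e' ≫ ((DerivedCategory.singleFunctor (ModuleCat.{u} A) 0).map
                (ModuleCat.ofHom (I ^ k • ⊤ : Submodule A N).subtype))⟦(p : ℤ)⟧' =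
          (DerivedCategory.singleFunctor (ModuleCat.{u} A) 0).map
              (ModuleCat.ofHom (I ^ (k + c) • ⊤ : Submodule A M).subtype) ≫ e

lemma sourceAR_zero (I : Ideal A) (N : Type u) [AddCommGroup N] [Module A N] :
    SourceAR I N 0 := by
  intro M _ _ _
  refine ⟨0, fun k e => ?_⟩
  let z := shiftFunctorZero' (Dual.D A) ((0 : ℕ) : ℤ) Nat.cast_zero
  let zh : ∀ X : Dual.D A, X⟦((0 : ℕ) : ℤ)⟧ ⟶ X := fun X => z.hom.app X
  let zi : ∀ X : Dual.D A, X ⟶ X⟦((0 : ℕ) : ℤ)⟧ := fun X => z.inv.app X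
  have hzz : ∀ X : Dual.D A, zh X ≫ zi X = 𝟙 _ := fun X => z.hom_inv_id_app X
  have hz : ∀ {X Y : Dual.D A} (f : X ⟶ Y), f ≫ zi Y = zi X ≫ f⟦((0 : ℕ) : ℤ)⟧' :=
    fun f => z.inv.naturality f
  let φ : ModuleCat.of A M ⟶ ModuleCat.of A N :=
    (DerivedCategory.singleFunctor (ModuleCat.{u} A) 0).preimage (e ≫ zh (Dual.inD A N))
  have hφ : (DerivedCategory.singleFunctor (ModuleCat.{u} A) 0).map φ =
      e ≫ zh (Dual.inD A N) := Functor.map_preimage _ _
  have hmem : ∀ x ∈ (I ^ (k + 0) • ⊤ : Submodule A M), φ.hom x ∈ (I ^ k • ⊤ : Submodule A N) := by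
    intro x hx
    have h1 : (I ^ k • ⊤ : Submodule A M).map φ.hom ≤ I ^ k • ⊤ := by
      rw [Submodule.map_smul'']
      exact Submodule.smul_mono le_rfl le_top
    exact h1 ⟨x, hx, rfl⟩
  let φk : ↥(I ^ (k + 0) • ⊤ : Submodule A M) →ₗ[A] ↥(I ^ k • ⊤ : Submodule A N) :=
    φ.hom.restrict hmem
  have hφk : ModuleCat.ofHom φk ≫ ModuleCat.ofHom (I ^ k • ⊤ : Submodule A N).subtype =
      ModuleCat.ofHom (I ^ (k + 0) • ⊤ : Submodule A M).subtype ≫ φ := by
    refine ModuleCat.hom_ext (LinearMap.ext fun x => ?_)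
    rfl
  refine ⟨(DerivedCategory.singleFunctor (ModuleCat.{u} A) 0).map (ModuleCat.ofHom φk) ≫
    zi (Dual.inD A ↥(I ^ k • ⊤ : Submodule A N)), ?_⟩
  rw [Category.assoc, ← hz, ← Category.assoc, ← Functor.map_comp, hφk, Functor.map_comp, hφ,
    Category.assoc, Category.assoc, hzz, Category.comp_id]

variable [IsNoetherianRing A]

lemma sourceAR_succ (I : Ideal A) (N : Type u) [AddCommGroup N] [Module A N] (p : ℕ)
    (IH : SourceAR I N p) : SourceAR I N (p + 1) := by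
  intro M _ _ _
  obtain ⟨t, π, hπ⟩ := Module.Finite.exists_fin' A M
  let K : Submodule A (Fin t → A) := LinearMap.ker π
  have : IsNoetherian A (Fin t → A) := isNoetherian_of_isNoetherianRing_of_finite A _
  have hKfin : Module.Finite A ↥K := inferInstance
  obtain ⟨c', hc'⟩ := IH ↥K
  obtain ⟨c, hc⟩ := Ideal.exists_pow_inf_eq_pow_smul I K
  refine ⟨c' + c, fun k e => ?_⟩
  -- notation
  obtain ⟨n, hn⟩ : ∃ n : ℕ, n = k + (c' + c) := ⟨_, rfl⟩
  rw [← hn]
  -- the restricted surjection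
  have hπmem : ∀ x ∈ (I ^ n • ⊤ : Submodule A (Fin t → A)), π x ∈ (I ^ n • ⊤ : Submodule A M) := by
    intro x hx
    have h1 : (I ^ n • ⊤ : Submodule A (Fin t → A)).map π ≤ I ^ n • ⊤ := by
      rw [Submodule.map_smul'']
      exact Submodule.smul_mono le_rfl le_top
    exact h1 ⟨x, hx, rfl⟩
  let πn : ↥(I ^ n • ⊤ : Submodule A (Fin t → A)) →ₗ[A] ↥(I ^ n • ⊤ : Submodule A M) :=
    π.restrict hπmem
  have hπn : Function.Surjective πn := by
    intro y
    have h1 : (I ^ n • ⊤ : Submodule A (Fin t → A)).map π = I ^ n • ⊤ := by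
      rw [Submodule.map_smul'', Submodule.map_top, LinearMap.range_eq_top.mpr hπ]
    have h2 : (y : M) ∈ (I ^ n • ⊤ : Submodule A (Fin t → A)).map π := by
      rw [h1]
      exact y.2
    obtain ⟨x, hx, hxy⟩ := h2
    exact ⟨⟨x, hx⟩, Subtype.ext hxy⟩
  -- the map on kernels
  have hτmem : ∀ x : ↥(LinearMap.ker πn), (x.1.1 : Fin t → A) ∈ K := by
    intro x
    have h1 : πn x.1 = 0 := x.2
    show π x.1.1 = 0
    exact congrArg Subtype.val h1
  let τ : ↥(LinearMap.ker πn) →ₗ[A] ↥K :=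
    LinearMap.codRestrict K
      ((I ^ n • ⊤ : Submodule A (Fin t → A)).subtype ∘ₗ (LinearMap.ker πn).subtype) hτmem
  have hιmem : ∀ x : ↥(LinearMap.ker πn), τ x ∈ (I ^ (k + c') • ⊤ : Submodule A ↥K) := by
    intro x
    have h1 : (I ^ (k + c') • ⊤ : Submodule A ↥K).map K.subtype = I ^ (k + c') • K := by
      rw [Submodule.map_smul'', Submodule.map_top, Submodule.range_subtype]
    have h2 : (x.1.1 : Fin t → A) ∈ (I ^ n • ⊤ ⊓ K : Submodule A (Fin t → A)) :=
      ⟨x.1.2, hτmem x⟩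
    rw [hc n (by omega)] at h2
    have h3 : (x.1.1 : Fin t → A) ∈ I ^ (k + c') • K := by
      have : n - c = k + c' := by omega
      rw [this] at h2
      exact Submodule.smul_mono le_rfl inf_le_right h2
    rw [← h1] at h3
    obtain ⟨y, hy, hyx⟩ := h3
    have : y = τ x := Subtype.ext hyx
    rw [← this]
    exact hy
  let ι₁ : ↥(LinearMap.ker πn) →ₗ[A] ↥(I ^ (k + c') • ⊤ : Submodule A ↥K) :=
    LinearMap.codRestrict _ τ hιmem
  have hι₁ : ModuleCat.ofHom (X := ↥(LinearMap.ker πn))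
        (Y := ↥(I ^ (k + c') • ⊤ : Submodule A ↥K)) ι₁ ≫
      ModuleCat.ofHom (X := ↥(I ^ (k + c') • ⊤ : Submodule A ↥K)) (Y := ↥K)
        (I ^ (k + c') • ⊤ : Submodule A ↥K).subtype =
      ModuleCat.ofHom (X := ↥(LinearMap.ker πn)) (Y := ↥K) τ := by
    refine ModuleCat.hom_ext (LinearMap.ext fun x => ?_)
    rfl
  -- the morphism of short exact sequences
  let Φ : kerSC πn ⟶ kerSC π :=
    { τ₁ := ModuleCat.ofHom (X := ↥(LinearMap.ker πn)) (Y := ↥K) τ
      τ₂ := (ModuleCat.ofHom (I ^ n • ⊤ : Submodule A (Fin t → A)).subtype :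
        ModuleCat.of A ↥(I ^ n • ⊤ : Submodule A (Fin t → A)) ⟶ ModuleCat.of A (Fin t → A))
      τ₃ := (ModuleCat.ofHom (I ^ n • ⊤ : Submodule A M).subtype :
        ModuleCat.of A ↥(I ^ n • ⊤ : Submodule A M) ⟶ ModuleCat.of A M)
      comm₁₂ := by
        refine ModuleCat.hom_ext (LinearMap.ext fun x => ?_)
        rfl
      comm₂₃ := by
        refine ModuleCat.hom_ext (LinearMap.ext fun x => ?_)
        rfl }
  have hnat : kerδ πn hπn ≫ ((DerivedCategory.singleFunctor (ModuleCat.{u} A) 0).map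
        (ModuleCat.ofHom (X := ↥(LinearMap.ker πn)) (Y := ↥K) τ))⟦(1 : ℤ)⟧' =
      (DerivedCategory.singleFunctor (ModuleCat.{u} A) 0).map
        (ModuleCat.ofHom (I ^ n • ⊤ : Submodule A M).subtype) ≫ kerδ π hπ :=
    (ShortComplex.ShortExact.singleTriangle.map (kerSC_shortExact πn hπn) (kerSC_shortExact π hπ)
      Φ).comm₃
  -- factor `e` through the connecting morphism
  have he0 : (DerivedCategory.singleFunctor (ModuleCat.{u} A) 0).map (ModuleCat.ofHom π) ≫ e = 0 :=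
    hom_inD_projective_eq_zero (Fin t → A) N p _
  obtain ⟨g, hg⟩ : ∃ g : (Dual.inD A ↥K)⟦(1 : ℤ)⟧ ⟶ (Dual.inD A N)⟦((p + 1 : ℕ) : ℤ)⟧,
      e = kerδ π hπ ≫ g :=
    Triangle.yoneda_exact₃ _ (kerSC_shortExact π hπ).singleTriangle_distinguished e he0
  -- desuspend `g`
  let α := shiftFunctorAdd' (Dual.D A) (p : ℤ) 1 ((p + 1 : ℕ) : ℤ) (by push_cast; rfl)
  let αh : ∀ X : Dual.D A, X⟦((p + 1 : ℕ) : ℤ)⟧ ⟶ (X⟦(p : ℤ)⟧)⟦(1 : ℤ)⟧ := fun X => α.hom.app X
  let αi : ∀ X : Dual.D A, (X⟦(p : ℤ)⟧)⟦(1 : ℤ)⟧ ⟶ X⟦((p + 1 : ℕ) : ℤ)⟧ := fun X => α.inv.app X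
  have hαα : ∀ X : Dual.D A, αh X ≫ αi X = 𝟙 _ := fun X => α.hom_inv_id_app X
  have hα : ∀ {X Y : Dual.D A} (f : X ⟶ Y),
      (f⟦(p : ℤ)⟧')⟦(1 : ℤ)⟧' ≫ αi Y = αi X ≫ f⟦((p + 1 : ℕ) : ℤ)⟧' :=
    fun f => α.inv.naturality f
  let e₁ : Dual.inD A ↥K ⟶ (Dual.inD A N)⟦(p : ℤ)⟧ :=
    (shiftFunctor (Dual.D A) (1 : ℤ)).preimage (g ≫ αh (Dual.inD A N))
  have he₁ : e₁⟦(1 : ℤ)⟧' = g ≫ αh (Dual.inD A N) := Functor.map_preimage _ _
  obtain ⟨e₁', he₁'⟩ := hc' k e₁
  have key : ((DerivedCategory.singleFunctor (ModuleCat.{u} A) 0).map (ModuleCat.ofHom ι₁) ≫ e₁') ≫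
      ((DerivedCategory.singleFunctor (ModuleCat.{u} A) 0).map
        (ModuleCat.ofHom (I ^ k • ⊤ : Submodule A N).subtype))⟦(p : ℤ)⟧' =
      (DerivedCategory.singleFunctor (ModuleCat.{u} A) 0).map
        (ModuleCat.ofHom (X := ↥(LinearMap.ker πn)) (Y := ↥K) τ) ≫ e₁ := by
    rw [Category.assoc, he₁', ← Category.assoc, ← Functor.map_comp, hι₁]
  refine ⟨kerδ πn hπn ≫ ((DerivedCategory.singleFunctor (ModuleCat.{u} A) 0).map
      (ModuleCat.ofHom ι₁) ≫ e₁')⟦(1 : ℤ)⟧' ≫ αi (Dual.inD A ↥(I ^ k • ⊤ : Submodule A N)), ?_⟩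
  rw [Category.assoc, Category.assoc, ← hα, ← Category.assoc (_⟦(1 : ℤ)⟧'), ← Functor.map_comp,
    key, Functor.map_comp, he₁, Category.assoc,
    Category.assoc, hαα, Category.comp_id, ← Category.assoc, hnat, Category.assoc, ← hg]

theorem sourceAR (I : Ideal A) (N : Type u) [AddCommGroup N] [Module A N] (p : ℕ) :
    SourceAR I N p := by
  induction p with
  | zero => exact sourceAR_zero I N
  | succ p ih => exact sourceAR_succ I N p ih

/-- **Stacks 15.100.1** -/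
theorem ext_source_artinRees (I : Ideal A)
    (M N : Type u) [AddCommGroup M] [Module A M] [Module.Finite A M] [AddCommGroup N] [Module A N]
    (p : ℕ) :
    ∃ c : ℕ, ∀ n : ℕ, c ≤ n →
      ∀ e : Dual.inD A M ⟶ (Dual.inD A N)⟦(p : ℤ)⟧,
        ∃ e' : Dual.inD A ↥(I ^ n • ⊤ : Submodule A M) ⟶
            (Dual.inD A ↥(I ^ (n - c) • ⊤ : Submodule A N))⟦(p : ℤ)⟧,
          e' ≫ ((DerivedCategory.singleFunctor (ModuleCat.{u} A) 0).map
                  (ModuleCat.ofHom (I ^ (n - c) • ⊤ : Submodule A N).subtype))⟦(p : ℤ)⟧' =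
            (DerivedCategory.singleFunctor (ModuleCat.{u} A) 0).map
                (ModuleCat.ofHom (I ^ n • ⊤ : Submodule A M).subtype) ≫ e := by
  obtain ⟨c, hc⟩ := sourceAR I N p M
  refine ⟨c, fun n hn e => ?_⟩
  obtain ⟨k, rfl⟩ : ∃ k, n = k + c := ⟨n - c, by omega⟩
  have hk : k + c - c = k := by omega
  rw [hk]
  exact hc k e

end Groth.Agent.Lib.Helper12
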