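import Mathlib
import Groth.Prelude.Def_DDual2

/-!
# Over a field every complex is quasi-isomorphic to its cohomology (with zero differentials)

We only use that every module is projective.
-/

set_option autoImplicit false

open CategoryTheory CategoryTheory.Limits DRing

namespace Groth.Agent.Lib.Helper12

universe u

variable {k : Type u} [CommRing k] (hproj : ∀ M : ModuleCat.{u} k, Projective M) (C : Cx k)

/-- the cohomology of `C` as a complex with zero differentials -/
noncomputable def homologyCx : Cx k :=
  CochainComplex.of (fun i => C.homology i)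
    (fun i => (0 : C.homology i ⟶ C.homology (i + 1))) (fun _ => zero_comp)

lemma homologyCx_d (i j : ℤ) : (homologyCx C).d i j = 0 := by
  show CochainComplex.of.d (fun i => C.homology i)
    (fun i => (0 : C.homology i ⟶ C.homology (i + 1))) i j = 0
  unfold CochainComplex.of.d
  split_ifs <;> simp

include hproj in
lemma exists_homologySection (i : ℤ) :
    ∃ σ : C.homology i ⟶ C.cycles i, σ ≫ C.homologyπ i = 𝟙 _ := by
  have := hproj (C.homology i)
  exact ⟨Projective.factorThru (𝟙 _) (C.homologyπ i), Projective.factorThru_comp _ _⟩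

/-- a section of the projection from cycles to cohomology -/
noncomputable def homologySection (i : ℤ) : C.homology i ⟶ C.cycles i :=
  (exists_homologySection hproj C i).choose

lemma homologySection_π (i : ℤ) : homologySection hproj C i ≫ C.homologyπ i = 𝟙 _ :=
  (exists_homologySection hproj C i).choose_spec

/-- the quasi-isomorphism from the cohomology to the complex -/
noncomputable def homologyCxMap : homologyCx C ⟶ C :=
  CochainComplex.ofHom (X := homologyCx C) (Y := C)
    (fun i => homologySection hproj C i ≫ C.iCycles i) (fun i => by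
      have h1 : (homologySection hproj C i ≫ C.iCycles i) ≫ C.d i (i + 1) = 0 := by
        rw [Category.assoc, HomologicalComplex.iCycles_d, comp_zero]
      have h2 : (homologyCx C).d i (i + 1) = 0 := homologyCx_d C _ _
      exact h1.trans ((congrArg (· ≫ _) h2).trans zero_comp).symm)

lemma homologyCxMap_f (i : ℤ) :
    (homologyCxMap hproj C).f i = homologySection hproj C i ≫ C.iCycles i := rfl

theorem quasiIso_homologyCxMap : QuasiIso (homologyCxMap hproj C) := by
  refine ⟨fun i => ?_⟩
  rw [quasiIsoAt_iff]
  have hf : ((homologyCx C).sc i).f = 0 := homologyCx_d C _ _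
  have hg : ((homologyCx C).sc i).g = 0 := homologyCx_d C _ _
  rw [ShortComplex.quasiIso_iff_isIso_leftHomologyMap' _
    (ShortComplex.LeftHomologyData.ofZeros _ hf hg) (C.sc i).leftHomologyData]
  set φ := (HomologicalComplex.shortComplexFunctor (ModuleCat.{u} k) (ComplexShape.up ℤ) i).map
    (homologyCxMap hproj C) with hφ
  set h₁ := ShortComplex.LeftHomologyData.ofZeros ((homologyCx C).sc i) hf hg with hh₁
  set h₂ := (C.sc i).leftHomologyData with hh₂
  have hc : ShortComplex.cyclesMap' φ h₁ h₂ = homologySection hproj C i :=
    (cancel_mono h₂.i).mp ((ShortComplex.cyclesMap'_i φ h₁ h₂).trans (Category.id_comp _))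
  have hH : ShortComplex.leftHomologyMap' φ h₁ h₂ ≫ (C.sc i).leftHomologyIso.hom = 𝟙 _ := by
    have h := ShortComplex.leftHomologyπ_naturality' φ h₁ h₂
    have h' : ShortComplex.leftHomologyMap' φ h₁ h₂ = homologySection hproj C i ≫ h₂.π :=
      (Category.id_comp _).symm.trans (h.trans (congrArg (· ≫ h₂.π) hc))
    refine (congrArg (· ≫ (C.sc i).leftHomologyIso.hom) h').trans ?_
    refine (Category.assoc _ _ _).trans ?_
    exact homologySection_π hproj C i
  have h3 : ShortComplex.leftHomologyMap' φ h₁ h₂ = (C.sc i).leftHomologyIso.inv :=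
    (Iso.comp_hom_eq_id _).mp hH
  exact ⟨⟨(C.sc i).leftHomologyIso.hom,
    (congrArg (· ≫ (C.sc i).leftHomologyIso.hom) h3).trans (Iso.inv_hom_id _),
    (congrArg ((C.sc i).leftHomologyIso.hom ≫ ·) h3).trans (Iso.hom_inv_id _)⟩⟩

end Groth.Agent.Lib.Helper12
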