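import Mathlib.CategoryTheory.Triangulated.Pretriangulated
import Mathlib.CategoryTheory.Filtered.Basic

/-!
# Morphisms into a filtered colimit: surjectivity / injectivity of `colim Hom(X, G(M_j)) → Hom(X, G(M))`
and their behaviour in distinguished triangles (abstract five lemma chase)
-/

namespace Groth.Agent.Lib.Helper12

open CategoryTheory CategoryTheory.Limits CategoryTheory.Pretriangulated

section Abstract

variable {D : Type*} [Category D] [Preadditive D]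
variable {A : Type*} [Category A] (G : A ⥤ D)
variable {J : Type*} [Category J] (F : J ⥤ A) (c : Cocone F)

/-- the map `G(M_j) → G(M)` -/
def Gι (j : J) : G.obj (F.obj j) ⟶ G.obj c.pt := G.map (c.ι.app j)

/-- every morphism `X → G(M)` factors through some `G(M_j)` -/
def FSurj (X : D) : Prop :=
  ∀ x : X ⟶ G.obj c.pt, ∃ (j : J) (y : X ⟶ G.obj (F.obj j)), y ≫ Gι G F c j = x

/-- a morphism `X → G(M_j)` vanishing in `G(M)` vanishes in some `G(M_j')` -/
def FInj (X : D) : Prop :=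
  ∀ (j : J) (y : X ⟶ G.obj (F.obj j)), y ≫ Gι G F c j = 0 →
    ∃ (j' : J) (f : j ⟶ j'), y ≫ G.map (F.map f) = 0

variable {G F c}

lemma FSurj.of_iso {X Y : D} (e : X ≅ Y) (h : FSurj G F c X) : FSurj G F c Y := by
  intro x
  obtain ⟨j, y, hy⟩ := h (e.hom ≫ x)
  refine ⟨j, e.inv ≫ y, ?_⟩
  rw [Category.assoc, hy, Iso.inv_hom_id_assoc]

lemma FInj.of_iso {X Y : D} (e : X ≅ Y) (h : FInj G F c X) : FInj G F c Y := by
  intro j y hy
  obtain ⟨j', f, hf⟩ := h j (e.hom ≫ y) (by rw [Category.assoc, hy, comp_zero])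
  refine ⟨j', f, ?_⟩
  rw [← cancel_epi e.hom, ← Category.assoc, hf, comp_zero]

lemma map_comp_ι {j j' : J} (f : j ⟶ j') :
    G.map (F.map f) ≫ Gι G F c j' = Gι G F c j := by
  unfold Gι
  rw [← G.map_comp, c.w]

lemma FInj.eq [IsFiltered J] {X : D} (h : FInj G F c X) {j₁ j₂ : J}
    (y₁ : X ⟶ G.obj (F.obj j₁)) (y₂ : X ⟶ G.obj (F.obj j₂))
    (heq : y₁ ≫ Gι G F c j₁ = y₂ ≫ Gι G F c j₂) :
    ∃ (k : J) (f₁ : j₁ ⟶ k) (f₂ : j₂ ⟶ k),
      y₁ ≫ G.map (F.map f₁) = y₂ ≫ G.map (F.map f₂) := by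
  let k₀ := IsFiltered.max j₁ j₂
  let l : j₁ ⟶ k₀ := IsFiltered.leftToMax j₁ j₂
  let r : j₂ ⟶ k₀ := IsFiltered.rightToMax j₁ j₂
  obtain ⟨k, f, hf⟩ := h k₀ (y₁ ≫ G.map (F.map l) - y₂ ≫ G.map (F.map r)) (by
    rw [Preadditive.sub_comp, Category.assoc, Category.assoc, map_comp_ι, map_comp_ι, heq,
      sub_self])
  refine ⟨k, l ≫ f, r ≫ f, ?_⟩
  rw [Preadditive.sub_comp, Category.assoc, Category.assoc, sub_eq_zero,
    ← G.map_comp, ← G.map_comp, ← F.map_comp, ← F.map_comp] at hf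
  exact hf

lemma fSurj_of_isZero [IsFiltered J] {X : D} (hX : IsZero X) : FSurj G F c X := by
  intro x
  obtain ⟨j⟩ := IsFiltered.nonempty (C := J)
  exact ⟨j, 0, hX.eq_of_src _ _⟩

lemma fInj_of_isZero {X : D} (hX : IsZero X) : FInj G F c X := by
  intro j y _
  exact ⟨j, 𝟙 j, hX.eq_of_src _ _⟩

/-- if all morphisms out of `X` to the `G(N)` vanish, both properties hold -/
lemma fSurj_of_hom_eq_zero [IsFiltered J] {X : D} (hX : ∀ (N : A) (x : X ⟶ G.obj N), x = 0) :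
    FSurj G F c X := by
  intro x
  obtain ⟨j⟩ := IsFiltered.nonempty (C := J)
  exact ⟨j, 0, by rw [zero_comp, hX _ x]⟩

lemma fInj_of_hom_eq_zero {X : D} (hX : ∀ (N : A) (x : X ⟶ G.obj N), x = 0) :
    FInj G F c X := by
  intro j y _
  exact ⟨j, 𝟙 j, by rw [hX _ y, zero_comp]⟩

end Abstract

section Triangles

variable {D : Type*} [Category D] [Preadditive D] [HasZeroObject D] [HasShift D ℤ]
  [∀ n : ℤ, (shiftFunctor D n).Additive] [Pretriangulated D]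
variable {A : Type*} [Category A] {G : A ⥤ D}
variable {J : Type*} [Category J] [IsFiltered J] {F : J ⥤ A} {c : Cocone F}

/-- the connecting map `T.obj₃⟦-1⟧ ⟶ T.obj₁` of the inverse rotation -/
noncomputable def invRotMor (T : Triangle D) : T.obj₃⟦(-1 : ℤ)⟧ ⟶ T.obj₁ := T.invRotate.mor₁

omit [IsFiltered J] in
lemma invRotMor_comp (T : Triangle D) (hT : T ∈ distTriang D) : invRotMor T ≫ T.mor₁ = 0 :=
  comp_distTriang_mor_zero₁₂ _ (inv_rot_of_distTriang T hT)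

omit [IsFiltered J] in
lemma exists_extension (T : Triangle D) (hT : T ∈ distTriang D) {Y : D} (f : T.obj₁ ⟶ Y)
    (hf : invRotMor T ≫ f = 0) : ∃ g : T.obj₂ ⟶ Y, f = T.mor₁ ≫ g :=
  Triangle.yoneda_exact₂ T.invRotate (inv_rot_of_distTriang T hT) f hf

theorem fSurj_of_distTriang (T : Triangle D) (hT : T ∈ distTriang D)
    (h1 : FSurj G F c T.obj₁) (h3 : FSurj G F c T.obj₃)
    (h3' : FInj G F c (T.obj₃⟦(-1 : ℤ)⟧)) : FSurj G F c T.obj₂ := by
  intro x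
  have hw := invRotMor_comp T hT
  -- step 1
  obtain ⟨j₁, y', hy'⟩ := h1 (T.mor₁ ≫ x)
  -- step 2
  obtain ⟨j₂, f₁, hf₁⟩ := h3' j₁ (invRotMor T ≫ y') (by
    rw [Category.assoc, hy', ← Category.assoc, hw, zero_comp])
  -- step 3
  obtain ⟨z, hz⟩ := exists_extension T hT (y' ≫ G.map (F.map f₁)) (by
    rw [← Category.assoc]; exact hf₁)
  -- step 4
  obtain ⟨t, ht⟩ := Triangle.yoneda_exact₂ T hT (x - z ≫ Gι G F c j₂) (by
    rw [Preadditive.comp_sub, ← Category.assoc, ← hz, Category.assoc, map_comp_ι, hy', sub_self])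
  -- step 5
  obtain ⟨j₃, t', ht'⟩ := h3 t
  -- step 6
  let k := IsFiltered.max j₂ j₃
  let l : j₂ ⟶ k := IsFiltered.leftToMax j₂ j₃
  let r : j₃ ⟶ k := IsFiltered.rightToMax j₂ j₃
  refine ⟨k, z ≫ G.map (F.map l) + T.mor₂ ≫ t' ≫ G.map (F.map r), ?_⟩
  rw [Preadditive.add_comp, Category.assoc, Category.assoc, Category.assoc, map_comp_ι,
    map_comp_ι, ht', ← ht]
  abel

theorem fInj_of_distTriang (T : Triangle D) (hT : T ∈ distTriang D)
    (h1 : FInj G F c T.obj₁) (h3 : FInj G F c T.obj₃)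
    (h1' : FSurj G F c (T.obj₁⟦(1 : ℤ)⟧)) : FInj G F c T.obj₂ := by
  intro j y hy
  -- step 1
  obtain ⟨j₁, f₁, hf₁⟩ := h1 j (T.mor₁ ≫ y) (by rw [Category.assoc, hy, comp_zero])
  -- step 2
  obtain ⟨t, ht⟩ := Triangle.yoneda_exact₂ T hT (y ≫ G.map (F.map f₁)) (by
    rw [← Category.assoc]; exact hf₁)
  -- step 3
  obtain ⟨s, hs⟩ := Triangle.yoneda_exact₃ T hT (t ≫ Gι G F c j₁) (by
    rw [← Category.assoc, ← ht, Category.assoc, map_comp_ι, hy])
  -- step 4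
  obtain ⟨j₂, s', hs'⟩ := h1' s
  -- step 5
  obtain ⟨k, g₁, g₂, hg⟩ := h3.eq t (T.mor₃ ≫ s') (by
    rw [Category.assoc, hs', hs])
  -- step 6
  refine ⟨k, f₁ ≫ g₁, ?_⟩
  rw [F.map_comp, G.map_comp, ← Category.assoc, ht, Category.assoc, hg, ← Category.assoc,
    ← Category.assoc, comp_distTriang_mor_zero₂₃ _ hT, zero_comp, zero_comp]

end Triangles

end Groth.Agent.Lib.Helper12
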