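import Mathlib
import Groth.Agent.Lib.Helper12.FiniteDualizing

/-!
# Distinguished triangles `RHom_A(B, ω) ⟶ ω ⟶ RHom_A(I, ω) ⟶` for `B = A/I` (helper12)
-/

set_option autoImplicit false
universe u
open CategoryTheory CategoryTheory.Limits
attribute [local instance] HasDerivedCategory.standard
namespace Groth.Agent.Lib.Helper12.FinDual
open Groth.Agent.Lib.Helper12 DRing Groth.Agent.Lib.Helper12.ModDual Pretriangulated
open Groth.Agent.Lib.Helper36.InjAmp Groth.Agent.Lib.Helper12.CoextCx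
variable {A B : Type u} [CommRing A] [CommRing B] (φ : A →+* B)
variable (R : Dual.D A ⥤ Dual.D B) (adj : DRing.restrictD φ ⊣ R)

include adj in
/-- `ρ(R ω) ≅ RHom_A(B, E)` for a bounded below complex of injectives `E` representing `ω` -/
theorem nonempty_restrict_rightAdjoint_iso (E : Cx A) (a : ℤ)
    (hE : ∀ j : ℤ, j < a → IsZero (E.X j)) (hinj : ∀ i, Injective (E.X i)) (ω : Dual.D A)
    (e : toD E ≅ ω) :
    Nonempty ((restrictD φ).obj (R.obj ω) ≅ D E (BA φ)) := by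
  have hθ : IsIso (θ φ R adj E) := isIso_θ φ R adj E a hE hinj
  exact ⟨(restrictD φ).mapIso (R.mapIso e.symm ≪≫ (asIso (θ φ R adj E)).symm) ≪≫ ι φ E⟩

include adj in
/-- the distinguished triangle `ρ(R ω) ⟶ ω ⟶ D(X₁) ⟶` attached to a short exact sequence
`0 ⟶ X₁ ⟶ A ⟶ B ⟶ 0` of `A`-modules -/
theorem exists_distinguished_of_shortExact (E : Cx A) (a : ℤ)
    (hE : ∀ j : ℤ, j < a → IsZero (E.X j)) (hinj : ∀ i, Injective (E.X i)) (ω : Dual.D A)
    (e : toD E ≅ ω) (X₁ : ModuleCat.{u} A) (f : X₁ ⟶ ModuleCat.of A A)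
    (g : ModuleCat.of A A ⟶ BA φ) (w : f ≫ g = 0) (hS : (ShortComplex.mk f g w).ShortExact) :
    ∃ (u : (restrictD φ).obj (R.obj ω) ⟶ ω)
      (w' : D E X₁ ⟶ ((restrictD φ).obj (R.obj ω))⟦(1 : ℤ)⟧),
      Triangle.mk u ((unitIsoD E ≪≫ e).inv ≫ Dmap E f) w' ∈ distTriang (Dual.D A) := by
  obtain ⟨i₁⟩ := nonempty_restrict_rightAdjoint_iso φ R adj E a hE hinj ω e
  let i₂ : D E (ModuleCat.of A A) ≅ ω := unitIsoD E ≪≫ e
  have hT := dualTriangle_distinguished E hinj _ hS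
  refine ⟨i₁.hom ≫ Dmap E g ≫ i₂.hom, δ E hinj _ hS ≫ (i₁.inv)⟦(1 : ℤ)⟧', ?_⟩
  refine isomorphic_distinguished _ hT _ (Triangle.isoMk _ _ i₁ i₂.symm (Iso.refl _) ?_ ?_ ?_)
  · change (i₁.hom ≫ Dmap E g ≫ i₂.hom) ≫ i₂.inv = i₁.hom ≫ Dmap E g
    rw [Category.assoc, Category.assoc, Iso.hom_inv_id, Category.comp_id]
  · change (i₂.inv ≫ Dmap E f) ≫ 𝟙 _ = i₂.inv ≫ Dmap E f
    rw [Category.comp_id]
  · change (δ E hinj _ hS ≫ (i₁.inv)⟦(1 : ℤ)⟧') ≫ (i₁.hom)⟦(1 : ℤ)⟧' = 𝟙 _ ≫ δ E hinj _ hS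
    rw [Category.id_comp, Category.assoc, ← Functor.map_comp, Iso.inv_hom_id,
      CategoryTheory.Functor.map_id, Category.comp_id]


/-- **the triangle `RHom_A(A/f, ω) ⟶ ω ⟶ ω ⟶` for a nonzerodivisor `f`** -/
theorem exists_distinguished_quotient_nonZeroDivisor {A : Type u} [CommRing A]
    [IsNoetherianRing A] (ω : Dual.D A) (hω : Dual.IsDualizing A ω) (f : A)
    (hf' : f ∈ nonZeroDivisors A) (R : Dual.D A ⥤ Dual.D (A ⧸ Ideal.span {f}))
    (adj : DRing.restrictD (Ideal.Quotient.mk (Ideal.span {f})) ⊣ R) :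
    ∃ (u : (DRing.restrictD (Ideal.Quotient.mk (Ideal.span {f}))).obj (R.obj ω) ⟶ ω)
      (w : ω ⟶ ((DRing.restrictD (Ideal.Quotient.mk (Ideal.span {f}))).obj (R.obj ω))⟦(1 : ℤ)⟧),
      Triangle.mk u (f • 𝟙 ω) w ∈ distTriang (Dual.D A) := by
  obtain ⟨a, b, E, hE, hinj, ⟨e⟩⟩ := exists_injective_model ω hω
  have hinj' : ∀ j, Injective (E.X j) := fun j => by
    have := hinj j
    exact Module.injective_object_of_injective_module A (E.X j)
  let φ : A →+* (A ⧸ Ideal.span {f}) := Ideal.Quotient.mk (Ideal.span {f})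
  let g : ModuleCat.of A A ⟶ BA φ :=
    ModuleCat.ofHom (X := ModuleCat.of A A) (Y := BA φ)
      { toFun := fun x => φ x
        map_add' := fun x y => map_add φ x y
        map_smul' := fun c x => map_mul φ c x }
  have w : (f • 𝟙 (ModuleCat.of A A)) ≫ g = 0 := by
    refine ModuleCat.hom_ext (LinearMap.ext fun (x : A) => ?_)
    change φ (f • x) = 0
    rw [smul_eq_mul]
    exact Ideal.Quotient.eq_zero_iff_mem.mpr
      (Ideal.mul_mem_right _ _ (Ideal.mem_span_singleton_self f))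
  have hS : (ShortComplex.mk (f • 𝟙 (ModuleCat.of A A)) g w).ShortExact := by
    have hmono : Mono (f • 𝟙 (ModuleCat.of A A)) := by
      rw [ModuleCat.mono_iff_injective, injective_iff_map_eq_zero]
      intro (x : A) hx
      have hx' : f * x = 0 := hx
      exact (mem_nonZeroDivisors_iff.mp hf').1 x hx'
    have hepi : Epi g := by
      rw [ModuleCat.epi_iff_surjective]
      exact Ideal.Quotient.mk_surjective
    refine ShortComplex.ShortExact.mk ?_
    rw [ShortComplex.moduleCat_exact_iff]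
    intro (x : A) hx
    have hx' : φ x = 0 := hx
    obtain ⟨c, hc⟩ := Ideal.mem_span_singleton'.mp (Ideal.Quotient.eq_zero_iff_mem.mp hx')
    exact ⟨c, by
      change f • c = x
      rw [smul_eq_mul, mul_comm, hc]⟩
  obtain ⟨u, w', hT⟩ := exists_distinguished_of_shortExact φ R adj E a
    (fun j hj => hE j (Or.inl hj)) hinj' ω e _ (f • 𝟙 _) g w hS
  let i₂ : D E (ModuleCat.of A A) ≅ ω := unitIsoD E ≪≫ e
  refine ⟨u, i₂.inv ≫ w', ?_⟩
  refine isomorphic_distinguished _ hT _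
    (Triangle.isoMk _ _ (Iso.refl _) (Iso.refl _) i₂.symm ?_ ?_ ?_)
  · change u ≫ 𝟙 _ = 𝟙 _ ≫ u
    rw [Category.comp_id, Category.id_comp]
  · change (f • 𝟙 ω) ≫ i₂.inv = 𝟙 _ ≫ i₂.inv ≫ Dmap E (f • 𝟙 (ModuleCat.of A A))
    rw [Category.id_comp, Dmap_smul, Dmap_id, Linear.smul_comp, Linear.comp_smul,
      Category.id_comp, Category.comp_id]
  · change (i₂.inv ≫ w') ≫ (𝟙 _)⟦(1 : ℤ)⟧' = i₂.inv ≫ w'
    rw [CategoryTheory.Functor.map_id, Category.comp_id]

end Groth.Agent.Lib.Helper12.FinDual
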