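import Mathlib
import Groth.Agent.Lib.Helper12.HomComplexCohomology
import Groth.Agent.Lib.Helper12.FiniteLengthDual
import Groth.Agent.Lib.Helper12.FiniteTriangle

/-!
# `RHom_A(N, ω) = Hom_A(N, E(κ))[0]` for finite length `N`; the triangle for a finite length ideal
(helper12)
-/

set_option autoImplicit false
universe u
open CategoryTheory CategoryTheory.Limits
attribute [local instance] HasDerivedCategory.standard
namespace Groth.Agent.Lib.Helper12.FLDual
open Groth.Agent.Lib.Helper12 DRing Groth.Agent.Lib.Helper12.ModDual Pretriangulated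
open Groth.Agent.Lib.Helper36.InjAmp Groth.Agent.Lib.Helper12.ResExt Groth.Agent.Lib.Helper12.FlatHomBC
open Groth.Agent.Lib.Helper12.CoextCx Groth.Agent.Lib.Helper12.FinDual

section Tri
variable {A : Type u} [CommRing A] [IsLocalRing A] [IsNoetherianRing A]

/-- `RHom_A(N, E₀) ≅ Hom_A(N, E(κ))[0]` for `N` of finite length and `E₀` a bounded complex of
injectives representing a normalized dualizing complex -/
theorem nonempty_D_iso_inD (E₀ : Cx A) (a b : ℤ) (hE₀ : VanishesOutside E₀ a b)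
    (hinj : ∀ i, Module.Injective A (E₀.X i)) (hω : Dual.IsDualizing A (toD E₀))
    (hn : Dual.IsNormalized A (toD E₀)) (EE : Type u) [AddCommGroup EE] [Module A EE]
    (f : IsLocalRing.ResidueField A →ₗ[A] EE) (hf : InjHull.IsInjectiveHull f)
    (N : Type u) [AddCommGroup N] [Module A N] (hN : IsFiniteLength A N) :
    Nonempty (D E₀ (ModuleCat.of A N) ≅ Dual.inD A (N →ₗ[A] EE)) := by
  obtain ⟨hNoe, -⟩ := isFiniteLength_iff_isNoetherian_isArtinian.mp hN
  have hfinN : Module.Finite A N := inferInstance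
  obtain ⟨k, hk⟩ := exists_pow_maximalIdeal_smul_eq_zero N hN
  obtain ⟨hvan, ⟨eq0⟩⟩ := finiteLength_duality (toD E₀) hω hn EE f hf k N hk
  have hinj' : ∀ i, Injective (E₀.X i) := fun i => by
    have := hinj i
    exact Module.injective_object_of_injective_module A (E₀.X i)
  have hGE : E₀.IsStrictlyGE a := by
    rw [CochainComplex.isStrictlyGE_iff]
    intro j hj
    exact hE₀ j (Or.inl hj)
  have hKI : E₀.IsKInjective := CochainComplex.isKInjective_of_injective E₀ a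
  have hz : ∀ j : ℤ, j ≠ 0 → IsZero ((HF A j).obj (D E₀ (ModuleCat.of A N))) := by
    intro j hj
    refine (hom_inD_eq_zero_iff E₀ (ModuleCat.of A N) j).mp (fun g => ?_)
    have := hvan j hj
    exact Subsingleton.elim _ _
  obtain ⟨Y, ⟨e1⟩, ⟨eY⟩⟩ := exists_iso_single (D E₀ (ModuleCat.of A N)) 0 hz
  let c0 : (Dual.inD A N ⟶ (toD E₀)⟦(0 : ℤ)⟧) ≃ₗ[A] (Dual.inD A N ⟶ toD E₀) :=
    Linear.homCongr A (Iso.refl _) ((shiftFunctorZero (Dual.D A) ℤ).app (toD E₀))
  let eL : Y ≃ₗ[A] (N →ₗ[A] EE) :=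
    eY.symm.toLinearEquiv ≪≫ₗ HFDEquiv' E₀ (ModuleCat.of A N) 0 ≪≫ₗ c0 ≪≫ₗ eq0
  exact ⟨e1 ≪≫ (DerivedCategory.singleFunctor (ModuleCat.{u} A) 0).mapIso eL.toModuleIso⟩

/-- **the triangle `RHom_A(A/I, ω) ⟶ ω ⟶ Hom_A(I, E)[0] ⟶` for an ideal `I` of finite length** -/
theorem exists_distinguished_finiteLength_ideal (ω : Dual.D A) (hω : Dual.IsDualizing A ω)
    (hn : Dual.IsNormalized A ω) (I : Ideal A) (hIl : IsFiniteLength A I)
    (EE : Type u) [AddCommGroup EE] [Module A EE]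
    (f : IsLocalRing.ResidueField A →ₗ[A] EE) (hf : InjHull.IsInjectiveHull f)
    (R : Dual.D A ⥤ Dual.D (A ⧸ I)) (adj : DRing.restrictD (Ideal.Quotient.mk I) ⊣ R) :
    ∃ (u : (DRing.restrictD (Ideal.Quotient.mk I)).obj (R.obj ω) ⟶ ω)
      (v : ω ⟶ Dual.inD A (I →ₗ[A] EE))
      (w : Dual.inD A (I →ₗ[A] EE) ⟶
        ((DRing.restrictD (Ideal.Quotient.mk I)).obj (R.obj ω))⟦(1 : ℤ)⟧),
      Triangle.mk u v w ∈ distTriang (Dual.D A) := by
  obtain ⟨a, b, E₀, hE₀, hinj, ⟨e₀⟩⟩ := exists_injective_model ω hω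
  have hω₀ : Dual.IsDualizing A (toD E₀) := DualizingBC.isDualizing_of_iso e₀.symm hω
  have hn₀ : Dual.IsNormalized A (toD E₀) := by
    intro i hi
    have := hn i hi
    exact ⟨fun x y => by
      rw [← cancel_mono ((shiftFunctor (Dual.D A) i).map e₀.hom)]
      exact Subsingleton.elim _ _⟩
  have hinj' : ∀ j, Injective (E₀.X j) := fun j => by
    have := hinj j
    exact Module.injective_object_of_injective_module A (E₀.X j)
  let φ : A →+* (A ⧸ I) := Ideal.Quotient.mk I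
  let f₁ : ModuleCat.of A I ⟶ ModuleCat.of A A := ModuleCat.ofHom I.subtype
  let g : ModuleCat.of A A ⟶ BA φ :=
    ModuleCat.ofHom (X := ModuleCat.of A A) (Y := BA φ)
      { toFun := fun x => φ x
        map_add' := fun x y => map_add φ x y
        map_smul' := fun c x => map_mul φ c x }
  have w : f₁ ≫ g = 0 := by
    refine ModuleCat.hom_ext (LinearMap.ext fun (x : I) => ?_)
    change φ (x : A) = 0
    exact Ideal.Quotient.eq_zero_iff_mem.mpr x.2
  have hS : (ShortComplex.mk f₁ g w).ShortExact := by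
    have hmono : Mono f₁ := by
      rw [ModuleCat.mono_iff_injective]
      exact Subtype.val_injective
    have hepi : Epi g := by
      rw [ModuleCat.epi_iff_surjective]
      exact Ideal.Quotient.mk_surjective
    refine ShortComplex.ShortExact.mk ?_
    rw [ShortComplex.moduleCat_exact_iff]
    intro (x : A) hx
    have hx' : φ x = 0 := hx
    exact ⟨⟨x, Ideal.Quotient.eq_zero_iff_mem.mp hx'⟩, rfl⟩
  obtain ⟨u, w', hT⟩ := exists_distinguished_of_shortExact φ R adj E₀ a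
    (fun j hj => hE₀ j (Or.inl hj)) hinj' ω e₀ _ f₁ g w hS
  obtain ⟨j⟩ := nonempty_D_iso_inD E₀ a b hE₀ hinj hω₀ hn₀ EE f hf I hIl
  refine ⟨u, ((unitIsoD E₀ ≪≫ e₀).inv ≫ Dmap E₀ f₁) ≫ j.hom, j.inv ≫ w', ?_⟩
  refine isomorphic_distinguished _ hT _
    (Triangle.isoMk _ _ (Iso.refl _) (Iso.refl _) j.symm ?_ ?_ ?_)
  · change u ≫ 𝟙 _ = 𝟙 _ ≫ u
    rw [Category.comp_id, Category.id_comp]
  · change (((unitIsoD E₀ ≪≫ e₀).inv ≫ Dmap E₀ f₁) ≫ j.hom) ≫ j.inv =
      𝟙 _ ≫ (unitIsoD E₀ ≪≫ e₀).inv ≫ Dmap E₀ f₁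
    rw [Category.assoc, Iso.hom_inv_id, Category.comp_id, Category.id_comp]
  · change (j.inv ≫ w') ≫ (𝟙 _)⟦(1 : ℤ)⟧' = j.inv ≫ w'
    rw [CategoryTheory.Functor.map_id, Category.comp_id]

end Tri
end Groth.Agent.Lib.Helper12.FLDual
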