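import Mathlib
import Groth.Prelude.Def_DDual2
import Groth.Agent.Lib.Helper12.DRingFlatAcyclic
import Groth.Agent.Lib.Helper12.DRingFlatCone
import Groth.Agent.Lib.Helper36.FlatTensorAcyclic

/-!
# Partial acyclicity of bounded above flat complexes is preserved by tensor-like functors

`C` bounded above with flat terms and exact in degrees `≥ m`  ⇒  `G(C)` exact in degrees `≥ m`
for `G = - ⊗ T` or `G = extendScalars φ` (any `TensorLike` functor in the sense of helper36).
-/

set_option autoImplicit false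

namespace Groth.Agent.Lib.Helper12

open CategoryTheory CategoryTheory.Limits DRing Groth.Agent.Lib.Helper36.FT

universe u

variable {A B : Type u} [CommRing A] [CommRing B]

/-- cycles in degrees `≥ m - 1` of a bounded above complex of flat modules exact in degrees `≥ m`
are flat -/
theorem flat_Zc_ge (C : Cx A) (m : ℤ) (hac : ∀ i, m ≤ i → C.ExactAt i) (b : ℤ)
    (hb : VanishesAbove C b) :
    ∀ (n : ℕ) (i : ℤ), b < i + n → m ≤ i + 1 → (∀ j : ℤ, i ≤ j → Module.Flat A (C.X j)) →
      Module.Flat A (Zc C i) := by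
  intro n
  induction n with
  | zero =>
    intro i hi _ _
    have : Subsingleton (C.X i) := ModuleCat.subsingleton_of_isZero (hb i (by simpa using hi))
    have : Subsingleton (Zc C i) := inferInstance
    infer_instance
  | succ n ih =>
    intro i hi hmi hfl
    have h1 : Module.Flat A (Zc C (i + 1)) :=
      ih (i + 1) (by push_cast at hi; omega) (by omega) (fun j hj => hfl j (by omega))
    have h2 : Module.Flat A (C.X i) := hfl i le_rfl
    refine flat_of_exact_left (Zc C i).subtype (dToZc C i) Subtype.val_injective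
      (dToZc_surjective C i (hac _ hmi)) ?_
    intro x
    constructor
    · intro hx
      have hx' : (C.d i (i + 1)).hom x = 0 := congrArg Subtype.val hx
      exact ⟨⟨x, hx'⟩, rfl⟩
    · rintro ⟨z, rfl⟩
      exact Subtype.ext z.2

/-- Tensor-like functors preserve exactness in degrees `≥ m` of bounded above complexes of flat
modules. -/
theorem exactAt_map_ge (G : ModuleCat.{u} A ⥤ ModuleCat.{u} B) [G.Additive] (hG : TensorLike G)
    (C : Cx A) (m : ℤ) (hac : ∀ i, m ≤ i → C.ExactAt i) (b : ℤ) (hb : VanishesAbove C b)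
    (hfl : ∀ i, Module.Flat A (C.X i)) (i : ℤ) (hi : m ≤ i) :
    ((G.mapHomologicalComplex (ComplexShape.up ℤ)).obj C).ExactAt i := by
  obtain ⟨j, rfl⟩ : ∃ j, i = j + 1 := ⟨i - 1, by omega⟩
  rw [HomologicalComplex.exactAt_iff' _ j (j + 1) (j + 1 + 1) (by simp) (by simp),
    ShortComplex.moduleCat_exact_iff]
  intro z' hz
  obtain ⟨z, rfl⟩ : ∃ z : G.obj (C.X (j + 1)), z = z' := ⟨z', rfl⟩
  have hz' : (G.map (C.d (j + 1) (j + 1 + 1))).hom z = 0 := hz
  let ι : ∀ k, ModuleCat.of A (Zc C k) ⟶ C.X k := fun k => ModuleCat.ofHom (Zc C k).subtype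
  let π : ∀ k, C.X k ⟶ ModuleCat.of A (Zc C (k + 1)) := fun k => ModuleCat.ofHom (dToZc C k)
  have hπι : ∀ k, π k ≫ ι (k + 1) = C.d k (k + 1) := fun k => by
    ext x
    rfl
  have hπs : ∀ k, m ≤ k + 1 → Function.Surjective (π k).hom :=
    fun k hk => dToZc_surjective C k (hac _ hk)
  have hex : ∀ k, Function.Exact (ι k).hom (π k).hom := by
    intro k x
    constructor
    · intro hx
      have hx' : (C.d k (k + 1)).hom x = 0 := congrArg Subtype.val hx
      exact ⟨⟨x, hx'⟩, rfl⟩
    · rintro ⟨y, rfl⟩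
      exact Subtype.ext y.2
  have hflZ : ∀ k, m ≤ k + 1 → Module.Flat A (Zc C k) := fun k hk =>
    flat_Zc_ge C m hac b hb (b - k + 1).toNat k (by omega) hk (fun j _ => hfl j)
  have hinj : Function.Injective (G.map (ι (j + 1 + 1))).hom :=
    hG.inj (ι (j + 1 + 1)) (π (j + 1 + 1)) Subtype.val_injective (hπs _ (by omega)) (hex _)
      (hflZ _ (by omega))
  have h1 : (G.map (π (j + 1))).hom z = 0 := by
    apply hinj
    rw [map_zero]
    have : G.map (C.d (j + 1) (j + 1 + 1)) = G.map (π (j + 1)) ≫ G.map (ι (j + 1 + 1)) := by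
      rw [← G.map_comp, hπι]
    rw [this] at hz'
    exact hz'
  obtain ⟨y, hy⟩ := (hG.exact (ι (j + 1)) (π (j + 1)) (hex _) (hπs _ (by omega)) z).mp h1
  obtain ⟨w, hw⟩ := hG.surj (π j) (hπs j hi) y
  refine ⟨w, ?_⟩
  show (G.map (C.d j (j + 1))).hom w = z
  rw [← hπι j, G.map_comp]
  show (G.map (ι (j + 1))).hom ((G.map (π j)).hom w) = z
  rw [hw, hy]

end Groth.Agent.Lib.Helper12
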