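import Mathlib
import Groth.Agent.Lib.Helper12.FlatPartialAcyclic
import Groth.Agent.Lib.Helper12.DRingPC
import Groth.Agent.Lib.Helper12.DerivedSingleHom

/-!
# Tensor-like functors preserve `m`-connectedness of maps between bounded above flat complexes
-/

set_option autoImplicit false

namespace Groth.Agent.Lib.Helper12

open CategoryTheory CategoryTheory.Limits DRing Groth.Agent.Lib.Helper36.FT

attribute [local instance] HasDerivedCategory.standard

universe u

variable {A B : Type u} [CommRing A] [CommRing B]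

lemma exactAt_iff_isZero_HF (C : Cx A) (i : ℤ) :
    C.ExactAt i ↔ IsZero ((HF A i).obj (toD C)) := by
  rw [HomologicalComplex.exactAt_iff_isZero_homology]
  exact (HFQIso i C).symm.isZero_iff

lemma IsConn.of_comp_isIso {m : ℤ} {X Y Z : Dual.D A} (α : X ⟶ Y) (β : Y ⟶ Z) [IsIso β]
    (h : IsConn m (α ≫ β)) : IsConn m α := by
  have h2 : α = (α ≫ β) ≫ inv β := by simp
  rw [h2]
  exact h.comp (IsConn.of_isIso _) le_rfl

lemma IsConn.of_isIso_comp {m : ℤ} {X Y Z : Dual.D A} (α : X ⟶ Y) (β : Y ⟶ Z) [IsIso α]
    (h : IsConn m (α ≫ β)) : IsConn m β := by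
  have h2 : β = inv α ≫ (α ≫ β) := by simp
  rw [h2]
  exact (IsConn.of_isIso (m := m) (inv α)).comp h le_rfl

/-- `Q.map f` is `m`-connected iff the mapping cone of `f` is exact in degrees `≥ m`. -/
lemma isConn_Q_map_iff {E P : Cx A} (f : E ⟶ P) (m : ℤ) :
    IsConn m (DerivedCategory.Q.map f) ↔
      ∀ i : ℤ, m ≤ i → (CochainComplex.mappingCone f).ExactAt i := by
  have hT := DerivedCategory.mappingCone_triangle_distinguished f
  constructor
  · intro h i hi
    rw [exactAt_iff_isZero_HF]
    exact IsConn.cone _ hT h i hi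
  · intro h
    exact IsConn.of_cone _ hT (fun i hi => (exactAt_iff_isZero_HF _ i).mp (h i hi))

/-- Tensor-like functors preserve `m`-connectedness of maps between bounded above complexes of
flat modules. -/
theorem isConn_map_of_tensorLike (G : ModuleCat.{u} A ⥤ ModuleCat.{u} B) [G.Additive]
    (hG : TensorLike G) {E P : Cx A} (f : E ⟶ P) (m b b' : ℤ) (hEb : VanishesAbove E b)
    (hPb : VanishesAbove P b') (hE : ∀ i, Module.Flat A (E.X i)) (hP : ∀ i, Module.Flat A (P.X i))
    (hf : IsConn m (DerivedCategory.Q.map f)) :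
    IsConn m (DerivedCategory.Q.map ((G.mapHomologicalComplex (ComplexShape.up ℤ)).map f)) := by
  rw [isConn_Q_map_iff] at hf ⊢
  intro i hi
  have h1 := exactAt_map_ge G hG (CochainComplex.mappingCone f) m hf (max (b - 1) b')
    (vanishesAbove_cone f hEb hPb) (termwise_cone (flatP A) f hE hP) i hi
  exact (_root_.exactAt_iff_of_quasiIsoAt
    (CochainComplex.mappingCone.mapHomologicalComplexIso f G).hom i).mp h1

/-- extension of scalars preserves `m`-connectedness of maps between bounded above complexes of
flat modules. -/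
theorem isConn_extendScalars_map (φ : A →+* B) {E P : Cx A} (f : E ⟶ P) (m b b' : ℤ)
    (hEb : VanishesAbove E b) (hPb : VanishesAbove P b') (hE : ∀ i, Module.Flat A (E.X i))
    (hP : ∀ i, Module.Flat A (P.X i)) (hf : IsConn m (DerivedCategory.Q.map f)) :
    IsConn m (DerivedCategory.Q.map (((ModuleCat.extendScalars.{u, u, u} φ).mapHomologicalComplex
      (ComplexShape.up ℤ)).map f)) :=
  isConn_map_of_tensorLike _ (tensorLike_extendScalars φ) f m b b' hEb hPb hE hP hf

/-- `- ⊗ T` preserves `m`-connectedness of maps between bounded above complexes of flat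
modules. -/
theorem isConn_tensorRight_map (T : ModuleCat.{u} A) {E P : Cx A} (f : E ⟶ P) (m b b' : ℤ)
    (hEb : VanishesAbove E b) (hPb : VanishesAbove P b') (hE : ∀ i, Module.Flat A (E.X i))
    (hP : ∀ i, Module.Flat A (P.X i)) (hf : IsConn m (DerivedCategory.Q.map f)) :
    IsConn m (DerivedCategory.Q.map (((MonoidalCategory.tensorRight T).mapHomologicalComplex
      (ComplexShape.up ℤ)).map f)) :=
  isConn_map_of_tensorLike _ (tensorLike_tensorRight T) f m b b' hEb hPb hE hP hf

end Groth.Agent.Lib.Helper12
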