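import Mathlib
import Groth.Agent.Lib.Helper12.FlatHomBCMain
import Groth.Agent.Lib.Helper12.FlatHomBCShift
import Groth.Agent.Lib.Helper12.DualizingBC
import Groth.Agent.Lib.Helper12.HomFinite
import Groth.Agent.S1747

/-!
# Global uniqueness of dualizing complexes: local-to-global tools (helper12)
-/

set_option autoImplicit false
universe u
open CategoryTheory CategoryTheory.Limits CategoryTheory.Pretriangulated
attribute [local instance] HasDerivedCategory.standard
namespace Groth.Agent.Lib.Helper12.GlobUniq
open Groth.Agent.Lib.Helper12 DRing Groth.Agent.Lib.Helper12.FlatHomBC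
open scoped TensorProduct

section KL
variable {A : Type u} [CommRing A] [IsNoetherianRing A]

/-- the (bijective) map `A → End(X)` for a dualizing complex, as a linear equivalence -/
noncomputable def scal (X : Dual.D A) (hX : Dual.IsDualizing A X) : A ≃ₗ[A] (X ⟶ X) :=
  LinearEquiv.ofBijective (smulId X) hX.toEnd_bijective

lemma scal_apply (X : Dual.D A) (hX : Dual.IsDualizing A X) (a : A) :
    scal X hX a = a • 𝟙 X := rfl

lemma scal_symm_smul (X : Dual.D A) (hX : Dual.IsDualizing A X) (θ : X ⟶ X) :
    (scal X hX).symm θ • 𝟙 X = θ := by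
  rw [← scal_apply X hX, LinearEquiv.apply_symm_apply]

variable (p : Ideal A) [hp : p.IsPrime]

instance : Module.Flat A (Localization.AtPrime p) := IsLocalization.flat _ p.primeCompl

/-- localization of a dualizing complex at a prime is dualizing -/
theorem isDualizing_loc (X : Dual.D A) (hX : Dual.IsDualizing A X) :
    Dual.IsDualizing (Localization.AtPrime p) ((extScD A (Localization.AtPrime p)).obj X) :=
  DualizingBC.isDualizing_extScD_of_ideals_extended (B := Localization.AtPrime p)
    (fun J => ⟨J.under A, IsLocalization.map_under p.primeCompl _ J⟩) X hX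

/-- dualizing complexes are pseudo-coherent and bounded below -/
lemma pc_of_dualizing (X : Dual.D A) (hX : Dual.IsDualizing A X) :
    IsPseudoCoherent' A X ∧ ∃ a : ℤ, ∀ j : ℤ, j < a → IsZero ((HF A j).obj X) := by
  obtain ⟨a, b, hab⟩ := hX.finite_injective_dimension
  have hz := DualizingBC.isZero_HF_of_finite_injective_dimension X a b hab
  exact ⟨DualizingBC.isPseudoCoherent'_of_finite X b (fun j hj => hz j (Or.inr hj))
    hX.finite_cohomology, a, fun j hj => hz j (Or.inl hj)⟩

/-- **lifting morphisms from the localization** -/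
theorem exists_lift (K L : Dual.D A) (hK : IsPseudoCoherent' A K) (a : ℤ)
    (hL : ∀ j : ℤ, j < a → IsZero ((HF A j).obj L))
    (g : (extScD A (Localization.AtPrime p)).obj K ⟶ (extScD A (Localization.AtPrime p)).obj L) :
    ∃ (ψ : K ⟶ L) (s : A), s ∉ p ∧ (extScD A (Localization.AtPrime p)).map ψ =
      algebraMap A (Localization.AtPrime p) s • g := by
  have hgood : Good (Localization.AtPrime p) K L := good_of_isPseudoCoherent K L hK a hL
  obtain ⟨z, rfl⟩ := hgood.2 g
  obtain ⟨⟨ψ, s⟩, hs⟩ := IsLocalizedModule.surj p.primeCompl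
    (TensorProduct.mk A (Localization.AtPrime p) (K ⟶ L) 1) z
  refine ⟨ψ, s, s.2, ?_⟩
  have h1 := congrArg (homBC (Localization.AtPrime p) K L) hs
  rw [TensorProduct.mk_apply, homBC_tmul, one_smul] at h1
  rw [← h1, Submonoid.smul_def, ← algebraMap_smul (Localization.AtPrime p) (s : A) z, map_smul]

/-- every morphism between localizations is a scalar multiple of a given isomorphism -/
lemma exists_smul_of_iso {B : Type u} [CommRing B] (X V : Dual.D B) (hX : Dual.IsDualizing B X)
    (u : X ≅ V) (g : X ⟶ V) : ∃ b : B, g = b • u.hom := by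
  obtain ⟨b, hb⟩ := hX.toEnd_bijective.2 (g ≫ u.inv)
  refine ⟨b, ?_⟩
  have hb' : b • 𝟙 X = g ≫ u.inv := hb
  rw [← cancel_mono u.inv, Linear.smul_comp, u.hom_inv_id, hb']

lemma exists_smul_of_iso' {B : Type u} [CommRing B] (X V : Dual.D B) (hX : Dual.IsDualizing B X)
    (u : X ≅ V) (g : V ⟶ X) : ∃ b : B, g = b • u.inv := by
  obtain ⟨b, hb⟩ := hX.toEnd_bijective.2 (u.hom ≫ g)
  refine ⟨b, ?_⟩
  have hb' : b • 𝟙 X = u.hom ≫ g := hb
  rw [← cancel_epi u.hom, Linear.comp_smul, u.hom_inv_id, hb']

end KL

end Groth.Agent.Lib.Helper12.GlobUniq
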