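import Mathlib
import Groth.Agent.Lib.Helper12.GlobUniq1

set_option autoImplicit false
universe u
open CategoryTheory CategoryTheory.Limits CategoryTheory.Pretriangulated
attribute [local instance] HasDerivedCategory.standard
namespace Groth.Agent.Lib.Helper12.GlobUniq
open Groth.Agent.Lib.Helper12 DRing Groth.Agent.Lib.Helper12.FlatHomBC
open scoped TensorProduct

section Glob
variable {A : Type u} [CommRing A] [IsNoetherianRing A]

/-- the two objects are isomorphic after localization at every prime -/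
def LocIso (X V : Dual.D A) : Prop :=
  ∀ (p : Ideal A) [p.IsPrime], Nonempty ((extScD A (Localization.AtPrime p)).obj X ≅
    (extScD A (Localization.AtPrime p)).obj V)

variable (X V : Dual.D A) (hX : Dual.IsDualizing A X) (hV : Dual.IsDualizing A V)
  (hloc : LocIso X V)

include hloc in
/-- **symmetry of the trace pairing** -/
theorem scal_symm_comp_comm (h : X ⟶ V) (h' : V ⟶ X) :
    (scal X hX).symm (h ≫ h') = (scal V hV).symm (h' ≫ h) := by
  set c := (scal X hX).symm (h ≫ h') with hc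
  set c' := (scal V hV).symm (h' ≫ h) with hc'
  have e1 : c • 𝟙 X = h ≫ h' := scal_symm_smul X hX _
  have e2 : c' • 𝟙 V = h' ≫ h := scal_symm_smul V hV _
  rw [← sub_eq_zero]
  refine eq_zero_of_localization _ (fun J hJ => ?_)
  haveI := hJ.isPrime
  obtain ⟨u⟩ := hloc J
  have hXB := isDualizing_loc J X hX
  have hVB := isDualizing_loc J V hV
  obtain ⟨b, hb⟩ := exists_smul_of_iso _ _ hXB u ((extScD A (Localization.AtPrime J)).map h)
  obtain ⟨b', hb'⟩ := exists_smul_of_iso' _ _ hXB u ((extScD A (Localization.AtPrime J)).map h')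
  have h1 := congrArg (extScD A (Localization.AtPrime J)).map e1
  rw [extScD_map_smul, CategoryTheory.Functor.map_id, Functor.map_comp, hb, hb', Linear.smul_comp,
    Linear.comp_smul, u.hom_inv_id, smul_smul] at h1
  have h2 := congrArg (extScD A (Localization.AtPrime J)).map e2
  rw [extScD_map_smul, CategoryTheory.Functor.map_id, Functor.map_comp, hb, hb', Linear.smul_comp,
    Linear.comp_smul, u.inv_hom_id, smul_smul] at h2
  have h1' := hXB.toEnd_bijective.1 h1
  have h2' := hVB.toEnd_bijective.1 h2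
  rw [map_sub, h1', h2', mul_comm, sub_self]

include hloc hX hV in
/-- **globalization of the identity** -/
theorem exists_families :
    ∃ (n : ℕ) (ψ : Fin n → (X ⟶ V)) (ψ' : Fin n → (V ⟶ X)), ∑ k, ψ k ≫ ψ' k = 𝟙 X := by
  let S : Set (X ⟶ X) := {θ | ∃ (ψ : X ⟶ V) (ψ' : V ⟶ X), θ = ψ ≫ ψ'}
  let 𝔖 : Submodule A (X ⟶ X) := Submodule.span A S
  let 𝔞 : Ideal A := 𝔖.comap (smulId X)
  have h𝔞 : 𝔞 = ⊤ := by
    by_contra hne
    obtain ⟨m, hm, hle⟩ := Ideal.exists_le_maximal 𝔞 hne
    haveI := hm.isPrime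
    obtain ⟨u⟩ := hloc m
    obtain ⟨hpcX, aX, hlowX⟩ := pc_of_dualizing X hX
    obtain ⟨hpcV, aV, hlowV⟩ := pc_of_dualizing V hV
    obtain ⟨ψ, s, hs, hψ⟩ := exists_lift m X V hpcX aV hlowV u.hom
    obtain ⟨ψ', s', hs', hψ'⟩ := exists_lift m V X hpcV aX hlowX u.inv
    set c := (scal X hX).symm (ψ ≫ ψ') with hcdef
    have hc : c • 𝟙 X = ψ ≫ ψ' := scal_symm_smul X hX _
    have hc𝔞 : c ∈ 𝔞 := by
      show smulId X c ∈ 𝔖
      rw [smulId_apply, hc]
      exact Submodule.subset_span ⟨ψ, ψ', rfl⟩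
    have hcm : c ∈ m := hle hc𝔞
    have h1 := congrArg (extScD A (Localization.AtPrime m)).map hc
    rw [extScD_map_smul, CategoryTheory.Functor.map_id, Functor.map_comp, hψ, hψ', Linear.smul_comp,
      Linear.comp_smul, u.hom_inv_id, smul_smul] at h1
    have h2 := (isDualizing_loc m X hX).toEnd_bijective.1 h1
    have hunit : IsUnit (algebraMap A (Localization.AtPrime m) c) := by
      rw [h2]
      exact (IsLocalization.map_units (Localization.AtPrime m) (⟨s, hs⟩ : m.primeCompl)).mul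
        (IsLocalization.map_units (Localization.AtPrime m) (⟨s', hs'⟩ : m.primeCompl))
    exact ((IsLocalization.AtPrime.isUnit_to_map_iff (Localization.AtPrime m) m c).mp hunit) hcm
  have h1 : (1 : A) ∈ 𝔞 := by rw [h𝔞]; trivial
  have h2 : 𝟙 X ∈ 𝔖 := by
    have : smulId X 1 ∈ 𝔖 := h1
    rwa [smulId_apply, one_smul] at this
  obtain ⟨n, f, g, hfg⟩ := Submodule.mem_span_set'.mp h2
  choose ψ ψ' hψ using fun i => (g i).2
  refine ⟨n, fun i => f i • ψ i, ψ', ?_⟩
  rw [← hfg]
  refine Finset.sum_congr rfl (fun i _ => ?_)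
  rw [Linear.smul_comp, ← hψ i]

include hloc hX hV in
/-- the other composite is the identity as well -/
theorem sum_comp_eq_id {n : ℕ} (ψ : Fin n → (X ⟶ V)) (ψ' : Fin n → (V ⟶ X))
    (h : ∑ k, ψ k ≫ ψ' k = 𝟙 X) : ∑ k, ψ' k ≫ ψ k = 𝟙 V := by
  have h1 : (scal V hV).symm (∑ k, ψ' k ≫ ψ k) = 1 := by
    rw [map_sum]
    have : ∀ k, (scal V hV).symm (ψ' k ≫ ψ k) = (scal X hX).symm (ψ k ≫ ψ' k) := fun k =>
      (scal_symm_comp_comm X V hX hV hloc (ψ k) (ψ' k)).symm
    simp only [this]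
    rw [← map_sum, h]
    apply (scal X hX).injective
    rw [LinearEquiv.apply_symm_apply, scal_apply, one_smul]
  have h2 := scal_symm_smul V hV (∑ k, ψ' k ≫ ψ k)
  rw [h1, one_smul] at h2
  exact h2.symm

end Glob

end Groth.Agent.Lib.Helper12.GlobUniq
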