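import Mathlib
import Groth.Agent.Lib.Helper12.GlobUniq2
import Groth.Agent.Lib.Helper68.InvTwist2

set_option autoImplicit false
universe u
open CategoryTheory CategoryTheory.Limits CategoryTheory.Pretriangulated
attribute [local instance] HasDerivedCategory.standard
namespace Groth.Agent.Lib.Helper12.GlobUniq
open Groth.Agent.Lib.Helper12 DRing Groth.Agent.Lib.Helper12.FlatHomBC
open Groth.Agent.Lib.Helper68.InvTwist
open scoped TensorProduct

section Twist
variable {A : Type u} [CommRing A] [IsNoetherianRing A]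
variable (W : CochainComplex (ModuleCat.{u} A) ℤ) (V : Dual.D A)
  (hX : Dual.IsDualizing A (DerivedCategory.Q.obj W : Dual.D A)) (hV : Dual.IsDualizing A V)
  {n : ℕ} (ψ : Fin n → ((DerivedCategory.Q.obj W : Dual.D A) ⟶ V))
  (ψ' : Fin n → (V ⟶ (DerivedCategory.Q.obj W : Dual.D A)))
  (h1 : ∑ k, ψ k ≫ ψ' k = 𝟙 (DerivedCategory.Q.obj W : Dual.D A))
  (h2 : ∑ k, ψ' k ≫ ψ k = 𝟙 V)

/-- the coordinate functionals -/
noncomputable def coord (k : Fin n) :
    ((DerivedCategory.Q.obj W : Dual.D A) ⟶ V) →ₗ[A] A :=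
  (scal _ hX).symm.toLinearMap ∘ₗ Linear.rightComp A _ (ψ' k)

lemma coord_smul (k : Fin n) (h : (DerivedCategory.Q.obj W : Dual.D A) ⟶ V) :
    coord W V hX ψ' k h • 𝟙 (DerivedCategory.Q.obj W : Dual.D A) = h ≫ ψ' k :=
  scal_symm_smul _ hX _

include h2 in
lemma dual_basis (h : (DerivedCategory.Q.obj W : Dual.D A) ⟶ V) :
    ∑ k, coord W V hX ψ' k h • ψ k = h := by
  have : ∀ k, coord W V hX ψ' k h • ψ k = h ≫ ψ' k ≫ ψ k := fun k => by
    rw [← Category.assoc, ← coord_smul W V hX ψ' k h, Linear.smul_comp, Category.id_comp]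
  simp only [this]
  rw [← Preadditive.comp_sum, h2, Category.comp_id]

include hX h2 in
lemma finite_hom : Module.Finite A ((DerivedCategory.Q.obj W : Dual.D A) ⟶ V) := by
  refine Module.Finite.of_surjective (Fintype.linearCombination A ψ) (fun h => ?_)
  refine ⟨fun k => coord W V hX ψ' k h, ?_⟩
  rw [Fintype.linearCombination_apply]
  exact dual_basis W V hX ψ ψ' h2 h

include hX h2 in
lemma projective_hom : Module.Projective A ((DerivedCategory.Q.obj W : Dual.D A) ⟶ V) := by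
  refine Module.Projective.of_split (LinearMap.pi (coord W V hX ψ')) (Fintype.linearCombination A ψ) ?_
  ext h
  rw [LinearMap.comp_apply, Fintype.linearCombination_apply]
  exact dual_basis W V hX ψ ψ' h2 h

end Twist


section Inv
variable {A : Type u} [CommRing A] [IsNoetherianRing A]

lemma smul_eq_comp_left (X : Dual.D A) (hX : Dual.IsDualizing A X) {Y : Dual.D A} (θ : X ⟶ X)
    (g : X ⟶ Y) : (scal X hX).symm θ • g = θ ≫ g := by
  conv_rhs => rw [← scal_symm_smul X hX θ]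
  rw [Linear.smul_comp, Category.id_comp]

lemma smul_eq_comp_right (X : Dual.D A) (hX : Dual.IsDualizing A X) {Y : Dual.D A} (θ : X ⟶ X)
    (g : Y ⟶ X) : (scal X hX).symm θ • g = g ≫ θ := by
  conv_rhs => rw [← scal_symm_smul X hX θ]
  rw [Linear.comp_smul, Category.comp_id]

variable (X V : Dual.D A) (hX : Dual.IsDualizing A X) (hV : Dual.IsDualizing A V)
  (hloc : LocIso X V)
  {n : ℕ} (ψ : Fin n → (X ⟶ V)) (ψ' : Fin n → (V ⟶ X))
  (h1 : ∑ k, ψ k ≫ ψ' k = 𝟙 X) (h2 : ∑ k, ψ' k ≫ ψ k = 𝟙 V)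

/-- the composition pairing `Hom(X, V) ⊗ Hom(V, X) → A` -/
noncomputable def pairing : (X ⟶ V) ⊗[A] (V ⟶ X) →ₗ[A] A :=
  TensorProduct.lift (LinearMap.mk₂ A (fun h h' => (scal X hX).symm (h ≫ h'))
    (fun h₁ h₂ h' => by rw [Preadditive.add_comp, map_add])
    (fun c h h' => by rw [Linear.smul_comp, map_smul])
    (fun h h₁' h₂' => by rw [Preadditive.comp_add, map_add])
    (fun c h h' => by rw [Linear.comp_smul, map_smul]))

lemma pairing_tmul (h : X ⟶ V) (h' : V ⟶ X) :
    pairing X V hX (h ⊗ₜ[A] h') = (scal X hX).symm (h ≫ h') := rfl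

include hX hV hloc h1 h2 in
/-- `Hom(X, V)` is an invertible module -/
theorem invertible_hom : Module.Invertible A (X ⟶ V) := by
  let ζ : (X ⟶ V) ⊗[A] (V ⟶ X) := ∑ k, ψ k ⊗ₜ[A] ψ' k
  have hζ : pairing X V hX ζ = 1 := by
    simp only [ζ, map_sum, pairing_tmul]
    rw [← map_sum, h1]
    apply (scal X hX).injective
    rw [LinearEquiv.apply_symm_apply, scal_apply, one_smul]
  have key : ∀ (h : X ⟶ V) (h' : V ⟶ X),
      (scal X hX).symm (h ≫ h') • ζ = h ⊗ₜ[A] h' := by
    intro h h'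
    have hh : h = ∑ k, (scal X hX).symm (h ≫ ψ' k) • ψ k := by
      have : ∀ k, (scal X hX).symm (h ≫ ψ' k) • ψ k = h ≫ ψ' k ≫ ψ k := fun k => by
        rw [smul_eq_comp_left X hX, Category.assoc]
      simp only [this]
      rw [← Preadditive.comp_sum, h2, Category.comp_id]
    have hk : ∀ k, (scal X hX).symm (h ≫ ψ' k) • h' = (scal X hX).symm (h ≫ h') • ψ' k := by
      intro k
      have e1 : (scal X hX).symm (h ≫ ψ' k) • h' = h' ≫ h ≫ ψ' k :=
        smul_eq_comp_right X hX _ _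
      have e2 : (scal X hX).symm (h ≫ h') • ψ' k = h' ≫ h ≫ ψ' k := by
        rw [scal_symm_comp_comm X V hX hV hloc h h', smul_eq_comp_left V hV, Category.assoc]
      rw [e1, e2]
    conv_rhs => rw [hh]
    rw [TensorProduct.sum_tmul, Finset.smul_sum]
    refine Finset.sum_congr rfl (fun k _ => ?_)
    rw [TensorProduct.smul_tmul, hk k, TensorProduct.tmul_smul]
  let e : (X ⟶ V) ⊗[A] (V ⟶ X) ≃ₗ[A] A :=
    LinearEquiv.ofLinearMap (pairing X V hX) (LinearMap.toSpanSingleton A _ ζ) (by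
      ext
      simp only [LinearMap.comp_apply, LinearMap.toSpanSingleton_apply, one_smul,
        LinearMap.id_apply]
      exact hζ) (by
      refine TensorProduct.ext' (fun h h' => ?_)
      rw [LinearMap.comp_apply, LinearMap.toSpanSingleton_apply, pairing_tmul,
        LinearMap.id_apply]
      exact key h h')
  exact Module.Invertible.left e

end Inv


section IsoE
open DerivedCategory
variable {A : Type u} [CommRing A] [IsNoetherianRing A]
variable (W : CochainComplex (ModuleCat.{u} A) ℤ) (V : Dual.D A)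
  {n : ℕ} (ψ : Fin n → ((DerivedCategory.Q.obj W : Dual.D A) ⟶ V))
  (ψ' : Fin n → (V ⟶ (DerivedCategory.Q.obj W : Dual.D A)))
  (h2 : ∑ k, ψ' k ≫ ψ k = 𝟙 V)
  (L : ModuleCat.{u} A) (l : Fin n → L) (φ : Fin n → (L →ₗ[A] A))
  (θ : L →ₗ[A] ((DerivedCategory.Q.obj W : Dual.D A) ⟶ V))
  (hθ : ∀ k, θ (l k) = ψ k)
  (hφ : ∀ (k : Fin n) (x : L), φ k x • 𝟙 (DerivedCategory.Q.obj W : Dual.D A) = θ x ≫ ψ' k)
  (hdb : ∀ x : L, ∑ k, φ k x • l k = x)

include h2 hθ hφ hdb in
/-- **the twist of `Q W` by (a model of) `Hom(Q W, V)` is `V`** -/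
theorem nonempty_twist_iso :
    Nonempty ((DerivedCategory.Q.obj (WL W L) : Dual.D A) ≅ V) := by
  have hterm : ∀ j, ψ j ≫ ∑ k, ψ' k ≫ Q.map (mkL W L (l k)) = Q.map (mkL W L (l j)) := by
    intro j
    rw [Preadditive.comp_sum]
    have : ∀ k, ψ j ≫ ψ' k ≫ Q.map (mkL W L (l k)) =
        φ k (l j) • Q.map (mkL W L (l k)) := fun k => by
      rw [← Category.assoc, ← hθ j, ← hφ k (l j), Linear.smul_comp, Category.id_comp]
    simp only [this]
    conv_rhs => rw [← hdb (l j)]
    rw [mkL_sum, Functor.map_sum]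
    refine Finset.sum_congr rfl (fun k _ => ?_)
    rw [Functor.map_smul]
  have hterm' : ∀ k, Q.map (mkL W L (l k)) ≫ ∑ j, Q.map (evL W L (φ j)) ≫ ψ j = ψ k := by
    intro k
    rw [Preadditive.comp_sum]
    have : ∀ j, Q.map (mkL W L (l k)) ≫ Q.map (evL W L (φ j)) ≫ ψ j = φ j (l k) • θ (l j) :=
      fun j => by
        rw [← Category.assoc, ← Functor.map_comp, mkL_comp_evL, Functor.map_smul,
          CategoryTheory.Functor.map_id, Linear.smul_comp, Category.id_comp, hθ j]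
    simp only [this]
    rw [← hθ k]
    conv_rhs => rw [← hdb (l k)]
    rw [map_sum]
    refine Finset.sum_congr rfl (fun j _ => ?_)
    rw [map_smul]
  refine ⟨⟨∑ j, Q.map (evL W L (φ j)) ≫ ψ j, ∑ k, ψ' k ≫ Q.map (mkL W L (l k)), ?_, ?_⟩⟩
  · rw [Preadditive.sum_comp]
    simp only [Category.assoc, hterm]
    simp only [← Functor.map_comp]
    rw [← Functor.map_sum, sum_evL_comp_mkL W L Finset.univ l φ hdb,
      CategoryTheory.Functor.map_id]
  · rw [Preadditive.sum_comp]
    simp only [Category.assoc, hterm']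
    exact h2

end IsoE

end Groth.Agent.Lib.Helper12.GlobUniq
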