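import Mathlib
import Groth.Agent.Lib.Helper12.GlobUniq3

set_option autoImplicit false
universe u
open CategoryTheory CategoryTheory.Limits CategoryTheory.Pretriangulated
attribute [local instance] HasDerivedCategory.standard
namespace Groth.Agent.Lib.Helper12.GlobUniq
open Groth.Agent.Lib.Helper12 DRing Groth.Agent.Lib.Helper12.FlatHomBC
open Groth.Agent.Lib.Helper68.InvTwist
open scoped TensorProduct

section Shift

/-- a dualizing complex over a nonzero ring is not isomorphic to a nontrivial shift of itself -/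
theorem eq_of_shift_iso {B : Type u} [CommRing B] [Nontrivial B] (Y : Dual.D B)
    (hY : Dual.IsDualizing B Y) (n m : ℤ) (σ : Y⟦n⟧ ≅ Y⟦m⟧) : n = m := by
  by_contra hne
  let τ : Y ≅ Y⟦m - n⟧ :=
    ((shiftFunctorCompIsoId (Dual.D B) n (-n) (by omega)).app Y).symm ≪≫
      (shiftFunctor (Dual.D B) (-n)).mapIso σ ≪≫
      ((shiftFunctorAdd' (Dual.D B) m (-n) (m - n) (by omega)).app Y).symm
  have hsub := hY.ext_self_subsingleton (m - n) (by omega)
  have h0 : τ.hom = 0 := Subsingleton.elim _ _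
  have h1 : 𝟙 Y = 0 := by rw [← τ.hom_inv_id, h0, zero_comp]
  have h2 : (1 : B) • 𝟙 Y = (0 : B) • 𝟙 Y := by rw [one_smul, zero_smul, h1]
  exact one_ne_zero (hY.toEnd_bijective.1 h2)

variable {A : Type u} [CommRing A] [IsNoetherianRing A]

/-- the set of primes at which `V'` and `Y` become isomorphic -/
def locSet (V' Y : Dual.D A) : Set (PrimeSpectrum A) :=
  {q | Nonempty ((extScD A (Localization.AtPrime q.asIdeal)).obj V' ≅
    (extScD A (Localization.AtPrime q.asIdeal)).obj Y)}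

theorem isOpen_locSet (V' Y : Dual.D A) (hV' : Dual.IsDualizing A V')
    (hY : Dual.IsDualizing A Y) : IsOpen (locSet V' Y) := by
  rw [isOpen_iff_forall_mem_open]
  intro p hp
  obtain ⟨u⟩ := hp
  obtain ⟨hpcV, aV, hlowV⟩ := pc_of_dualizing V' hV'
  obtain ⟨hpcY, aY, hlowY⟩ := pc_of_dualizing Y hY
  obtain ⟨ψ, s, hs, hψ⟩ := exists_lift p.asIdeal V' Y hpcV aY hlowY u.hom
  obtain ⟨ψ', s', hs', hψ'⟩ := exists_lift p.asIdeal Y V' hpcY aV hlowV u.inv
  set c := (scal V' hV').symm (ψ ≫ ψ') with hcdef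
  have hc : c • 𝟙 V' = ψ ≫ ψ' := scal_symm_smul V' hV' _
  have hcp : c ∉ p.asIdeal := by
    have h1 := congrArg (extScD A (Localization.AtPrime p.asIdeal)).map hc
    rw [extScD_map_smul, CategoryTheory.Functor.map_id, Functor.map_comp, hψ, hψ',
      Linear.smul_comp, Linear.comp_smul, u.hom_inv_id, smul_smul] at h1
    have h2 := (isDualizing_loc p.asIdeal V' hV').toEnd_bijective.1 h1
    have hunit : IsUnit (algebraMap A (Localization.AtPrime p.asIdeal) c) := by
      rw [h2]
      exact (IsLocalization.map_units (Localization.AtPrime p.asIdeal)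
          (⟨s, hs⟩ : p.asIdeal.primeCompl)).mul
        (IsLocalization.map_units (Localization.AtPrime p.asIdeal)
          (⟨s', hs'⟩ : p.asIdeal.primeCompl))
    exact (IsLocalization.AtPrime.isUnit_to_map_iff (Localization.AtPrime p.asIdeal)
      p.asIdeal c).mp hunit
  refine ⟨(PrimeSpectrum.basicOpen c : Set (PrimeSpectrum A)), ?_,
    (PrimeSpectrum.basicOpen c).isOpen, hcp⟩
  intro q hq
  have hcq : c ∉ q.asIdeal := hq
  have hVq := isDualizing_loc q.asIdeal V' hV'
  have hYq := isDualizing_loc q.asIdeal Y hY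
  haveI := hVq.isNoetherianRing
  obtain ⟨m, ⟨w⟩⟩ := Groth.Agent.S1747.result (Localization.AtPrime q.asIdeal) _ _ hVq hYq
  have hunit : IsUnit (algebraMap A (Localization.AtPrime q.asIdeal) c) :=
    IsLocalization.map_units (Localization.AtPrime q.asIdeal) (⟨c, hcq⟩ : q.asIdeal.primeCompl)
  have hm : m = 0 := by
    by_contra hne
    have hsub := hVq.ext_self_subsingleton m hne
    have h0 : (extScD A (Localization.AtPrime q.asIdeal)).map ψ ≫ w.hom = 0 :=
      Subsingleton.elim _ _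
    have h1 : (extScD A (Localization.AtPrime q.asIdeal)).map ψ = 0 := by
      rw [← cancel_mono w.hom, h0, zero_comp]
    have h2 := congrArg (extScD A (Localization.AtPrime q.asIdeal)).map hc
    rw [extScD_map_smul, CategoryTheory.Functor.map_id, Functor.map_comp, h1, zero_comp] at h2
    have h3 : algebraMap A (Localization.AtPrime q.asIdeal) c •
        𝟙 ((extScD A (Localization.AtPrime q.asIdeal)).obj V') =
        (0 : Localization.AtPrime q.asIdeal) • 𝟙 _ := by rw [h2, zero_smul]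
    have h4 := hVq.toEnd_bijective.1 h3
    rw [h4] at hunit
    exact not_isUnit_zero hunit
  subst hm
  exact ⟨(w ≪≫ (shiftFunctorZero (Dual.D (Localization.AtPrime q.asIdeal)) ℤ).app _).symm⟩

theorem exists_mem_locSet_shift (V' X : Dual.D A) (hV' : Dual.IsDualizing A V')
    (hX : Dual.IsDualizing A X) (q : PrimeSpectrum A) : ∃ n : ℤ, q ∈ locSet V' (X⟦n⟧) := by
  have hVq := isDualizing_loc q.asIdeal V' hV'
  have hXq := isDualizing_loc q.asIdeal X hX
  haveI := hVq.isNoetherianRing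
  obtain ⟨n, ⟨w⟩⟩ := Groth.Agent.S1747.result (Localization.AtPrime q.asIdeal) _ _ hXq hVq
  exact ⟨n, ⟨w ≪≫ (((extScD A (Localization.AtPrime q.asIdeal)).commShiftIso n).app X).symm⟩⟩

theorem eq_of_mem_locSet_shift (V' X : Dual.D A)
    (hX : Dual.IsDualizing A X) (q : PrimeSpectrum A) (n m : ℤ)
    (hn : q ∈ locSet V' (X⟦n⟧)) (hm : q ∈ locSet V' (X⟦m⟧)) : n = m := by
  obtain ⟨un⟩ := hn
  obtain ⟨um⟩ := hm
  have hXq := isDualizing_loc q.asIdeal X hX
  exact eq_of_shift_iso _ hXq n m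
    ((((extScD A (Localization.AtPrime q.asIdeal)).commShiftIso n).app X).symm ≪≫ un.symm ≪≫ um ≪≫
      ((extScD A (Localization.AtPrime q.asIdeal)).commShiftIso m).app X)

/-- **on a connected spectrum the local shifts agree** -/
theorem exists_shift_locIso [ConnectedSpace (PrimeSpectrum A)] (V' X : Dual.D A)
    (hV' : Dual.IsDualizing A V') (hX : Dual.IsDualizing A X) :
    ∃ n : ℤ, LocIso (X⟦n⟧) V' := by
  obtain ⟨p₀⟩ := (inferInstance : Nonempty (PrimeSpectrum A))
  obtain ⟨n₀, hn₀⟩ := exists_mem_locSet_shift V' X hV' hX p₀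
  have hopen : ∀ n, IsOpen (locSet V' (X⟦n⟧)) := fun n =>
    isOpen_locSet V' _ hV' (Shriek.isDualizing_shift X hX n)
  have hcompl : (locSet V' (X⟦n₀⟧))ᶜ = ⋃ n ∈ {n : ℤ | n ≠ n₀}, locSet V' (X⟦n⟧) := by
    ext q
    simp only [Set.mem_compl_iff, Set.mem_iUnion, Set.mem_setOf_eq, exists_prop]
    constructor
    · intro hq
      obtain ⟨n, hn⟩ := exists_mem_locSet_shift V' X hV' hX q
      exact ⟨n, fun h => hq (h ▸ hn), hn⟩
    · rintro ⟨n, hne, hn⟩ hq
      exact hne (eq_of_mem_locSet_shift V' X hX q n n₀ hn hq)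
  have hclopen : IsClopen (locSet V' (X⟦n₀⟧)) := by
    refine ⟨?_, hopen n₀⟩
    rw [← isOpen_compl_iff, hcompl]
    exact isOpen_biUnion (fun n _ => hopen n)
  have huniv := hclopen.eq_univ ⟨p₀, hn₀⟩
  refine ⟨n₀, fun p hp => ?_⟩
  have : (⟨p, hp⟩ : PrimeSpectrum A) ∈ locSet V' (X⟦n₀⟧) := by rw [huniv]; trivial
  obtain ⟨u⟩ := this
  exact ⟨u.symm⟩

end Shift

end Groth.Agent.Lib.Helper12.GlobUniq
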