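import Mathlib
import Groth.Agent.Lib.Helper12.GlobUniq4

set_option autoImplicit false
universe u
open CategoryTheory CategoryTheory.Limits CategoryTheory.Pretriangulated
attribute [local instance] HasDerivedCategory.standard
namespace Groth.Agent.Lib.Helper12.GlobUniq
open Groth.Agent.Lib.Helper12 DRing Groth.Agent.Lib.Helper12.FlatHomBC
open Groth.Agent.Lib.Helper68.InvTwist MonoidalCategory
open scoped TensorProduct

variable {A : Type u} [CommRing A] [IsNoetherianRing A]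

/-- **global uniqueness of dualizing complexes up to an invertible twist and a shift** -/
theorem exists_invertible_twist [ConnectedSpace (PrimeSpectrum A)] (ω ω' : Dual.D A)
    (hω : Dual.IsDualizing A ω) (hω' : Dual.IsDualizing A ω') :
    ∃ (P : ModuleCat.{u} A) (_ : Module.Invertible A P) (n : ℤ),
      ∀ [DRing.HasLTensor A P], Nonempty (ω' ≅ ((DRing.LTensor A P).obj ω)⟦n⟧) := by
  classical
  obtain ⟨n₀, hloc₀⟩ := exists_shift_locIso ω' ω hω' hω
  have hX₁ : Dual.IsDualizing A (ω⟦n₀⟧) := Shriek.isDualizing_shift ω hω n₀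
  let W := DerivedCategory.Q.objPreimage (ω⟦n₀⟧)
  let e₀ : (DerivedCategory.Q.obj W : Dual.D A) ≅ ω⟦n₀⟧ := DerivedCategory.Q.objObjPreimageIso _
  have hXW : Dual.IsDualizing A (DerivedCategory.Q.obj W : Dual.D A) :=
    DualizingBC.isDualizing_of_iso e₀.symm hX₁
  have hloc : LocIso (DerivedCategory.Q.obj W : Dual.D A) ω' := fun p hp => by
    obtain ⟨u⟩ := hloc₀ p
    exact ⟨(extScD A _).mapIso e₀ ≪≫ u⟩
  obtain ⟨n, ψ, ψ', h1⟩ := exists_families _ _ hXW hω' hloc
  have h2 := sum_comp_eq_id _ _ hXW hω' hloc ψ ψ' h1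
  haveI hinv : Module.Invertible A ((DerivedCategory.Q.obj W : Dual.D A) ⟶ ω') :=
    invertible_hom _ _ hXW hω' hloc ψ ψ' h1 h2
  let β : (Fin n → A) →ₗ[A] ((DerivedCategory.Q.obj W : Dual.D A) ⟶ ω') :=
    Fintype.linearCombination A ψ
  have hβ : Function.Surjective β := fun h =>
    ⟨fun k => coord W ω' hXW ψ' k h, by
      rw [Fintype.linearCombination_apply]
      exact dual_basis W ω' hXW ψ ψ' h2 h⟩
  let e : ((Fin n → A) ⧸ LinearMap.ker β) ≃ₗ[A] ((DerivedCategory.Q.obj W : Dual.D A) ⟶ ω') :=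
    β.quotKerEquivOfSurjective hβ
  let L : ModuleCat.{u} A := ModuleCat.of A ((Fin n → A) ⧸ LinearMap.ker β)
  haveI hinvL : Module.Invertible A L := Module.Invertible.congr e.symm
  refine ⟨L, hinvL, n₀, ?_⟩
  intro hLT
  haveI : Module.Flat A L := inferInstance
  obtain ⟨τ⟩ := nonempty_twist_iso W ω' ψ ψ' h2 L (fun k => e.symm (ψ k))
    (fun k => coord W ω' hXW ψ' k ∘ₗ e.toLinearMap) e.toLinearMap
    (fun k => e.apply_symm_apply _) (fun k x => coord_smul W ω' hXW ψ' k (e x)) (fun x => by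
      apply e.injective
      rw [map_sum]
      simp only [map_smul, LinearMap.comp_apply, LinearEquiv.coe_coe, e.apply_symm_apply]
      exact dual_basis W ω' hXW ψ ψ' h2 (e x))
  let i1 : (tD L).obj (DerivedCategory.Q.obj W) ≅ DerivedCategory.Q.obj (WL W L) :=
    ((tensorRight L).mapDerivedCategoryFactors).app W
  let i2 : (tD L).obj (ω⟦n₀⟧) ≅ ((tD L).obj ω)⟦n₀⟧ := ((tD L).commShiftIso n₀).app ω
  let i3 : (DRing.LTensor A L).obj ω ≅ (tD L).obj ω := (lTensorIsoTD L).app ω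
  exact ⟨τ.symm ≪≫ i1.symm ≪≫ (tD L).mapIso e₀ ≪≫ i2 ≪≫
    (shiftFunctor (Dual.D A) n₀).mapIso i3.symm⟩

end Groth.Agent.Lib.Helper12.GlobUniq
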