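import Mathlib.RingTheory.PicardGroup
import Mathlib.RingTheory.Ideal.Operations

/-!
# Invertible modules have "rank one": `Φ x • y = Φ y • x`
-/

set_option autoImplicit false
universe u v

open TensorProduct

namespace Groth.Agent.Lib.Helper12

variable {R : Type u} {M : Type v} [CommRing R] [AddCommGroup M] [Module R M]

/-- For an invertible module `M`, a functional `Φ` and `x y : M` we have `Φ x • y = Φ y • x`. -/
theorem invertible_dual_smul_comm [Module.Invertible R M] (Φ : Module.Dual R M) (x y : M) :
    Φ x • y = Φ y • x := by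
  let e := Module.Invertible.linearEquiv R M
  let t₀ := e.symm 1
  have he : ∀ t, e t = contractLeft R M t := fun t => rfl
  have ht₀ : contractLeft R M t₀ = 1 := by rw [← he]; exact e.apply_symm_apply 1
  have h2 : ∀ s, s = (contractLeft R M s) • t₀ := by
    intro s
    apply e.injective
    rw [map_smul, he, he, ht₀, smul_eq_mul, mul_one]
  let P : M →ₗ[R] M := dualTensorHom R M M t₀
  have h3 : ∀ (Ψ : Module.Dual R M) (x z : M), Ψ z • x = Ψ x • P z := by
    intro Ψ x z
    have := congrArg (fun s => dualTensorHom R M M s z) (h2 (Ψ ⊗ₜ x))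
    simpa [P] using this
  obtain ⟨r, hr⟩ := (Module.Invertible.toModuleEnd_bijective R M).surjective P
  have hP : ∀ z, P z = r • z := fun z => by rw [← hr]; rfl
  have h5 : ∀ (Ψ : Module.Dual R M) (x : M), (1 - r) * (Ψ x) ^ 2 = 0 := by
    intro Ψ x
    have h := congrArg Ψ (h3 Ψ x x)
    rw [hP, map_smul, map_smul, map_smul, smul_eq_mul, smul_eq_mul, smul_eq_mul] at h
    linear_combination h
  let J : Ideal R := LinearMap.ker (LinearMap.mulLeft R (1 - r))
  have hJ : ∀ t, contractLeft R M t ∈ J.radical := by
    intro t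
    induction t using TensorProduct.induction_on with
    | zero => simp
    | tmul Ψ x =>
      refine ⟨2, ?_⟩
      simp only [J, LinearMap.mem_ker, LinearMap.mulLeft_apply, contractLeft_apply]
      exact h5 Ψ x
    | add a b ha hb => rw [map_add]; exact Ideal.add_mem _ ha hb
  have h1 : (1 : R) ∈ J.radical := ht₀ ▸ hJ t₀
  have hJtop : J = ⊤ := Ideal.radical_eq_top.mp ((Ideal.eq_top_iff_one _).mpr h1)
  have h1J : (1 : R) ∈ J := hJtop ▸ Submodule.mem_top
  have hr1 : r = 1 := by
    have : (1 - r) * 1 = 0 := h1J
    rw [mul_one, sub_eq_zero] at this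
    exact this.symm
  have := h3 Φ y x
  rw [hP, hr1, one_smul] at this
  exact this

end Groth.Agent.Lib.Helper12
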