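import Mathlib

/-!
# `restrictScalars φ ∘ extendScalars φ ≅ - ⊗_A B` on `A`-modules
-/

set_option autoImplicit false

open CategoryTheory MonoidalCategory TensorProduct

namespace Groth.Agent.Lib.Helper12

universe u

variable {A B : Type u} [CommRing A] [CommRing B] (φ : A →+* B)

/-- `B` as an `A`-module -/
noncomputable abbrev BA : ModuleCat.{u} A :=
  (ModuleCat.restrictScalars.{u} φ).obj (ModuleCat.of B B)

/-- the underlying `A`-linear equivalence of `restrictExtendIso` -/
noncomputable def restrictExtendEquiv (X : ModuleCat.{u} A) :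
    (ModuleCat.restrictScalars.{u} φ).obj ((ModuleCat.extendScalars.{u, u, u} φ).obj X) ≃ₗ[A]
      TensorProduct A X (BA φ) := by
  let E : ModuleCat.{u} B := (ModuleCat.extendScalars.{u, u, u} φ).obj X
  let e₀ : TensorProduct A (BA φ) X ≃ₗ[A] TensorProduct A X (BA φ) := TensorProduct.comm A (BA φ) X
  let sm : B → TensorProduct A (BA φ) X → TensorProduct A (BA φ) X := fun b x =>
    (b • (show E from x) : E)
  have sm_add : ∀ b x y, sm b (x + y) = sm b x + sm b y := fun b x y =>
    smul_add (A := E) b x y
  have sm_zero : ∀ b, sm b 0 = 0 := fun b => smul_zero (A := E) b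
  have sm_tmul : ∀ b (s : BA φ) (m : X),
      sm b (s ⊗ₜ[A] m) = (show BA φ from (b * (show B from s))) ⊗ₜ[A] m := fun b s m => rfl
  have hsmul : ∀ (a : A) (x : TensorProduct A (BA φ) X), e₀ (sm (φ a) x) = a • e₀ x := by
    intro a x
    induction x using TensorProduct.induction_on with
    | zero => rw [sm_zero, map_zero, smul_zero]
    | tmul s m =>
      rw [sm_tmul]
      show m ⊗ₜ[A] (show BA φ from (φ a * (show B from s))) = a • (m ⊗ₜ[A] s)
      rw [TensorProduct.smul_tmul']
      rw [TensorProduct.smul_tmul]
      rfl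
    | add x y hx hy => rw [sm_add, map_add, map_add, smul_add, hx, hy]
  exact
    { toFun := fun x => e₀ x
      invFun := fun x => e₀.symm x
      left_inv := fun x => e₀.symm_apply_apply x
      right_inv := fun x => e₀.apply_symm_apply x
      map_add' := fun x y => e₀.map_add x y
      map_smul' := fun a x => hsmul a x }

lemma restrictExtendEquiv_tmul (X : ModuleCat.{u} A) (s : BA φ) (m : X) :
    restrictExtendEquiv φ X (s ⊗ₜ[A] m) = m ⊗ₜ[A] s := rfl

/-- `restrictScalars φ ∘ extendScalars φ ≅ - ⊗_A B`, objectwise -/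
noncomputable def restrictExtendIso (X : ModuleCat.{u} A) :
    (ModuleCat.restrictScalars.{u} φ).obj ((ModuleCat.extendScalars.{u, u, u} φ).obj X) ≅
      X ⊗ BA φ :=
  (restrictExtendEquiv φ X).toModuleIso

lemma restrictExtendIso_hom_naturality {X Y : ModuleCat.{u} A} (f : X ⟶ Y) :
    (ModuleCat.restrictScalars.{u} φ).map ((ModuleCat.extendScalars.{u, u, u} φ).map f) ≫
      (restrictExtendIso φ Y).hom = (restrictExtendIso φ X).hom ≫ f ▷ BA φ := by
  have key : ∀ x : TensorProduct A (BA φ) X,
      ((ModuleCat.restrictScalars.{u} φ).map ((ModuleCat.extendScalars.{u, u, u} φ).map f) ≫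
        (restrictExtendIso φ Y).hom).hom x = ((restrictExtendIso φ X).hom ≫ f ▷ BA φ).hom x := by
    intro x
    induction x using TensorProduct.induction_on with
    | zero =>
      exact (map_zero ((ModuleCat.restrictScalars.{u} φ).map
        ((ModuleCat.extendScalars.{u, u, u} φ).map f) ≫ (restrictExtendIso φ Y).hom).hom).trans
        (map_zero ((restrictExtendIso φ X).hom ≫ f ▷ BA φ).hom).symm
    | tmul s m => rfl
    | add x y hx hy =>
      exact (map_add ((ModuleCat.restrictScalars.{u} φ).map
        ((ModuleCat.extendScalars.{u, u, u} φ).map f) ≫ (restrictExtendIso φ Y).hom).hom x y).trans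
        ((congrArg₂ (· + ·) hx hy).trans
          (map_add ((restrictExtendIso φ X).hom ≫ f ▷ BA φ).hom x y).symm)
  ext x
  exact key x

/-- the natural isomorphism `extendScalars φ ⋙ restrictScalars φ ≅ tensorRight B` -/
noncomputable def restrictExtendNatIso :
    ModuleCat.extendScalars.{u, u, u} φ ⋙ ModuleCat.restrictScalars.{u} φ ≅ tensorRight (BA φ) :=
  NatIso.ofComponents (fun X => restrictExtendIso φ X)
    (fun f => restrictExtendIso_hom_naturality φ f)

end Groth.Agent.Lib.Helper12
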