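import Mathlib
import Groth.Agent.Lib.Helper12.RestrictExtend

/-!
# Lifting surjectivity and split injectivity along `R → R/I`, `I ⊆ rad R`
-/

set_option autoImplicit false

open CategoryTheory MonoidalCategory TensorProduct

namespace Groth.Agent.Lib.Helper12

universe u

variable {R : Type u} [CommRing R] (I : Ideal R)

/-- `R/I` as an `R`-module in its two guises -/
noncomputable def baQuotEquiv : BA (Ideal.Quotient.mk I) ≃ₗ[R] (R ⧸ I) where
  toFun x := x
  invFun x := x
  left_inv _ := rfl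
  right_inv _ := rfl
  map_add' _ _ := rfl
  map_smul' := fun r (x : R ⧸ I) => (Algebra.smul_def r x).symm

/-- `(N ⊗_R R/I)|_R ≃ N / I N` -/
noncomputable def epsEquiv (N : ModuleCat.{u} R) :
    (ModuleCat.restrictScalars.{u} (Ideal.Quotient.mk I)).obj
      ((ModuleCat.extendScalars.{u, u, u} (Ideal.Quotient.mk I)).obj N) ≃ₗ[R]
      N ⧸ (I • (⊤ : Submodule R N)) :=
  (restrictExtendEquiv (Ideal.Quotient.mk I) N).trans
    ((LinearEquiv.lTensor N (baQuotEquiv I)).trans (tensorQuotEquivQuotSMul N I))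

lemma epsEquiv_unit (N : ModuleCat.{u} R) (n : N) :
    epsEquiv I N (((ModuleCat.extendRestrictScalarsAdj.{u, u, u} (Ideal.Quotient.mk I)).unit.app N).hom n) =
      Submodule.Quotient.mk n := by
  have h1 : ((ModuleCat.extendRestrictScalarsAdj.{u, u, u} (Ideal.Quotient.mk I)).unit.app N).hom n =
      (show BA (Ideal.Quotient.mk I) from (1 : R ⧸ I)) ⊗ₜ[R] n := rfl
  rw [h1]
  show tensorQuotEquivQuotSMul N I ((LinearEquiv.lTensor N (baQuotEquiv I))
    (restrictExtendEquiv (Ideal.Quotient.mk I) N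
      ((show BA (Ideal.Quotient.mk I) from (1 : R ⧸ I)) ⊗ₜ[R] n))) = _
  rw [restrictExtendEquiv_tmul]
  show tensorQuotEquivQuotSMul N I (n ⊗ₜ[R] (Ideal.Quotient.mk I 1)) = _
  rw [tensorQuotEquivQuotSMul_tmul_mk, one_smul]

lemma unit_surjective (N : ModuleCat.{u} R) :
    Function.Surjective
      ((ModuleCat.extendRestrictScalarsAdj.{u, u, u} (Ideal.Quotient.mk I)).unit.app N).hom := by
  intro x
  obtain ⟨n, hn⟩ := Submodule.Quotient.mk_surjective _ (epsEquiv I N x)
  refine ⟨n, ?_⟩
  apply (epsEquiv I N).injective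
  rw [epsEquiv_unit, hn]

lemma mem_smul_top_of_unit_eq_zero (N : ModuleCat.{u} R) (n : N)
    (h : ((ModuleCat.extendRestrictScalarsAdj.{u, u, u} (Ideal.Quotient.mk I)).unit.app N).hom n = 0) :
    n ∈ I • (⊤ : Submodule R N) := by
  have := epsEquiv_unit I N n
  rw [h, map_zero] at this
  exact (Submodule.Quotient.mk_eq_zero _).mp this.symm

variable {I}

/-- Nakayama: surjectivity can be checked modulo `I ⊆ rad R` -/
theorem surjective_of_extendScalars_map (hI : I ≤ Ideal.jacobson ⊥) {M N : ModuleCat.{u} R}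
    [Module.Finite R N] (f : M ⟶ N)
    (hs : Function.Surjective ((ModuleCat.extendScalars.{u, u, u} (Ideal.Quotient.mk I)).map f).hom) :
    Function.Surjective f.hom := by
  apply LinearMap.surjective_of_surjective_comp_mkQ f.hom I hI
  intro y
  obtain ⟨n, rfl⟩ := Submodule.Quotient.mk_surjective _ y
  let η := (ModuleCat.extendRestrictScalarsAdj.{u, u, u} (Ideal.Quotient.mk I)).unit
  obtain ⟨x, hx⟩ := hs ((η.app N).hom n)
  obtain ⟨m, rfl⟩ := unit_surjective I M x
  refine ⟨m, ?_⟩
  have hnat := η.naturality f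
  have h2 : (η.app N).hom (f.hom m) = (η.app N).hom n := by
    rw [← hx]
    exact congrArg (fun t => t.hom m) hnat
  have h3 : (η.app N).hom (f.hom m - n) = 0 := by rw [map_sub, h2, sub_self]
  have h4 := mem_smul_top_of_unit_eq_zero I N _ h3
  show Submodule.Quotient.mk (f.hom m) = Submodule.Quotient.mk n
  rw [Submodule.Quotient.eq]
  exact h4

/-- split injectivity can be checked modulo `I ⊆ rad R` -/
theorem exists_retraction_of_extendScalars_map (hI : I ≤ Ideal.jacobson ⊥) {N Q : ModuleCat.{u} R}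
    [Module.Finite R N] [Module.Projective R Q] (g : N ⟶ Q)
    (ρ : (ModuleCat.extendScalars.{u, u, u} (Ideal.Quotient.mk I)).obj Q ⟶
      (ModuleCat.extendScalars.{u, u, u} (Ideal.Quotient.mk I)).obj N)
    (hρ : (ModuleCat.extendScalars.{u, u, u} (Ideal.Quotient.mk I)).map g ≫ ρ = 𝟙 _) :
    ∃ r : Q ⟶ N, g ≫ r = 𝟙 N := by
  let η := (ModuleCat.extendRestrictScalarsAdj.{u, u, u} (Ideal.Quotient.mk I)).unit
  let t : Q →ₗ[R] N ⧸ (I • (⊤ : Submodule R N)) :=
    (epsEquiv I N).toLinearMap ∘ₗ
      ((ModuleCat.restrictScalars.{u} (Ideal.Quotient.mk I)).map ρ).hom ∘ₗ (η.app Q).hom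
  obtain ⟨s, hs⟩ := Module.projective_lifting_property (I • (⊤ : Submodule R N)).mkQ t
    (Submodule.mkQ_surjective _)
  have hsg : ∀ n : N, Submodule.Quotient.mk (s (g.hom n)) =
      (Submodule.Quotient.mk n : N ⧸ (I • (⊤ : Submodule R N))) := by
    intro n
    have h1 : Submodule.Quotient.mk (s (g.hom n)) = t (g.hom n) := LinearMap.congr_fun hs (g.hom n)
    rw [h1]
    show epsEquiv I N (((ModuleCat.restrictScalars.{u} (Ideal.Quotient.mk I)).map ρ).hom
      ((η.app Q).hom (g.hom n))) = _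
    have hnat := η.naturality g
    have h2 : (η.app Q).hom (g.hom n) =
        ((ModuleCat.restrictScalars.{u} (Ideal.Quotient.mk I)).map
          ((ModuleCat.extendScalars.{u, u, u} (Ideal.Quotient.mk I)).map g)).hom ((η.app N).hom n) :=
      congrArg (fun t => t.hom n) hnat
    rw [h2]
    have h3 : ((ModuleCat.restrictScalars.{u} (Ideal.Quotient.mk I)).map ρ).hom
        (((ModuleCat.restrictScalars.{u} (Ideal.Quotient.mk I)).map
          ((ModuleCat.extendScalars.{u, u, u} (Ideal.Quotient.mk I)).map g)).hom ((η.app N).hom n)) =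
        (η.app N).hom n := by
      have := congrArg (fun t => ((ModuleCat.restrictScalars.{u} (Ideal.Quotient.mk I)).map t).hom
        ((η.app N).hom n)) hρ
      exact this
    rw [h3, epsEquiv_unit]
  let u : N →ₗ[R] N := s ∘ₗ g.hom
  have hu_surj : Function.Surjective u := by
    apply LinearMap.surjective_of_surjective_comp_mkQ u I hI
    intro y
    obtain ⟨n, rfl⟩ := Submodule.Quotient.mk_surjective _ y
    exact ⟨n, hsg n⟩
  have hu_inj : Function.Injective u := OrzechProperty.injective_of_surjective_endomorphism u hu_surj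
  let e : N ≃ₗ[R] N := LinearEquiv.ofBijective u ⟨hu_inj, hu_surj⟩
  refine ⟨ModuleCat.ofHom (e.symm.toLinearMap ∘ₗ s), ?_⟩
  ext n
  show e.symm (s (g.hom n)) = n
  exact e.symm_apply_apply n

end Groth.Agent.Lib.Helper12
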