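import Groth.Agent.Lib.Helper12.DRingTorAmpRep
import Groth.Agent.Lib.Helper12.DRingExt
import Groth.Agent.Lib.Helper46.TorShift
import Mathlib.RingTheory.Flat.Tensor

/-!
# Bridge between Tor-dimension of a module and tor-amplitude of `M[0]`
-/

set_option autoImplicit false
set_option backward.isDefEq.respectTransparency false
set_option backward.defeqAttrib.useBackward true

namespace Groth.Agent.Lib.Helper12

open CategoryTheory CategoryTheory.Limits DRing
open Groth.Agent.Lib.Helper46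

attribute [local instance] HasDerivedCategory.standard

universe u

variable {A : Type u} [CommRing A]

/-- `Tor_n(M, N)` for objects of `ModuleCat` -/
noncomputable abbrev TorM (n : ℕ) (M N : ModuleCat.{u} A) : ModuleCat.{u} A :=
  ((Tor (ModuleCat.{u} A) n).obj M).obj N

lemma isZero_TorM_of_iso {M M' : ModuleCat.{u} A} (e : M ≅ M') (n : ℕ) (N : ModuleCat.{u} A)
    (h : IsZero (TorM n M N)) : IsZero (TorM n M' N) :=
  h.of_iso (((Tor (ModuleCat.{u} A) n).mapIso e).app N).symm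

section SES

variable (S : ShortComplex (ModuleCat.{u} A)) (hS : S.ShortExact) (N : ModuleCat.{u} A)
include hS

lemma isZero_TorM_left (n : ℕ) (hZ : IsZero (TorM (n + 1) S.X₃ N)) (hY : IsZero (TorM n S.X₂ N)) :
    IsZero (TorM n S.X₁ N) :=
  (TorLES.exact₁ S hS N n).isZero_X₂ (hZ.eq_of_src _ _) (hY.eq_of_tgt _ _)

lemma isZero_TorM_right (n : ℕ) (hY : IsZero (TorM (n + 1) S.X₂ N)) (hX : IsZero (TorM n S.X₁ N)) :
    IsZero (TorM (n + 1) S.X₃ N) :=
  (TorLES.exact₃ S hS N n).isZero_X₂ (hY.eq_of_src _ _) (hX.eq_of_tgt _ _)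

end SES

lemma isZero_TorM_succ_of_flat (M N : ModuleCat.{u} A) [Module.Flat A M] (n : ℕ) :
    IsZero (TorM (n + 1) M N) :=
  TorLES.isZero_tor_succ_of_flat_left M N n

/-- `Tor_1(M, -) = 0` implies `M` flat -/
theorem flat_of_isZero_TorM_one (M : ModuleCat.{u} A)
    (h : ∀ N : ModuleCat.{u} A, IsZero (TorM 1 M N)) : Module.Flat A M := by
  rw [Module.Flat.iff_lTensor_injective']
  intro I
  have h1 := TorOne.isZero_tor_one_iff_injective_lTensor (R := A) (N := M) I.subtype I.mkQ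
    (Submodule.injective_subtype I) (LinearMap.exact_subtype_mkQ I) (Submodule.mkQ_surjective I)
  exact h1.1 (h _)

/-- The sequence `0 ⟶ Z^i ⟶ E^{i+1} ⟶ Z^{i+1} ⟶ 0` where `Z^i = E.opcycles i`. -/
noncomputable def cosyzSC (E : Cx A) (i : ℤ) : ShortComplex (ModuleCat.{u} A) :=
  ShortComplex.mk (E.fromOpcycles i (i + 1)) (E.pOpcycles (i + 1)) (by
    rw [← cancel_epi (E.pOpcycles i), HomologicalComplex.p_fromOpcycles_assoc,
      HomologicalComplex.d_pOpcycles, comp_zero])

lemma cosyzSC_shortExact (E : Cx A) (i : ℤ) (hi : E.ExactAt i) : (cosyzSC E i).ShortExact where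
  exact := by
    apply ShortComplex.exact_of_g_is_cokernel
    have h := E.opcyclesIsCokernel i (i + 1) (by simp)
    exact isCokernelOfComp (E.pOpcycles i) (E.d i (i + 1)) h (cosyzSC E i).zero
      (E.p_fromOpcycles i (i + 1))
  mono_f := TorBalance.mono_fromOpcycles_of_exactAt E i (i + 1) (by simp) hi
  epi_g := by dsimp [cosyzSC]; infer_instance

/-- **Dimension shifting along a flat resolution**: if `E` has flat terms and is exact in
negative degrees, then `Tor_{n+k}(Z^0) = 0 ↔ Tor_n(Z^{-k}) = 0` for `n ≥ 1`. -/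
theorem isZero_TorM_opcycles_iff (E : Cx A) (hflat : ∀ i, Module.Flat A (E.X i))
    (hex : ∀ i : ℤ, i < 0 → E.ExactAt i) (N : ModuleCat.{u} A) (k n : ℕ) :
    IsZero (TorM (n + 1 + k) (E.opcycles 0) N) ↔
      IsZero (TorM (n + 1) (E.opcycles (-(k : ℤ))) N) := by
  induction k generalizing n with
  | zero => simp
  | succ k ih =>
    obtain ⟨j, hj⟩ : ∃ j : ℤ, j = -(k : ℤ) - 1 := ⟨_, rfl⟩
    have hk : -(k : ℤ) = j + 1 := by omega
    have hk' : -((k + 1 : ℕ) : ℤ) = j := by push_cast; omega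
    rw [hk] at ih
    rw [hk']
    have hS := cosyzSC_shortExact E j (hex _ (by omega))
    have hflat₂ : Module.Flat A (cosyzSC E j).X₂ := hflat _
    rw [show n + 1 + (k + 1) = (n + 1) + 1 + k by omega, ih (n + 1)]
    constructor
    · intro h
      exact isZero_TorM_left _ hS N (n + 1) h (isZero_TorM_succ_of_flat _ N n)
    · intro h
      exact isZero_TorM_right _ hS N (n + 1) (isZero_TorM_succ_of_flat _ N (n + 1)) h

/-- `H^i` of a module in degree `0` vanishes for `i ≠ 0` -/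
lemma isZero_HF_single_zero (M : ModuleCat.{u} A) (i : ℤ) (hi : i ≠ 0) :
    IsZero ((HF A i).obj ((DerivedCategory.singleFunctor (ModuleCat.{u} A) 0).obj M)) := by
  rcases lt_or_gt_of_ne hi with h | h
  · exact DerivedCategory.isZero_of_isGE _ 0 i h
  · exact DerivedCategory.isZero_of_isLE _ 0 i h

/-- a complex representing `M[0]` is exact off degree `0` -/
lemma exactAt_of_iso_single {E : Cx A} {M : ModuleCat.{u} A}
    (e : toD E ≅ (DerivedCategory.singleFunctor (ModuleCat.{u} A) 0).obj M) (i : ℤ) (hi : i ≠ 0) :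
    E.ExactAt i :=
  exactAt_of_isZero_HF E i ((isZero_HF_single_zero M i hi).of_iso ((HF A i).mapIso e))

/-- for a complex `E` representing `M[0]` with `E^1 = 0`: `coker(E^{-1} → E^0) ≅ M` -/
noncomputable def opcyclesZeroIsoOfIsoSingle {E : Cx A} {M : ModuleCat.{u} A}
    (e : toD E ≅ (DerivedCategory.singleFunctor (ModuleCat.{u} A) 0).obj M)
    (h1 : IsZero (E.X 1)) : E.opcycles 0 ≅ M :=
  (E.isoHomologyι 0 1 (by simp) (h1.eq_of_tgt _ _)).symm ≪≫
    ((DerivedCategory.homologyFunctorFactors (ModuleCat.{u} A) 0).app E).symm ≪≫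
    (HF A 0).mapIso e ≪≫ HFSingleIso 0 M

/-- **Tor-dimension ⇒ tor-amplitude** -/
theorem hasTorAmplitudeIn_of_isZero_TorM (M : ModuleCat.{u} A) (d : ℕ)
    (h : ∀ (N : ModuleCat.{u} A) (p : ℕ), d < p → IsZero (TorM p M N)) :
    HasTorAmplitudeIn A (-(d : ℤ)) 0
      ((DerivedCategory.singleFunctor (ModuleCat.{u} A) 0).obj M) := by
  obtain ⟨F, hFb, hFproj, ⟨e⟩⟩ := exists_projective_rep
    ((DerivedCategory.singleFunctor (ModuleCat.{u} A) 0).obj M) 0
    (fun i hi => isZero_HF_single_zero M i (by omega))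
  have hex : ∀ i : ℤ, i ≠ 0 → F.ExactAt i := fun i hi => exactAt_of_iso_single e i hi
  have e0 : F.opcycles 0 ≅ M := opcyclesZeroIsoOfIsoSingle e (hFb 1 (by omega))
  have hflat : ∀ i, Module.Flat A (F.X i) := fun i => by
    have := hFproj i
    infer_instance
  have hZ : Module.Flat A (F.opcycles (-(d : ℤ))) :=
    flat_of_isZero_TorM_one _ (fun N =>
      (isZero_TorM_opcycles_iff F hflat (fun i hi => hex i (by omega)) N d 0).1
        (isZero_TorM_of_iso e0.symm _ N (h N (0 + 1 + d) (by omega))))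
  have hGE : F.IsGE (-(d : ℤ)) := by
    rw [CochainComplex.isGE_iff]
    intro i hi
    exact hex i (by omega)
  have hqi : QuasiIso (F.πTruncGE (-(d : ℤ))) := (F.quasiIso_πTruncGE_iff _).mpr hGE
  have hiso : IsIso (DerivedCategory.Q.map (F.πTruncGE (-(d : ℤ)))) :=
    (DerivedCategory.isIso_Q_map_iff_quasiIso _ _).mpr hqi
  exact ⟨F.truncGE (-(d : ℤ)), vanishesOutside_truncGE F _ 0 hFb,
    termwise_truncGE (flatP A) F _ (fun j _ => hflat j) hZ,
    ⟨(asIso (DerivedCategory.Q.map (F.πTruncGE (-(d : ℤ))))).symm ≪≫ e⟩⟩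

/-- **tor-amplitude ⇒ Tor-dimension** -/
theorem isZero_TorM_of_hasTorAmplitudeIn (M : ModuleCat.{u} A) (d : ℕ)
    (h : HasTorAmplitudeIn A (-(d : ℤ)) 0
      ((DerivedCategory.singleFunctor (ModuleCat.{u} A) 0).obj M))
    (N : ModuleCat.{u} A) (p : ℕ) (hp : d < p) : IsZero (TorM p M N) := by
  obtain ⟨P, hP, hPflat, ⟨e⟩⟩ := h
  have hex : ∀ i : ℤ, i ≠ 0 → P.ExactAt i := fun i hi => exactAt_of_iso_single e i hi
  have e0 : P.opcycles 0 ≅ M := opcyclesZeroIsoOfIsoSingle e (hP 1 (Or.inr (by omega)))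
  have ed : P.X (-(d : ℤ)) ≅ P.opcycles (-(d : ℤ)) :=
    P.pOpcyclesIso (-(d : ℤ) - 1) (-(d : ℤ)) (by simp)
      ((hP (-(d : ℤ) - 1) (Or.inl (by omega))).eq_of_src _ _)
  have hZ : Module.Flat A (P.opcycles (-(d : ℤ))) := by
    have := hPflat (-(d : ℤ))
    exact Module.Flat.of_linearEquiv ed.symm.toLinearEquiv
  obtain ⟨n, rfl⟩ : ∃ n, p = n + 1 + d := ⟨p - d - 1, by omega⟩
  exact isZero_TorM_of_iso e0 _ N
    ((isZero_TorM_opcycles_iff P hPflat (fun i hi => hex i (by omega)) N d n).2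
      (isZero_TorM_succ_of_flat _ N n))

end Groth.Agent.Lib.Helper12
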