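import Mathlib
import Groth.Agent.Lib.Helper12.JacobsonLift
import Groth.Agent.Lib.Helper12.TorBridge
import Groth.Agent.Lib.Helper12.DerivedBaseChange
import Groth.Agent.Lib.Helper12.DRingTruncRep
import Groth.Agent.Lib.Helper12.DRingPerfectAmp
import Groth.Agent.Lib.Helper36.FlatTensorAcyclic

/-!
# Exactness and projectivity of (op)cycles lift from `R/I` to `R` for `I ⊆ rad R`
-/

set_option autoImplicit false

open CategoryTheory CategoryTheory.Limits

namespace Groth.Agent.Lib.Helper12

open DRing Groth.Agent.Lib.Helper36.FT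

attribute [local instance] HasDerivedCategory.standard

universe u

section General

variable {C : Type*} [Category C] [Abelian C] {ι : Type*} {c : ComplexShape ι}

lemma exactAt_of_mono_fromOpcycles (K : HomologicalComplex C c) (i j : ι) (hij : c.Rel i j)
    (h : Mono (K.fromOpcycles i j)) : K.ExactAt i := by
  obtain rfl := c.next_eq' hij
  exact (K.sc i).exact_iff_mono_fromOpcycles.mpr h

end General

variable {R : Type u} [CommRing R] {I : Ideal R}

/-- one step of the lifting of exactness from `R/I` to `R` in low degrees -/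
theorem exactAt_and_projective_opcycles_of_bc (hI : I ≤ Ideal.jacobson ⊥) (F : Cx R) (j : ℤ)
    [Module.Finite R (F.X j)] [Module.Projective R (F.X (j + 1))]
    (hex : (bcCx (Ideal.Quotient.mk I) F).ExactAt j)
    (hproj : Projective ((bcCx (Ideal.Quotient.mk I) F).opcycles (j + 1))) :
    F.ExactAt j ∧ Module.Projective R (F.opcycles (j + 1)) := by
  let G := ModuleCat.extendScalars.{u, u, u} (Ideal.Quotient.mk I)
  let Fb := bcCx (Ideal.Quotient.mk I) F
  -- the split short exact sequence over `R/I`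
  have hS := cosyzSC_shortExact Fb j hex
  have : Epi (cosyzSC Fb j).g := hS.epi_g
  have : Projective (cosyzSC Fb j).X₃ := hproj
  let s : (cosyzSC Fb j).X₃ ⟶ (cosyzSC Fb j).X₂ := Projective.factorThru (𝟙 _) (cosyzSC Fb j).g
  have hs : s ≫ (cosyzSC Fb j).g = 𝟙 _ := Projective.factorThru_comp _ _
  have : Mono (cosyzSC Fb j).f := hS.mono_f
  let spl := ShortComplex.Splitting.ofExactOfSection (cosyzSC Fb j) hS.exact s hs inferInstance
  have hσ : Fb.fromOpcycles j (j + 1) ≫ spl.r = 𝟙 _ := spl.f_r
  -- comparison of opcycles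
  have hw : Fb.d (j - 1) j ≫ G.map (F.pOpcycles j) = 0 := by
    show G.map (F.d (j - 1) j) ≫ G.map (F.pOpcycles j) = 0
    rw [← G.map_comp, HomologicalComplex.d_pOpcycles, G.map_zero]
  let θ : Fb.opcycles j ⟶ G.obj (F.opcycles j) :=
    Fb.descOpcycles (G.map (F.pOpcycles j)) (j - 1) (by simp) hw
  have hθ : Fb.pOpcycles j ≫ θ = G.map (F.pOpcycles j) := Fb.p_descOpcycles _ _ _ _
  let ρ : G.obj (F.X (j + 1)) ⟶ G.obj (F.opcycles j) := spl.r ≫ θ
  have hepi : Epi (G.map (F.pOpcycles j)) := inferInstance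
  have hρ : G.map (F.fromOpcycles j (j + 1)) ≫ ρ = 𝟙 _ := by
    rw [← cancel_epi (G.map (F.pOpcycles j)), Category.comp_id]
    have e1 : G.map (F.pOpcycles j) ≫ G.map (F.fromOpcycles j (j + 1)) =
        Fb.pOpcycles j ≫ Fb.fromOpcycles j (j + 1) := by
      rw [← G.map_comp, F.p_fromOpcycles]
      exact (Fb.p_fromOpcycles j (j + 1)).symm
    refine (Category.assoc _ _ _).symm.trans ?_
    refine (congrArg (· ≫ ρ) e1).trans ?_
    refine (Category.assoc _ _ _).trans ?_
    refine (congrArg (Fb.pOpcycles j ≫ ·) ((Category.assoc _ _ _).symm.trans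
      ((congrArg (· ≫ θ) hσ).trans (Category.id_comp θ)))).trans ?_
    exact hθ
  have hfin : Module.Finite R (F.opcycles j) := by
    have hsurj : Function.Surjective (F.pOpcycles j).hom :=
      (ModuleCat.epi_iff_surjective _).mp inferInstance
    exact Module.Finite.of_surjective (F.pOpcycles j).hom hsurj
  obtain ⟨r, hr⟩ := exists_retraction_of_extendScalars_map hI (F.fromOpcycles j (j + 1)) ρ hρ
  have hmono : Mono (F.fromOpcycles j (j + 1)) := mono_of_mono_fac hr
  refine ⟨exactAt_of_mono_fromOpcycles F j (j + 1) (by simp) hmono, ?_⟩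
  -- `opcycles (j+1)` is a retract of `F.X (j+1)`
  let e : F.X (j + 1) ⟶ F.X (j + 1) := 𝟙 _ - r ≫ F.fromOpcycles j (j + 1)
  have he0 : F.fromOpcycles j (j + 1) ≫ e = 0 := by
    show F.fromOpcycles j (j + 1) ≫ (𝟙 _ - r ≫ F.fromOpcycles j (j + 1)) = 0
    rw [Preadditive.comp_sub, Category.comp_id, ← Category.assoc, hr, Category.id_comp, sub_self]
  have hde : F.d j (j + 1) ≫ e = 0 := by
    rw [← F.p_fromOpcycles j (j + 1), Category.assoc, he0, comp_zero]
  let k : F.opcycles (j + 1) ⟶ F.X (j + 1) := F.descOpcycles e j (by simp) hde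
  have hk : F.pOpcycles (j + 1) ≫ k = e := F.p_descOpcycles _ _ _ _
  have hkp : k ≫ F.pOpcycles (j + 1) = 𝟙 _ := by
    rw [← cancel_epi (F.pOpcycles (j + 1)), ← Category.assoc, hk, Category.comp_id]
    show (𝟙 _ - r ≫ F.fromOpcycles j (j + 1)) ≫ F.pOpcycles (j + 1) = _
    have hz : F.fromOpcycles j (j + 1) ≫ F.pOpcycles (j + 1) = 0 := (cosyzSC F j).zero
    rw [Preadditive.sub_comp, Category.id_comp, Category.assoc, hz, comp_zero, sub_zero]
  refine Module.Projective.of_split k.hom (F.pOpcycles (j + 1)).hom ?_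
  ext x
  exact congrArg (fun t => t.hom x) hkp

/-- **lower part**: if `F ⊗ R/I` is exact in degrees `< a` with projective `opcycles` in degrees
`≤ a`, so is `F` (`F` with finite projective terms, `I ⊆ rad R`). -/
theorem exactAt_below_of_bc (hI : I ≤ Ideal.jacobson ⊥) (F : Cx R)
    (hF : TermwiseFiniteProjective F) (a : ℤ)
    (hex : ∀ i : ℤ, i < a → (bcCx (Ideal.Quotient.mk I) F).ExactAt i)
    (hproj : ∀ i : ℤ, i ≤ a → Projective ((bcCx (Ideal.Quotient.mk I) F).opcycles i)) :
    (∀ i : ℤ, i < a → F.ExactAt i) ∧ Module.Projective R (F.opcycles a) := by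
  have key : ∀ j : ℤ, j < a → F.ExactAt j ∧ Module.Projective R (F.opcycles (j + 1)) := by
    intro j hj
    have := (hF j).1
    have := (hF (j + 1)).2
    exact exactAt_and_projective_opcycles_of_bc hI F j (hex j hj) (hproj (j + 1) (by omega))
  refine ⟨fun i hi => (key i hi).1, ?_⟩
  have := (key (a - 1) (by omega)).2
  rwa [show a - 1 + 1 = a by omega] at this

/-- right truncation of a bounded above complex -/
theorem exists_truncLE_rep_above {A : Type u} [CommRing A] (P : ModProp A) (hP : P.KerClosed)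
    (G : Cx A) (b c : ℤ) (hG : VanishesAbove G b) (hterm : Termwise P G)
    (hc : ∀ i : ℤ, c < i → G.ExactAt i) :
    VanishesAbove (G.truncLE c) c ∧ Termwise P (G.truncLE c) ∧ QuasiIso (G.ιTruncLE c) := by
  have hLE : G.IsLE c := by
    rw [CochainComplex.isLE_iff]
    intro i hi
    exact hc i hi
  refine ⟨fun i hi => (G.truncLE c).isZero_of_isStrictlyLE c i hi, ?_,
    (G.quasiIso_ιTruncLE_iff c).mpr hLE⟩
  intro i
  rcases lt_trichotomy i c with h1 | h1 | h1
  · exact P.iso (G.truncLEXIso c i h1).symm (hterm i)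
  · subst h1
    have hz : P.P (ModuleCat.of A (Zc G i)) :=
      prop_Zc P hP G b hG (b - i + 1).toNat i (by omega) (fun j hj => hc j hj) (fun j _ => hterm j)
    exact P.iso ((G.truncLEXIsoCycles i).trans (cyclesIsoZc G i)).symm hz
  · exact P.zero ((G.truncLE c).isZero_of_isStrictlyLE c i h1)

/-- **upper part**: if `F ⊗ R/I` is exact in degrees `> b`, so is `F` (`F` bounded above with finite
projective terms, `I ⊆ rad R`). -/
theorem exactAt_above_of_bc (hI : I ≤ Ideal.jacobson ⊥) (b : ℤ) :
    ∀ (n : ℕ) (F : Cx R), VanishesAbove F (b + n) → TermwiseFiniteProjective F →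
      (∀ i : ℤ, b < i → (bcCx (Ideal.Quotient.mk I) F).ExactAt i) → ∀ i : ℤ, b < i → F.ExactAt i := by
  intro n
  induction n with
  | zero =>
    intro F hFb _ _ i hi
    exact ShortComplex.exact_of_isZero_X₂ _ (hFb i (by simpa using hi))
  | succ n ih =>
    intro F hFb hF hex
    let G := ModuleCat.extendScalars.{u, u, u} (Ideal.Quotient.mk I)
    obtain ⟨t, ht⟩ : ∃ t : ℤ, t = b + n + 1 := ⟨_, rfl⟩
    have hFb' : VanishesAbove F t := fun i hi => hFb i (by push_cast; omega)
    -- exactness in the top degree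
    have htop : F.ExactAt t := by
      have h1 : (bcCx (Ideal.Quotient.mk I) F).ExactAt t := hex t (by omega)
      rw [HomologicalComplex.exactAt_iff' _ (t - 1) t (t + 1) (by simp) (by simp)] at h1 ⊢
      have hz : IsZero (F.X (t + 1)) := hFb' _ (by omega)
      have hg : (F.sc' (t - 1) t (t + 1)).g = 0 := hz.eq_of_tgt _ _
      have hg' : ((bcCx (Ideal.Quotient.mk I) F).sc' (t - 1) t (t + 1)).g = 0 :=
        (G.map_isZero hz).eq_of_tgt _ _
      rw [ShortComplex.exact_iff_epi _ hg]
      have hepi : Epi (G.map (F.d (t - 1) t)) := (ShortComplex.exact_iff_epi _ hg').mp h1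
      have := (hF t).1
      have hsurj := surjective_of_extendScalars_map hI (F.d (t - 1) t)
        ((ModuleCat.epi_iff_surjective _).mp hepi)
      exact (ModuleCat.epi_iff_surjective _).mpr hsurj
    have hexF : ∀ i : ℤ, t - 1 < i → F.ExactAt i := by
      intro i hi
      rcases eq_or_lt_of_le (show t ≤ i by omega) with rfl | h
      · exact htop
      · exact ShortComplex.exact_of_isZero_X₂ _ (hFb' i h)
    obtain ⟨h1, h2, h3⟩ := exists_truncLE_rep_above (finiteProjective R) finiteProjective_kerClosed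
      F t (t - 1) hFb' hF hexF
    have hfl : ∀ (E : Cx R), TermwiseFiniteProjective E → ∀ i, Module.Flat R (E.X i) :=
      fun E hE i => by
        have := (hE i).2
        infer_instance
    have h1' : VanishesAbove (F.truncLE (t - 1)) t := fun i hi => h1 i (by omega)
    have hq := quasiIso_map G (tensorLike_extendScalars (Ideal.Quotient.mk I)) (F.ιTruncLE (t - 1))
      t h1' hFb' (hfl _ h2) (hfl _ hF)
    have hex' : ∀ i : ℤ, b < i → (bcCx (Ideal.Quotient.mk I) (F.truncLE (t - 1))).ExactAt i := by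
      intro i hi
      exact (_root_.exactAt_iff_of_quasiIsoAt
        ((G.mapHomologicalComplex (ComplexShape.up ℤ)).map (F.ιTruncLE (t - 1))) i).mpr (hex i hi)
    have h4 := ih (F.truncLE (t - 1)) (fun i hi => h1 i (by omega)) h2 hex'
    intro i hi
    exact (_root_.exactAt_iff_of_quasiIsoAt (F.ιTruncLE (t - 1)) i).mp (h4 i hi)

end Groth.Agent.Lib.Helper12
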