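import Mathlib
import Groth.Prelude.Def_DDual2
import Groth.Agent.Lib.Helper12.DerivedAdjunction
import Groth.Agent.Lib.Helper12.DerivedBaseChange

/-!
# Extension of scalars preserves K-projective complexes
-/

set_option autoImplicit false

open CategoryTheory CategoryTheory.Limits DRing CochainComplex

namespace Groth.Agent.Lib.Helper12

universe u

variable {A B : Type u} [CommRing A] [CommRing B] (φ : A →+* B)

/-- restriction of scalars preserves acyclic complexes -/
lemma acyclic_restrictScalars_map (L : Cx B) (hL : L.Acyclic) :
    (((ModuleCat.restrictScalars.{u} φ).mapHomologicalComplex (ComplexShape.up ℤ)).obj L).Acyclic := by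
  intro i
  have h := hL i
  rw [HomologicalComplex.exactAt_iff] at h ⊢
  exact h.map (ModuleCat.restrictScalars.{u} φ)

/-- extension of scalars preserves K-projective complexes -/
theorem isKProjective_bcCx (K : Cx A) [K.IsKProjective] : (bcCx φ K).IsKProjective := by
  rw [CochainComplex.isKProjective_iff_leftOrthogonal]
  intro L f hL
  obtain ⟨L, rfl⟩ := HomotopyCategory.quotient_obj_surjective L
  rw [HomotopyCategory.quotient_obj_mem_subcategoryAcyclic_iff_acyclic] at hL
  let adj := mapHomotopyCategoryAdj (ComplexShape.up ℤ)
    (ModuleCat.extendRestrictScalarsAdj.{u, u, u} φ)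
  have hK := CochainComplex.IsKProjective.leftOrthogonal K
  have h1 : (HomotopyCategory.subcategoryAcyclic (ModuleCat.{u} A))
      (((ModuleCat.restrictScalars.{u} φ).mapHomotopyCategory (ComplexShape.up ℤ)).obj
        ((HomotopyCategory.quotient _ _).obj L)) := by
    show (HomotopyCategory.subcategoryAcyclic (ModuleCat.{u} A))
      ((HomotopyCategory.quotient _ _).obj
        (((ModuleCat.restrictScalars.{u} φ).mapHomologicalComplex (ComplexShape.up ℤ)).obj L))
    rw [HomotopyCategory.quotient_obj_mem_subcategoryAcyclic_iff_acyclic]
    exact acyclic_restrictScalars_map φ L hL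
  have h2 : adj.homEquiv ((HomotopyCategory.quotient _ _).obj K) _ f = 0 := hK _ h1
  have h3 : adj.homEquiv ((HomotopyCategory.quotient _ _).obj K)
      ((HomotopyCategory.quotient _ _).obj L) 0 = 0 := by
    rw [Adjunction.homEquiv_unit, Functor.map_zero, comp_zero]
  exact (adj.homEquiv ((HomotopyCategory.quotient _ _).obj K) _).injective (h2.trans h3.symm)

end Groth.Agent.Lib.Helper12
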