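import Mathlib
import Groth.Agent.Lib.Helper12.JacobsonLift

/-!
# Module-level lemmas for lifting along `R → R/I` relative to a class `Pc` of projective modules
(Stacks 15.75.3 hypotheses (1), (2), (3))
-/

set_option autoImplicit false

open CategoryTheory

namespace Groth.Agent.Lib.Helper12

universe u

variable {R : Type u} [CommRing R] (I : Ideal R)

/-- the hypotheses on the class of modules `Pc` -/
structure PcClass (Pc : ObjectProperty (ModuleCat.{u} R)) : Prop where
  iso : ∀ {X Y : ModuleCat.{u} R}, (X ≅ Y) → Pc X → Pc Y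
  proj : ∀ X : ModuleCat.{u} R, Pc X → Module.Projective R X
  sum : ∀ X Y : ModuleCat.{u} R, Pc X → Pc (ModuleCat.of R (X × Y)) → Pc Y
  surj : ∀ (X Y : ModuleCat.{u} R) (f : X ⟶ Y), Pc X → Pc Y →
    LinearMap.range f.hom ⊔ I • (⊤ : Submodule R Y) = ⊤ → Function.Surjective f.hom

/-- reduction mod `I` -/
noncomputable abbrev redI : ModuleCat.{u} R ⥤ ModuleCat.{u} (R ⧸ I) :=
  ModuleCat.extendScalars.{u, u, u} (Ideal.Quotient.mk I)

variable {I}

lemma sub_mem_smul_top_of_map_eq {M N : ModuleCat.{u} R} (f g : M ⟶ N)
    (h : (redI I).map f = (redI I).map g) (x : M) :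
    f.hom x - g.hom x ∈ I • (⊤ : Submodule R N) := by
  let η := (ModuleCat.extendRestrictScalarsAdj.{u, u, u} (Ideal.Quotient.mk I)).unit
  apply mem_smul_top_of_unit_eq_zero I N
  rw [map_sub]
  have h1 := congrArg (fun t => t.hom x) (η.naturality f)
  have h2 := congrArg (fun t => t.hom x) (η.naturality g)
  have h1' : (η.app N).hom (f.hom x) =
      ((ModuleCat.restrictScalars.{u} (Ideal.Quotient.mk I)).map ((redI I).map f)).hom
        ((η.app M).hom x) := h1
  have h2' : (η.app N).hom (g.hom x) =
      ((ModuleCat.restrictScalars.{u} (Ideal.Quotient.mk I)).map ((redI I).map g)).hom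
        ((η.app M).hom x) := h2
  rw [h1', h2', h, sub_self]

variable {Pc : ObjectProperty (ModuleCat.{u} R)} (hPc : PcClass I Pc)
include hPc

lemma PcClass.subsingleton_of_smul_top_eq_top {M : ModuleCat.{u} R} (hM : Pc M)
    (h : I • (⊤ : Submodule R M) = ⊤) : Subsingleton M := by
  have hs := hPc.surj M M 0 hM hM (by
    rw [h]
    exact sup_top_eq _)
  constructor
  intro x y
  obtain ⟨x', hx'⟩ := hs x
  obtain ⟨y', hy'⟩ := hs y
  rw [← hx', ← hy']
  rfl

lemma PcClass.isZero_of_isZero_map {M : ModuleCat.{u} R} (hM : Pc M)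
    (h : Limits.IsZero ((redI I).obj M)) : Limits.IsZero M := by
  have hs : Subsingleton M := by
    apply hPc.subsingleton_of_smul_top_eq_top hM
    rw [eq_top_iff]
    intro x _
    apply mem_smul_top_of_unit_eq_zero I M
    have : Subsingleton ((redI I).obj M) := ModuleCat.subsingleton_of_isZero h
    exact Subsingleton.elim (α := (redI I).obj M) _ _
  exact ModuleCat.isZero_of_subsingleton _

/-- an endomorphism of a `Pc`-module which is the identity mod `I` is an automorphism -/
theorem PcClass.isIso_of_map_eq_id {M : ModuleCat.{u} R} (hM : Pc M) (u : M ⟶ M)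
    (hu : (redI I).map u = 𝟙 _) : IsIso u := by
  have hmem : ∀ x : M, u.hom x - x ∈ I • (⊤ : Submodule R M) := fun x =>
    sub_mem_smul_top_of_map_eq u (𝟙 M) (by rw [hu, CategoryTheory.Functor.map_id]) x
  have hsurj : Function.Surjective u.hom := by
    apply hPc.surj M M u hM hM
    rw [eq_top_iff]
    intro x _
    have h1 : x = u.hom x - (u.hom x - x) := by abel
    rw [h1]
    exact Submodule.sub_mem _ (Submodule.mem_sup_left ⟨x, rfl⟩) (Submodule.mem_sup_right (hmem x))
  have := hPc.proj M hM
  obtain ⟨σ, hσ⟩ := Module.projective_lifting_property u.hom LinearMap.id hsurj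
  have hσ' : ∀ x, u.hom (σ x) = x := fun x => LinearMap.congr_fun hσ x
  -- the kernel
  let K' := LinearMap.ker u.hom
  let p : M →ₗ[R] K' := LinearMap.codRestrict K' (LinearMap.id - σ ∘ₗ u.hom) (by
    intro x
    show u.hom (x - σ (u.hom x)) = 0
    rw [map_sub, hσ', sub_self])
  have hp : ∀ k : K', p k = k := by
    intro k
    apply Subtype.ext
    show (k : M) - σ (u.hom k) = k
    rw [show u.hom (k : M) = 0 from k.2, map_zero, sub_zero]
  let e : (M × K') ≃ₗ[R] M :=
    { toFun := fun mk => σ mk.1 + mk.2
      map_add' := fun a b => by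
        simp only [Prod.fst_add, Prod.snd_add, map_add, Submodule.coe_add]
        abel
      map_smul' := fun r a => by
        simp only [Prod.smul_fst, Prod.smul_snd, map_smul, Submodule.coe_smul, RingHom.id_apply,
          smul_add]
      invFun := fun x => (u.hom x, p x)
      left_inv := fun mk => by
        obtain ⟨m, k⟩ := mk
        have h1 : u.hom (σ m + (k : M)) = m := by
          rw [map_add, hσ', show u.hom (k : M) = 0 from k.2, add_zero]
        refine Prod.ext h1 ?_
        apply Subtype.ext
        show (σ m + (k : M)) - σ (u.hom (σ m + (k : M))) = k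
        rw [h1]
        abel
      right_inv := fun x => by
        show σ (u.hom x) + (x - σ (u.hom x)) = x
        abel }
  have hK' : Pc (ModuleCat.of R K') :=
    hPc.sum M (ModuleCat.of R K') hM (hPc.iso e.symm.toModuleIso hM)
  have hK'top : I • (⊤ : Submodule R K') = ⊤ := by
    rw [eq_top_iff]
    intro k _
    have h1 : (k : M) ∈ I • (⊤ : Submodule R M) := by
      have := hmem k
      rw [show u.hom (k : M) = 0 from k.2, zero_sub] at this
      simpa using Submodule.neg_mem _ this
    have h2 : p k ∈ Submodule.map p (I • (⊤ : Submodule R M)) := ⟨k, h1, rfl⟩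
    rw [Submodule.map_smul'', hp] at h2
    exact Submodule.smul_mono le_rfl le_top h2
  have hsub : Subsingleton K' :=
    hPc.subsingleton_of_smul_top_eq_top (M := ModuleCat.of R K') hK' hK'top
  have hinj : Function.Injective u.hom := by
    rw [← LinearMap.ker_eq_bot, Submodule.eq_bot_iff]
    intro x hx
    have := Subsingleton.elim (⟨x, hx⟩ : K') 0
    exact congrArg Subtype.val this
  exact (ConcreteCategory.isIso_iff_bijective u).mpr ⟨hinj, hsurj⟩

omit hPc in
/-- lifting of morphisms out of a projective module -/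
theorem exists_lift_of_projective {M N : ModuleCat.{u} R} [Module.Projective R M]
    (g : (redI I).obj M ⟶ (redI I).obj N) : ∃ f : M ⟶ N, (redI I).map f = g := by
  let adj := ModuleCat.extendRestrictScalarsAdj.{u, u, u} (Ideal.Quotient.mk I)
  let t : M →ₗ[R] (ModuleCat.restrictScalars.{u} (Ideal.Quotient.mk I)).obj ((redI I).obj N) :=
    ((ModuleCat.restrictScalars.{u} (Ideal.Quotient.mk I)).map g).hom ∘ₗ (adj.unit.app M).hom
  obtain ⟨f, hf⟩ := Module.projective_lifting_property (adj.unit.app N).hom t (unit_surjective I N)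
  refine ⟨ModuleCat.ofHom f, ?_⟩
  apply (adj.homEquiv _ _).injective
  rw [Adjunction.homEquiv_unit, Adjunction.homEquiv_unit]
  have hnat := adj.unit.naturality (ModuleCat.ofHom f)
  refine hnat.symm.trans ?_
  ext x
  exact LinearMap.congr_fun hf x

end Groth.Agent.Lib.Helper12
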