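import Mathlib
import Groth.Prelude.Def_DDual2
import Groth.Agent.Lib.Helper12.PcLift
import Groth.Agent.Lib.Helper12.ConeFrame
import Groth.Agent.Lib.Helper12.DescRec

/-!
# The recursion step for lifting complexes along `R → R/I` (Stacks 15.75.3)
-/

set_option autoImplicit false

open CategoryTheory CategoryTheory.Limits

namespace Groth.Agent.Lib.Helper12

universe u

namespace PcLiftStep

variable {R : Type u} [CommRing R] {I : Ideal R} {Pc : ObjectProperty (ModuleCat.{u} R)}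
  (hPc : PcClass I Pc)
  {X Qx : ℤ → ModuleCat.{u} R} (fr : ConeFrame X Qx) (dQ : ∀ j, Qx j ⟶ Qx (j + 1))
  (gb : ∀ j, (redI I).obj (X j) ⟶ (redI I).obj (fr.C j))
  (σb : ∀ j, (redI I).obj (fr.C (j + 1)) ⟶ (redI I).obj (fr.C j))

/-- the cone differential mod `I` -/
noncomputable abbrev Phib : ∀ j, (redI I).obj (fr.C j) ⟶ (redI I).obj (fr.C (j + 1)) :=
  (fr.map (redI I)).Phi gb (fun j => (redI I).map (dQ j))

lemma map_Phi_eq (g : ∀ j, X j ⟶ fr.C j) (j : ℤ) (h : (redI I).map (g (j + 1)) = gb (j + 1)) :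
    (redI I).map (fr.Phi g dQ j) = Phib fr dQ gb j := by
  rw [ConeFrame.map_Phi]
  show (fr.map (redI I)).Phi1 j ((redI I).map (g (j + 1))) _ = (fr.map (redI I)).Phi1 j (gb (j + 1)) _
  rw [h]

lemma map_uMap_eq (g : ∀ j, X j ⟶ fr.C j) (σ : ∀ j, fr.C (j + 1) ⟶ fr.C j) (j : ℤ)
    (h1 : (redI I).map (g (j + 1)) = gb (j + 1))
    (h2 : (redI I).map (g (j + 1 + 1)) = gb (j + 1 + 1))
    (hσ : ∀ j, (redI I).map (σ j) = σb j) :
    (redI I).map (uMap (fr.Phi g dQ) σ j) = uMap (Phib fr dQ gb) σb j := by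
  show (redI I).map (σ j ≫ fr.Phi g dQ j + fr.Phi g dQ (j + 1) ≫ σ (j + 1)) =
    σb j ≫ Phib fr dQ gb j + Phib fr dQ gb (j + 1) ≫ σb (j + 1)
  rw [Functor.map_add, CategoryTheory.Functor.map_comp, CategoryTheory.Functor.map_comp,
    map_Phi_eq fr dQ gb g j h1, map_Phi_eq fr dQ gb g (j + 1) h2, hσ, hσ]

include hPc in
lemma isIso_uMap (hC : ∀ j, Pc (fr.C j)) (g : ∀ j, X j ⟶ fr.C j)
    (σ : ∀ j, fr.C (j + 1) ⟶ fr.C j) (j : ℤ)
    (h1 : (redI I).map (g (j + 1)) = gb (j + 1))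
    (h2 : (redI I).map (g (j + 1 + 1)) = gb (j + 1 + 1))
    (hσ : ∀ j, (redI I).map (σ j) = σb j)
    (hσb : uMap (Phib fr dQ gb) σb j = 𝟙 _) :
    IsIso (uMap (fr.Phi g dQ) σ j) :=
  hPc.isIso_of_map_eq_id (hC (j + 1)) _ (by rw [map_uMap_eq fr dQ gb σb g σ j h1 h2 hσ, hσb])

include hPc in
/-- the recursion step -/
lemma step (hdQ : ∀ j, dQ j ≫ dQ (j + 1) = 0) (hC : ∀ j, Pc (fr.C j)) (hX : ∀ j, Pc (X j))
    (hgb : ∀ j, gb j ≫ Phib fr dQ gb j = 0)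
    (hσb : ∀ j, uMap (Phib fr dQ gb) σb j = 𝟙 _)
    (σ : ∀ j, fr.C (j + 1) ⟶ fr.C j) (hσ : ∀ j, (redI I).map (σ j) = σb j)
    (m : ℤ) (g : ∀ j, X j ⟶ fr.C j)
    (hg : ∀ j, m + 1 ≤ j → g j ≫ fr.Phi g dQ j = 0 ∧ (redI I).map (g j) = gb j) :
    ∃ t : X m ⟶ fr.C m, t ≫ fr.Phi g dQ m = 0 ∧ (redI I).map t = gb m := by
  have hΦΦ : ∀ j, m ≤ j → fr.Phi g dQ j ≫ fr.Phi g dQ (j + 1) = 0 := fun j hj =>
    fr.Phi_comp_Phi g dQ j (hg (j + 1) (by omega)).1 (hdQ j)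
  have iso1 : IsIso (uMap (fr.Phi g dQ) σ m) :=
    isIso_uMap hPc fr dQ gb σb hC g σ m (hg (m + 1) le_rfl).2 (hg (m + 1 + 1) (by omega)).2 hσ
      (hσb m)
  have iso2 : IsIso (uMap (fr.Phi g dQ) σ (m + 1)) :=
    isIso_uMap hPc fr dQ gb σb hC g σ (m + 1) (hg (m + 1 + 1) (by omega)).2
      (hg (m + 1 + 1 + 1) (by omega)).2 hσ (hσb (m + 1))
  haveI := hPc.proj _ (hX m)
  obtain ⟨g₀, hg₀⟩ := exists_lift_of_projective (I := I) (gb m)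
  have hy : (g₀ ≫ fr.Phi g dQ m) ≫ fr.Phi g dQ (m + 1) = 0 := by
    rw [Category.assoc, hΦΦ m le_rfl, comp_zero]
  have hGy : (redI I).map (g₀ ≫ fr.Phi g dQ m) = 0 := by
    rw [CategoryTheory.Functor.map_comp, hg₀, map_Phi_eq fr dQ gb g m (hg (m + 1) le_rfl).2, hgb m]
  have key := factor_of_uMap_isIso (fr.Phi g dQ) σ m (hΦΦ m le_rfl) (hΦΦ (m + 1) (by omega))
    (g₀ ≫ fr.Phi g dQ m) hy
  refine ⟨g₀ - (g₀ ≫ fr.Phi g dQ m) ≫ inv (uMap (fr.Phi g dQ) σ m) ≫ σ m, ?_, ?_⟩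
  · rw [Preadditive.sub_comp, key, sub_self]
  · rw [Functor.map_sub, CategoryTheory.Functor.map_comp _ (g₀ ≫ fr.Phi g dQ m), hGy, zero_comp,
      sub_zero, hg₀]

include hPc in
/-- existence of the lifted family -/
theorem exists_lift_family (hdQ : ∀ j, dQ j ≫ dQ (j + 1) = 0) (hC : ∀ j, Pc (fr.C j))
    (hX : ∀ j, Pc (X j))
    (hgb : ∀ j, gb j ≫ Phib fr dQ gb j = 0)
    (hσb : ∀ j, uMap (Phib fr dQ gb) σb j = 𝟙 _)
    (N : ℤ) (hN : ∀ j, N ≤ j → IsZero (X j)) :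
    ∃ g : ∀ j, X j ⟶ fr.C j, (∀ j, g j ≫ fr.Phi g dQ j = 0 ∧ (redI I).map (g j) = gb j) ∧
      ∃ σ : ∀ j, fr.C (j + 1) ⟶ fr.C j, ∀ j, IsIso (uMap (fr.Phi g dQ) σ j) := by
  have hσex : ∀ j, ∃ s : fr.C (j + 1) ⟶ fr.C j, (redI I).map s = σb j := fun j => by
    haveI := hPc.proj _ (hC (j + 1))
    exact exists_lift_of_projective (I := I) (σb j)
  choose σ hσ using hσex
  obtain ⟨g, hg⟩ := exists_family_of_descending_step (T := fun j => X j ⟶ fr.C j)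
    (fun j t t' => t ≫ fr.Phi1 j t' (dQ j) = 0 ∧ (redI I).map t = gb j) N (fun _ => 0)
    (fun j hj => ⟨zero_comp, (Functor.map_isZero (redI I) (hN j hj)).eq_of_src _ _⟩)
    (fun m g hg => step hPc fr dQ gb σb hdQ hC hX hgb hσb σ hσ m g hg)
  refine ⟨g, hg, σ, fun j => ?_⟩
  exact isIso_uMap hPc fr dQ gb σb hC g σ j (hg (j + 1)).2 (hg (j + 1 + 1)).2 hσ (hσb j)

end PcLiftStep

end Groth.Agent.Lib.Helper12
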