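import Mathlib
import Groth.Prelude.Def_DDual2
import Groth.Agent.Lib.Helper12.PcLiftStep
import Groth.Agent.Lib.Helper12.ConeFrameCompare
import Groth.Agent.Lib.Helper12.DerivedBaseChange
import Groth.Agent.Lib.Helper12.DRingFlatCone
import Groth.Agent.Lib.Helper12.FlatExtendScalars
import Groth.Agent.Lib.Helper36.FlatTensorAcyclic

/-!
# Lifting complexes along `R → R/I` (Stacks 15.75.3), complex-level statement
-/

set_option autoImplicit false

open CategoryTheory CategoryTheory.Limits DRing CochainComplex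

namespace Groth.Agent.Lib.Helper12

universe u

variable {R : Type u} [CommRing R]

/-- the standard cone frame on products of modules -/
def stdFrame (X Qx : ℤ → ModuleCat.{u} R) : ConeFrame X Qx where
  C j := ModuleCat.of R (X (j + 1) × Qx j)
  inl j := ModuleCat.ofHom (LinearMap.inl R _ _)
  inr j := ModuleCat.ofHom (LinearMap.inr R _ _)
  fst j := ModuleCat.ofHom (LinearMap.fst R _ _)
  snd j := ModuleCat.ofHom (LinearMap.snd R _ _)
  inl_fst j := by ext x; rfl
  inl_snd j := by ext x; rfl
  inr_fst j := by ext x; rfl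
  inr_snd j := by ext x; rfl
  total j := by
    apply ModuleCat.hom_ext
    apply LinearMap.ext
    intro x
    apply Prod.ext
    · show x.1 + 0 = x.1
      rw [add_zero]
    · show 0 + x.2 = x.2
      rw [zero_add]

variable {I : Ideal R} {Pc : ObjectProperty (ModuleCat.{u} R)}

/-- the cone of a quasi-isomorphism between K-projective complexes is contractible -/
lemma isKProjective_mappingCone {B : Type u} [CommRing B] {E' Qb : Cx B} (β : E' ⟶ Qb)
    [E'.IsKProjective] [Qb.IsKProjective] : (mappingCone β).IsKProjective := by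
  rw [CochainComplex.isKProjective_iff_leftOrthogonal]
  exact (HomotopyCategory.subcategoryAcyclic (ModuleCat.{u} B)).leftOrthogonal.ext_of_isTriangulatedClosed₃ _
    (HomotopyCategory.mappingCone_triangleh_distinguished β)
    (CochainComplex.IsKProjective.leftOrthogonal E') (CochainComplex.IsKProjective.leftOrthogonal Qb)

/-- the cone of a quasi-isomorphism between K-projective complexes is contractible -/
lemma nonempty_homotopy_id_zero_of_quasiIso {B : Type u} [CommRing B] {E' Qb : Cx B} (β : E' ⟶ Qb)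
    [QuasiIso β] [E'.IsKProjective] [Qb.IsKProjective] :
    Nonempty (Homotopy (𝟙 (mappingCone β)) 0) := by
  have := isKProjective_mappingCone β
  have hac : (mappingCone β).Acyclic := fun i => exactAt_mappingCone_of_quasiIso β i
  exact ⟨IsKProjective.homotopyZero _ hac⟩

/-- **Lifting complexes (Stacks 15.75.3)**, complex-level statement. -/
theorem exists_lift_complex (hPc : PcClass I Pc) (Q : Cx R)
    (X : ℤ → ModuleCat.{u} R) (hX : ∀ i, Pc (X i))
    (hC : ∀ j, Pc (ModuleCat.of R (X (j + 1) × Q.X j)))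
    (N : ℤ) (hN : ∀ j, N ≤ j → IsZero (X j))
    (d' : ∀ j, (redI I).obj (X j) ⟶ (redI I).obj (X (j + 1)))
    (sq' : ∀ j, d' j ≫ d' (j + 1) = 0)
    (β : CochainComplex.of (fun j => (redI I).obj (X j)) d' sq' ⟶ bcCx (Ideal.Quotient.mk I) Q)
    (h : Homotopy (𝟙 (mappingCone β)) 0) :
    ∃ (d : ∀ j, X j ⟶ X (j + 1)) (sq : ∀ j, d j ≫ d (j + 1) = 0)
      (f : CochainComplex.of X d sq ⟶ Q), QuasiIso f ∧ ∀ j, (redI I).map (d j) = d' j := by
  let E' : Cx (R ⧸ I) := CochainComplex.of (fun j => (redI I).obj (X j)) d' sq'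
  let Qb : Cx (R ⧸ I) := bcCx (Ideal.Quotient.mk I) Q
  let fr : ConeFrame X Q.X := stdFrame X Q.X
  let frb : ConeFrame E'.X Qb.X := fr.map (redI I)
  obtain ⟨σb, hσb⟩ := ConeFrame.exists_contraction β frb h
  obtain ⟨g, hg, σ, hσ⟩ := PcLiftStep.exists_lift_family hPc fr (ConeFrame.dOf Q)
    (ConeFrame.gOf β frb) σb (ConeFrame.dOf_comp Q) hC hX (ConeFrame.gOf_comp_Phi β frb) hσb N hN
  have hg1 : ∀ j, g j ≫ fr.Phi g (ConeFrame.dOf Q) j = 0 := fun j => (hg j).1
  refine ⟨fr.dA g, fr.dA_comp_dA g hg1, fr.homOf g hg1, ?_, ?_⟩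
  · apply Groth.Agent.Lib.Helper36.FT.quasiIso_of_exactAt_mappingCone
    intro i
    refine ConeFrame.exactAt_mappingCone_of_isIso_uMap (fr.homOf g hg1) (fr.frOf g hg1) σ ?_ i
    intro j
    have : ConeFrame.gOf (fr.homOf g hg1) (fr.frOf g hg1) = g :=
      funext (fun j => fr.gOf_homOf g hg1 j)
    rw [this]
    exact hσ j
  · intro j
    have h2 := (hg j).2
    show (redI I).map (-(g j ≫ fr.fst j)) = d' j
    rw [Functor.map_neg, CategoryTheory.Functor.map_comp, h2]
    show -((-(E'.d j (j + 1) ≫ frb.inl j) + β.f j ≫ frb.inr j) ≫ frb.fst j) = d' j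
    rw [Preadditive.add_comp, Preadditive.neg_comp, Category.assoc, Category.assoc, frb.inl_fst,
      frb.inr_fst, comp_zero, add_zero, neg_neg, Category.comp_id]
    exact CochainComplex.of_d (α := ℤ) _ d' j

end Groth.Agent.Lib.Helper12
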