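import Mathlib
import Groth.Prelude.Def_DDual2
import Groth.Agent.Lib.Helper12.PcLiftMain

/-!
# Lifting complexes along `R → R/I` (Stacks 15.75.3), derived-category statement
-/

set_option autoImplicit false

open CategoryTheory CategoryTheory.Limits DRing CochainComplex

attribute [local instance] HasDerivedCategory.standard

namespace Groth.Agent.Lib.Helper12

universe u

variable {R : Type u} [CommRing R] {I : Ideal R} {Pc : ObjectProperty (ModuleCat.{u} R)}

/-- reduction mod `I` of a projective module is projective -/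
lemma projective_redI_obj (X : ModuleCat.{u} R) [Module.Projective R X] :
    Module.Projective (R ⧸ I) ((redI I).obj X) :=
  Module.Projective.of_equiv (extScObjEquiv (A := R) (B := R ⧸ I) X).symm

/-- **Lifting complexes (Stacks 15.75.3)**: version with explicit terms, and with a possibly
unbounded K-projective representative `Q` of `K` whose reduction is K-projective. -/
theorem exists_lifting_explicit (hPc : PcClass I Pc)
    [DRing.HasLBaseChange (Ideal.Quotient.mk I)]
    (K : Dual.D R) (Q : DRing.Cx R) [Q.IsKProjective]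
    [(bcCx (Ideal.Quotient.mk I) Q).IsKProjective] (eK : DRing.toD Q ≅ K)
    (E : DRing.Cx (R ⧸ I)) (b : ℤ) (hEb : DRing.VanishesAbove E b)
    (X : ℤ → ModuleCat.{u} R) (hX : ∀ i, Pc (X i))
    (hC : ∀ j, Pc (ModuleCat.of R (X (j + 1) × Q.X j)))
    (θ : ∀ i, (redI I).obj (X i) ≅ E.X i)
    (eE : DRing.toD E ≅ (DRing.LBaseChange (Ideal.Quotient.mk I)).obj K) :
    ∃ (d : ∀ j, X j ⟶ X (j + 1)) (sq : ∀ j, d j ≫ d (j + 1) = 0),
      DRing.VanishesAbove (CochainComplex.of X d sq) b ∧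
      Nonempty (DRing.toD (CochainComplex.of X d sq) ≅ K) ∧
      Nonempty ((((ModuleCat.extendScalars.{u, u, u} (Ideal.Quotient.mk I)).mapHomologicalComplex
        (ComplexShape.up ℤ)).obj (CochainComplex.of X d sq)) ≅ E) := by
  let d' : ∀ j, (redI I).obj (X j) ⟶ (redI I).obj (X (j + 1)) := fun j =>
    (θ j).hom ≫ E.d j (j + 1) ≫ (θ (j + 1)).inv
  have sq' : ∀ j, d' j ≫ d' (j + 1) = 0 := fun j => by
    simp only [d', Category.assoc, Iso.inv_hom_id_assoc, HomologicalComplex.d_comp_d_assoc,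
      zero_comp, comp_zero]
  let E' : Cx (R ⧸ I) := CochainComplex.of (fun j => (redI I).obj (X j)) d' sq'
  have hE'd : ∀ j, E'.d j (j + 1) = d' j := fun j => CochainComplex.of_d (α := ℤ) _ d' j
  let eE' : E' ≅ E := HomologicalComplex.Hom.isoOfComponents θ (by
    intro i j hij
    obtain rfl : i + 1 = j := hij
    rw [hE'd]
    simp only [d', Category.assoc, Iso.inv_hom_id, Category.comp_id])
  -- vanishing
  have hXzero : ∀ j, b + 1 ≤ j → IsZero (X j) := fun j hj =>
    hPc.isZero_of_isZero_map (hX j) ((hEb j (by omega)).of_iso (θ j))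
  -- K-projectivity
  have hE'b : VanishesAbove E' b := fun j hj =>
    Functor.map_isZero (redI I) (hXzero j (by omega))
  have hprojX : ∀ j, Module.Projective (R ⧸ I) (E'.X j) := fun j => by
    have := hPc.proj _ (hX j)
    exact projective_redI_obj (X j)
  have : E'.IsKProjective := isKProjective_of_vanishesAbove E' b hE'b hprojX
  -- the comparison map
  let α : toD E' ≅ toD (bcCx (Ideal.Quotient.mk I) Q) :=
    DerivedCategory.Q.mapIso eE' ≪≫ eE ≪≫
      (DRing.LBaseChange (Ideal.Quotient.mk I)).mapIso eK.symm ≪≫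
      LBaseChangeIso (Ideal.Quotient.mk I) Q
  obtain ⟨β, hβ⟩ := exists_map_of_isKProjective E' (bcCx (Ideal.Quotient.mk I) Q) α.hom
  have : QuasiIso β := by
    rw [← DerivedCategory.isIso_Q_map_iff_quasiIso, hβ]
    infer_instance
  obtain ⟨h⟩ := nonempty_homotopy_id_zero_of_quasiIso β
  obtain ⟨d, sq, f, hf, hd⟩ := exists_lift_complex hPc Q X hX hC (b + 1) hXzero d' sq' β h
  refine ⟨d, sq, fun j hj => hXzero j (by omega), ?_, ?_⟩
  · have : IsIso (DerivedCategory.Q.map f) :=
      (DerivedCategory.isIso_Q_map_iff_quasiIso _ f).mpr hf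
    exact ⟨asIso (DerivedCategory.Q.map f) ≪≫ eK⟩
  · refine ⟨HomologicalComplex.Hom.isoOfComponents θ ?_⟩
    intro i j hij
    obtain rfl : i + 1 = j := hij
    have h1 : (CochainComplex.of X d sq).d i (i + 1) = d i := CochainComplex.of_d (α := ℤ) X d i
    have h2 : (redI I).map ((CochainComplex.of X d sq).d i (i + 1)) = d' i := by
      rw [h1, hd]
    have h3 : (θ i).hom ≫ E.d i (i + 1) = d' i ≫ (θ (i + 1)).hom := by
      simp only [d', Category.assoc, Iso.inv_hom_id, Category.comp_id]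
    exact h3.trans (congrArg (· ≫ (θ (i + 1)).hom) h2.symm)

/-- **Lifting complexes (Stacks 15.75.3)**, explicit terms, `K` represented by a bounded above
complex with terms in `Pc`. -/
theorem exists_lifting_explicit_of_bounded (hPc : PcClass I Pc)
    (hsum : ∀ X Y : ModuleCat.{u} R, Pc X → Pc Y → Pc (ModuleCat.of R (X × Y)))
    [DRing.HasLBaseChange (Ideal.Quotient.mk I)]
    (K : Dual.D R) (hK : ∃ (Q : DRing.Cx R) (c : ℤ), DRing.VanishesAbove Q c ∧
      (∀ i : ℤ, Pc (Q.X i)) ∧ Nonempty (DRing.toD Q ≅ K))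
    (E : DRing.Cx (R ⧸ I)) (b : ℤ) (hEb : DRing.VanishesAbove E b)
    (X : ℤ → ModuleCat.{u} R) (hX : ∀ i, Pc (X i))
    (θ : ∀ i, (redI I).obj (X i) ≅ E.X i)
    (hE : Nonempty (DRing.toD E ≅ (DRing.LBaseChange (Ideal.Quotient.mk I)).obj K)) :
    ∃ (d : ∀ j, X j ⟶ X (j + 1)) (sq : ∀ j, d j ≫ d (j + 1) = 0),
      DRing.VanishesAbove (CochainComplex.of X d sq) b ∧
      Nonempty (DRing.toD (CochainComplex.of X d sq) ≅ K) ∧
      Nonempty ((((ModuleCat.extendScalars.{u, u, u} (Ideal.Quotient.mk I)).mapHomologicalComplex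
        (ComplexShape.up ℤ)).obj (CochainComplex.of X d sq)) ≅ E) := by
  obtain ⟨Q, c, hQc, hQ, ⟨eK⟩⟩ := hK
  obtain ⟨eE⟩ := hE
  have hQproj : ∀ i, Module.Projective R (Q.X i) := fun i => hPc.proj _ (hQ i)
  have : Q.IsKProjective := isKProjective_of_vanishesAbove Q c hQc hQproj
  have hQbb : VanishesAbove (bcCx (Ideal.Quotient.mk I) Q) c := fun j hj =>
    Functor.map_isZero (redI I) (hQc j hj)
  have hprojQ : ∀ j, Module.Projective (R ⧸ I) ((bcCx (Ideal.Quotient.mk I) Q).X j) := fun j => by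
    have := hQproj j
    exact projective_redI_obj (Q.X j)
  have : (bcCx (Ideal.Quotient.mk I) Q).IsKProjective :=
    isKProjective_of_vanishesAbove _ c hQbb hprojQ
  exact exists_lifting_explicit hPc K Q eK E b hEb X hX
    (fun j => hsum _ _ (hX (j + 1)) (hQ j)) θ eE

/-- **Lifting complexes (Stacks 15.75.3)**. -/
theorem exists_representative_lifting_of_pcClass (hPc : PcClass I Pc)
    (hsum : ∀ X Y : ModuleCat.{u} R, Pc X → Pc Y → Pc (ModuleCat.of R (X × Y)))
    [DRing.HasLBaseChange (Ideal.Quotient.mk I)]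
    (K : Dual.D R) (hK : ∃ (Q : DRing.Cx R) (c : ℤ), DRing.VanishesAbove Q c ∧
      (∀ i : ℤ, Pc (Q.X i)) ∧ Nonempty (DRing.toD Q ≅ K))
    (E : DRing.Cx (R ⧸ I)) (b : ℤ) (hEb : DRing.VanishesAbove E b)
    (hEt : ∀ i : ℤ, ∃ X : ModuleCat.{u} R, Pc X ∧ Nonempty ((redI I).obj X ≅ E.X i))
    (hE : Nonempty (DRing.toD E ≅ (DRing.LBaseChange (Ideal.Quotient.mk I)).obj K)) :
    ∃ (P : DRing.Cx R) (b' : ℤ), DRing.VanishesAbove P b' ∧ (∀ i : ℤ, Pc (P.X i)) ∧
      Nonempty (DRing.toD P ≅ K) ∧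
      Nonempty ((((ModuleCat.extendScalars.{u, u, u} (Ideal.Quotient.mk I)).mapHomologicalComplex
        (ComplexShape.up ℤ)).obj P) ≅ E) := by
  choose X hX hθ using hEt
  obtain ⟨d, sq, hb, h1, h2⟩ := exists_lifting_explicit_of_bounded hPc hsum K hK E b hEb X hX
    (fun i => (hθ i).some) hE
  exact ⟨CochainComplex.of X d sq, b, hb, hX, h1, h2⟩

end Groth.Agent.Lib.Helper12
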