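import Mathlib
import Groth.Prelude.Def_DDual2
import Groth.Agent.Lib.Helper12.PcLift
import Groth.Agent.Lib.Helper12.FlatExtendScalars

/-!
# Lifting finite free and finite stably free modules along `R → R/I`, `I ⊆ rad R`
-/

set_option autoImplicit false

open CategoryTheory CategoryTheory.Limits

namespace Groth.Agent.Lib.Helper12

universe u

variable {R : Type u} [CommRing R] {I : Ideal R}

/-- reduction of a finite free module -/
noncomputable def redIPiIso (I : Ideal R) (ι : Type u) [Fintype ι] [DecidableEq ι] :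
    (redI I).obj (ModuleCat.of R (ι → R)) ≅ ModuleCat.of (R ⧸ I) (ι → R ⧸ I) :=
  ((extScObjEquiv (A := R) (B := R ⧸ I) (ι → R)).trans
    (TensorProduct.piScalarRight R (R ⧸ I) (R ⧸ I) ι)).toModuleIso

/-- finite free modules lift -/
theorem exists_free_lift (Eb : ModuleCat.{u} (R ⧸ I)) [Module.Finite (R ⧸ I) Eb]
    [Module.Free (R ⧸ I) Eb] :
    ∃ X : ModuleCat.{u} R, Module.Finite R X ∧ Module.Free R X ∧
      Nonempty ((redI I).obj X ≅ Eb) := by
  classical
  let ι := Module.Free.ChooseBasisIndex (R ⧸ I) Eb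
  let bas := Module.Free.chooseBasis (R ⧸ I) Eb
  refine ⟨ModuleCat.of R (ι → R), ?_, ?_, ⟨redIPiIso I ι ≪≫ (bas.equivFun.symm).toModuleIso⟩⟩
  · show Module.Finite R (ι → R)
    infer_instance
  · show Module.Free R (ι → R)
    infer_instance

/-- complements lift: given a decomposition of `F/IF` one of whose summands is `N/IN`, we can lift
the decomposition. -/
theorem exists_complement_lift (hI : I ≤ Ideal.jacobson ⊥) (F N : ModuleCat.{u} R)
    [Module.Finite R N] [Module.Projective R N] [Module.Projective R F]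
    (Eb : ModuleCat.{u} (R ⧸ I)) (ιA : Eb ⟶ (redI I).obj F) (πA : (redI I).obj F ⟶ Eb)
    (jb : (redI I).obj N ⟶ (redI I).obj F) (ρb : (redI I).obj F ⟶ (redI I).obj N)
    (h1 : ιA ≫ πA = 𝟙 _) (h2 : jb ≫ ρb = 𝟙 _) (h3 : jb ≫ πA = 0)
    (h4 : πA ≫ ιA + ρb ≫ jb = 𝟙 _) :
    ∃ X : ModuleCat.{u} R, Nonempty ((X × N) ≃ₗ[R] F) ∧ Nonempty ((redI I).obj X ≅ Eb) := by
  obtain ⟨j, hj⟩ := exists_lift_of_projective (I := I) (M := N) (N := F) jb
  obtain ⟨ρ, hρ⟩ := exists_retraction_of_extendScalars_map hI j ρb (by rw [hj, h2])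
  have hρ' : ∀ n : N, ρ.hom (j.hom n) = n := fun n => congrArg (fun t : N ⟶ N => t.hom n) hρ
  -- the complement
  let K : Submodule R F := LinearMap.ker ρ.hom
  let X : ModuleCat.{u} R := ModuleCat.of R K
  let ιX : X ⟶ F := ModuleCat.ofHom K.subtype
  let πX : F ⟶ X := ModuleCat.ofHom (LinearMap.codRestrict K (LinearMap.id - j.hom ∘ₗ ρ.hom)
    (fun x => by
      show ρ.hom (x - j.hom (ρ.hom x)) = 0
      rw [map_sub, hρ', sub_self]))
  have hιπ : ιX ≫ πX = 𝟙 X := by
    refine ModuleCat.hom_ext (LinearMap.ext fun x => ?_)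
    apply Subtype.ext
    show (x : F) - j.hom (ρ.hom (x : F)) = x
    rw [show ρ.hom (x : F) = 0 from x.2, map_zero, sub_zero]
  have hjπ : j ≫ πX = 0 := by
    refine ModuleCat.hom_ext (LinearMap.ext fun n => ?_)
    apply Subtype.ext
    show j.hom n - j.hom (ρ.hom (j.hom n)) = 0
    rw [hρ', sub_self]
  have hπι : πX ≫ ιX = 𝟙 F - ρ ≫ j := by
    refine ModuleCat.hom_ext (LinearMap.ext fun x => ?_)
    rfl
  refine ⟨X, ⟨?_⟩, ⟨⟨(redI I).map ιX ≫ πA, ιA ≫ (redI I).map πX, ?_, ?_⟩⟩⟩
  · refine LinearEquiv.ofLinearMap (K.subtype.coprod j.hom) (LinearMap.prod πX.hom ρ.hom) ?_ ?_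
    · refine LinearMap.ext fun y => ?_
      show (y - j.hom (ρ.hom y)) + j.hom (ρ.hom y) = y
      abel
    · refine LinearMap.ext fun xn => ?_
      obtain ⟨x, n⟩ := xn
      have hx : ρ.hom (x : F) = 0 := x.2
      refine Prod.ext ?_ ?_
      · apply Subtype.ext
        show ((x : F) + j.hom n) - j.hom (ρ.hom ((x : F) + j.hom n)) = x
        rw [map_add, hx, hρ', zero_add]
        abel
      · show ρ.hom ((x : F) + j.hom n) = n
        rw [map_add, hx, hρ', zero_add]
  · -- φ ≫ ψ = 1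
    have hπA : πA ≫ ιA = 𝟙 _ - ρb ≫ jb := eq_sub_of_add_eq h4
    rw [Category.assoc, ← Category.assoc πA, hπA, Preadditive.sub_comp, Preadditive.comp_sub,
      Category.id_comp, ← CategoryTheory.Functor.map_comp, hιπ, CategoryTheory.Functor.map_id,
      Category.assoc, ← hj, ← CategoryTheory.Functor.map_comp, hjπ, Functor.map_zero, comp_zero,
      comp_zero, sub_zero]
  · -- ψ ≫ φ = 1
    rw [Category.assoc, ← Category.assoc ((redI I).map πX), ← CategoryTheory.Functor.map_comp, hπι,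
      Functor.map_sub, CategoryTheory.Functor.map_id, CategoryTheory.Functor.map_comp,
      Preadditive.sub_comp, Preadditive.comp_sub, Category.id_comp, h1, Category.assoc, hj, h3,
      comp_zero, comp_zero, sub_zero]

/-- finite stably free modules lift along `R → R/I` for `I ⊆ rad R` -/
theorem exists_stablyFree_lift (hI : I ≤ Ideal.jacobson ⊥) (Eb : ModuleCat.{u} (R ⧸ I))
    [Module.Finite (R ⧸ I) Eb] [Module.IsStablyFree (R ⧸ I) Eb] :
    ∃ X : ModuleCat.{u} R, Module.Finite R X ∧ Module.IsStablyFree R X ∧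
      Nonempty ((redI I).obj X ≅ Eb) := by
  classical
  obtain ⟨Nb, _, _, _, _, hfree⟩ := Module.IsStablyFree.exist_free_prod (R ⧸ I) Eb
  let ι := Module.Free.ChooseBasisIndex (R ⧸ I) (Eb × Nb)
  let κ := Module.Free.ChooseBasisIndex (R ⧸ I) Nb
  let basF := Module.Free.chooseBasis (R ⧸ I) (Eb × Nb)
  let basN := Module.Free.chooseBasis (R ⧸ I) Nb
  let F : ModuleCat.{u} R := ModuleCat.of R (ι → R)
  let N : ModuleCat.{u} R := ModuleCat.of R (κ → R)
  let aF : (redI I).obj F ≅ ModuleCat.of (R ⧸ I) (Eb × Nb) :=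
    redIPiIso I ι ≪≫ (basF.equivFun.symm).toModuleIso
  let aN : (redI I).obj N ≅ ModuleCat.of (R ⧸ I) Nb :=
    redIPiIso I κ ≪≫ (basN.equivFun.symm).toModuleIso
  let inlE : Eb ⟶ ModuleCat.of (R ⧸ I) (Eb × Nb) := ModuleCat.ofHom (LinearMap.inl _ _ _)
  let inrN : ModuleCat.of (R ⧸ I) Nb ⟶ ModuleCat.of (R ⧸ I) (Eb × Nb) :=
    ModuleCat.ofHom (LinearMap.inr _ _ _)
  let fstE : ModuleCat.of (R ⧸ I) (Eb × Nb) ⟶ Eb := ModuleCat.ofHom (LinearMap.fst _ _ _)
  let sndN : ModuleCat.of (R ⧸ I) (Eb × Nb) ⟶ ModuleCat.of (R ⧸ I) Nb :=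
    ModuleCat.ofHom (LinearMap.snd _ _ _)
  have e1 : inlE ≫ fstE = 𝟙 _ := ModuleCat.hom_ext (LinearMap.ext fun _ => rfl)
  have e2 : inrN ≫ sndN = 𝟙 _ := ModuleCat.hom_ext (LinearMap.ext fun _ => rfl)
  have e3 : inrN ≫ fstE = 0 := ModuleCat.hom_ext (LinearMap.ext fun _ => rfl)
  have e4 : fstE ≫ inlE + sndN ≫ inrN = 𝟙 _ := by
    refine ModuleCat.hom_ext (LinearMap.ext fun x => ?_)
    apply Prod.ext
    · show x.1 + 0 = x.1
      rw [add_zero]
    · show 0 + x.2 = x.2
      rw [zero_add]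
  have : Module.Finite R N := by
    show Module.Finite R (κ → R)
    infer_instance
  have : Module.Projective R N := by
    show Module.Projective R (κ → R)
    infer_instance
  have : Module.Projective R F := by
    show Module.Projective R (ι → R)
    infer_instance
  obtain ⟨X, ⟨e⟩, ⟨θ⟩⟩ := exists_complement_lift hI F N Eb (inlE ≫ aF.inv) (aF.hom ≫ fstE)
    (aN.hom ≫ inrN ≫ aF.inv) (aF.hom ≫ sndN ≫ aN.inv)
    (by rw [Category.assoc, Iso.inv_hom_id_assoc, e1])
    (by simp only [Category.assoc, Iso.inv_hom_id_assoc]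
        rw [← Category.assoc inrN, e2, Category.id_comp, Iso.hom_inv_id])
    (by simp only [Category.assoc, Iso.inv_hom_id_assoc]
        rw [e3, comp_zero])
    (by
      have : aF.hom ≫ (fstE ≫ inlE + sndN ≫ inrN) ≫ aF.inv = 𝟙 _ := by
        rw [e4, Category.id_comp, Iso.hom_inv_id]
      simp only [Category.assoc, Iso.inv_hom_id_assoc]
      simpa only [Preadditive.add_comp, Preadditive.comp_add, Category.assoc] using this)
  refine ⟨X, ?_, ?_, ⟨θ⟩⟩
  · have : Module.Finite R F := by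
      show Module.Finite R (ι → R)
      infer_instance
    exact Module.Finite.of_surjective ((LinearMap.fst R X N).comp e.symm.toLinearMap)
      ((LinearMap.fst_surjective (R := R) (M := X) (M₂ := N)).comp e.symm.surjective)
  · have h1 : Module.Finite R (κ → R) := inferInstance
    have h2 : Module.Free R (κ → R) := inferInstance
    have h3 : Module.Free R (X × (κ → R)) := by
      have : Module.Free R (ι → R) := inferInstance
      exact Module.Free.of_equiv e.symm
    exact Module.IsStablyFree.of_free_prod R X (κ → R)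

/-- the class of finite stably free modules -/
def stablyFreeP (R : Type u) [CommRing R] : ObjectProperty (ModuleCat.{u} R) :=
  fun X => Module.Finite R X ∧ Module.IsStablyFree R X

lemma stablyFreeP_prod (X Y : ModuleCat.{u} R) (hX : stablyFreeP R X) (hY : stablyFreeP R Y) :
    stablyFreeP R (ModuleCat.of R (X × Y)) := by
  obtain ⟨hXf, hXs⟩ := hX
  obtain ⟨hYf, hYs⟩ := hY
  refine ⟨?_, ?_⟩
  · show Module.Finite R (X × Y)
    infer_instance
  · obtain ⟨N₁, _, _, _, _, hf₁⟩ := Module.IsStablyFree.exist_free_prod R X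
    obtain ⟨N₂, _, _, _, _, hf₂⟩ := Module.IsStablyFree.exist_free_prod R Y
    let e : ((X × Y) × (N₁ × N₂)) ≃ₗ[R] ((X × N₁) × (Y × N₂)) := LinearEquiv.prodProdProdComm R X Y N₁ N₂
    have : Module.Free R ((X × Y) × (N₁ × N₂)) := Module.Free.of_equiv e.symm
    show Module.IsStablyFree R (X × Y)
    exact Module.IsStablyFree.of_free_prod R (X × Y) (N₁ × N₂)

/-- for `I ⊆ rad R`, the class of finite stably free modules satisfies the hypotheses of the
lifting lemma -/
lemma pcClass_stablyFree_of_le_jacobson (hI : I ≤ Ideal.jacobson ⊥) :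
    PcClass I (stablyFreeP R) where
  iso e h := by
    obtain ⟨h1, h2⟩ := h
    exact ⟨Module.Finite.equiv e.toLinearEquiv, Module.IsStablyFree.equiv e.toLinearEquiv⟩
  proj X h := by
    obtain ⟨h1, h2⟩ := h
    infer_instance
  sum X Y hX hXY := by
    obtain ⟨hXf, hXs⟩ := hX
    obtain ⟨hXYf, hXYs⟩ := hXY
    have hXYf' : Module.Finite R (X × Y) := hXYf
    have hXYs' : Module.IsStablyFree R (X × Y) := hXYs
    refine ⟨Module.Finite.of_surjective (LinearMap.snd R X Y) LinearMap.snd_surjective, ?_⟩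
    obtain ⟨N₁, _, _, _, _, hf₁⟩ := Module.IsStablyFree.exist_free_prod R X
    obtain ⟨N₂, _, _, _, _, hf₂⟩ := Module.IsStablyFree.exist_free_prod R (X × Y)
    -- `Y × ((X × N₁) × N₂) ≃ ((X × Y) × N₂) × N₁`
    let e : (Y × ((X × N₁) × N₂)) ≃ₗ[R] (((X × Y) × N₂) × N₁) :=
      { toFun := fun t => (((t.2.1.1, t.1), t.2.2), t.2.1.2)
        invFun := fun t => (t.1.1.2, ((t.1.1.1, t.2), t.1.2))
        left_inv := fun _ => rfl
        right_inv := fun _ => rfl
        map_add' := fun _ _ => rfl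
        map_smul' := fun _ _ => rfl }
    have : Module.Free R (Y × ((X × N₁) × N₂)) := Module.Free.of_equiv e.symm
    exact Module.IsStablyFree.of_free_prod R Y ((X × N₁) × N₂)
  surj X Y f hX hY h := by
    obtain ⟨hYf, -⟩ := hY
    rw [← LinearMap.range_eq_top, eq_top_iff]
    exact Submodule.le_of_le_smul_of_le_jacobson_bot (Module.Finite.fg_top) hI h.ge

end Groth.Agent.Lib.Helper12
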