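import Mathlib
import Groth.Prelude.Def_DDual2

/-!
# Complexes with zero differentials
-/

set_option autoImplicit false

open CategoryTheory CategoryTheory.Limits

namespace Groth.Agent.Lib.Helper12

universe u v

section Field

variable {k : Type u} [Field k] (C : CochainComplex (ModuleCat.{u} k) ℤ)

/-- if the cohomology of a complex of finite dimensional vector spaces has the same dimension as
the term, then the outgoing differential vanishes -/
lemma d_eq_zero_of_finrank_homology_eq (i : ℤ) [Module.Finite k (C.X i)]
    (h : Module.finrank k (C.homology i) = Module.finrank k (C.X i)) : C.d i (i + 1) = 0 := by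
  have hinj : Function.Injective (C.iCycles i).hom :=
    (ModuleCat.mono_iff_injective _).mp inferInstance
  have hsurj : Function.Surjective (C.homologyπ i).hom :=
    (ModuleCat.epi_iff_surjective _).mp inferInstance
  have : Module.Finite k (C.cycles i) := Module.Finite.of_injective (C.iCycles i).hom hinj
  have h1 : Module.finrank k (C.homology i) ≤ Module.finrank k (C.cycles i) :=
    LinearMap.finrank_le_finrank_of_surjective hsurj
  have h2 : Module.finrank k (C.cycles i) ≤ Module.finrank k (C.X i) :=
    LinearMap.finrank_le_finrank_of_injective hinj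
  have h3 : Module.finrank k (C.cycles i) = Module.finrank k (C.X i) := by omega
  have hs : Function.Surjective (C.iCycles i).hom :=
    (LinearMap.injective_iff_surjective_of_finrank_eq_finrank h3).mp hinj
  have : Epi (C.iCycles i) := (ModuleCat.epi_iff_surjective _).mpr hs
  exact (cancel_epi (C.iCycles i)).mp (by rw [HomologicalComplex.iCycles_d, comp_zero])

/-- cohomology of a complex of finite dimensional vector spaces is finite dimensional -/
lemma finite_homology (i : ℤ) [Module.Finite k (C.X i)] : Module.Finite k (C.homology i) := by
  have hinj : Function.Injective (C.iCycles i).hom :=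
    (ModuleCat.mono_iff_injective _).mp inferInstance
  have hsurj : Function.Surjective (C.homologyπ i).hom :=
    (ModuleCat.epi_iff_surjective _).mp inferInstance
  have : Module.Finite k (C.cycles i) := Module.Finite.of_injective (C.iCycles i).hom hinj
  exact Module.Finite.of_surjective (C.homologyπ i).hom hsurj

end Field

section Abelian

variable {V : Type u} [Category.{v} V] [Abelian V] {C D : CochainComplex V ℤ} (f : C ⟶ D)

/-- a quasi-isomorphism between complexes with zero differentials is a termwise isomorphism -/
lemma isIso_f_of_quasiIsoAt_of_d_eq_zero (i : ℤ) [QuasiIsoAt f i] (hC : ∀ a b, C.d a b = 0)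
    (hD : ∀ a b, D.d a b = 0) : IsIso (f.f i) := by
  have h := (quasiIsoAt_iff f i).mp inferInstance
  have hf₁ : (C.sc i).f = 0 := hC _ _
  have hg₁ : (C.sc i).g = 0 := hC _ _
  have hf₂ : (D.sc i).f = 0 := hD _ _
  have hg₂ : (D.sc i).g = 0 := hD _ _
  rw [ShortComplex.quasiIso_iff_isIso_leftHomologyMap' _
    (ShortComplex.LeftHomologyData.ofZeros _ hf₁ hg₁)
    (ShortComplex.LeftHomologyData.ofZeros _ hf₂ hg₂)] at h
  rw [(ShortComplex.LeftHomologyMapData.ofZeros
    ((HomologicalComplex.shortComplexFunctor V (ComplexShape.up ℤ) i).map f)
      hf₁ hg₁ hf₂ hg₂).leftHomologyMap'_eq] at h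
  exact h

end Abelian

end Groth.Agent.Lib.Helper12
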