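import Mathlib
import Groth.Prelude.Def_DDual2
import Groth.Agent.Lib.Helper12.PcLiftDerived
import Groth.Agent.Lib.Helper12.StablyFreeLift
import Groth.Agent.Lib.Helper12.FieldHomologyCx
import Groth.Agent.Lib.Helper12.ZeroDiffCx
import Groth.Agent.Lib.Helper36.FlatTensorAcyclic

/-!
# Minimal complexes over a local ring (Stacks 15.75.7?)
-/

set_option autoImplicit false

open CategoryTheory CategoryTheory.Limits DRing IsLocalRing

attribute [local instance] HasDerivedCategory.standard

namespace Groth.Agent.Lib.Helper12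

universe u

section Class

variable (R : Type u) [CommRing R]

/-- the class of finite free modules -/
def finiteFreeP : ObjectProperty (ModuleCat.{u} R) :=
  fun X => Module.Finite R X ∧ Module.Free R X

variable {R}

lemma finiteFreeP_prod (X Y : ModuleCat.{u} R) (hX : finiteFreeP R X) (hY : finiteFreeP R Y) :
    finiteFreeP R (ModuleCat.of R (X × Y)) := by
  obtain ⟨hXf, hXs⟩ := hX
  obtain ⟨hYf, hYs⟩ := hY
  exact ⟨(inferInstance : Module.Finite R (X × Y)), (inferInstance : Module.Free R (X × Y))⟩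

variable [IsLocalRing R]

lemma maximalIdeal_le_jacobson_bot : maximalIdeal R ≤ Ideal.jacobson ⊥ := by
  rw [IsLocalRing.jacobson_eq_maximalIdeal ⊥ bot_ne_top]

lemma pcClass_finiteFree_local : PcClass (maximalIdeal R) (finiteFreeP R) where
  iso e h := by
    obtain ⟨h1, h2⟩ := h
    exact ⟨Module.Finite.equiv e.toLinearEquiv, Module.Free.of_equiv e.toLinearEquiv⟩
  proj X h := by
    obtain ⟨h1, h2⟩ := h
    infer_instance
  sum X Y hX hXY := by
    obtain ⟨hXf, hXs⟩ := hX
    obtain ⟨hXYf, hXYs⟩ := hXY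
    have hXYf' : Module.Finite R (X × Y) := hXYf
    have hXYs' : Module.Free R (X × Y) := hXYs
    have hYf : Module.Finite R Y :=
      Module.Finite.of_surjective (LinearMap.snd R X Y) LinearMap.snd_surjective
    have hXYp : Module.Projective R (X × Y) := Module.Projective.of_free
    have hYp : Module.Projective R Y :=
      Module.Projective.of_split (LinearMap.inr R X Y) (LinearMap.snd R X Y)
        (LinearMap.ext fun _ => rfl)
    have hYfl : Module.Flat R Y := Module.Flat.of_projective
    exact ⟨hYf, Module.free_of_flat_of_isLocalRing⟩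
  surj X Y f hX hY h := by
    obtain ⟨hYf, -⟩ := hY
    rw [← LinearMap.range_eq_top, eq_top_iff]
    exact Submodule.le_of_le_smul_of_le_jacobson_bot (Module.Finite.fg_top)
      maximalIdeal_le_jacobson_bot h.ge

end Class

section Main

variable {R : Type u} [CommRing R] [IsLocalRing R]


lemma finrank_redI_obj (X : ModuleCat.{u} R) [Module.Free R X] [Module.Finite R X] :
    Module.finrank (R ⧸ maximalIdeal R) ((redI (maximalIdeal R)).obj X) = Module.finrank R X := by
  let _ : Field (R ⧸ maximalIdeal R) := Ideal.Quotient.field _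
  exact (LinearEquiv.finrank_eq (extScObjEquiv (A := R) (B := (R ⧸ maximalIdeal R)) X)).trans
    Module.finrank_baseChange

lemma finite_redI_obj (X : ModuleCat.{u} R) [Module.Finite R X] :
    Module.Finite (R ⧸ maximalIdeal R) ((redI (maximalIdeal R)).obj X) :=
  Module.Finite.equiv (extScObjEquiv (A := R) (B := (R ⧸ maximalIdeal R)) X).symm

variable [HasLBaseChange (Ideal.Quotient.mk (maximalIdeal R))]

/-- the comparison of cohomology -/
noncomputable def hdEquiv (K : Dual.D R) (P : Cx R) [P.IsKProjective] (eP : toD P ≅ K) (i : ℤ) :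
    Dual.HD (R ⧸ maximalIdeal R) ((LBaseChange (Ideal.Quotient.mk (maximalIdeal R))).obj K) i ≃ₗ[(R ⧸ maximalIdeal R)] (bcCx (Ideal.Quotient.mk (maximalIdeal R)) P).homology i :=
  ((DerivedCategory.homologyFunctor _ i).mapIso
      ((LBaseChange (Ideal.Quotient.mk (maximalIdeal R))).mapIso eP.symm ≪≫ LBaseChangeIso (Ideal.Quotient.mk (maximalIdeal R)) P) ≪≫
    (DerivedCategory.homologyFunctorFactors _ i).app (bcCx (Ideal.Quotient.mk (maximalIdeal R)) P)).toLinearEquiv

omit [IsLocalRing R] [HasLBaseChange (Ideal.Quotient.mk (maximalIdeal R))] in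
/-- bounded above complexes of finite free modules are K-projective -/
lemma isKProjective_of_finiteFree (P : Cx R) (b : ℤ) (hb : VanishesAbove P b)
    (hP : ∀ i, Module.Free R (P.X i) ∧ Module.Finite R (P.X i)) : P.IsKProjective :=
  isKProjective_of_vanishesAbove P b hb (fun i => by
    have := (hP i).1
    infer_instance)

theorem finite_HD_of_isPseudoCoherent (K : Dual.D R) (hK : IsPseudoCoherent' R K) :
    (∀ i : ℤ, Module.Finite (R ⧸ maximalIdeal R) (Dual.HD (R ⧸ maximalIdeal R) ((LBaseChange (Ideal.Quotient.mk (maximalIdeal R))).obj K) i)) ∧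
      ∃ b : ℤ, ∀ i : ℤ, b < i → Subsingleton (Dual.HD (R ⧸ maximalIdeal R) ((LBaseChange (Ideal.Quotient.mk (maximalIdeal R))).obj K) i) := by
  let _ : Field (R ⧸ maximalIdeal R) := Ideal.Quotient.field _
  obtain ⟨Q, c, hQc, hQf, ⟨eK⟩⟩ := hK
  have := isKProjective_of_finiteFree Q c hQc (fun i => ⟨(hQf i).2, (hQf i).1⟩)
  refine ⟨fun i => ?_, c, fun i hi => ?_⟩
  · have : Module.Finite (R ⧸ maximalIdeal R) ((bcCx (Ideal.Quotient.mk (maximalIdeal R)) Q).X i) := by
      have := (hQf i).1
      exact finite_redI_obj (Q.X i)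
    have := finite_homology (bcCx (Ideal.Quotient.mk (maximalIdeal R)) Q) i
    exact Module.Finite.equiv (hdEquiv K Q eK i).symm
  · have hz : IsZero ((bcCx (Ideal.Quotient.mk (maximalIdeal R)) Q).X i) := Functor.map_isZero (redI (maximalIdeal R)) (hQc i hi)
    have hex : (bcCx (Ideal.Quotient.mk (maximalIdeal R)) Q).ExactAt i := by
      rw [HomologicalComplex.exactAt_iff]
      exact ShortComplex.exact_of_isZero_X₂ _ hz
    have hz' : IsZero ((bcCx (Ideal.Quotient.mk (maximalIdeal R)) Q).homology i) :=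
      (HomologicalComplex.exactAt_iff_isZero_homology _ _).mp hex
    have : Subsingleton ((bcCx (Ideal.Quotient.mk (maximalIdeal R)) Q).homology i) := ModuleCat.subsingleton_of_isZero hz'
    exact (hdEquiv K Q eK i).toEquiv.subsingleton

theorem exists_minimal (K : Dual.D R) (hK : IsPseudoCoherent' R K) :
    ∃ P : Cx R, (∃ b : ℤ, VanishesAbove P b) ∧
      (∀ i : ℤ, Module.Free R (P.X i) ∧ Module.Finite R (P.X i) ∧
        Module.finrank R (P.X i) = Module.finrank (R ⧸ maximalIdeal R)
          (Dual.HD (R ⧸ maximalIdeal R) ((LBaseChange (Ideal.Quotient.mk (maximalIdeal R))).obj K) i)) ∧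
      Nonempty (toD P ≅ K) := by
  let _ : Field (R ⧸ maximalIdeal R) := Ideal.Quotient.field _
  have hK' := hK
  obtain ⟨Q, c, hQc, hQf, ⟨eK⟩⟩ := hK
  have := isKProjective_of_finiteFree Q c hQc (fun i => ⟨(hQf i).2, (hQf i).1⟩)
  have hproj : ∀ M : ModuleCat.{u} (R ⧸ maximalIdeal R), Projective M := fun M => by
    have : Module.Free (R ⧸ maximalIdeal R) M := Module.Free.of_divisionRing _ _
    have : Module.Projective (R ⧸ maximalIdeal R) M := Module.Projective.of_free
    exact (IsProjective.iff_projective M).mp this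
  have hs : QuasiIso (homologyCxMap hproj (bcCx (Ideal.Quotient.mk (maximalIdeal R)) Q)) :=
    quasiIso_homologyCxMap hproj _
  have hQbfin : ∀ i, Module.Finite (R ⧸ maximalIdeal R)
      ((bcCx (Ideal.Quotient.mk (maximalIdeal R)) Q).X i) := fun i => by
    have := (hQf i).1
    exact finite_redI_obj (Q.X i)
  have hEfin : ∀ i, Module.Finite (R ⧸ maximalIdeal R)
      ((homologyCx (bcCx (Ideal.Quotient.mk (maximalIdeal R)) Q)).X i) := fun i => by
    have := hQbfin i
    exact finite_homology (bcCx (Ideal.Quotient.mk (maximalIdeal R)) Q) i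
  have hEb : VanishesAbove (homologyCx (bcCx (Ideal.Quotient.mk (maximalIdeal R)) Q)) c := by
    intro i hi
    have hz : IsZero ((bcCx (Ideal.Quotient.mk (maximalIdeal R)) Q).X i) :=
      Functor.map_isZero (redI (maximalIdeal R)) (hQc i hi)
    have hex : (bcCx (Ideal.Quotient.mk (maximalIdeal R)) Q).ExactAt i := by
      rw [HomologicalComplex.exactAt_iff]
      exact ShortComplex.exact_of_isZero_X₂ _ hz
    exact (HomologicalComplex.exactAt_iff_isZero_homology _ _).mp hex
  have hlift : ∀ i, ∃ X : ModuleCat.{u} R, Module.Finite R X ∧ Module.Free R X ∧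
      Nonempty ((redI (maximalIdeal R)).obj X ≅
        (homologyCx (bcCx (Ideal.Quotient.mk (maximalIdeal R)) Q)).X i) := fun i => by
    have := hEfin i
    have : Module.Free (R ⧸ maximalIdeal R)
      ((homologyCx (bcCx (Ideal.Quotient.mk (maximalIdeal R)) Q)).X i) :=
      Module.Free.of_divisionRing _ _
    exact exists_free_lift (I := maximalIdeal R) _
  choose X hX1 hX2 hθ using hlift
  have : IsIso (DerivedCategory.Q.map
      (homologyCxMap hproj (bcCx (Ideal.Quotient.mk (maximalIdeal R)) Q))) :=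
    (DerivedCategory.isIso_Q_map_iff_quasiIso _ _).mpr hs
  let eE : toD (homologyCx (bcCx (Ideal.Quotient.mk (maximalIdeal R)) Q)) ≅
      (LBaseChange (Ideal.Quotient.mk (maximalIdeal R))).obj K :=
    asIso (DerivedCategory.Q.map
      (homologyCxMap hproj (bcCx (Ideal.Quotient.mk (maximalIdeal R)) Q))) ≪≫
      (LBaseChangeIso (Ideal.Quotient.mk (maximalIdeal R)) Q).symm ≪≫
      (LBaseChange (Ideal.Quotient.mk (maximalIdeal R))).mapIso eK
  obtain ⟨d, sq, hb, ⟨eP⟩, -⟩ := exists_lifting_explicit_of_bounded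
    (pcClass_finiteFree_local (R := R)) finiteFreeP_prod K
    ⟨Q, c, hQc, fun i => hQf i, ⟨eK⟩⟩ (homologyCx (bcCx (Ideal.Quotient.mk (maximalIdeal R)) Q)) c hEb X
    (fun i => ⟨hX1 i, hX2 i⟩) (fun i => (hθ i).some) ⟨eE⟩
  refine ⟨CochainComplex.of X d sq, ⟨c, hb⟩, fun i => ⟨hX2 i, hX1 i, ?_⟩, ⟨eP⟩⟩
  have := hX1 i
  have := hX2 i
  have h1 := finrank_redI_obj (X i)
  have h2 := LinearEquiv.finrank_eq (hθ i).some.toLinearEquiv
  have h3 := LinearEquiv.finrank_eq (hdEquiv K Q eK i)
  exact h1.symm.trans (h2.trans h3.symm)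

theorem minimal_unique (K : Dual.D R) (P P' : Cx R)
    (hP : (∃ b : ℤ, VanishesAbove P b) ∧
      (∀ i : ℤ, Module.Free R (P.X i) ∧ Module.Finite R (P.X i) ∧
        Module.finrank R (P.X i) = Module.finrank (R ⧸ maximalIdeal R)
          (Dual.HD (R ⧸ maximalIdeal R) ((LBaseChange (Ideal.Quotient.mk (maximalIdeal R))).obj K) i)) ∧
      Nonempty (toD P ≅ K))
    (hP' : (∃ b : ℤ, VanishesAbove P' b) ∧
      (∀ i : ℤ, Module.Free R (P'.X i) ∧ Module.Finite R (P'.X i) ∧
        Module.finrank R (P'.X i) = Module.finrank (R ⧸ maximalIdeal R)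
          (Dual.HD (R ⧸ maximalIdeal R) ((LBaseChange (Ideal.Quotient.mk (maximalIdeal R))).obj K) i)) ∧
      Nonempty (toD P' ≅ K)) :
    Nonempty (P ≅ P') := by
  let _ : Field (R ⧸ maximalIdeal R) := Ideal.Quotient.field _
  obtain ⟨⟨b, hb⟩, hPt, ⟨eP⟩⟩ := hP
  obtain ⟨⟨b', hb'⟩, hPt', ⟨eP'⟩⟩ := hP'
  have hKP := isKProjective_of_finiteFree P b hb (fun i => ⟨(hPt i).1, (hPt i).2.1⟩)
  have hKP' := isKProjective_of_finiteFree P' b' hb' (fun i => ⟨(hPt' i).1, (hPt' i).2.1⟩)
  obtain ⟨f, hf⟩ := exists_map_of_isKProjective P P' (eP.hom ≫ eP'.inv)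
  have hfq : QuasiIso f := by
    rw [← DerivedCategory.isIso_Q_map_iff_quasiIso, hf]
    infer_instance
  -- base change of `f`
  have hfb : QuasiIso (bcCxMap (Ideal.Quotient.mk (maximalIdeal R)) f) := by
    refine Groth.Agent.Lib.Helper36.FT.quasiIso_map _
      (Groth.Agent.Lib.Helper36.FT.tensorLike_extendScalars (Ideal.Quotient.mk (maximalIdeal R)))
      f (max b b') (fun i hi => hb i (by omega)) (fun i hi => hb' i (by omega)) ?_ ?_
    · intro i
      have := (hPt i).1
      infer_instance
    · intro i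
      have := (hPt' i).1
      infer_instance
  -- zero differentials
  have hzero : ∀ (P : Cx R) [P.IsKProjective] (eP : toD P ≅ K)
      (hPt : ∀ i : ℤ, Module.Free R (P.X i) ∧ Module.Finite R (P.X i) ∧
        Module.finrank R (P.X i) = Module.finrank (R ⧸ maximalIdeal R)
          (Dual.HD (R ⧸ maximalIdeal R) ((LBaseChange (Ideal.Quotient.mk (maximalIdeal R))).obj K) i)),
      ∀ a c, (bcCx (Ideal.Quotient.mk (maximalIdeal R)) P).d a c = 0 := by
    intro P _ eP hPt a c
    by_cases hac : a + 1 = c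
    · subst hac
      have := (hPt a).1
      have := (hPt a).2.1
      have : Module.Finite (R ⧸ maximalIdeal R)
        ((bcCx (Ideal.Quotient.mk (maximalIdeal R)) P).X a) := finite_redI_obj (P.X a)
      apply d_eq_zero_of_finrank_homology_eq
      have h1 := finrank_redI_obj (P.X a)
      have h3 := LinearEquiv.finrank_eq (hdEquiv K P eP a)
      exact h3.symm.trans ((hPt a).2.2.symm.trans h1.symm)
    · exact HomologicalComplex.shape _ _ _ hac
  have hiso : ∀ i, IsIso ((bcCxMap (Ideal.Quotient.mk (maximalIdeal R)) f).f i) := fun i =>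
    isIso_f_of_quasiIsoAt_of_d_eq_zero _ i (hzero P eP hPt) (hzero P' eP' hPt')
  have hiso' : ∀ i, IsIso (f.f i) := by
    intro i
    have h1 : IsIso ((redI (maximalIdeal R)).map (f.f i)) := hiso i
    have hPf := (hPt i).1
    have hPfin := (hPt i).2.1
    have hP'f := (hPt' i).1
    have hP'fin := (hPt' i).2.1
    have hsurj : Function.Surjective (f.f i).hom := by
      apply surjective_of_extendScalars_map (maximalIdeal_le_jacobson_bot (R := R)) (f.f i)
      exact ((ConcreteCategory.isIso_iff_bijective _).mp h1).2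
    have hrank : Module.finrank R (P'.X i) = Module.finrank R (P.X i) :=
      (hPt' i).2.2.trans (hPt i).2.2.symm
    let e : P'.X i ≃ₗ[R] P.X i := LinearEquiv.ofFinrankEq _ _ hrank
    have hu : Function.Surjective (e.toLinearMap ∘ₗ (f.f i).hom) := e.surjective.comp hsurj
    have hinj : Function.Injective (e.toLinearMap ∘ₗ (f.f i).hom) :=
      OrzechProperty.injective_of_surjective_endomorphism _ hu
    have hinj' : Function.Injective (f.f i).hom := fun x y hxy => hinj (by
      show e ((f.f i).hom x) = e ((f.f i).hom y)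
      rw [hxy])
    exact (ConcreteCategory.isIso_iff_bijective _).mpr ⟨hinj', hsurj⟩
  exact ⟨HomologicalComplex.Hom.isoOfComponents (fun i => asIso (f.f i)) (fun i j _ => f.comm i j)⟩

end Main

end Groth.Agent.Lib.Helper12
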