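import Mathlib
import Groth.Prelude.Def_DDual2
import Groth.Agent.Lib.Helper12.PcLift

/-!
# Finiteness can be checked modulo `I` when Nakayama's lemma is available
-/

set_option autoImplicit false

open CategoryTheory CategoryTheory.Limits

namespace Groth.Agent.Lib.Helper12

universe u

variable {R : Type u} [CommRing R] {I : Ideal R}

/-- If `M/IM` is generated by the images of a submodule `N`... : every submodule of `M` whose image
generates `M ⊗ R/I` over `R/I` satisfies `N + IM = M`. -/
lemma sup_smul_top_eq_top_of_map_unit (M : ModuleCat.{u} R) (N : Submodule R M)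
    (S : Set ((redI I).obj M)) (hS : Submodule.span (R ⧸ I) S = ⊤)
    (hN : ∀ s ∈ S, ∃ n ∈ N,
      ((ModuleCat.extendRestrictScalarsAdj.{u, u, u} (Ideal.Quotient.mk I)).unit.app M).hom n = s) :
    N ⊔ I • (⊤ : Submodule R M) = ⊤ := by
  let η := ((ModuleCat.extendRestrictScalarsAdj.{u, u, u} (Ideal.Quotient.mk I)).unit.app M).hom
  have key : ∀ x : (redI I).obj M, ∃ n ∈ N, η n = x := by
    intro x
    have hx : x ∈ Submodule.span (R ⧸ I) S := by rw [hS]; trivial
    induction hx using Submodule.span_induction with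
    | mem x hx => exact hN x hx
    | zero => exact ⟨0, N.zero_mem, map_zero η⟩
    | add x y _ _ hx hy =>
      obtain ⟨n, hn, rfl⟩ := hx
      obtain ⟨n', hn', rfl⟩ := hy
      exact ⟨n + n', N.add_mem hn hn', map_add η n n'⟩
    | smul a x _ hx =>
      obtain ⟨n, hn, rfl⟩ := hx
      obtain ⟨r, rfl⟩ := Ideal.Quotient.mk_surjective a
      exact ⟨r • n, N.smul_mem r hn, map_smul η r n⟩
  rw [eq_top_iff]
  intro x _
  obtain ⟨n, hn, hnx⟩ := key (η x)
  have h1 : x - n ∈ I • (⊤ : Submodule R M) := by
    apply mem_smul_top_of_unit_eq_zero I M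
    show η (x - n) = 0
    rw [map_sub, hnx, sub_self]
  have h2 : x = n + (x - n) := by abel
  rw [h2]
  exact Submodule.add_mem _ (Submodule.mem_sup_left hn) (Submodule.mem_sup_right h1)

/-- finiteness can be checked modulo `I` when Nakayama's lemma holds for `M` -/
theorem finite_of_finite_redI (M : ModuleCat.{u} R)
    (hNak : ∀ N : Submodule R M, N ⊔ I • (⊤ : Submodule R M) = ⊤ → N = ⊤)
    [hfin : Module.Finite (R ⧸ I) ((redI I).obj M)] : Module.Finite R M := by
  obtain ⟨S, hS⟩ := hfin.fg_top
  let η := ((ModuleCat.extendRestrictScalarsAdj.{u, u, u} (Ideal.Quotient.mk I)).unit.app M).hom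
  have hη : ∀ s : (redI I).obj M, ∃ m : M, η m = s := fun s => unit_surjective I M s
  choose m hm using hη
  classical
  let T : Finset M := S.image m
  have hT : Submodule.span R (T : Set M) = ⊤ := by
    apply hNak
    apply sup_smul_top_eq_top_of_map_unit M _ (S : Set ((redI I).obj M)) hS
    intro s hs
    refine ⟨m s, Submodule.subset_span ?_, hm s⟩
    exact Finset.mem_coe.mpr (Finset.mem_image_of_mem m hs)
  exact ⟨⟨T, hT⟩⟩

end Groth.Agent.Lib.Helper12
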