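import Mathlib.RingTheory.FiniteType
import Mathlib.RingTheory.Nilpotent.Lemmas
import Mathlib.RingTheory.Noetherian.Nilpotent
import Mathlib.Algebra.Category.Ring.Constructions

/-!
# Finite type descends along nilpotent thickenings

* `finiteType_of_nilpotent`: `φ : A → B`, `β : B → B₀` surjective with `ker β ≤ I B` for a
  nilpotent ideal `I` of `A`; if `β ∘ φ` is of finite type then so is `φ`.
* `pushout_surjective`, `pushout_ker_le`: for a pushout square of commutative rings along a
  surjection `π : A → A₀`, `B → B₀` is surjective with kernel `≤ (ker π) B`.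
* `finiteType_of_isPushout`: for a pushout square with `A` noetherian, `π : A → A₀` surjective
  with kernel in the nilradical, `A₀ → B₀` of finite type implies `A → B` of finite type.
-/

namespace Groth.Agent.Lib.Helper12

universe u

/-- Nilpotent Nakayama: if `N ⊔ I • ⊤ = ⊤` and `I ^ n = ⊥` then `N = ⊤`. -/
lemma eq_top_of_sup_smul_top_of_pow_eq_bot {A M : Type*} [CommRing A] [AddCommGroup M]
    [Module A M] (I : Ideal A) (n : ℕ) (hI : I ^ n = ⊥) (N : Submodule A M)
    (h : ⊤ ≤ N ⊔ I • (⊤ : Submodule A M)) : N = ⊤ := by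
  have key : ∀ k : ℕ, ⊤ ≤ N ⊔ (I ^ k) • (⊤ : Submodule A M) := by
    intro k
    induction k with
    | zero => simp
    | succ k ih =>
      calc (⊤ : Submodule A M) ≤ N ⊔ I • (⊤ : Submodule A M) := h
        _ ≤ N ⊔ I • (N ⊔ (I ^ k) • (⊤ : Submodule A M)) := by
            gcongr
        _ = N ⊔ (I • N ⊔ I • (I ^ k) • (⊤ : Submodule A M)) := by rw [Submodule.smul_sup]
        _ ≤ N ⊔ (I ^ (k + 1)) • (⊤ : Submodule A M) := by
            rw [← Submodule.mul_smul, ← pow_succ']
            refine sup_le le_sup_left (sup_le ?_ le_sup_right)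
            exact le_trans Submodule.smul_le_right le_sup_left
  have := key n
  rw [hI, Submodule.bot_smul, sup_bot_eq] at this
  exact top_le_iff.mp this

/-- `φ : A → B`, `β : B → B₀` surjective with `ker β ≤ I B` for a nilpotent ideal `I` of `A`;
if `β ∘ φ` is of finite type then so is `φ`. -/
lemma finiteType_of_nilpotent {A B B₀ : Type*} [CommRing A] [CommRing B] [CommRing B₀]
    (φ : A →+* B) (β : B →+* B₀) (I : Ideal A) (n : ℕ) (hI : I ^ n = ⊥)
    (hβ : Function.Surjective β) (hker : RingHom.ker β ≤ I.map φ)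
    (hft : (β.comp φ).FiniteType) : φ.FiniteType := by
  let _ := φ.toAlgebra
  let _ := (β.comp φ).toAlgebra
  change Algebra.FiniteType A B
  have hft' : Algebra.FiniteType A B₀ := hft
  obtain ⟨t, ht⟩ := hft'.out
  let βₐ : B →ₐ[A] B₀ := { β with commutes' := fun a => rfl }
  let s : Finset B := by classical exact t.image (Function.surjInv hβ)
  have hs : (βₐ '' (s : Set B)) = (t : Set B₀) := by
    classical
    simp only [s, Finset.coe_image, Set.image_image]
    have : (fun x => βₐ (Function.surjInv hβ x)) = id := by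
      funext x; exact Function.surjInv_eq hβ x
    rw [this, Set.image_id]
  have hmap : (Algebra.adjoin A (s : Set B)).map βₐ = ⊤ := by
    rw [AlgHom.map_adjoin, hs, ht]
  refine ⟨⟨s, ?_⟩⟩
  have hN : (Algebra.adjoin A (s : Set B)).toSubmodule = ⊤ := by
    apply eq_top_of_sup_smul_top_of_pow_eq_bot I n hI
    intro b _
    have hb : βₐ b ∈ (Algebra.adjoin A (s : Set B)).map βₐ := by rw [hmap]; trivial
    obtain ⟨b', hb', hbb'⟩ := hb
    have hk : b - b' ∈ RingHom.ker β := by
      rw [RingHom.mem_ker, map_sub, sub_eq_zero]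
      exact hbb'.symm
    have hk' : b - b' ∈ I • (⊤ : Submodule A B) := by
      rw [Ideal.smul_top_eq_map]
      exact hker hk
    have : b = b' + (b - b') := by ring
    rw [this]
    exact Submodule.add_mem_sup hb' hk'
  apply Subalgebra.toSubmodule_injective
  rw [hN]; rfl

open CategoryTheory Limits in
/-- In a pushout square of commutative rings along a surjection, the opposite map is surjective. -/
lemma pushout_surjective {A B A₀ B₀ : CommRingCat.{u}} {φ : A ⟶ B} {π : A ⟶ A₀} {β : B ⟶ B₀}
    {ψ : A₀ ⟶ B₀} (H : IsPushout φ π β ψ) (hπ : Function.Surjective π.hom) :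
    Function.Surjective β.hom := by
  let R : Subring B₀ := β.hom.range
  have hψR : ∀ a₀, ψ.hom a₀ ∈ R := by
    intro a₀
    obtain ⟨a, rfl⟩ := hπ a₀
    refine ⟨φ.hom a, ?_⟩
    have := congr($(H.w).hom a)
    simpa using this
  let β' : B ⟶ CommRingCat.of R := CommRingCat.ofHom β.hom.rangeRestrict
  let ψ' : A₀ ⟶ CommRingCat.of R := CommRingCat.ofHom (ψ.hom.codRestrict R hψR)
  let incl : CommRingCat.of R ⟶ B₀ := CommRingCat.ofHom R.subtype
  have w : φ ≫ β' = π ≫ ψ' := by
    ext a
    have := congr($(H.w).hom a)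
    exact this
  have h1 : β' ≫ incl = β := by ext; rfl
  have h2 : ψ' ≫ incl = ψ := by ext; rfl
  have hid : H.desc β' ψ' w ≫ incl = 𝟙 B₀ := by
    apply H.hom_ext
    · rw [H.inl_desc_assoc, h1, Category.comp_id]
    · rw [H.inr_desc_assoc, h2, Category.comp_id]
  intro y
  have hy : y = incl.hom ((H.desc β' ψ' w).hom y) := by
    have := congr($(hid).hom y)
    simpa using this.symm
  have : y ∈ R := by rw [hy]; exact Subtype.property _
  exact this

open CategoryTheory Limits in
/-- In a pushout square of commutative rings along a surjection `π`, the kernel of the opposite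
map is contained in the extension of `ker π`. -/
lemma pushout_ker_le {A B A₀ B₀ : CommRingCat.{u}} {φ : A ⟶ B} {π : A ⟶ A₀} {β : B ⟶ B₀}
    {ψ : A₀ ⟶ B₀} (H : IsPushout φ π β ψ) (hπ : Function.Surjective π.hom) :
    RingHom.ker β.hom ≤ (RingHom.ker π.hom).map φ.hom := by
  let J : Ideal B := (RingHom.ker π.hom).map φ.hom
  let q : B ⟶ CommRingCat.of (B ⧸ J) := CommRingCat.ofHom (Ideal.Quotient.mk J)
  have hle : RingHom.ker π.hom ≤ RingHom.ker ((Ideal.Quotient.mk J).comp φ.hom) := by
    intro a ha
    rw [RingHom.mem_ker, RingHom.comp_apply, Ideal.Quotient.eq_zero_iff_mem]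
    exact Ideal.mem_map_of_mem _ ha
  let r : A₀ ⟶ CommRingCat.of (B ⧸ J) :=
    CommRingCat.ofHom (RingHom.liftOfSurjective π.hom hπ ⟨(Ideal.Quotient.mk J).comp φ.hom, hle⟩)
  have w : φ ≫ q = π ≫ r := by
    ext a
    have := RingHom.liftOfRightInverse_comp_apply π.hom _ (Function.rightInverse_surjInv hπ)
      ⟨(Ideal.Quotient.mk J).comp φ.hom, hle⟩ a
    exact this.symm
  intro x hx
  have h1 : β ≫ H.desc q r w = q := H.inl_desc _ _ _
  have h2 : q.hom x = (H.desc q r w).hom (β.hom x) := by
    have := congrArg (fun f => f.hom x) h1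
    exact this.symm
  rw [RingHom.mem_ker] at hx
  rw [hx, map_zero] at h2
  exact Ideal.Quotient.eq_zero_iff_mem.mp h2

open CategoryTheory Limits in
/-- For a pushout square of commutative rings with `A` noetherian and `π : A → A₀` surjective
with kernel inside the nilradical, if `A₀ → B₀` is of finite type then so is `A → B`. -/
lemma finiteType_of_isPushout {A B A₀ B₀ : CommRingCat.{u}} {φ : A ⟶ B} {π : A ⟶ A₀}
    {β : B ⟶ B₀} {ψ : A₀ ⟶ B₀} (H : IsPushout φ π β ψ) [IsNoetherianRing A]
    (hπ : Function.Surjective π.hom) (hnil : RingHom.ker π.hom ≤ nilradical A)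
    (hψ : ψ.hom.FiniteType) : φ.hom.FiniteType := by
  obtain ⟨n, hn⟩ := IsNoetherianRing.isNilpotent_nilradical A
  have hI : (RingHom.ker π.hom) ^ n = ⊥ := by
    rw [← le_bot_iff]
    calc (RingHom.ker π.hom) ^ n ≤ (nilradical A) ^ n := Ideal.pow_right_mono hnil n
      _ = ⊥ := hn
  refine finiteType_of_nilpotent φ.hom β.hom _ n hI (pushout_surjective H hπ)
    (pushout_ker_le H hπ) ?_
  have : β.hom.comp φ.hom = ψ.hom.comp π.hom := by
    have := H.w
    exact congr($(this).hom)
  rw [this]
  exact hψ.comp (RingHom.FiniteType.of_surjective _ hπ)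

end Groth.Agent.Lib.Helper12
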