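import Mathlib
import Groth.Prelude.Def_DDual2
import Groth.Agent.Lib.Helper12.PcLift

/-!
# Lifting projective modules along `R → R/I` for a nilpotent ideal `I`; nilpotent Nakayama
-/

set_option autoImplicit false

open CategoryTheory CategoryTheory.Limits

namespace Groth.Agent.Lib.Helper12

universe u

variable {R : Type u} [CommRing R] {I : Ideal R}

/-- nilpotent Nakayama -/
lemma eq_top_of_sup_smul_top_eq_top_of_isNilpotent (hI : IsNilpotent I) {M : Type u}
    [AddCommGroup M] [Module R M] (N : Submodule R M) (h : N ⊔ I • (⊤ : Submodule R M) = ⊤) :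
    N = ⊤ := by
  obtain ⟨n, hn⟩ := hI
  have key : ∀ k : ℕ, N ⊔ I ^ k • (⊤ : Submodule R M) = ⊤ := by
    intro k
    induction k with
    | zero => simp
    | succ k ih =>
      have h1 : I ^ k • (⊤ : Submodule R M) ≤ N ⊔ I ^ (k + 1) • (⊤ : Submodule R M) := by
        calc I ^ k • (⊤ : Submodule R M) = I ^ k • (N ⊔ I • (⊤ : Submodule R M)) := by rw [h]
          _ = I ^ k • N ⊔ I ^ k • (I • (⊤ : Submodule R M)) := Submodule.smul_sup _ _ _
          _ ≤ N ⊔ I ^ (k + 1) • (⊤ : Submodule R M) := by
            refine sup_le_sup Submodule.smul_le_right ?_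
            rw [← Submodule.mul_smul, ← pow_succ]
      have h2 : (⊤ : Submodule R M) ≤ N ⊔ I ^ (k + 1) • (⊤ : Submodule R M) :=
        ih.symm.le.trans (sup_le le_sup_left h1)
      exact eq_top_iff.mpr h2
  have := key n
  rw [hn, Ideal.zero_eq_bot, Submodule.bot_smul, sup_bot_eq] at this
  exact this

/-- for a nilpotent ideal, the class of all projective modules satisfies the hypotheses of the
lifting lemma -/
lemma pcClass_projective_of_isNilpotent (hI : IsNilpotent I) :
    PcClass I (fun X : ModuleCat.{u} R => Module.Projective R X) where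
  iso e h := by
    have := h
    exact Module.Projective.of_equiv e.toLinearEquiv
  proj _ h := h
  sum X Y _ hXY := by
    have : Module.Projective R (X × Y) := hXY
    exact Module.Projective.of_split (LinearMap.inr R X Y) (LinearMap.snd R X Y)
      (LinearMap.ext fun _ => rfl)
  surj X Y f _ _ h := by
    rw [← LinearMap.range_eq_top]
    exact eq_top_of_sup_smul_top_eq_top_of_isNilpotent hI _ h

/-- an endomorphism which vanishes mod `I` maps `I^k M` into `I^(k+1) M` -/
lemma pow_hom_mem_of_map_eq_zero {F : ModuleCat.{u} R} (u : End F)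
    (hu : (redI I).map u = 0) (k : ℕ) (x : F) :
    (u ^ k : End F).hom x ∈ I ^ k • (⊤ : Submodule R F) := by
  have h1 : ∀ y : F, u.hom y ∈ I • (⊤ : Submodule R F) := fun y => by
    have := sub_mem_smul_top_of_map_eq (I := I) u (0 : F ⟶ F) (by rw [hu, Functor.map_zero]) y
    simpa using this
  induction k generalizing x with
  | zero => simp
  | succ k ih =>
    have h2 : (u ^ (k + 1) : End F).hom x = u.hom ((u ^ k : End F).hom x) := by
      rw [pow_succ', End.mul_def]
      rfl
    rw [h2]
    have h3 : Submodule.map u.hom (I ^ k • (⊤ : Submodule R F)) ≤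
        I ^ (k + 1) • (⊤ : Submodule R F) := by
      rw [Submodule.map_smul'', pow_succ, Submodule.mul_smul]
      refine Submodule.smul_mono le_rfl ?_
      rintro _ ⟨y, -, rfl⟩
      exact h1 y
    exact h3 ⟨_, ih x, rfl⟩

/-- the ring homomorphism on endomorphism rings induced by reduction mod `I` -/
noncomputable def redIEnd (I : Ideal R) (F : ModuleCat.{u} R) : End F →+* End ((redI I).obj F) where
  toFun u := (redI I).map u
  map_one' := (redI I).map_id F
  map_mul' x y := (redI I).map_comp y x
  map_zero' := Functor.map_zero _ _ _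
  map_add' _ _ := Functor.map_add _

/-- **Lifting projective modules along a nilpotent ideal.** -/
theorem exists_projective_lift_of_isNilpotent (hI : IsNilpotent I) (Eb : ModuleCat.{u} (R ⧸ I))
    [Module.Projective (R ⧸ I) Eb] :
    ∃ P : ModuleCat.{u} R, Module.Projective R P ∧ Nonempty ((redI I).obj P ≅ Eb) := by
  let adj := ModuleCat.extendRestrictScalarsAdj.{u, u, u} (Ideal.Quotient.mk I)
  obtain ⟨resE, hresE⟩ : ∃ M : ModuleCat.{u} R,
      M = (ModuleCat.restrictScalars.{u} (Ideal.Quotient.mk I)).obj Eb := ⟨_, rfl⟩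
  let F : ModuleCat.{u} R := ModuleCat.of R (resE →₀ R)
  let p₀ : F ⟶ resE := ModuleCat.ofHom (Finsupp.linearCombination R (id : resE → resE))
  have hp₀ : Function.Surjective p₀.hom := fun x => ⟨Finsupp.single x 1, by
    show Finsupp.linearCombination R id (Finsupp.single x 1) = x
    rw [Finsupp.linearCombination_single, one_smul]
    rfl⟩
  subst hresE
  let p : (redI I).obj F ⟶ Eb := (adj.homEquiv F Eb).symm p₀
  have hp : adj.unit.app F ≫ (ModuleCat.restrictScalars.{u} (Ideal.Quotient.mk I)).map p = p₀ :=
    (Adjunction.homEquiv_unit adj F Eb p).symm.trans ((adj.homEquiv F Eb).apply_symm_apply p₀)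
  have hpsurj : Function.Surjective p.hom := by
    intro x
    obtain ⟨y, hy⟩ := hp₀ x
    have h1 := congrArg (fun t => t.hom y) hp
    exact ⟨_, h1.trans hy⟩
  have : Epi p := (ModuleCat.epi_iff_surjective p).mpr hpsurj
  have : Projective Eb := (IsProjective.iff_projective Eb).mp inferInstance
  let s : Eb ⟶ (redI I).obj F := Projective.factorThru (𝟙 Eb) p
  have hsp : s ≫ p = 𝟙 Eb := Projective.factorThru_comp _ _
  let eb : End ((redI I).obj F) := p ≫ s
  have heb : IsIdempotentElem eb := by
    show (p ≫ s) ≫ (p ≫ s) = p ≫ s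
    rw [Category.assoc, ← Category.assoc s, hsp, Category.id_comp]
  have hker : ∀ x ∈ RingHom.ker (redIEnd I F), IsNilpotent x := by
    intro x hx
    obtain ⟨n, hn⟩ := hI
    refine ⟨n, ?_⟩
    refine ModuleCat.hom_ext (LinearMap.ext fun y => ?_)
    have := pow_hom_mem_of_map_eq_zero (I := I) x hx n y
    rw [hn, Ideal.zero_eq_bot, Submodule.bot_smul, Submodule.mem_bot] at this
    exact this
  have hrange : eb ∈ (redIEnd I F).range := by
    have : Module.Projective R F := Module.Projective.of_free
    obtain ⟨e₀, he₀⟩ := exists_lift_of_projective (I := I) (M := F) (N := F) eb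
    exact ⟨e₀, he₀⟩
  obtain ⟨e, he, hee⟩ := exists_isIdempotentElem_eq_of_ker_isNilpotent (redIEnd I F) hker eb hrange heb
  have hee' : (redI I).map e = p ≫ s := hee
  have he' : ∀ x : F, e.hom (e.hom x) = e.hom x := fun x => by
    have := congrArg (fun t : End F => t.hom x) he.eq
    exact this
  -- the image of `e`
  let P : ModuleCat.{u} R := ModuleCat.of R (LinearMap.range e.hom)
  let ι : P ⟶ F := ModuleCat.ofHom (LinearMap.range e.hom).subtype
  let π : F ⟶ P := ModuleCat.ofHom (LinearMap.codRestrict (LinearMap.range e.hom) e.hom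
    (fun x => ⟨x, rfl⟩))
  have hιπ : ι ≫ π = 𝟙 P := by
    refine ModuleCat.hom_ext (LinearMap.ext fun y => ?_)
    obtain ⟨y, x, rfl⟩ := y
    exact Subtype.ext (he' x)
  have hπι : π ≫ ι = e := by
    refine ModuleCat.hom_ext (LinearMap.ext fun x => ?_)
    rfl
  have hPproj : Module.Projective R P := by
    have : Module.Projective R F := Module.Projective.of_free
    exact Module.Projective.of_split ι.hom π.hom
      (LinearMap.ext fun x => congrArg (fun t : P ⟶ P => t.hom x) hιπ)
  refine ⟨P, hPproj, ⟨⟨(redI I).map ι ≫ p, s ≫ (redI I).map π, ?_, ?_⟩⟩⟩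
  · rw [Category.assoc, ← Category.assoc p, ← hee', ← hπι, CategoryTheory.Functor.map_comp,
      Category.assoc, ← CategoryTheory.Functor.map_comp, ← Category.assoc,
      ← CategoryTheory.Functor.map_comp, hιπ, CategoryTheory.Functor.map_id, Category.id_comp]
  · rw [Category.assoc, ← Category.assoc ((redI I).map π), ← CategoryTheory.Functor.map_comp, hπι,
      hee', Category.assoc, ← Category.assoc s, hsp, Category.id_comp]

end Groth.Agent.Lib.Helper12
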