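import Groth.Prelude.Def_Disc
import Mathlib.RingTheory.Kaehler.Basic
import Mathlib.LinearAlgebra.FreeModule.Finite.Basic
import Mathlib.LinearAlgebra.Basis.Basic

/-!
# The Noether pairing `B ⊗_A B × Hom_A(B, A) → B` for a finite free algebra
-/

set_option autoImplicit false
universe u v

open TensorProduct

namespace Groth.Agent.Lib.Helper12

variable {A : Type u} {B : Type v} [CommRing A] [CommRing B] [Algebra A B]

/-- the pairing map `ξ = ∑ x ⊗ y ↦ ∑ l x • y`. -/
noncomputable def pair (l : B →ₗ[A] A) : B ⊗[A] B →ₗ[A] B :=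
  TensorProduct.lift ((LinearMap.lsmul A B).comp l)

@[simp] lemma pair_tmul (l : B →ₗ[A] A) (x y : B) : pair l (x ⊗ₜ[A] y) = l x • y := by
  simp [pair]

/-- reconstruction of a tensor from its pairings against the coordinate functionals. -/
lemma recon {ι : Type*} [Fintype ι] [DecidableEq ι] (b : Module.Basis ι A B) (ξ : B ⊗[A] B) :
    ξ = ∑ i, b i ⊗ₜ[A] pair (b.coord i) ξ := by
  induction ξ using TensorProduct.induction_on with
  | zero => simp
  | tmul x y =>
    simp only [pair_tmul]
    conv_lhs => rw [← b.sum_repr x]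
    rw [TensorProduct.sum_tmul]
    refine Finset.sum_congr rfl fun i _ => ?_
    rw [TensorProduct.smul_tmul, Module.Basis.coord_apply]
  | add x y hx hy =>
    simp only [map_add, TensorProduct.tmul_add, Finset.sum_add_distrib]
    rw [← hx, ← hy]

lemma eq_of_pair_eq {ι : Type*} [Fintype ι] [DecidableEq ι] (b : Module.Basis ι A B)
    {ξ ξ' : B ⊗[A] B} (h : ∀ i, pair (b.coord i) ξ = pair (b.coord i) ξ') : ξ = ξ' := by
  rw [recon b ξ, recon b ξ']
  exact Finset.sum_congr rfl fun i _ => by rw [h i]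

lemma pair_mul_one_tmul (l : B →ₗ[A] A) (ξ : B ⊗[A] B) (s : B) :
    pair l (ξ * (1 ⊗ₜ[A] s)) = pair l ξ * s := by
  induction ξ using TensorProduct.induction_on with
  | zero => simp
  | tmul x y => simp [Algebra.TensorProduct.tmul_mul_tmul]
  | add x y hx hy => simp only [add_mul, map_add, hx, hy]

lemma pair_mul_tmul_one (l : B →ₗ[A] A) (ξ : B ⊗[A] B) (s : B) :
    pair l (ξ * (s ⊗ₜ[A] 1)) = pair (l ∘ₗ LinearMap.mulLeft A s) ξ := by
  induction ξ using TensorProduct.induction_on with
  | zero => simp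
  | tmul x y => simp [Algebra.TensorProduct.tmul_mul_tmul, mul_comm]
  | add x y hx hy => simp only [add_mul, map_add, hx, hy]

/-- membership in the annihilator of the kernel of multiplication, tested on generators. -/
lemma mem_annihilator_ker_iff (ξ : B ⊗[A] B) :
    ξ ∈ Submodule.annihilator (RingHom.ker (Algebra.TensorProduct.lmul' (S := B) A)) ↔
      ∀ s : B, ξ * (1 ⊗ₜ[A] s) = ξ * (s ⊗ₜ[A] 1) := by
  have hker : RingHom.ker (Algebra.TensorProduct.lmul' (S := B) A) =
      Ideal.span (Set.range fun s : B => (1 : B) ⊗ₜ[A] s - s ⊗ₜ[A] (1 : B)) := by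
    rw [KaehlerDifferential.span_range_eq_ideal]
  constructor
  · intro h s
    have hs : ((1 : B) ⊗ₜ[A] s - s ⊗ₜ[A] (1 : B)) ∈
        RingHom.ker (Algebra.TensorProduct.lmul' (S := B) A) := by
      rw [hker]; exact Ideal.subset_span ⟨s, rfl⟩
    have := (Submodule.mem_annihilator.mp h) _ hs
    rw [smul_eq_mul, mul_sub, sub_eq_zero] at this
    exact this
  · intro h
    rw [Submodule.mem_annihilator]
    intro z hz
    rw [hker] at hz
    rw [smul_eq_mul]
    induction hz using Submodule.span_induction with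
    | mem x hx =>
      obtain ⟨s, rfl⟩ := hx
      rw [mul_sub, sub_eq_zero]; exact h s
    | zero => simp
    | add x y _ _ hx hy => rw [mul_add, hx, hy, add_zero]
    | smul a x _ hx => rw [smul_eq_mul, mul_left_comm, hx, mul_zero]

end Groth.Agent.Lib.Helper12

namespace Groth.Agent.Lib.Helper12

variable {A : Type u} {B : Type v} [CommRing A] [CommRing B] [Algebra A B]

/-- pairing against any functional, computed from the coordinates. -/
lemma pair_eq_sum {ι : Type*} [Fintype ι] [DecidableEq ι] (b : Module.Basis ι A B)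
    (l : B →ₗ[A] A) (ξ : B ⊗[A] B) :
    pair l ξ = ∑ i, l (b i) • pair (b.coord i) ξ := by
  conv_lhs => rw [recon b ξ]
  simp only [map_sum, pair_tmul]

/-- multiplication, computed from the coordinates. -/
lemma lmul'_eq_sum {ι : Type*} [Fintype ι] [DecidableEq ι] (b : Module.Basis ι A B)
    (ξ : B ⊗[A] B) :
    Algebra.TensorProduct.lmul' (S := B) A ξ = ∑ i, b i * pair (b.coord i) ξ := by
  conv_lhs => rw [recon b ξ]
  simp only [map_sum, Algebra.TensorProduct.lmul'_apply_tmul]

/-- On the annihilator of the kernel of multiplication, multiplication is pairing with the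
trace. -/
lemma lmul'_eq_pair_trace {ι : Type*} [Fintype ι] [DecidableEq ι] (b : Module.Basis ι A B)
    (ξ : B ⊗[A] B) (hξ : ∀ s : B, ξ * (1 ⊗ₜ[A] s) = ξ * (s ⊗ₜ[A] 1)) :
    Algebra.TensorProduct.lmul' (S := B) A ξ = pair (Algebra.trace A B) ξ := by
  have h1 : ∀ j, pair (b.coord j) ξ * b j =
      ∑ i, (b.repr (b j * b i) j) • pair (b.coord i) ξ := by
    intro j
    rw [← pair_mul_one_tmul, hξ, pair_mul_tmul_one, pair_eq_sum b]
    simp only [LinearMap.comp_apply, LinearMap.mulLeft_apply, Module.Basis.coord_apply]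
  rw [lmul'_eq_sum b, pair_eq_sum b (Algebra.trace A B)]
  calc ∑ i, b i * pair (b.coord i) ξ
      = ∑ j, ∑ i, (b.repr (b j * b i) j) • pair (b.coord i) ξ := by
        refine Finset.sum_congr rfl fun j _ => ?_
        rw [mul_comm, h1]
    _ = ∑ i, ∑ j, (b.repr (b j * b i) j) • pair (b.coord i) ξ := Finset.sum_comm
    _ = ∑ i, Algebra.trace A B (b i) • pair (b.coord i) ξ := by
        refine Finset.sum_congr rfl fun i _ => ?_
        rw [← Finset.sum_smul]
        congr 1
        rw [Algebra.trace_eq_matrix_trace b, Matrix.trace]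
        refine Finset.sum_congr rfl fun j _ => ?_
        rw [Matrix.diag_apply, Algebra.leftMulMatrix_eq_repr_mul, mul_comm]

end Groth.Agent.Lib.Helper12

namespace Groth.Agent.Lib.Helper12

variable {A : Type u} {B : Type v} [CommRing A] [CommRing B] [Algebra A B]

lemma pair_add_left (l l' : B →ₗ[A] A) (ξ : B ⊗[A] B) :
    pair (l + l') ξ = pair l ξ + pair l' ξ := by
  induction ξ using TensorProduct.induction_on with
  | zero => simp
  | tmul x y => simp [add_smul]
  | add x y hx hy => simp only [map_add, hx, hy]; abel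

/-- For `ξ` in the annihilator of the kernel of multiplication, `l ↦ pair l ξ` is `B`-linear
on `ω = Hom_A(B, A)`. -/
noncomputable def pairHom (ξ : B ⊗[A] B) (hξ : ∀ s : B, ξ * (1 ⊗ₜ[A] s) = ξ * (s ⊗ₜ[A] 1)) :
    Disc.Omega A B →ₗ[B] B where
  toFun l := pair l.toLinearMap ξ
  map_add' l l' := pair_add_left _ _ ξ
  map_smul' s l := by
    show pair (l.toLinearMap ∘ₗ LinearMap.mulLeft A s) ξ = s • pair l.toLinearMap ξ
    rw [← pair_mul_tmul_one, ← hξ, pair_mul_one_tmul, smul_eq_mul, mul_comm]

@[simp] lemma pairHom_apply (ξ : B ⊗[A] B)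
    (hξ : ∀ s : B, ξ * (1 ⊗ₜ[A] s) = ξ * (s ⊗ₜ[A] 1)) (l : Disc.Omega A B) :
    pairHom ξ hξ l = pair l.toLinearMap ξ := rfl

end Groth.Agent.Lib.Helper12
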