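import Mathlib
import Groth.Prelude.Def_DDual2
import Groth.Agent.Lib.Helper12.PcLiftDerived

/-!
# Lifting acyclic complexes along `R → R/I` (Stacks 15.75.2)
-/

set_option autoImplicit false

open CategoryTheory CategoryTheory.Limits DRing CochainComplex

namespace Groth.Agent.Lib.Helper12

universe u

variable {R : Type u} [CommRing R] {I : Ideal R} {Pc : ObjectProperty (ModuleCat.{u} R)}

/-- exactness of a complex all of whose terms vanish -/
lemma exactAt_of_isZero_X {A : Type u} [CommRing A] (C : Cx A) (i : ℤ) (h : IsZero (C.X i)) :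
    C.ExactAt i := by
  rw [HomologicalComplex.exactAt_iff]
  exact ShortComplex.exact_of_isZero_X₂ _ h

/-- **Lifting acyclic complexes (Stacks 15.75.2)**, explicit terms. -/
theorem exists_acyclic_lifting_explicit (hPc : PcClass I Pc)
    (E : DRing.Cx (R ⧸ I)) (b : ℤ) (hEb : DRing.VanishesAbove E b) (hEa : E.Acyclic)
    (X : ℤ → ModuleCat.{u} R) (hX : ∀ i, Pc (X i))
    (θ : ∀ i, (redI I).obj (X i) ≅ E.X i) :
    ∃ (d : ∀ j, X j ⟶ X (j + 1)) (sq : ∀ j, d j ≫ d (j + 1) = 0),
      DRing.VanishesAbove (CochainComplex.of X d sq) b ∧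
      (CochainComplex.of X d sq).Acyclic ∧
      Nonempty ((((ModuleCat.extendScalars.{u, u, u} (Ideal.Quotient.mk I)).mapHomologicalComplex
        (ComplexShape.up ℤ)).obj (CochainComplex.of X d sq)) ≅ E) := by
  let d' : ∀ j, (redI I).obj (X j) ⟶ (redI I).obj (X (j + 1)) := fun j =>
    (θ j).hom ≫ E.d j (j + 1) ≫ (θ (j + 1)).inv
  have sq' : ∀ j, d' j ≫ d' (j + 1) = 0 := fun j => by
    simp only [d', Category.assoc, Iso.inv_hom_id_assoc, HomologicalComplex.d_comp_d_assoc,
      zero_comp, comp_zero]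
  let E' : Cx (R ⧸ I) := CochainComplex.of (fun j => (redI I).obj (X j)) d' sq'
  have hE'd : ∀ j, E'.d j (j + 1) = d' j := fun j => CochainComplex.of_d (α := ℤ) _ d' j
  let eE' : E' ≅ E := HomologicalComplex.Hom.isoOfComponents θ (by
    intro i j hij
    obtain rfl : i + 1 = j := hij
    rw [hE'd]
    simp only [d', Category.assoc, Iso.inv_hom_id, Category.comp_id])
  have hXzero : ∀ j, b + 1 ≤ j → IsZero (X j) := fun j hj =>
    hPc.isZero_of_isZero_map (hX j) ((hEb j (by omega)).of_iso (θ j))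
  have hE'b : VanishesAbove E' b := fun j hj =>
    Functor.map_isZero (redI I) (hXzero j (by omega))
  have hprojX : ∀ j, Module.Projective (R ⧸ I) (E'.X j) := fun j => by
    have := hPc.proj _ (hX j)
    exact projective_redI_obj (X j)
  have : E'.IsKProjective := isKProjective_of_vanishesAbove E' b hE'b hprojX
  have hE'a : E'.Acyclic := fun i =>
    (_root_.quasiIsoAt_iff_exactAt' eE'.hom i (hEa i)).mp inferInstance
  -- the zero complex
  let Q : Cx R := CochainComplex.of (fun _ => ModuleCat.of R PUnit.{u + 1}) (fun _ => 0)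
    (fun _ => zero_comp)
  have hQzero : ∀ j, IsZero (Q.X j) := fun j =>
    ModuleCat.isZero_of_subsingleton (ModuleCat.of R PUnit.{u + 1})
  let Qb : Cx (R ⧸ I) := bcCx (Ideal.Quotient.mk I) Q
  have hQbzero : ∀ j, IsZero (Qb.X j) := fun j => Functor.map_isZero (redI I) (hQzero j)
  have hQba : Qb.Acyclic := fun i => exactAt_of_isZero_X Qb i (hQbzero i)
  have : Qb.IsKProjective := isKProjective_of_vanishesAbove Qb 0 (fun j _ => hQbzero j)
    (fun j => by
      have : Subsingleton (Qb.X j) := ModuleCat.subsingleton_of_isZero (hQbzero j)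
      infer_instance)
  let β : E' ⟶ Qb := 0
  have : QuasiIso β := ⟨fun i =>
    (_root_.quasiIsoAt_iff_exactAt β i (hE'a i)).mpr (hQba i)⟩
  obtain ⟨h⟩ := nonempty_homotopy_id_zero_of_quasiIso β
  have hC : ∀ j, Pc (ModuleCat.of R (X (j + 1) × Q.X j)) := fun j =>
    hPc.iso (LinearEquiv.prodUnique (R := R) (M := X (j + 1))
      (M₂ := PUnit.{u + 1})).symm.toModuleIso (hX (j + 1))
  obtain ⟨d, sq, f, hf, hd⟩ := exists_lift_complex hPc Q X hX hC (b + 1) hXzero d' sq' β h
  refine ⟨d, sq, fun j hj => hXzero j (by omega), ?_, ?_⟩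
  · intro i
    exact (_root_.quasiIsoAt_iff_exactAt' f i
      (exactAt_of_isZero_X Q i (hQzero i))).mp inferInstance
  · refine ⟨HomologicalComplex.Hom.isoOfComponents θ ?_⟩
    intro i j hij
    obtain rfl : i + 1 = j := hij
    have h1 : (CochainComplex.of X d sq).d i (i + 1) = d i := CochainComplex.of_d (α := ℤ) X d i
    have h2 : (redI I).map ((CochainComplex.of X d sq).d i (i + 1)) = d' i := by
      rw [h1, hd]
    have h3 : (θ i).hom ≫ E.d i (i + 1) = d' i ≫ (θ (i + 1)).hom := by
      simp only [d', Category.assoc, Iso.inv_hom_id, Category.comp_id]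
    exact h3.trans (congrArg (· ≫ (θ (i + 1)).hom) h2.symm)

end Groth.Agent.Lib.Helper12
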