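import Mathlib
import Groth.Agent.Lib.Helper12.BassCriterion
import Groth.Agent.Lib.Helper12.DRingCanTrunc
import Groth.Agent.Lib.Helper12.DRingPCModule
import Groth.Agent.Lib.Helper12.DerivedSingleHom
import Groth.Agent.Lib.Helper36.HomologyLinear

/-!
# Pointwise finite injective dimension and eventual vanishing of `Ext` (helper12)
-/

set_option autoImplicit false
universe u
open CategoryTheory CategoryTheory.Limits CategoryTheory.Pretriangulated
attribute [local instance] HasDerivedCategory.standard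
namespace Groth.Agent.Lib.Helper12.PwInj
open Groth.Agent.Lib.Helper12 DRing Groth.Agent.Lib.Helper12.FlatHomBC
open Groth.Agent.Lib.Helper36.InjAmp

section Tor
variable {A : Type u} [CommRing A] (R : Dual.D A)

/-- every morphism `X ⟶ R⟦i⟧` is killed by a power of `f` -/
def Tor (f : A) (X : Dual.D A) (i : ℤ) : Prop :=
  ∀ φ : X ⟶ R⟦i⟧, ∃ k : ℕ, (f ^ k) • φ = 0

variable {R}

lemma Tor.of_subsingleton {f : A} {X : Dual.D A} {i : ℤ} (h : Subsingleton (X ⟶ R⟦i⟧)) :
    Tor R f X i :=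
  fun _ => ⟨0, Subsingleton.elim _ _⟩

lemma Tor.of_isZero {f : A} {X : Dual.D A} {i : ℤ} (h : IsZero X) : Tor R f X i :=
  fun _ => ⟨0, h.eq_of_src _ _⟩

lemma Tor.eq_zero {X : Dual.D A} {i : ℤ} (h : Tor R 1 X i) (φ : X ⟶ R⟦i⟧) : φ = 0 := by
  obtain ⟨k, hk⟩ := h φ
  rwa [one_pow, one_smul] at hk

lemma Tor.of_iso {f : A} {X Y : Dual.D A} {i : ℤ} (e : X ≅ Y) (h : Tor R f Y i) :
    Tor R f X i := by
  intro φ
  obtain ⟨k, hk⟩ := h (e.inv ≫ φ)
  refine ⟨k, ?_⟩
  rw [← cancel_epi e.inv, comp_zero, Linear.comp_smul, hk]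

lemma Tor.of_triangle {f : A} {i : ℤ} (T : Triangle (Dual.D A)) (hT : T ∈ distTriang _)
    (h₁ : Tor R f T.obj₁ i) (h₃ : Tor R f T.obj₃ i) : Tor R f T.obj₂ i := by
  intro φ
  obtain ⟨k, hk⟩ := h₁ (T.mor₁ ≫ φ)
  have h0 : T.mor₁ ≫ ((f ^ k) • φ) = 0 := by rw [Linear.comp_smul, hk]
  obtain ⟨ψ, hψ⟩ := Triangle.yoneda_exact₂ T hT ((f ^ k) • φ) h0
  obtain ⟨l, hl⟩ := h₃ ψ
  refine ⟨l + k, ?_⟩
  rw [pow_add, mul_smul, hψ, ← Linear.comp_smul, hl, comp_zero]

lemma Tor.shift {f : A} {X : Dual.D A} {i b c j : ℤ} (hcb : c + b = 0) (hj : i + b = j)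
    (h : Tor R f X j) : Tor R f (X⟦c⟧) i := by
  intro φ
  let e1 : (X⟦c⟧)⟦b⟧ ≅ X := (shiftFunctorCompIsoId (Dual.D A) c b hcb).app X
  let e2 : (R⟦i⟧)⟦b⟧ ≅ R⟦j⟧ := ((shiftFunctorAdd' (Dual.D A) i b j hj).app R).symm
  obtain ⟨k, hk⟩ := h (e1.inv ≫ φ⟦b⟧' ≫ e2.hom)
  refine ⟨k, ?_⟩
  apply (shiftFunctor (Dual.D A) b).map_injective
  rw [Functor.map_zero, Functor.map_smul]
  rw [← cancel_epi e1.inv, ← cancel_mono e2.hom, comp_zero, zero_comp]
  rw [Linear.comp_smul, Linear.smul_comp, Category.assoc]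
  exact hk

end Tor

section TorMod
variable {A : Type u} [CommRing A] {R : Dual.D A}

lemma Tor.of_linearEquiv {f : A} {i : ℤ} {M M' : Type u} [AddCommGroup M] [Module A M]
    [AddCommGroup M'] [Module A M'] (e : M ≃ₗ[A] M') (h : Tor R f (Dual.inD A M) i) :
    Tor R f (Dual.inD A M') i :=
  Tor.of_iso (inDMapIso e.toModuleIso).symm h

lemma Tor.of_exact {f : A} {i : ℤ} {M₁ M₂ M₃ : Type u} [AddCommGroup M₁] [Module A M₁]
    [AddCommGroup M₂] [Module A M₂] [AddCommGroup M₃] [Module A M₃]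
    (g₁ : M₁ →ₗ[A] M₂) (g₂ : M₂ →ₗ[A] M₃) (hf : Function.Injective g₁)
    (hg : Function.Surjective g₂) (hfg : Function.Exact g₁ g₂)
    (h₁ : Tor R f (Dual.inD A M₁) i) (h₃ : Tor R f (Dual.inD A M₃) i) :
    Tor R f (Dual.inD A M₂) i := by
  let S : ShortComplex (ModuleCat.{u} A) :=
    ShortComplex.mk (ModuleCat.ofHom g₁) (ModuleCat.ofHom g₂) (by
      refine ModuleCat.hom_ext (LinearMap.ext fun x => ?_)
      exact hfg.apply_apply_eq_zero x)
  have hS : S.ShortExact := by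
    have hmono : Mono S.f := (ModuleCat.mono_iff_injective _).mpr hf
    have hepi : Epi S.g := (ModuleCat.epi_iff_surjective _).mpr hg
    refine ShortComplex.ShortExact.mk ?_
    rw [ShortComplex.moduleCat_exact_iff_range_eq_ker]
    exact (LinearMap.exact_iff.mp hfg).symm
  exact Tor.of_triangle hS.singleTriangle hS.singleTriangle_distinguished h₁ h₃

variable [IsNoetherianRing A]

/-- control of `Ext^i(N, R)` by `Ext^i(A/p, R)` for finite modules supported on `V(p)` -/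
theorem tor_of_supported (p : Ideal A) [hp : p.IsPrime] (l : List A)
    (hl : Ideal.span {y | y ∈ l} = p)
    (IH : ∀ q : Ideal A, q.IsPrime → p < q → ∃ b, Bass.VanishAbove R b (A ⧸ q))
    (N : Type u) [AddCommGroup N] [Module A N] [hN : Module.Finite A N]
    (hkill : ∀ y ∈ l, ∀ n : N, ∃ k : ℕ, y ^ k • n = 0) :
    ∃ n₀ : ℤ, ∀ (f : A) (i : ℤ), n₀ ≤ i → Tor R f (Dual.inD A (A ⧸ p)) i →
      Tor R f (Dual.inD A N) i := by
  revert hkill
  refine IsNoetherianRing.induction_on_isQuotientEquivQuotientPrime A hN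
    (motive := fun N _ _ _ => (∀ y ∈ l, ∀ n : N, ∃ k : ℕ, y ^ k • n = 0) →
      ∃ n₀ : ℤ, ∀ (f : A) (i : ℤ), n₀ ≤ i → Tor R f (Dual.inD A (A ⧸ p)) i →
        Tor R f (Dual.inD A N) i) ?_ ?_ ?_
  · intro N _ _ _ _ _
    refine ⟨0, fun f i _ _ => Tor.of_isZero ?_⟩
    exact isZero_inD (M := ModuleCat.of A N) (ModuleCat.isZero_of_subsingleton _)
  · intro N _ _ _ q e hkill
    have hq := q.isPrime
    have hpq : p ≤ q.asIdeal := by
      rw [← hl, Ideal.span_le]
      intro y hy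
      obtain ⟨k, hk⟩ := hkill y hy (e.symm 1)
      have h2 : y ^ k • (1 : A ⧸ q.asIdeal) = 0 := by
        rw [← e.apply_symm_apply 1, ← map_smul, hk, map_zero]
      have h3 : y ^ k ∈ q.asIdeal := by
        rw [← Ideal.Quotient.eq_zero_iff_mem, ← h2]
        simp [Algebra.smul_def]
      exact hq.mem_of_pow_mem k h3
    rcases hpq.lt_or_eq with hlt | heq
    · obtain ⟨b, hb⟩ := IH q.asIdeal hq hlt
      refine ⟨b + 1, fun f i hi _ => Tor.of_subsingleton ?_⟩
      exact (hb.of_linearEquiv e.symm) i (by omega)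
    · refine ⟨0, fun f i _ h => ?_⟩
      have e' : (A ⧸ p) ≃ₗ[A] N := by
        rw [heq]; exact e.symm
      exact Tor.of_linearEquiv e' h
  · intro N₁ _ _ _ N₂ _ _ _ N₃ _ _ _ g₁ g₂ hf hg hfg h₁ h₃ hkill
    obtain ⟨n₁, hn₁⟩ := h₁ (by
      intro y hy n
      obtain ⟨k, hk⟩ := hkill y hy (g₁ n)
      refine ⟨k, hf ?_⟩
      rw [map_smul, hk, map_zero])
    obtain ⟨n₃, hn₃⟩ := h₃ (by
      intro y hy n
      obtain ⟨n', rfl⟩ := hg n
      obtain ⟨k, hk⟩ := hkill y hy n'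
      refine ⟨k, ?_⟩
      rw [← map_smul, hk, map_zero])
    refine ⟨max n₁ n₃, fun f i hi h => ?_⟩
    exact Tor.of_exact g₁ g₂ hf hg hfg (hn₁ f i (le_trans (le_max_left _ _) hi) h)
      (hn₃ f i (le_trans (le_max_right _ _) hi) h)

/-- the module-level control property -/
def Ctl (R : Dual.D A) (p : Ideal A) (M : ModuleCat.{u} A) : Prop :=
  ∃ n₀ : ℤ, ∀ (f : A) (i : ℤ), n₀ ≤ i → Tor R f (Dual.inD A (A ⧸ p)) i →
    Tor R f ((DerivedCategory.singleFunctor (ModuleCat.{u} A) 0).obj M) i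

lemma Ctl.of_iso {p : Ideal A} {M M' : ModuleCat.{u} A} (e : M ≅ M') (h : Ctl R p M) :
    Ctl R p M' := by
  obtain ⟨n₀, hn⟩ := h
  exact ⟨n₀, fun f i hi ht => Tor.of_iso
    ((DerivedCategory.singleFunctor (ModuleCat.{u} A) 0).mapIso e.symm) (hn f i hi ht)⟩

/-- amplitude-aware control of `Hom(X, R[i])` by the cohomology modules of `X` -/
theorem tor_of_amplitude (p : Ideal A) : ∀ (n : ℕ) (a b : ℤ), b < a + n → ∀ X : Dual.D A,
    (∀ i, i < a ∨ b < i → IsZero ((HF A i).obj X)) → (∀ i, Ctl R p ((HF A i).obj X)) →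
    ∃ n₀ : ℤ, ∀ (f : A) (i : ℤ), n₀ ≤ i →
      (∀ i', i + a ≤ i' → i' ≤ i + b → Tor R f (Dual.inD A (A ⧸ p)) i') → Tor R f X i := by
  intro n
  induction n with
  | zero =>
    intro a b hab X hX _
    refine ⟨0, fun f i _ _ => Tor.of_isZero ?_⟩
    apply isZero_of_forall_isZero_HF
    intro i
    apply hX
    simp only [Nat.cast_zero, add_zero] at hab
    omega
  | succ n ih =>
    intro a b hab X hX hQ
    by_cases hab' : a ≤ b
    swap
    · exact ⟨0, fun f i _ _ => Tor.of_isZero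
        (isZero_of_forall_isZero_HF _ (fun i => hX i (by omega)))⟩
    have hT := truncTriangle_distinguished X b
    have hX2 : (truncTriangle X b).obj₂ = X := rfl
    obtain ⟨n₁, hn₁⟩ := ih a (b - 1) (by push_cast at hab; omega) (truncTriangle X b).obj₁ (by
      intro i hi
      by_cases hib : i < b
      · exact IsZero.of_iso (hX i (by omega)) (HFTruncLTIso X b i hib)
      · exact isZero_HF_truncLT X b i (by omega)) (by
      intro i
      by_cases hib : i < b
      · exact (hQ i).of_iso (HFTruncLTIso X b i hib).symm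
      · exact (hQ (b + 1)).of_iso ((hX (b + 1) (by omega)).iso
          (isZero_HF_truncLT X b i (by omega))))
    have h1 : (truncTriangle X b).obj₃.IsGE b := inferInstance
    have h2 : (truncTriangle X b).obj₃.IsLE b := by
      rw [DerivedCategory.isLE_iff]
      intro i hi
      exact IsZero.of_iso (hX i (by omega)) (HFTruncGEIso X b i (by omega)).symm
    obtain ⟨Y, ⟨e⟩⟩ := DerivedCategory.exists_iso_singleFunctor_obj_of_isGE_of_isLE
      (truncTriangle X b).obj₃ b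
    have eY : (HF A b).obj X ≅ Y :=
      HFTruncGEIso X b b le_rfl ≪≫ (HF A b).mapIso e ≪≫ HFSingleIso b Y
    obtain ⟨n₃, hn₃⟩ := (hQ b).of_iso eY
    refine ⟨max n₁ (n₃ - b), fun f i hi hwin => ?_⟩
    refine hX2 ▸ Tor.of_triangle (truncTriangle X b) hT ?_ ?_
    · refine hn₁ f i (le_trans (le_max_left _ _) hi) (fun i' h1' h2' => hwin i' h1' (by omega))
    · refine Tor.of_iso (e ≪≫ singleFunctorShiftIso b Y) ?_
      refine Tor.shift (b := b) (by omega) rfl ?_
      have hi' := le_trans (le_max_right _ _) hi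
      refine hn₃ f (i + b) (by omega) (hwin (i + b) (by omega) le_rfl)

end TorMod

end Groth.Agent.Lib.Helper12.PwInj
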