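import Mathlib
import Groth.Agent.Lib.Helper12.PwInjTor

set_option autoImplicit false
universe u
open CategoryTheory CategoryTheory.Limits CategoryTheory.Pretriangulated
attribute [local instance] HasDerivedCategory.standard
namespace Groth.Agent.Lib.Helper12.PwInj
open Groth.Agent.Lib.Helper12 DRing Groth.Agent.Lib.Helper12.FlatHomBC
open Groth.Agent.Lib.Helper36.InjAmp DerivedCategory

section Kz
variable {A : Type u} [CommRing A]

lemma HF_map_smul_id (K : Dual.D A) (y : A) (j : ℤ) (t : (HF A j).obj K) :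
    ((HF A j).map (y • 𝟙 K)).hom t = y • t := by
  have h := Groth.Agent.Lib.Helper36.derivedCategory_homologyFunctor_map_smul A
    (ModuleCat.{u} A) j y (𝟙 K)
  have h' : (HF A j).map (y • 𝟙 K) = y • 𝟙 ((HF A j).obj K) := by
    rw [← CategoryTheory.Functor.map_id]; exact h
  rw [h']
  rfl

/-- no morphisms `A[0] ⟶ Z[j]` when `H^j(Z) = 0` -/
lemma subsingleton_hom_ring (Z : Dual.D A) (j : ℤ) (hz : IsZero ((HF A j).obj Z)) :
    Subsingleton (Dual.inD A A ⟶ Z⟦j⟧) := by
  have h1 : ∀ g : toD (singleCx j (ModuleCat.of A A)) ⟶ Z, g = 0 := fun g => by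
    apply homClass_injective (k := j) (M := ModuleCat.of A A) Z
    exact hz.eq_of_tgt _ _
  have h2 : ∀ g' : (Dual.inD A A)⟦-j⟧ ⟶ Z, g' = 0 := fun g' => by
    have := h1 ((toDSingleIso j (ModuleCat.of A A)).hom ≫ g')
    rw [← cancel_epi (toDSingleIso j (ModuleCat.of A A)).hom, this, comp_zero]
  have h3 := (hom_shift_eq_zero_iff (Dual.inD A A) Z j).mpr h2
  exact ⟨fun x y => by rw [h3 x, h3 y]⟩

variable [IsNoetherianRing A]

/-- the middle term of an exact sequence of modules with finite ends is finite -/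
lemma finite_of_exact (S : ShortComplex (ModuleCat.{u} A)) (hS : S.Exact)
    (h₁ : Module.Finite A S.X₁) (h₃ : Module.Finite A S.X₃) : Module.Finite A S.X₂ := by
  have hker : LinearMap.range S.f.hom = LinearMap.ker S.g.hom :=
    (ShortComplex.moduleCat_exact_iff_range_eq_ker S).mp hS
  have hr : (LinearMap.range S.f.hom).FG := by
    rw [LinearMap.range_eq_map]
    exact (Module.Finite.fg_top (R := A) (M := S.X₁)).map _
  have hq : Module.Finite A (S.X₂ ⧸ LinearMap.ker S.g.hom) :=
    Module.Finite.equiv (S.g.hom.quotKerEquivRange).symm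
  rw [← hker] at hq
  haveI : Module.Finite A (LinearMap.range S.f.hom) := Module.Finite.iff_fg.mpr hr
  exact Module.Finite.of_submodule_quotient (LinearMap.range S.f.hom)

/-- the **Koszul object** on a list of elements -/
theorem exists_koszul (R : Dual.D A) (b : ℤ) (hb : ∀ i, b < i → IsZero ((HF A i).obj R))
    (l : List A) :
    ∃ K : Dual.D A, (∃ N : ℤ, ∀ i, N < i → Tor R 1 K i) ∧
      (∀ j : ℤ, 0 < j → IsZero ((HF A j).obj K)) ∧
      (∀ j : ℤ, j < -(l.length : ℤ) → IsZero ((HF A j).obj K)) ∧
      (∀ j : ℤ, Module.Finite A ((HF A j).obj K)) ∧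
      (∀ j : ℤ, ∀ y ∈ l, ∀ h : (HF A j).obj K, ∃ k : ℕ, y ^ k • h = 0) ∧
      ∃ g : A →ₗ[A] (HF A 0).obj K, Function.Surjective g ∧
        LinearMap.ker g = Ideal.span {y | y ∈ l} := by
  induction l with
  | nil =>
    refine ⟨Dual.inD A A, ⟨b, fun i hi => Tor.of_subsingleton
      (subsingleton_hom_ring R i (hb i hi))⟩, ?_, ?_, ?_, ?_, ?_⟩
    · intro j hj
      exact isZero_HF_single 0 _ j (by omega)
    · intro j hj
      simp only [List.length_nil, Nat.cast_zero, neg_zero] at hj
      exact isZero_HF_single 0 _ j (by omega)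
    · intro j
      by_cases hj : j = 0
      · subst hj
        exact Module.Finite.equiv (HFSingleIso 0 (ModuleCat.of A A)).symm.toLinearEquiv
      · have hz := isZero_HF_single 0 (ModuleCat.of A A) j hj
        haveI : Subsingleton ((HF A j).obj (Dual.inD A A)) :=
          ModuleCat.subsingleton_of_isZero hz
        infer_instance
    · intro j y hy
      simp at hy
    · refine ⟨(HFSingleIso 0 (ModuleCat.of A A)).symm.toLinearEquiv.toLinearMap,
        (HFSingleIso 0 (ModuleCat.of A A)).symm.toLinearEquiv.surjective, ?_⟩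
      rw [LinearEquiv.ker]
      simp
  | cons y l ih =>
    obtain ⟨K, ⟨N, hN⟩, hpos, hneg, hfin, hkill, g, hg, hker⟩ := ih
    obtain ⟨C, u, v, hT⟩ := distinguished_cocone_triangle (y • 𝟙 K)
    set T := Triangle.mk (y • 𝟙 K) u v with hTdef
    -- elementwise facts
    let δ' : ∀ j : ℤ, (HF A j).obj C →ₗ[A] (HF A (j + 1)).obj K := fun j =>
      (HomologySequence.δ T j (j + 1) rfl).hom
    have fa : ∀ (j : ℤ) (x : (HF A j).obj C),
        δ' j x = 0 →
        ∃ t : (HF A j).obj K, ((HF A j).map u).hom t = x := fun j x hx =>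
      (ShortComplex.moduleCat_exact_iff _).mp (HomologySequence.exact₃ T hT j (j + 1) rfl) x hx
    have fb : ∀ (j : ℤ) (x : (HF A j).obj C),
        y • δ' j x = 0 := fun j x => by
      have e2 := congrArg (fun f => f.hom x) (HomologySequence.δ_comp T hT j (j + 1) rfl)
      simp only [ModuleCat.hom_comp, LinearMap.comp_apply] at e2
      have e3 : ((HF A (j + 1)).map (y • 𝟙 K)).hom
          ((HomologySequence.δ T j (j + 1) rfl).hom x) = 0 := e2
      exact (HF_map_smul_id K y (j + 1) _).symm.trans e3
    have fc : ∀ (j : ℤ) (t : (HF A j).obj K), ((HF A j).map u).hom (y • t) = 0 := fun j t => by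
      have h0 : (HF A j).map (y • 𝟙 K) ≫ (HF A j).map u = 0 := by
        rw [← Functor.map_comp]
        have := comp_distTriang_mor_zero₁₂ T hT
        change (HF A j).map (T.mor₁ ≫ T.mor₂) = 0
        rw [this, Functor.map_zero]
      have e2 := congrArg (fun f => f.hom t) h0
      simp only [ModuleCat.hom_comp, LinearMap.comp_apply] at e2
      have e3 : ((HF A j).map u).hom (((HF A j).map (y • 𝟙 K)).hom t) = 0 := e2
      rw [HF_map_smul_id K y j t] at e3
      exact e3
    have fd : ∀ (j : ℤ) (t : (HF A j).obj K), ((HF A j).map u).hom t = 0 →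
        ∃ s : (HF A j).obj K, y • s = t := fun j t ht => by
      obtain ⟨s, hs⟩ := (ShortComplex.moduleCat_exact_iff _).mp
        (HomologySequence.exact₂ T hT j) t ht
      refine ⟨s, ?_⟩
      have : ((HF A j).map (y • 𝟙 K)).hom s = t := hs
      exact (HF_map_smul_id K y j s).symm.trans this
    have hS : ∀ j : ℤ, (ShortComplex.mk ((HF A j).map u)
        (HomologySequence.δ T j (j + 1) rfl)
        (HomologySequence.comp_δ T hT j (j + 1) rfl)).Exact := fun j =>
      HomologySequence.exact₃ T hT j (j + 1) rfl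
    refine ⟨C, ⟨N + 1, fun i hi => ?_⟩, ?_, ?_, ?_, ?_, ?_⟩
    · -- `Hom(C, R[i])` between `Hom(K[1], R[i])` and `Hom(K, R[i])`
      have hrot := rot_of_distTriang _ hT
      refine Tor.of_triangle T.rotate hrot (hN i (by omega)) ?_
      exact Tor.shift (b := -1) (c := 1) (by omega) rfl (hN (i + -1) (by omega))
    · intro j hj
      exact (hS j).isZero_of_both_zeros ((hpos j hj).eq_of_src _ _)
        ((hpos (j + 1) (by omega)).eq_of_tgt _ _)
    · intro j hj
      simp only [List.length_cons, Nat.cast_add, Nat.cast_one] at hj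
      exact (hS j).isZero_of_both_zeros ((hneg j (by omega)).eq_of_src _ _)
        ((hneg (j + 1) (by omega)).eq_of_tgt _ _)
    · intro j
      exact finite_of_exact _ (hS j) (hfin j) (hfin (j + 1))
    · intro j y' hy' x
      rcases List.mem_cons.mp hy' with rfl | hy'
      · refine ⟨2, ?_⟩
        have h1 : δ' j (y' • x) = 0 := by
          rw [map_smul]; exact fb j x
        obtain ⟨t, ht⟩ := fa j _ h1
        rw [pow_two, mul_smul, ← ht, ← map_smul]
        exact fc j t
      · obtain ⟨k, hk⟩ := hkill (j + 1) y' hy' (δ' j x)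
        have h1 : δ' j (y' ^ k • x) = 0 := by
          rw [map_smul]; exact hk
        obtain ⟨t, ht⟩ := fa j _ h1
        obtain ⟨k', hk'⟩ := hkill j y' hy' t
        refine ⟨k' + k, ?_⟩
        rw [pow_add, mul_smul, ← ht, ← map_smul, hk', map_zero]
    · refine ⟨((HF A 0).map u).hom ∘ₗ g, ?_, ?_⟩
      · intro x
        have h1 : δ' 0 x = 0 :=
          (ModuleCat.subsingleton_of_isZero (hpos (0 + 1) (by omega))).elim _ _
        obtain ⟨t, ht⟩ := fa 0 x h1
        obtain ⟨a, rfl⟩ := hg t
        exact ⟨a, ht⟩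
      · ext a
        rw [LinearMap.mem_ker, LinearMap.comp_apply]
        have hset : {z | z ∈ y :: l} = insert y {z | z ∈ l} := by
          ext z; simp
        rw [hset, Ideal.mem_span_insert]
        constructor
        · intro h
          obtain ⟨s, hs⟩ := fd 0 _ h
          obtain ⟨a', rfl⟩ := hg s
          refine ⟨a', a - a' * y, ?_, by ring⟩
          rw [← hker, LinearMap.mem_ker, map_sub, ← hs, mul_comm, ← smul_eq_mul, map_smul,
            sub_self]
        · rintro ⟨a', z, hz, rfl⟩
          rw [← hker, LinearMap.mem_ker] at hz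
          rw [map_add, hz, add_zero, mul_comm, ← smul_eq_mul, map_smul]
          exact fc 0 _

end Kz

end Groth.Agent.Lib.Helper12.PwInj
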