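import Mathlib
import Groth.Agent.Lib.Helper12.PwInjKoszul

set_option autoImplicit false
universe u
open CategoryTheory CategoryTheory.Limits CategoryTheory.Pretriangulated
attribute [local instance] HasDerivedCategory.standard
namespace Groth.Agent.Lib.Helper12.PwInj
open Groth.Agent.Lib.Helper12 DRing Groth.Agent.Lib.Helper12.FlatHomBC
open Groth.Agent.Lib.Helper36.InjAmp DerivedCategory

section Main
variable {A : Type u} [CommRing A] {R : Dual.D A}

lemma Tor.of_one {f : A} {X : Dual.D A} {i : ℤ} (h : Tor R 1 X i) : Tor R f X i :=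
  fun φ => ⟨0, by rw [h.eq_zero φ, smul_zero]⟩

lemma Tor.of_dvd {f₁ f : A} {X : Dual.D A} {i : ℤ} (hd : f₁ ∣ f) (h : Tor R f₁ X i) :
    Tor R f X i := by
  intro φ
  obtain ⟨c, rfl⟩ := hd
  obtain ⟨k, hk⟩ := h φ
  exact ⟨k, by rw [mul_pow, mul_comm, mul_smul, hk, smul_zero]⟩

lemma _root_.Groth.Agent.Lib.Helper12.Bass.VanishAbove.mono {b b' : ℤ} (hbb : b ≤ b')
    {M : Type u} [AddCommGroup M] [Module A M] (h : Bass.VanishAbove R b M) :
    Bass.VanishAbove R b' M := fun i hi => h i (by omega)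

variable [IsNoetherianRing A]

/-- dévissage with non-uniform bounds -/
theorem exVanish_of_forall_prime_ge (J : Ideal A)
    (IH : ∀ q : Ideal A, q.IsPrime → J ≤ q → ∃ b, Bass.VanishAbove R b (A ⧸ q))
    (N : Type u) [AddCommGroup N] [Module A N] [hN : Module.Finite A N]
    (hkill : ∀ y ∈ J, ∀ n : N, y • n = 0) : ∃ b, Bass.VanishAbove R b N := by
  revert hkill
  refine IsNoetherianRing.induction_on_isQuotientEquivQuotientPrime A hN
    (motive := fun N _ _ _ => (∀ y ∈ J, ∀ n : N, y • n = 0) → ∃ b, Bass.VanishAbove R b N)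
    ?_ ?_ ?_
  · intro N _ _ _ _ _
    exact ⟨0, Bass.VanishAbove.of_subsingleton N⟩
  · intro N _ _ _ q e hkill
    have hJq : J ≤ q.asIdeal := by
      intro y hy
      have h1 := hkill y hy (e.symm 1)
      have h2 : y • (1 : A ⧸ q.asIdeal) = 0 := by
        rw [← e.apply_symm_apply 1, ← map_smul, h1, map_zero]
      rw [← Ideal.Quotient.eq_zero_iff_mem]
      rw [← h2]
      simp [Algebra.smul_def]
    obtain ⟨b, hb⟩ := IH q.asIdeal q.isPrime hJq
    exact ⟨b, hb.of_linearEquiv e.symm⟩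
  · intro N₁ _ _ _ N₂ _ _ _ N₃ _ _ _ f g hf hg hfg h₁ h₃ hkill
    obtain ⟨b₁, hb₁⟩ := h₁ (by
      intro y hy n
      apply hf
      rw [map_smul, hkill y hy, map_zero])
    obtain ⟨b₃, hb₃⟩ := h₃ (by
      intro y hy n
      obtain ⟨n', rfl⟩ := hg n
      rw [← map_smul, hkill y hy, map_zero])
    exact ⟨max b₁ b₃, Bass.VanishAbove.of_exact f g hf hg hfg (hb₁.mono (le_max_left _ _))
      (hb₃.mono (le_max_right _ _))⟩

/-- the prime step -/
theorem exVanish_quotient_prime (a b : ℤ)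
    (hlow : ∀ j, j < a → IsZero ((HF A j).obj R)) (hhigh : ∀ j, b < j → IsZero ((HF A j).obj R))
    (hfin : ∀ j, Module.Finite A ((HF A j).obj R))
    (hloc : ∀ p : Ideal A, p.IsPrime → ∃ d : ℤ, ∀ i, d < i →
       ∀ φ : Dual.inD A (A ⧸ p) ⟶ R⟦i⟧, ∃ s ∉ p, s • φ = 0) :
    ∀ p : Ideal A, p.IsPrime → ∃ c, Bass.VanishAbove R c (A ⧸ p) := by
  intro p
  refine IsNoetherian.induction
    (P := fun p : Ideal A => p.IsPrime → ∃ c, Bass.VanishAbove R c (A ⧸ p)) ?_ p
  intro (p : Ideal A) IH (hp : p.IsPrime)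
  have IH' : ∀ q : Ideal A, q.IsPrime → p < q → ∃ b, Bass.VanishAbove R b (A ⧸ q) :=
    fun q hq hlt => IH q hlt hq
  have hTfin : ∀ i, Module.Finite A (Dual.inD A (A ⧸ p) ⟶ R⟦i⟧) := fun i =>
    HomFinite.finite_hom _ (R⟦i⟧) (DualizingBC.isPseudoCoherent'_inD (A ⧸ p)) (a - i)
      (fun j hj => isZero_HF_shift R i j (hlow _ (by omega)))
      (fun j => HomFinite.finite_HF_shift R i j (hfin _))
  obtain ⟨d, hd⟩ := hloc p hp
  have hf : ∀ i, d < i → ∃ f, f ∉ p ∧ Tor R f (Dual.inD A (A ⧸ p)) i := by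
    intro i hi
    haveI : Subsingleton (LocalizedModule p.primeCompl (Dual.inD A (A ⧸ p) ⟶ R⟦i⟧)) := by
      rw [LocalizedModule.subsingleton_iff]
      intro φ
      obtain ⟨s, hs, h⟩ := hd i hi φ
      exact ⟨s, hs, h⟩
    haveI := hTfin i
    obtain ⟨f, hfp, hsub⟩ := LocalizedModule.exists_subsingleton_away
      (M := (Dual.inD A (A ⧸ p) ⟶ R⟦i⟧)) p
    refine ⟨f, hfp, fun φ => ?_⟩
    obtain ⟨r, ⟨k, rfl⟩, hr⟩ := LocalizedModule.subsingleton_iff.mp hsub φ
    exact ⟨k, hr⟩
  -- generators of `p`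
  obtain ⟨s, hs⟩ := (inferInstance : IsNoetherian A A).noetherian p
  have hl : Ideal.span {y | y ∈ s.toList} = p := by
    rw [← hs]
    congr 1
    ext y
    simp
  set m : ℕ := s.toList.length with hm
  obtain ⟨K, ⟨N, hN⟩, hpos, hneg, hKfin, hkill, g, hg, hker⟩ := exists_koszul R b hhigh s.toList
  have hctl : ∀ j : ℤ, Ctl R p ((HF A j).obj K) := fun j => by
    haveI := hKfin j
    exact tor_of_supported p s.toList hl IH' ((HF A j).obj K) (hkill j)
  -- the truncation triangle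
  have hT := truncTriangle_distinguished K 0
  obtain ⟨n₁, hn₁⟩ := tor_of_amplitude (R := R) p (m + 1) (-(m : ℤ)) (-1) (by omega)
    (truncTriangle K 0).obj₁ (by
      intro i hi
      by_cases hi0 : i < 0
      · exact IsZero.of_iso (hneg i (by omega)) (HFTruncLTIso K 0 i hi0)
      · exact isZero_HF_truncLT K 0 i (by omega)) (by
      intro i
      by_cases hi0 : i < 0
      · exact (hctl i).of_iso (HFTruncLTIso K 0 i hi0).symm
      · exact ⟨0, fun f i' _ _ => Tor.of_isZero
          ((DerivedCategory.singleFunctor (ModuleCat.{u} A) 0).map_isZero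
            (isZero_HF_truncLT K 0 i (by omega)))⟩)
  have h1 : (truncTriangle K 0).obj₃.IsGE 0 := inferInstance
  have h2 : (truncTriangle K 0).obj₃.IsLE 0 := by
    rw [DerivedCategory.isLE_iff]
    intro i hi
    exact IsZero.of_iso (hpos i (by omega)) (HFTruncGEIso K 0 i (by omega)).symm
  obtain ⟨Y, ⟨e⟩⟩ := DerivedCategory.exists_iso_singleFunctor_obj_of_isGE_of_isLE
    (truncTriangle K 0).obj₃ 0
  have eY : (HF A 0).obj K ≅ Y :=
    HFTruncGEIso K 0 0 le_rfl ≪≫ (HF A 0).mapIso e ≪≫ HFSingleIso 0 Y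
  have hpk : p = LinearMap.ker g := (hker.trans hl).symm
  let e₀ : (A ⧸ p) ≃ₗ[A] (HF A 0).obj K :=
    (Submodule.quotEquivOfEq p (LinearMap.ker g) hpk).trans (g.quotKerEquivOfSurjective hg)
  let eB : Dual.inD A (A ⧸ p) ≅ (truncTriangle K 0).obj₃ :=
    (DerivedCategory.singleFunctor (ModuleCat.{u} A) 0).mapIso (e₀.toModuleIso ≪≫ eY) ≪≫ e.symm
  -- the key recursion
  have key : ∀ (f : A) (i : ℤ), max (N + 1) (n₁ + 1) ≤ i →
      (∀ i', i - 1 - m ≤ i' → i' ≤ i - 2 → Tor R f (Dual.inD A (A ⧸ p)) i') →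
      Tor R f (Dual.inD A (A ⧸ p)) i := by
    intro f i hi hwin
    have hi1 := le_trans (le_max_left _ _) hi
    have hi2 := le_trans (le_max_right _ _) hi
    refine Tor.of_iso eB ?_
    have hrot := rot_of_distTriang _ hT
    refine Tor.of_triangle (truncTriangle K 0).rotate hrot (Tor.of_one (hN i (by omega))) ?_
    refine Tor.shift (b := -1) (c := 1) (by omega) rfl ?_
    exact hn₁ f (i + -1) (by omega) (fun i' h1' h2' => hwin i' (by omega) (by omega))
  -- the window
  set w : ℤ := max (max (N + 1) (n₁ + 1)) (d + 1) with hw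
  let F : ℤ → A := fun i => if h : d < i then (hf i h).choose else 1
  have hF1 : ∀ i, d < i → F i ∉ p := fun i h => by
    simp only [F, dif_pos h]; exact (hf i h).choose_spec.1
  have hF2 : ∀ i, d < i → Tor R (F i) (Dual.inD A (A ⧸ p)) i := fun i h => by
    simp only [F, dif_pos h]; exact (hf i h).choose_spec.2
  set f : A := ∏ t ∈ Finset.range (m + 1), F (w + t) with hfdef
  have hfp : f ∉ p := by
    rw [hfdef, hp.prod_mem_iff]
    rintro ⟨t, _, ht⟩
    exact hF1 (w + t) (by have := le_max_right (max (N + 1) (n₁ + 1)) (d + 1); omega) ht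
  have hall : ∀ n : ℕ, Tor R f (Dual.inD A (A ⧸ p)) (w + n) := by
    intro n
    induction n using Nat.strong_induction_on with
    | _ n ihn =>
      by_cases hnm : n < m + 1
      · refine Tor.of_dvd (Finset.dvd_prod_of_mem _ (Finset.mem_range.mpr hnm)) ?_
        exact hF2 (w + n) (by have := le_max_right (max (N + 1) (n₁ + 1)) (d + 1); omega)
      · refine key f (w + n) (by have := le_max_left (max (N + 1) (n₁ + 1)) (d + 1); omega) ?_
        intro i' h1' h2'
        obtain ⟨n', rfl⟩ : ∃ n' : ℕ, i' = w + n' := ⟨(i' - w).toNat, by omega⟩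
        exact ihn n' (by omega)
  -- injectivity of `f` on `Ext^i(A/p, R)` for large `i`
  let Rg : Submodule A (A ⧸ p) := LinearMap.range (LinearMap.lsmul A (A ⧸ p) f)
  obtain ⟨c', hc'⟩ : ∃ c', Bass.VanishAbove R c' ((A ⧸ p) ⧸ Rg) := by
    refine exVanish_of_forall_prime_ge (p ⊔ Ideal.span {f}) ?_ _ ?_
    · intro q hq hJq
      have hpq : p < q := by
        refine lt_of_le_of_ne (le_sup_left.trans hJq) ?_
        intro h
        apply hfp
        rw [h]
        exact hJq (Ideal.mem_sup_right (Ideal.mem_span_singleton_self f))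
      exact IH q hpq hq
    · intro y hy n
      obtain ⟨n, rfl⟩ := Submodule.mkQ_surjective Rg n
      obtain ⟨n, rfl⟩ := Ideal.Quotient.mk_surjective n
      obtain ⟨y₁, hy₁, y₂, hy₂, rfl⟩ := Submodule.mem_sup.mp hy
      obtain ⟨c, rfl⟩ := Ideal.mem_span_singleton'.mp hy₂
      rw [← map_smul, Submodule.mkQ_apply, Submodule.Quotient.mk_eq_zero]
      refine ⟨c • Ideal.Quotient.mk p n, ?_⟩
      show f • (c • Ideal.Quotient.mk p n) = (y₁ + c * f) • Ideal.Quotient.mk p n
      rw [add_smul]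
      have : y₁ • Ideal.Quotient.mk p n = 0 := by
        rw [← Ideal.Quotient.mk_eq_mk, ← Submodule.Quotient.mk_smul, Submodule.Quotient.mk_eq_zero]
        exact p.mul_mem_right n hy₁
      rw [this, zero_add, smul_smul, mul_comm]
  have hinj : ∀ i, c' < i → ∀ ψ : Dual.inD A (A ⧸ p) ⟶ R⟦i⟧, f • ψ = 0 → ψ = 0 := by
    intro i hi ψ hψ
    let S : ShortComplex (ModuleCat.{u} A) :=
      ShortComplex.mk (ModuleCat.ofHom (LinearMap.lsmul A (A ⧸ p) f)) (ModuleCat.ofHom Rg.mkQ) (by
        refine ModuleCat.hom_ext (LinearMap.ext fun z => ?_)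
        show Rg.mkQ (LinearMap.lsmul A (A ⧸ p) f z) = 0
        rw [Submodule.mkQ_apply, Submodule.Quotient.mk_eq_zero]
        exact ⟨z, rfl⟩)
    have hS : S.ShortExact := by
      have hmono : Mono S.f := by
        rw [ModuleCat.mono_iff_injective]
        show Function.Injective (LinearMap.lsmul A (A ⧸ p) f)
        rw [← LinearMap.ker_eq_bot, LinearMap.ker_eq_bot']
        intro z hz
        obtain ⟨z, rfl⟩ := Ideal.Quotient.mk_surjective z
        have h1 : Ideal.Quotient.mk p (f * z) = 0 := by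
          rw [map_mul]
          exact hz
        rw [Ideal.Quotient.eq_zero_iff_mem] at h1 ⊢
        exact (hp.mem_or_mem h1).resolve_left hfp
      have hepi : Epi S.g := (ModuleCat.epi_iff_surjective _).mpr Rg.mkQ_surjective
      refine ShortComplex.ShortExact.mk ?_
      rw [ShortComplex.moduleCat_exact_iff_range_eq_ker]
      show Rg = LinearMap.ker Rg.mkQ
      rw [Submodule.ker_mkQ]
    have hT' := hS.singleTriangle_distinguished
    obtain ⟨z, hz⟩ := Triangle.yoneda_exact₂ _ hT' ψ (by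
      have := Bass.map_lsmul_comp f (A ⧸ p) ψ
      exact this.trans hψ)
    have : Subsingleton (hS.singleTriangle.obj₃ ⟶ R⟦i⟧) := hc' i hi
    rw [hz, Subsingleton.elim z 0]
    exact comp_zero
  refine ⟨max (w - 1) c', fun i hi => ⟨fun x y => ?_⟩⟩
  have h0 : ∀ ψ : Dual.inD A (A ⧸ p) ⟶ R⟦i⟧, ψ = 0 := by
    intro ψ
    obtain ⟨n', hn'⟩ : ∃ n' : ℕ, i = w + n' :=
      ⟨(i - w).toNat, by have := le_max_left (w - 1) c'; omega⟩
    obtain ⟨k, hk⟩ := (hn' ▸ hall n') ψ
    have hic : c' < i := by have := le_max_right (w - 1) c'; omega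
    clear hn'
    induction k with
    | zero => rwa [pow_zero, one_smul] at hk
    | succ k ihk =>
      apply ihk
      apply hinj i hic
      rw [smul_smul, ← pow_succ']
      exact hk
  rw [h0 x, h0 y]

/-- **eventual vanishing** of `Ext^i(M, R)` for finite `M` -/
theorem exists_vanishAbove (a b : ℤ)
    (hlow : ∀ j, j < a → IsZero ((HF A j).obj R)) (hhigh : ∀ j, b < j → IsZero ((HF A j).obj R))
    (hfin : ∀ j, Module.Finite A ((HF A j).obj R))
    (hloc : ∀ p : Ideal A, p.IsPrime → ∃ d : ℤ, ∀ i, d < i →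
       ∀ φ : Dual.inD A (A ⧸ p) ⟶ R⟦i⟧, ∃ s ∉ p, s • φ = 0)
    (M : Type u) [AddCommGroup M] [Module A M] [Module.Finite A M] :
    ∃ c, Bass.VanishAbove R c M :=
  exVanish_of_forall_prime_ge ⊥
    (fun q hq _ => exVanish_quotient_prime a b hlow hhigh hfin hloc q hq) M (by
      intro y hy n
      rw [Ideal.mem_bot] at hy
      rw [hy, zero_smul])

end Main

end Groth.Agent.Lib.Helper12.PwInj
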