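import Mathlib.RingTheory.Finiteness.ModuleFinitePresentation
import Mathlib.RingTheory.FinitePresentation
import Mathlib.LinearAlgebra.TensorProduct.Associator
import Mathlib.RingTheory.TensorProduct.Basic

/-!
# Relative finite presentation: transfer of `Module.FinitePresentation` along surjections
-/

set_option autoImplicit false
universe u v w

open TensorProduct

namespace Groth.Agent.Lib.Helper12

section Surj

variable {P : Type u} {Q : Type v} {M : Type w} [CommRing P] [CommRing Q] [Algebra P Q]
  [AddCommGroup M] [Module P M] [Module Q M] [IsScalarTower P Q M]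

/-- descending finite presentation along a surjection. -/
lemma fp_of_surjective (h : Function.Surjective (algebraMap P Q))
    [Module.FinitePresentation P M] : Module.FinitePresentation Q M := by
  have : TensorProduct.CompatibleSMul P Q Q M :=
    TensorProduct.CompatibleSMul.of_algebraMap_surjective (M := Q) (N := M) h
  exact Module.FinitePresentation.of_equiv (TensorProduct.lidOfCompatibleSMul P Q M)

/-- ascending finite presentation along a surjection with finitely generated kernel. -/
lemma fp_of_surjective_of_fg_ker (h : Function.Surjective (algebraMap P Q))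
    (hker : (RingHom.ker (algebraMap P Q)).FG)
    [Module.FinitePresentation Q M] : Module.FinitePresentation P M := by
  have : Module.FinitePresentation P Q :=
    Module.finitePresentation_of_surjective (Algebra.linearMap P Q) h hker
  exact Module.FinitePresentation.trans P M Q

lemma fp_iff_of_surjective_of_fg_ker (h : Function.Surjective (algebraMap P Q))
    (hker : (RingHom.ker (algebraMap P Q)).FG) :
    Module.FinitePresentation Q M ↔ Module.FinitePresentation P M :=
  ⟨fun _ => fp_of_surjective_of_fg_ker h hker, fun _ => fp_of_surjective h⟩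

end Surj

end Groth.Agent.Lib.Helper12

namespace Groth.Agent.Lib.Helper12

section AlgSurj

variable {R : Type u} {P Q A : Type*} [CommRing R] [CommRing P] [CommRing Q] [CommRing A]
  [Algebra R P] [Algebra R Q] [Algebra R A]

/-- transfer along a surjection of rings (ring hom version, explicit module structures). -/
lemma fp_compHom_iff_of_surjective_ringHom (π : P →+* Q) (hπ : Function.Surjective π)
    (hker : (RingHom.ker π).FG) (α : Q →+* A) (M : Type*) [AddCommGroup M] [Module A M] :
    @Module.FinitePresentation Q M _ _ (Module.compHom M α) ↔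
      @Module.FinitePresentation P M _ _ (Module.compHom M (α.comp π)) := by
  let _ : Module Q M := Module.compHom M α
  let _ : Module P M := Module.compHom M (α.comp π)
  let _ : Algebra P Q := π.toAlgebra
  have : IsScalarTower P Q M := ⟨fun p q m => by
    show α (π p * q) • m = (α (π p)) • (α q • m)
    rw [map_mul, mul_smul]⟩
  exact fp_iff_of_surjective_of_fg_ker (P := P) (Q := Q) (M := M) hπ hker

/-- transfer along a surjection of finitely presented algebras. -/
lemma fp_compHom_iff_of_surjective [Algebra.FinitePresentation R P]
    [Algebra.FinitePresentation R Q] (π : P →ₐ[R] Q) (hπ : Function.Surjective π)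
    (α : Q →ₐ[R] A) (M : Type*) [AddCommGroup M] [Module A M] :
    @Module.FinitePresentation Q M _ _ (Module.compHom M α.toRingHom) ↔
      @Module.FinitePresentation P M _ _ (Module.compHom M (α.comp π).toRingHom) :=
  fp_compHom_iff_of_surjective_ringHom π.toRingHom hπ
    (Algebra.FinitePresentation.ker_fG_of_surjective π hπ) α.toRingHom M

end AlgSurj

section Indep

variable {R : Type u} {A : Type*} [CommRing R] [CommRing A] [Algebra R A]

/-- Independence of the presentation: finite presentation over a polynomial ring surjecting
onto `A` does not depend on the chosen surjection. -/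
lemma fp_indep {σ τ : Type*} [Finite σ] [Finite τ] (M : Type*) [AddCommGroup M] [Module A M]
    (α : MvPolynomial σ R →ₐ[R] A) (hα : Function.Surjective α)
    (β : MvPolynomial τ R →ₐ[R] A) (hβ : Function.Surjective β) :
    @Module.FinitePresentation (MvPolynomial σ R) M _ _ (Module.compHom M α.toRingHom) ↔
      @Module.FinitePresentation (MvPolynomial τ R) M _ _ (Module.compHom M β.toRingHom) := by
  classical
  choose f hf using fun t : τ => hα (β (MvPolynomial.X t))
  choose g hg using fun s : σ => hβ (α (MvPolynomial.X s))
  let π₁ : MvPolynomial (σ ⊕ τ) R →ₐ[R] MvPolynomial σ R :=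
    MvPolynomial.aeval (Sum.elim MvPolynomial.X f)
  let π₂ : MvPolynomial (σ ⊕ τ) R →ₐ[R] MvPolynomial τ R :=
    MvPolynomial.aeval (Sum.elim g MvPolynomial.X)
  have hπ₁ : Function.Surjective π₁ := by
    intro p
    refine ⟨MvPolynomial.rename Sum.inl p, ?_⟩
    have : π₁.comp (MvPolynomial.rename Sum.inl) = AlgHom.id R _ := by
      apply MvPolynomial.algHom_ext
      intro s
      simp [π₁]
    exact congrArg (fun φ => φ p) this
  have hπ₂ : Function.Surjective π₂ := by
    intro p
    refine ⟨MvPolynomial.rename Sum.inr p, ?_⟩
    have : π₂.comp (MvPolynomial.rename Sum.inr) = AlgHom.id R _ := by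
      apply MvPolynomial.algHom_ext
      intro s
      simp [π₂]
    exact congrArg (fun φ => φ p) this
  have hcomp : α.comp π₁ = β.comp π₂ := by
    apply MvPolynomial.algHom_ext
    rintro (s | t)
    · simp [π₁, π₂, hg]
    · simp [π₁, π₂, hf]
  rw [fp_compHom_iff_of_surjective π₁ hπ₁ α M, fp_compHom_iff_of_surjective π₂ hπ₂ β M, hcomp]

end Indep

end Groth.Agent.Lib.Helper12

namespace Groth.Agent.Lib.Helper12

/-- finite presentation over the source of a surjection gives finite presentation over the
target. -/
lemma fp_of_compHom_surjective {P A : Type*} [CommRing P] [CommRing A] (α : P →+* A)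
    (hα : Function.Surjective α) (M : Type*) [AddCommGroup M] [Module A M]
    (h : @Module.FinitePresentation P M _ _ (Module.compHom M α)) :
    Module.FinitePresentation A M := by
  let _ : Module P M := Module.compHom M α
  let _ : Algebra P A := α.toAlgebra
  have : IsScalarTower P A M := ⟨fun p a m => by
    show (α p * a) • m = (α p) • (a • m)
    rw [mul_smul]⟩
  exact fp_of_surjective (P := P) (Q := A) (M := M) hα

end Groth.Agent.Lib.Helper12

namespace Groth.Agent.Lib.Helper12

/-- Transitivity: finitely presented relative to a finitely presented `R`-algebra `A` implies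
finitely presented relative to `R`. -/
lemma fp_rel_trans {R A B : Type*} [CommRing R] [CommRing A] [CommRing B] [Algebra R A]
    [Algebra A B] [Algebra R B] [IsScalarTower R A B] [Algebra.FinitePresentation R A]
    (M : Type*) [AddCommGroup M] [Module B M] {σ τ : Type*} [Finite σ] [Finite τ]
    (α : MvPolynomial σ A →ₐ[A] B) (hα : Function.Surjective α)
    (β : MvPolynomial τ R →ₐ[R] B) (hβ : Function.Surjective β)
    (hM : @Module.FinitePresentation (MvPolynomial σ A) M _ _ (Module.compHom M α.toRingHom)) :
    @Module.FinitePresentation (MvPolynomial τ R) M _ _ (Module.compHom M β.toRingHom) := by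
  classical
  obtain ⟨m, θ, hθ, -⟩ := (Algebra.FinitePresentation.out :
    ∃ (m : ℕ) (θ : MvPolynomial (Fin m) R →ₐ[R] A),
      Function.Surjective θ ∧ (RingHom.ker θ.toRingHom).FG)
  have : Algebra.FinitePresentation R (MvPolynomial σ A) :=
    Algebra.FinitePresentation.trans R A _
  let π : MvPolynomial (σ ⊕ Fin m) R →ₐ[R] MvPolynomial σ A :=
    MvPolynomial.aeval (Sum.elim MvPolynomial.X (fun j => MvPolynomial.C (θ (MvPolynomial.X j))))
  have hπC : ∀ a : A, (MvPolynomial.C a : MvPolynomial σ A) ∈ π.range := by
    intro a
    obtain ⟨p, rfl⟩ := hθ a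
    refine ⟨MvPolynomial.rename Sum.inr p, ?_⟩
    have : π.comp (MvPolynomial.rename Sum.inr) =
        (IsScalarTower.toAlgHom R A (MvPolynomial σ A)).comp θ := by
      apply MvPolynomial.algHom_ext
      intro j
      simp [π]
    exact congrArg (fun φ => φ p) this
  have hπ : Function.Surjective π := by
    intro q
    rw [← AlgHom.mem_range]
    induction q using MvPolynomial.induction_on with
    | C a => exact hπC a
    | add p q hp hq => exact add_mem hp hq
    | mul_X p i hp => exact mul_mem hp ⟨MvPolynomial.X (Sum.inl i), by simp [π]⟩
  have h1 := (fp_compHom_iff_of_surjective π hπ (α.restrictScalars R) M).mp hM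
  exact (fp_indep M ((α.restrictScalars R).comp π) (hα.comp hπ) β hβ).mp h1

end Groth.Agent.Lib.Helper12

namespace Groth.Agent.Lib.Helper12

/-- Independence of the presentation, where one side is an arbitrary finitely presented
`R`-algebra surjecting onto `A`. -/
lemma fp_indep_gen {R : Type u} {P A : Type*} [CommRing R] [CommRing P] [CommRing A]
    [Algebra R P] [Algebra R A] [Algebra.FinitePresentation R P]
    {τ : Type*} [Finite τ] (M : Type*) [AddCommGroup M] [Module A M]
    (ρ : P →ₐ[R] A) (hρ : Function.Surjective ρ)
    (β : MvPolynomial τ R →ₐ[R] A) (hβ : Function.Surjective β) :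
    @Module.FinitePresentation P M _ _ (Module.compHom M ρ.toRingHom) ↔
      @Module.FinitePresentation (MvPolynomial τ R) M _ _ (Module.compHom M β.toRingHom) := by
  obtain ⟨m, ψ, hψ, -⟩ := (Algebra.FinitePresentation.out :
    ∃ (m : ℕ) (ψ : MvPolynomial (Fin m) R →ₐ[R] P),
      Function.Surjective ψ ∧ (RingHom.ker ψ.toRingHom).FG)
  rw [fp_compHom_iff_of_surjective ψ hψ ρ M]
  exact fp_indep M (ρ.comp ψ) (hρ.comp hψ) β hβ

/-- Stacks 0564: for a finite free (more generally finite and finitely presented as a module)
ring extension `P → P₀` and a `P₀`-module `M`, finite presentation over `P` and over `P₀` are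
equivalent. -/
lemma fp_iff_of_finite_fp {P P₀ M : Type*} [CommRing P] [CommRing P₀] [Algebra P P₀]
    [Module.FinitePresentation P P₀]
    [AddCommGroup M] [Module P M] [Module P₀ M] [IsScalarTower P P₀ M] :
    Module.FinitePresentation P M ↔ Module.FinitePresentation P₀ M := by
  constructor
  · intro h
    -- the multiplication map `P₀ ⊗[P] M → M`
    let μP : P₀ ⊗[P] M →ₗ[P] M := TensorProduct.lift (Algebra.lsmul P P M).toLinearMap
    have hμP : ∀ (a : P₀) (m : M), μP (a ⊗ₜ m) = a • m := fun a m => by simp [μP]
    have hsmul : ∀ (a : P₀) (x : P₀ ⊗[P] M), μP (a • x) = a • μP x := by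
      intro a x
      induction x using TensorProduct.induction_on with
      | zero => simp
      | tmul b m => rw [TensorProduct.smul_tmul', hμP, hμP, smul_eq_mul, mul_smul]
      | add x y hx hy => rw [smul_add, map_add, map_add, smul_add, hx, hy]
    let μ : P₀ ⊗[P] M →ₗ[P₀] M := { μP with map_smul' := hsmul }
    have hsurj : Function.Surjective μP := fun m => ⟨1 ⊗ₜ m, by rw [hμP, one_smul]⟩
    have hker : (LinearMap.ker μP).FG := Module.FinitePresentation.fg_ker μP hsurj
    have hker' : (LinearMap.ker μ).FG := by
      apply Submodule.FG.of_restrictScalars P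
      have : (LinearMap.ker μ).restrictScalars P = LinearMap.ker μP := by
        ext x; rfl
      rw [this]; exact hker
    exact Module.finitePresentation_of_surjective μ hsurj hker'
  · intro h
    exact Module.FinitePresentation.trans P M P₀

end Groth.Agent.Lib.Helper12
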