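import Groth.Agent.Lib.Helper12.RelFP
import Mathlib.RingTheory.IsTensorProduct
import Mathlib.RingTheory.TensorProduct.MvPolynomial
import Mathlib.LinearAlgebra.TensorProduct.RightExactness
import Mathlib.RingTheory.TensorProduct.Finite
import Mathlib.RingTheory.Localization.Away.AdjoinRoot
import Mathlib.RingTheory.Localization.BaseChange

/-!
# Relative finite presentation: base change
-/

set_option autoImplicit false
universe u v w

open TensorProduct

namespace Groth.Agent.Lib.Helper12

/-- two module structures with the same scalar action have the same finitely presented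
modules. -/
lemma fp_congr_module {P N : Type*} [CommRing P] [AddCommGroup N] (m1 m2 : Module P N)
    (h : ∀ (p : P) (x : N), m1.smul p x = m2.smul p x)
    (hfp : @Module.FinitePresentation P N _ _ m1) : @Module.FinitePresentation P N _ _ m2 := by
  have : m1 = m2 := Module.ext' _ _ h
  subst this
  exact hfp

/-- Base change along a pushout square: if `A₁ = P₁ ⊗_P A` and `M` is an `A`-module finitely
presented over `P`, then `A₁ ⊗_A M` is finitely presented over `P₁`. -/
lemma fp_baseChange_of_isPushout {P P₁ A A₁ : Type*} [CommRing P] [CommRing P₁] [CommRing A]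
    [CommRing A₁] [Algebra P P₁] [Algebra P A] [Algebra P₁ A₁] [Algebra A A₁] [Algebra P A₁]
    [IsScalarTower P P₁ A₁] [IsScalarTower P A A₁] [Algebra.IsPushout P P₁ A A₁]
    (M : Type*) [AddCommGroup M] [Module P M] [Module A M] [IsScalarTower P A M]
    [Module.FinitePresentation P M] : Module.FinitePresentation P₁ (A₁ ⊗[A] M) :=
  .of_equiv (Algebra.IsPushout.cancelBaseChange P P₁ A A₁ M).symm

/-- Quotient step: `P₁ ↠ A₁ ↠ A'` with the second kernel finitely generated; if the
`A₁`-module `L` is finitely presented over `P₁` then so is `A' ⊗_{A₁} L`. -/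
lemma fp_tensor_of_surjective_of_fg_ker {P₁ A₁ A' L : Type*} [CommRing P₁] [CommRing A₁]
    [CommRing A'] [Algebra P₁ A₁] [Algebra A₁ A']
    (hP : Function.Surjective (algebraMap P₁ A₁)) (hA : Function.Surjective (algebraMap A₁ A'))
    (hK : (RingHom.ker (algebraMap A₁ A')).FG)
    [AddCommGroup L] [Module A₁ L] [Module P₁ L] [IsScalarTower P₁ A₁ L]
    [Module.FinitePresentation P₁ L]
    [Module P₁ (A' ⊗[A₁] L)] [IsScalarTower P₁ A₁ (A' ⊗[A₁] L)] :
    Module.FinitePresentation P₁ (A' ⊗[A₁] L) := by
  let lin : A₁ →ₗ[A₁] A' := Algebra.linearMap A₁ A'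
  let K : Submodule A₁ A₁ := LinearMap.ker lin
  have hKfg : K.FG := by
    have : K = RingHom.ker (algebraMap A₁ A') := by
      ext x; simp [K, lin, RingHom.mem_ker]
    rw [this]; exact hK
  have : Module.Finite A₁ K := Module.Finite.iff_fg.mpr hKfg
  have : Module.Finite A₁ L := Module.Finite.of_restrictScalars_finite P₁ A₁ L
  let φ : L →ₗ[A₁] A' ⊗[A₁] L := TensorProduct.mk A₁ A' L 1
  have hφsurj : Function.Surjective φ := TensorProduct.mk_surjective A₁ L A' hA
  have hex : Function.Exact (LinearMap.rTensor L K.subtype) (LinearMap.rTensor L lin) :=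
    rTensor_exact L (LinearMap.exact_subtype_ker_map lin) hA
  have hφ : φ = (LinearMap.rTensor L lin) ∘ₗ (TensorProduct.lid A₁ L).symm.toLinearMap := by
    ext l
    simp [φ, lin]
  have hkerφ : LinearMap.ker φ =
      LinearMap.range ((TensorProduct.lid A₁ L).toLinearMap ∘ₗ LinearMap.rTensor L K.subtype) := by
    ext l
    rw [LinearMap.mem_ker, hφ, LinearMap.comp_apply, ← LinearMap.mem_ker,
      (LinearMap.exact_iff.mp hex), LinearMap.mem_range, LinearMap.mem_range]
    constructor
    · rintro ⟨y, hy⟩
      exact ⟨y, by rw [LinearMap.comp_apply, hy]; simp⟩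
    · rintro ⟨y, hy⟩
      refine ⟨y, ?_⟩
      rw [LinearMap.comp_apply] at hy
      rw [← hy]; simp
  have hkerfg : (LinearMap.ker φ).FG := by
    rw [hkerφ, LinearMap.range_eq_map]
    exact (Module.Finite.fg_top).map _
  let φ' : L →ₗ[P₁] A' ⊗[A₁] L := φ.restrictScalars P₁
  have hker' : (LinearMap.ker φ').FG := by
    have : LinearMap.ker φ' = (LinearMap.ker φ).restrictScalars P₁ := by
      ext x; rfl
    rw [this]
    exact hkerfg.restrictScalars_of_surjective hP
  exact Module.finitePresentation_of_surjective φ' hφsurj hker'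

end Groth.Agent.Lib.Helper12

namespace Groth.Agent.Lib.Helper12

attribute [local instance] MvPolynomial.algebraMvPolynomial in
/-- Base change of relative finite presentation along a finitely presented ring map. -/
lemma fp_rel_baseChange {R A A' : Type*} [CommRing R] [CommRing A] [CommRing A'] [Algebra R A]
    [Algebra A A'] [Algebra R A'] [IsScalarTower R A A'] [Algebra.FinitePresentation A A']
    (M : Type*) [AddCommGroup M] [Module A M] {σ τ : Type*} [Finite σ] [Finite τ]
    (α : MvPolynomial σ R →ₐ[R] A) (hα : Function.Surjective α)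
    (hM : @Module.FinitePresentation (MvPolynomial σ R) M _ _ (Module.compHom M α.toRingHom))
    (γ : MvPolynomial τ R →ₐ[R] A') (hγ : Function.Surjective γ) :
    @Module.FinitePresentation (MvPolynomial τ R) (A' ⊗[A] M) _ _
      (Module.compHom (A' ⊗[A] M) γ.toRingHom) := by
  classical
  obtain ⟨m, θ, hθ, hK⟩ := (Algebra.FinitePresentation.out :
    ∃ (m : ℕ) (θ : MvPolynomial (Fin m) A →ₐ[A] A'),
      Function.Surjective θ ∧ (RingHom.ker θ.toRingHom).FG)
  let _ : Algebra (MvPolynomial σ R) A := α.toRingHom.toAlgebra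
  let _ : Module (MvPolynomial σ R) M := Module.compHom M α.toRingHom
  have : IsScalarTower (MvPolynomial σ R) A M := ⟨fun p a m => by
    show (α p * a) • m = α p • (a • m)
    rw [mul_smul]⟩
  have : Module.FinitePresentation (MvPolynomial σ R) M := hM
  -- step 1: polynomial extension
  have h1 : Module.FinitePresentation (MvPolynomial (Fin m) (MvPolynomial σ R))
      (MvPolynomial (Fin m) A ⊗[A] M) :=
    fp_baseChange_of_isPushout (P := MvPolynomial σ R) (P₁ := MvPolynomial (Fin m) (MvPolynomial σ R))
      (A := A) (A₁ := MvPolynomial (Fin m) A) M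
  -- step 2: quotient
  let _ : Algebra (MvPolynomial (Fin m) A) A' := θ.toRingHom.toAlgebra
  have : IsScalarTower A (MvPolynomial (Fin m) A) A' := .of_algebraMap_eq' θ.comp_algebraMap.symm
  have hP : Function.Surjective (algebraMap (MvPolynomial (Fin m) (MvPolynomial σ R))
      (MvPolynomial (Fin m) A)) := MvPolynomial.map_surjective _ hα
  let _ : Module (MvPolynomial (Fin m) (MvPolynomial σ R))
      (A' ⊗[MvPolynomial (Fin m) A] (MvPolynomial (Fin m) A ⊗[A] M)) :=
    Module.compHom _ (algebraMap (MvPolynomial (Fin m) (MvPolynomial σ R)) (MvPolynomial (Fin m) A))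
  have : IsScalarTower (MvPolynomial (Fin m) (MvPolynomial σ R)) (MvPolynomial (Fin m) A)
      (A' ⊗[MvPolynomial (Fin m) A] (MvPolynomial (Fin m) A ⊗[A] M)) := ⟨fun p a x => by
    show (algebraMap _ (MvPolynomial (Fin m) A) p * a) • x = algebraMap _ (MvPolynomial (Fin m) A) p • (a • x)
    rw [mul_smul]⟩
  have h2 : Module.FinitePresentation (MvPolynomial (Fin m) (MvPolynomial σ R))
      (A' ⊗[MvPolynomial (Fin m) A] (MvPolynomial (Fin m) A ⊗[A] M)) :=
    fp_tensor_of_surjective_of_fg_ker hP hθ hK
  -- step 3: cancel
  let e : A' ⊗[MvPolynomial (Fin m) A] (MvPolynomial (Fin m) A ⊗[A] M) ≃ₗ[A'] A' ⊗[A] M :=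
    TensorProduct.AlgebraTensorModule.cancelBaseChange A (MvPolynomial (Fin m) A) A' A' M
  let ρ : MvPolynomial (Fin m) (MvPolynomial σ R) →ₐ[R] A' :=
    (θ.restrictScalars R).comp (MvPolynomial.mapAlgHom α)
  have hρ : Function.Surjective ρ := hθ.comp hP
  let _ : Module (MvPolynomial (Fin m) (MvPolynomial σ R)) (A' ⊗[A] M) :=
    Module.compHom _ ρ.toRingHom
  let e' : A' ⊗[MvPolynomial (Fin m) A] (MvPolynomial (Fin m) A ⊗[A] M)
      ≃ₗ[MvPolynomial (Fin m) (MvPolynomial σ R)] A' ⊗[A] M :=
    { e.toAddEquiv with
      map_smul' := fun p x => by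
        show e (algebraMap _ (MvPolynomial (Fin m) A) p • x) = ρ p • e x
        rw [← algebraMap_smul A' (algebraMap _ (MvPolynomial (Fin m) A) p) x, map_smul]
        rfl }
  have h3 : Module.FinitePresentation (MvPolynomial (Fin m) (MvPolynomial σ R)) (A' ⊗[A] M) :=
    Module.FinitePresentation.of_equiv e'
  exact (fp_indep_gen (A' ⊗[A] M) ρ hρ γ hγ).mp h3

end Groth.Agent.Lib.Helper12

namespace Groth.Agent.Lib.Helper12

/-- transporting finite presentation (through `Module.compHom`) along a linear equivalence. -/
lemma fp_compHom_of_equiv {P A' N N' : Type*} [CommRing P] [CommRing A'] (ρ : P →+* A')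
    [AddCommGroup N] [AddCommGroup N'] [Module A' N] [Module A' N'] (e : N ≃ₗ[A'] N')
    (h : @Module.FinitePresentation P N _ _ (Module.compHom N ρ)) :
    @Module.FinitePresentation P N' _ _ (Module.compHom N' ρ) := by
  let _ : Module P N := Module.compHom N ρ
  let _ : Module P N' := Module.compHom N' ρ
  let e' : N ≃ₗ[P] N' :=
    { e.toAddEquiv with
      map_smul' := fun p x => by
        show e (ρ p • x) = ρ p • e x
        rw [map_smul] }
  exact Module.FinitePresentation.of_equiv e'

/-- Localization: finitely presented relative to a finitely presented `R`-algebra `R'`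
implies the localization away from `g` is finitely presented relative to `R`. -/
lemma fp_rel_localization_away {R R' A : Type*} [CommRing R] [CommRing R'] [CommRing A]
    [Algebra R R'] [Algebra R' A] [Algebra R A] [IsScalarTower R R' A]
    [Algebra.FinitePresentation R R'] {σ τ : Type*} [Finite σ] [Finite τ]
    (α : MvPolynomial σ R' →ₐ[R'] A) (hα : Function.Surjective α) (g : A)
    (M : Type*) [AddCommGroup M] [Module A M]
    (hM : @Module.FinitePresentation (MvPolynomial σ R') M _ _ (Module.compHom M α.toRingHom))
    (γ : MvPolynomial τ R →ₐ[R] Localization.Away g) (hγ : Function.Surjective γ) :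
    @Module.FinitePresentation (MvPolynomial τ R) (LocalizedModule (Submonoid.powers g) M) _ _
      (Module.compHom (LocalizedModule (Submonoid.powers g) M) γ.toRingHom) := by
  classical
  have : Algebra.FiniteType R' A := Algebra.FiniteType.of_surjective α hα
  have : Algebra.FiniteType R' (Localization.Away g) := inferInstance
  obtain ⟨k', γ', hγ'⟩ := Algebra.FiniteType.iff_quotient_mvPolynomial''.mp this
  have h1 := fp_rel_baseChange (A' := Localization.Away g) M α hα hM γ' hγ'
  have h2 := fp_rel_trans (Localization.Away g ⊗[A] M) γ' hγ' γ hγ h1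
  exact fp_compHom_of_equiv γ.toRingHom
    (LocalizedModule.equivTensorProduct (Submonoid.powers g) M).symm h2

end Groth.Agent.Lib.Helper12

namespace Groth.Agent.Lib.Helper12

attribute [local instance] MvPolynomial.algebraMvPolynomial in
/-- Base change of relative finite presentation along an arbitrary base change `R → R'`
(with `A' = R' ⊗_R A`). -/
lemma fp_rel_baseChange_pushout {R A R' A' : Type*} [CommRing R] [CommRing A] [CommRing R']
    [CommRing A'] [Algebra R A] [Algebra R R'] [Algebra A A'] [Algebra R' A'] [Algebra R A']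
    [IsScalarTower R A A'] [IsScalarTower R R' A'] [Algebra.IsPushout R A R' A']
    (M : Type*) [AddCommGroup M] [Module A M] {σ τ : Type*} [Finite σ] [Finite τ]
    (α : MvPolynomial σ R →ₐ[R] A) (hα : Function.Surjective α)
    (hM : @Module.FinitePresentation (MvPolynomial σ R) M _ _ (Module.compHom M α.toRingHom))
    (γ : MvPolynomial τ R' →ₐ[R'] A') (hγ : Function.Surjective γ) :
    @Module.FinitePresentation (MvPolynomial τ R') (A' ⊗[A] M) _ _
      (Module.compHom (A' ⊗[A] M) γ.toRingHom) := by
  classical
  let _ : Algebra (MvPolynomial σ R) A := α.toRingHom.toAlgebra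
  let _ : Module (MvPolynomial σ R) M := Module.compHom M α.toRingHom
  have : IsScalarTower (MvPolynomial σ R) A M := ⟨fun p a m => by
    show (α p * a) • m = α p • (a • m)
    rw [mul_smul]⟩
  have : IsScalarTower R (MvPolynomial σ R) A := .of_algebraMap_eq' α.comp_algebraMap.symm
  have : Module.FinitePresentation (MvPolynomial σ R) M := hM
  let ρ : MvPolynomial σ R' →ₐ[R'] A' :=
    MvPolynomial.aeval (fun i => algebraMap A A' (α (MvPolynomial.X i)))
  let _ : Algebra (MvPolynomial σ R') A' := ρ.toRingHom.toAlgebra
  let _ : Algebra (MvPolynomial σ R) A' := ((algebraMap A A').comp α.toRingHom).toAlgebra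
  have : IsScalarTower (MvPolynomial σ R) A A' := .of_algebraMap_eq' rfl
  have : IsScalarTower R' (MvPolynomial σ R') A' := .of_algebraMap_eq' ρ.comp_algebraMap.symm
  have hcomp : ∀ p : MvPolynomial σ R,
      algebraMap A A' (α p) = ρ (MvPolynomial.map (algebraMap R R') p) := by
    intro p
    induction p using MvPolynomial.induction_on with
    | C r =>
      simp only [MvPolynomial.map_C, ρ, MvPolynomial.aeval_C]
      rw [← MvPolynomial.algebraMap_eq, α.commutes, ← IsScalarTower.algebraMap_apply,
        ← IsScalarTower.algebraMap_apply]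
    | add p q hp hq => simp only [map_add, hp, hq]
    | mul_X p i hp => simp only [map_mul, hp, MvPolynomial.map_X, ρ, MvPolynomial.aeval_X]
  have : IsScalarTower (MvPolynomial σ R) (MvPolynomial σ R') A' :=
    .of_algebraMap_eq fun p => hcomp p
  have : IsScalarTower R (MvPolynomial σ R') A' := by
    refine .of_algebraMap_eq fun r => ?_
    rw [IsScalarTower.algebraMap_apply R R' A', IsScalarTower.algebraMap_apply R R' (MvPolynomial σ R'),
      ← IsScalarTower.algebraMap_apply R' (MvPolynomial σ R') A']
  have hpush : Algebra.IsPushout (MvPolynomial σ R) A (MvPolynomial σ R') A' :=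
    (Algebra.IsPushout.comp_iff R (MvPolynomial σ R) R' (MvPolynomial σ R') (T := A) (T' := A')).mp inferInstance
  have hpush' : Algebra.IsPushout (MvPolynomial σ R) (MvPolynomial σ R') A A' := hpush.symm
  have h1 : Module.FinitePresentation (MvPolynomial σ R') (A' ⊗[A] M) :=
    fp_baseChange_of_isPushout (P := MvPolynomial σ R) (P₁ := MvPolynomial σ R') (A := A)
      (A₁ := A') M
  have h2 : @Module.FinitePresentation (MvPolynomial σ R') (A' ⊗[A] M) _ _
      (Module.compHom (A' ⊗[A] M) ρ.toRingHom) := by
    refine fp_congr_module _ _ (fun p x => ?_) h1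
    exact (algebraMap_smul A' p x).symm
  -- surjectivity of ρ
  have hρ : Function.Surjective ρ := by
    intro y
    rw [← AlgHom.mem_range]
    have hbc : IsBaseChange R' (IsScalarTower.toAlgHom R A A').toLinearMap :=
      (Algebra.IsPushout.symm (inferInstance : Algebra.IsPushout R A R' A')).out
    refine hbc.inductionOn y (fun y => y ∈ ρ.range) (zero_mem _) ?_ ?_ ?_
    · intro a
      obtain ⟨p, rfl⟩ := hα a
      exact ⟨MvPolynomial.map (algebraMap R R') p, (hcomp p).symm⟩
    · intro r' y hy
      exact Subalgebra.smul_mem _ hy r'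
    · intro y z hy hz
      exact add_mem hy hz
  exact (fp_indep (A' ⊗[A] M) ρ hρ γ hγ).mp h2

end Groth.Agent.Lib.Helper12
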