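import Mathlib
import Groth.Prelude.Def_DDual2
import Groth.Agent.Lib.Helper12.RestrictExtend
import Groth.Agent.Lib.Helper12.DerivedBaseChange
import Groth.Agent.Lib.Helper12.FlatExtendScalars

/-!
# Termwise tensor product of a complex with a module: half exactness in the module variable
-/

set_option autoImplicit false

open CategoryTheory CategoryTheory.Limits MonoidalCategory

namespace Groth.Agent.Lib.Helper12

open DRing

attribute [local instance] HasDerivedCategory.standard

universe u

variable {R : Type u} [CommRing R]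

/-- termwise tensor product `F ⊗ N` of a complex with a module -/
noncomputable abbrev tcCx (F : Cx R) (N : ModuleCat.{u} R) : Cx R :=
  ((tensorRight N).mapHomologicalComplex (ComplexShape.up ℤ)).obj F

/-- functoriality of `F ⊗ N` in `N` -/
noncomputable def tcMap (F : Cx R) {N N' : ModuleCat.{u} R} (g : N ⟶ N') : tcCx F N ⟶ tcCx F N' :=
  (NatTrans.mapHomologicalComplex ((tensoringRight (ModuleCat.{u} R)).map g)
    (ComplexShape.up ℤ)).app F

@[simp]
lemma tcMap_f (F : Cx R) {N N' : ModuleCat.{u} R} (g : N ⟶ N') (i : ℤ) :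
    (tcMap F g).f i = F.X i ◁ g := rfl

lemma tcMap_comp (F : Cx R) {N N' N'' : ModuleCat.{u} R} (g : N ⟶ N') (g' : N' ⟶ N'') :
    tcMap F (g ≫ g') = tcMap F g ≫ tcMap F g' := by
  refine HomologicalComplex.hom_ext _ _ (fun i => ?_)
  show F.X i ◁ (g ≫ g') = F.X i ◁ g ≫ F.X i ◁ g'
  exact MonoidalCategory.whiskerLeft_comp _ _ _

lemma tcMap_id (F : Cx R) (N : ModuleCat.{u} R) : tcMap F (𝟙 N) = 𝟙 _ := by
  refine HomologicalComplex.hom_ext _ _ (fun i => ?_)
  show F.X i ◁ (𝟙 N) = 𝟙 _
  exact MonoidalCategory.whiskerLeft_id _ _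

lemma tcMap_zero (F : Cx R) (N N' : ModuleCat.{u} R) : tcMap F (0 : N ⟶ N') = 0 := by
  refine HomologicalComplex.hom_ext _ _ (fun i => ?_)
  show F.X i ◁ (0 : N ⟶ N') = 0
  exact MonoidalPreadditive.whiskerLeft_zero

/-- `F ⊗ N ≅ F ⊗ N'` for `N ≅ N'` -/
noncomputable def tcIso (F : Cx R) {N N' : ModuleCat.{u} R} (e : N ≅ N') : tcCx F N ≅ tcCx F N' where
  hom := tcMap F e.hom
  inv := tcMap F e.inv
  hom_inv_id := by rw [← tcMap_comp, e.hom_inv_id, tcMap_id]
  inv_hom_id := by rw [← tcMap_comp, e.inv_hom_id, tcMap_id]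

/-- the short complex of complexes `F ⊗ S` -/
noncomputable def tcSC (F : Cx R) (S : ShortComplex (ModuleCat.{u} R)) : ShortComplex (Cx R) :=
  ShortComplex.mk (tcMap F S.f) (tcMap F S.g) (by
    rw [← tcMap_comp, S.zero, tcMap_zero])

lemma tcSC_shortExact (F : Cx R) (hF : ∀ i, Module.Flat R (F.X i))
    (S : ShortComplex (ModuleCat.{u} R)) (hS : S.ShortExact) : (tcSC F S).ShortExact := by
  apply HomologicalComplex.shortExact_of_degreewise_shortExact
  intro i
  have := hF i
  have hm := hS.mono_f
  have he := hS.epi_g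
  refine ShortComplex.ShortExact.mk' ?_ ?_ ?_
  · exact Module.Flat.lTensor_shortComplex_exact (F.X i) S hS.exact
  · show Mono (F.X i ◁ S.f)
    rw [ModuleCat.mono_iff_injective] at hm ⊢
    show Function.Injective (F.X i ◁ S.f).hom
    rw [ModuleCat.hom_whiskerLeft]
    exact Module.Flat.lTensor_preserves_injective_linearMap _ hm
  · show Epi (F.X i ◁ S.g)
    rw [ModuleCat.epi_iff_surjective] at he ⊢
    show Function.Surjective (F.X i ◁ S.g).hom
    rw [ModuleCat.hom_whiskerLeft]
    exact LinearMap.lTensor_surjective _ he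

/-- half exactness of `H^i(F ⊗ -)` for a termwise flat complex `F` -/
theorem isZero_homology_tcCx_of_shortExact (F : Cx R) (hF : ∀ i, Module.Flat R (F.X i))
    (S : ShortComplex (ModuleCat.{u} R)) (hS : S.ShortExact) (i : ℤ)
    (h1 : IsZero ((tcCx F S.X₁).homology i)) (h3 : IsZero ((tcCx F S.X₃).homology i)) :
    IsZero ((tcCx F S.X₂).homology i) := by
  have hT := tcSC_shortExact F hF S hS
  have hex := hT.homology_exact₂ i
  exact hex.isZero_of_both_zeros (h1.eq_of_src _ _) (h3.eq_of_tgt _ _)

lemma isZero_homology_tcCx_of_iso (F : Cx R) {N N' : ModuleCat.{u} R} (e : N ≅ N') (i : ℤ)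
    (h : IsZero ((tcCx F N).homology i)) : IsZero ((tcCx F N').homology i) :=
  h.of_iso ((HomologicalComplex.homologyFunctor _ _ i).mapIso (tcIso F e).symm)

lemma isZero_homology_tcCx_of_isZero (F : Cx R) {N : ModuleCat.{u} R} (hN : IsZero N) (i : ℤ) :
    IsZero ((tcCx F N).homology i) := by
  have h0 : IsZero (tcCx F N) := by
    rw [IsZero.iff_id_eq_zero]
    refine HomologicalComplex.hom_ext _ _ (fun j => ?_)
    have : IsZero (F.X j ⊗ N) := by
      rw [IsZero.iff_id_eq_zero, ← MonoidalCategory.whiskerLeft_id, hN.eq_of_src (𝟙 N) 0,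
        MonoidalPreadditive.whiskerLeft_zero]
    exact this.eq_of_src _ _
  exact (HomologicalComplex.homologyFunctor _ _ i).map_isZero h0

section BaseChange

variable {A B : Type u} [CommRing A] [CommRing B] (φ : A →+* B)

/-- restriction of scalars of the termwise base change is the termwise tensor with `B` -/
noncomputable def restrictBcCxIso (F : Cx A) :
    ((ModuleCat.restrictScalars.{u} φ).mapHomologicalComplex (ComplexShape.up ℤ)).obj (bcCx φ F) ≅
      tcCx F (BA φ) :=
  ((Functor.mapHomologicalComplexCompIso (Iso.refl (ModuleCat.extendScalars.{u, u, u} φ ⋙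
      ModuleCat.restrictScalars.{u} φ)) (ComplexShape.up ℤ)) ≪≫
    NatIso.mapHomologicalComplex (restrictExtendNatIso φ) (ComplexShape.up ℤ)).app F

/-- `H^i(F ⊗_A B) = 0` as an `A`-module iff `H^i(F ⊗_A B) = 0` as a `B`-module -/
lemma isZero_homology_tcCx_BA_iff (F : Cx A) (i : ℤ) :
    IsZero ((tcCx F (BA φ)).homology i) ↔ IsZero ((bcCx φ F).homology i) := by
  have e1 := (HomologicalComplex.homologyFunctor _ _ i).mapIso (restrictBcCxIso φ F)
  have e2 := (mapHCHomologyIso (ModuleCat.restrictScalars.{u} φ) i).app (bcCx φ F)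
  have e3 : (tcCx F (BA φ)).homology i ≅
      (ModuleCat.restrictScalars.{u} φ).obj ((bcCx φ F).homology i) := e1.symm ≪≫ e2
  constructor
  · intro h'
    have h := h'.of_iso e3.symm
    have : Subsingleton ((ModuleCat.restrictScalars.{u} φ).obj ((bcCx φ F).homology i)) :=
      ModuleCat.subsingleton_of_isZero h
    have : Subsingleton ((bcCx φ F).homology i) := this
    exact ModuleCat.isZero_of_subsingleton _
  · intro h
    exact ((ModuleCat.restrictScalars.{u} φ).map_isZero h).of_iso e3

end BaseChange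

end Groth.Agent.Lib.Helper12
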