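import Mathlib
import Groth.Prelude.Def_DDual2
import Groth.Agent.Lib.Helper12.TensorCx
import Groth.Agent.Lib.Helper12.DRingSingle

/-!
# Dimension shifting for `H^*(F ⊗ N)` in the module variable `N`
-/

set_option autoImplicit false

open CategoryTheory CategoryTheory.Limits MonoidalCategory

namespace Groth.Agent.Lib.Helper12

open DRing

universe u

variable {A : Type u} [CommRing A]

/-- tensoring with a flat module preserves exactness in a given degree -/
lemma exactAt_tcCx_of_flat (F : Cx A) (L : ModuleCat.{u} A) [Module.Flat A L] (j : ℤ)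
    (h : F.ExactAt j) : (tcCx F L).ExactAt j := by
  rw [HomologicalComplex.exactAt_iff' _ (j - 1) j (j + 1) (by simp) (by simp),
    ShortComplex.ShortExact.moduleCat_exact_iff_function_exact] at h ⊢
  show Function.Exact ((F.d (j - 1) j) ▷ L).hom ((F.d j (j + 1)) ▷ L).hom
  rw [ModuleCat.hom_whiskerRight, ModuleCat.hom_whiskerRight]
  exact Module.Flat.rTensor_exact L h

/-- dimension shifting: `H^j(F ⊗ N) = 0 ↔ H^{j+1}(F ⊗ N') = 0` for `0 → N' → L → N → 0`, `L` flat,
`F` termwise flat and exact in degrees `j`, `j + 1` -/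
lemma exactAt_tcCx_shift (F : Cx A) (hF : ∀ i, Module.Flat A (F.X i))
    (S : ShortComplex (ModuleCat.{u} A)) (hS : S.ShortExact) [Module.Flat A S.X₂] (j : ℤ)
    (hj : F.ExactAt j) (hj' : F.ExactAt (j + 1)) :
    (tcCx F S.X₃).ExactAt j ↔ (tcCx F S.X₁).ExactAt (j + 1) := by
  have hT := tcSC_shortExact F hF S hS
  have h2 : IsZero ((tcSC F S).X₂.homology j) :=
    (HomologicalComplex.exactAt_iff_isZero_homology _ _).mp (exactAt_tcCx_of_flat F S.X₂ j hj)
  have h2' : IsZero ((tcSC F S).X₂.homology (j + 1)) :=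
    (HomologicalComplex.exactAt_iff_isZero_homology _ _).mp
      (exactAt_tcCx_of_flat F S.X₂ (j + 1) hj')
  have e := hT.δIso j (j + 1) (by simp) h2 h2'
  rw [HomologicalComplex.exactAt_iff_isZero_homology, HomologicalComplex.exactAt_iff_isZero_homology]
  exact ⟨fun h => h.of_iso e.symm, fun h => h.of_iso e⟩

/-- the bottom of the dimension shifting -/
lemma exactAt_tcCx_neg_one_iff (F : Cx A) (hF : ∀ i, Module.Flat A (F.X i))
    (S : ShortComplex (ModuleCat.{u} A)) (hS : S.ShortExact) [Module.Flat A S.X₂]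
    (hj : F.ExactAt (-1)) :
    (tcCx F S.X₃).ExactAt (-1) ↔ Mono (HomologicalComplex.homologyMap (tcMap F S.f) 0) := by
  have hT := tcSC_shortExact F hF S hS
  have h2 : IsZero ((tcSC F S).X₂.homology (-1)) :=
    (HomologicalComplex.exactAt_iff_isZero_homology _ _).mp (exactAt_tcCx_of_flat F S.X₂ (-1) hj)
  have hij : (ComplexShape.up ℤ).Rel (-1) 0 := by simp
  have hmono : Mono (hT.δ (-1) 0 hij) := hT.mono_δ (-1) 0 hij h2
  have hex := hT.homology_exact₁ (-1) 0 hij
  rw [HomologicalComplex.exactAt_iff_isZero_homology]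
  constructor
  · intro h
    exact hex.mono_g (h.eq_of_src _ _)
  · intro h
    have : Mono (HomologicalComplex.homologyMap (tcSC F S).f 0) := h
    have h0 : hT.δ (-1) 0 hij = 0 := by
      rw [← cancel_mono (HomologicalComplex.homologyMap (tcSC F S).f 0), hT.δ_comp, zero_comp]
    exact @IsZero.of_mono_eq_zero _ _ _ _ _ (hT.δ (-1) 0 hij) hmono h0

section HZero

/-- `pOpcycles` is surjective -/
lemma pOpcycles_surjective (K : Cx A) (i : ℤ) : Function.Surjective (K.pOpcycles i).hom :=
  (ModuleCat.epi_iff_surjective _).mp inferInstance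

/-- the kernel of `pOpcycles` is the image of the differential -/
lemma pOpcycles_eq_zero_iff (K : Cx A) (x : K.X 0) :
    (K.pOpcycles 0).hom x = 0 ↔ ∃ y, (K.d (-1) 0).hom y = x := by
  have hex : (ShortComplex.mk (K.d (-1) 0) (K.pOpcycles 0) (K.d_pOpcycles (-1) 0)).Exact :=
    ShortComplex.exact_of_g_is_cokernel _ (K.opcyclesIsCokernel (-1) 0 (by simp))
  rw [ShortComplex.ShortExact.moduleCat_exact_iff_function_exact] at hex
  exact (hex x).trans ⟨fun ⟨y, hy⟩ => ⟨y, hy⟩, fun ⟨y, hy⟩ => ⟨y, hy⟩⟩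

/-- injectivity of `H^0(φ)` for complexes with vanishing differential out of degree `0` -/
lemma mono_homologyMap_zero_iff {K K' : Cx A} (φ : K ⟶ K') (hK : K.d 0 1 = 0)
    (hK' : K'.d 0 1 = 0) :
    Mono (HomologicalComplex.homologyMap φ 0) ↔
      ∀ x : K.X 0, (∃ y', (K'.d (-1) 0).hom y' = (φ.f 0).hom x) → ∃ y, (K.d (-1) 0).hom y = x := by
  have i1 : IsIso (K.homologyι 0) := K.isIso_homologyι 0 1 (by simp) hK
  have i2 : IsIso (K'.homologyι 0) := K'.isIso_homologyι 0 1 (by simp) hK'
  have hnat : HomologicalComplex.homologyMap φ 0 ≫ K'.homologyι 0 =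
      K.homologyι 0 ≫ HomologicalComplex.opcyclesMap φ 0 :=
    HomologicalComplex.homologyι_naturality φ 0
  have h1 : Mono (HomologicalComplex.homologyMap φ 0) ↔
      Mono (HomologicalComplex.opcyclesMap φ 0) := by
    constructor
    · intro h
      have : HomologicalComplex.opcyclesMap φ 0 =
          inv (K.homologyι 0) ≫ HomologicalComplex.homologyMap φ 0 ≫ K'.homologyι 0 := by
        rw [hnat, IsIso.inv_hom_id_assoc]
      rw [this]
      infer_instance
    · intro h
      have : HomologicalComplex.homologyMap φ 0 =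
          K.homologyι 0 ≫ HomologicalComplex.opcyclesMap φ 0 ≫ inv (K'.homologyι 0) := by
        rw [← Category.assoc, ← hnat, Category.assoc, IsIso.hom_inv_id, Category.comp_id]
      rw [this]
      infer_instance
  rw [h1, ModuleCat.mono_iff_injective]
  have hp : ∀ x : K.X 0, (HomologicalComplex.opcyclesMap φ 0).hom ((K.pOpcycles 0).hom x) =
      (K'.pOpcycles 0).hom ((φ.f 0).hom x) := fun x =>
    congrArg (fun f => f.hom x) (HomologicalComplex.p_opcyclesMap φ 0)
  constructor
  · intro hinj x hx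
    rw [← pOpcycles_eq_zero_iff] at hx ⊢
    apply hinj
    rw [hp, hx, map_zero]
  · intro h
    rw [injective_iff_map_eq_zero]
    intro z hz
    obtain ⟨x, rfl⟩ := pOpcycles_surjective K 0 z
    rw [hp, pOpcycles_eq_zero_iff] at hz
    exact (pOpcycles_eq_zero_iff K x).mpr (h x hz)

/-- `H^0(F ⊗ g)` is injective iff `coker(d^{-1}) ⊗ g` is -/
lemma mono_homologyMap_tcMap_zero_iff (F : Cx A) (hF : F.d 0 1 = 0) {N' L : ModuleCat.{u} A}
    (g : N' ⟶ L) :
    Mono (HomologicalComplex.homologyMap (tcMap F g) 0) ↔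
      Function.Injective (F.opcycles 0 ◁ g).hom := by
  have hd : ∀ M : ModuleCat.{u} A, (tcCx F M).d 0 1 = 0 := fun M => by
    show F.d 0 1 ▷ M = 0
    rw [hF, MonoidalPreadditive.zero_whiskerRight]
  rw [mono_homologyMap_zero_iff (tcMap F g) (hd N') (hd L)]
  -- right exactness of the tensor product
  have hex : Function.Exact (F.d (-1) 0).hom (F.pOpcycles 0).hom := fun x =>
    (pOpcycles_eq_zero_iff F x).trans ⟨fun ⟨y, hy⟩ => ⟨y, hy⟩, fun ⟨y, hy⟩ => ⟨y, hy⟩⟩
  have hsurj := pOpcycles_surjective F 0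
  have hexM : ∀ M : ModuleCat.{u} A, Function.Exact (F.d (-1) 0 ▷ M).hom (F.pOpcycles 0 ▷ M).hom :=
    fun M => by
      rw [ModuleCat.hom_whiskerRight, ModuleCat.hom_whiskerRight]
      exact rTensor_exact M hex hsurj
  have hsurjM : ∀ M : ModuleCat.{u} A, Function.Surjective (F.pOpcycles 0 ▷ M).hom := fun M => by
    rw [ModuleCat.hom_whiskerRight]
    exact LinearMap.rTensor_surjective M hsurj
  have hcomm : ∀ x : (F.X 0 ⊗ N' : ModuleCat.{u} A),
      (F.opcycles 0 ◁ g).hom ((F.pOpcycles 0 ▷ N').hom x) =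
        (F.pOpcycles 0 ▷ L).hom ((F.X 0 ◁ g).hom x) := fun x =>
    congrArg (fun f => f.hom x) (MonoidalCategory.whisker_exchange (F.pOpcycles 0) g).symm
  constructor
  · intro h
    rw [injective_iff_map_eq_zero]
    intro z hz
    obtain ⟨x, rfl⟩ := hsurjM N' z
    rw [hcomm] at hz
    obtain ⟨y', hy'⟩ := (hexM L _).mp hz
    obtain ⟨y, hy⟩ := h x ⟨y', hy'⟩
    exact (hexM N' x).mpr ⟨y, hy⟩
  · intro hinj x ⟨y', hy'⟩
    have h1 : (F.pOpcycles 0 ▷ L).hom ((F.X 0 ◁ g).hom x) = 0 := (hexM L _).mpr ⟨y', hy'⟩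
    have h2 : (F.pOpcycles 0 ▷ N').hom x = 0 :=
      hinj (((hcomm x).trans h1).trans (map_zero _).symm)
    exact (hexM N' x).mp h2

/-- invariance of injectivity of `Y ⊗ g` under isomorphisms in `Y` -/
lemma injective_whiskerLeft_of_iso {Y Y' : ModuleCat.{u} A} (e : Y ≅ Y') {N' L : ModuleCat.{u} A}
    (g : N' ⟶ L) (h : Function.Injective (Y ◁ g).hom) : Function.Injective (Y' ◁ g).hom := by
  have h1 : Y' ◁ g = (e.inv ▷ N') ≫ (Y ◁ g) ≫ (e.hom ▷ L) := by
    rw [MonoidalCategory.whisker_exchange, ← Category.assoc, ← MonoidalCategory.comp_whiskerRight,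
      e.inv_hom_id, MonoidalCategory.id_whiskerRight, Category.id_comp]
  have h2 : Mono (Y ◁ g) := (ModuleCat.mono_iff_injective _).mpr h
  rw [← ModuleCat.mono_iff_injective, h1]
  infer_instance

end HZero

section Resolution

/-- for a resolution `P → Y[0]` with `d^0 = 0`, the cokernel of `d^{-1}` is `Y` -/
noncomputable def opcyclesIsoOfQuasiIso (P : Cx A) (Y : ModuleCat.{u} A) (f : P ⟶ singleCx 0 Y)
    [QuasiIso f] (hP : P.d 0 1 = 0) : P.opcycles 0 ≅ Y :=
  (P.isoHomologyι 0 1 (by simp) hP).symm ≪≫ asIso (HomologicalComplex.homologyMap f 0) ≪≫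
    HomologicalComplex.singleObjHomologySelfIso (ComplexShape.up ℤ) 0 Y

/-- a resolution is exact in nonzero degrees -/
lemma exactAt_of_quasiIso_single (P : Cx A) (Y : ModuleCat.{u} A) (f : P ⟶ singleCx 0 Y)
    [QuasiIso f] (j : ℤ) (hj : j ≠ 0) : P.ExactAt j := by
  rw [HomologicalComplex.exactAt_iff_isZero_homology]
  have h1 : IsZero ((singleCx 0 Y).homology j) :=
    (HomologicalComplex.exactAt_iff_isZero_homology _ _).mp
      (HomologicalComplex.exactAt_single_obj _ _ _ _ hj)
  exact h1.of_iso (asIso (HomologicalComplex.homologyMap f j))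

end Resolution

section Transfer

variable {B : Type u} [CommRing B] [Algebra A B]

/-- for a flat `B`-module `X`, injectivity of `B ⊗_A g` implies injectivity of `X ⊗_A g` -/
lemma injective_lTensor_of_flat_of_injective_lTensor (X : Type*) [AddCommGroup X] [Module A X]
    [Module B X] [IsScalarTower A B X] [Module.Flat B X] {N' L : Type*} [AddCommGroup N']
    [Module A N'] [AddCommGroup L] [Module A L] (g : N' →ₗ[A] L)
    (h : Function.Injective (g.lTensor B)) : Function.Injective (g.lTensor X) := by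
  have h1 : Function.Injective (g.baseChange B) := h
  have h2 : Function.Injective ((g.baseChange B).lTensor X) :=
    Module.Flat.lTensor_preserves_injective_linearMap _ h1
  let e₁ := TensorProduct.AlgebraTensorModule.cancelBaseChange A B B X N'
  let e₂ := TensorProduct.AlgebraTensorModule.cancelBaseChange A B B X L
  have hcomm : ∀ z, e₂ ((g.baseChange B).lTensor X z) = g.lTensor X (e₁ z) := by
    intro z
    induction z using TensorProduct.induction_on with
    | zero => simp
    | tmul x w =>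
      induction w using TensorProduct.induction_on with
      | zero => simp
      | tmul b n =>
        simp [e₁, e₂, TensorProduct.AlgebraTensorModule.cancelBaseChange_tmul]
      | add w w' hw hw' =>
        rw [TensorProduct.tmul_add, map_add, map_add, hw, hw', map_add, map_add]
    | add z z' hz hz' => rw [map_add, map_add, hz, hz', map_add, map_add]
  intro z z' hzz'
  obtain ⟨w, rfl⟩ := e₁.surjective z
  obtain ⟨w', rfl⟩ := e₁.surjective z'
  rw [← hcomm, ← hcomm] at hzz'
  rw [h2 (e₂.injective hzz')]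

end Transfer

end Groth.Agent.Lib.Helper12
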