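import Mathlib
import Groth.Prelude.Def_DDual2
import Groth.Agent.S6945
import Groth.Agent.Lib.Helper36.FibreTorAmp
import Groth.Agent.Lib.Helper36.TorAmpExt
import Groth.Agent.Lib.Helper12.TorDimShift
import Groth.Agent.Lib.Helper12.ExtSourceAR
import Groth.Agent.Lib.Helper12.DRingTorAmpClosure

/-!
# Tor amplitude of restrictions of scalars along a map of finite tor dimension (Stacks 15.66.?)
-/

set_option autoImplicit false

open CategoryTheory CategoryTheory.Limits MonoidalCategory DRing

attribute [local instance] HasDerivedCategory.standard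

namespace Groth.Agent.Lib.Helper12

open Groth.Agent.Lib.Helper36 Groth.Agent.Lib.Helper36.LT Groth.Agent.Lib.Helper36.FibreTorAmp

universe u

variable {A B : Type u} [CommRing A] [CommRing B] [Algebra A B]

/-- the canonical free cover of a module -/
noncomputable def coverLin (N : ModuleCat.{u} A) : (N →₀ A) →ₗ[A] N := Finsupp.linearCombination A id

lemma coverLin_surjective (N : ModuleCat.{u} A) : Function.Surjective (coverLin N) :=
  Finsupp.linearCombination_id_surjective A N

/-- the transfer of `Tor`-vanishing from `B` to a flat `B`-module, by dimension shifting -/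
theorem exactAt_tcCx_transfer (PB : Cx A) (fB : PB ⟶ singleCx 0 (ModuleCat.of A B)) [QuasiIso fB]
    (hPBfl : ∀ i, Module.Flat A (PB.X i)) (hPB1 : IsZero (PB.X 1))
    (X : ModuleCat.{u} B) [Module.Flat B X] (PX : Cx A)
    (fX : PX ⟶ singleCx 0 ((ModuleCat.restrictScalars (algebraMap A B)).obj X)) [QuasiIso fX]
    (hPXfl : ∀ i, Module.Flat A (PX.X i)) (hPX1 : IsZero (PX.X 1)) :
    ∀ (q : ℕ) (N : ModuleCat.{u} A), (tcCx PB N).ExactAt (-(q : ℤ) - 1) →
      (tcCx PX N).ExactAt (-(q : ℤ) - 1) := by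
  have hdB : PB.d 0 1 = 0 := hPB1.eq_of_tgt _ _
  have hdX : PX.d 0 1 = 0 := hPX1.eq_of_tgt _ _
  have hexB : ∀ j : ℤ, j ≠ 0 → PB.ExactAt j := exactAt_of_quasiIso_single PB _ fB
  have hexX : ∀ j : ℤ, j ≠ 0 → PX.ExactAt j := exactAt_of_quasiIso_single PX _ fX
  intro q
  induction q with
  | zero =>
    intro N hB
    have e0 : (-((0 : ℕ) : ℤ) - 1) = -1 := by norm_num
    rw [e0] at hB ⊢
    have hS := kerSC_shortExact (coverLin N) (coverLin_surjective N)
    have hfl : Module.Flat A (kerSC (coverLin N)).X₂ := (inferInstance : Module.Flat A (N →₀ A))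
    have h1 := (exactAt_tcCx_neg_one_iff PB hPBfl _ hS (hexB (-1) (by norm_num))).mp hB
    have h2 := (mono_homologyMap_tcMap_zero_iff PB hdB _).mp h1
    have h3 := injective_whiskerLeft_of_iso (opcyclesIsoOfQuasiIso PB _ fB hdB) _ h2
    rw [ModuleCat.hom_whiskerLeft] at h3
    -- transfer
    let iX : Module A X := ((ModuleCat.restrictScalars (algebraMap A B)).obj X).isModule
    have hX : IsScalarTower A B X := ⟨fun a b x => by
      show (a • b) • x = algebraMap A B a • (b • x)
      rw [Algebra.smul_def, mul_smul]⟩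
    have h4 : Function.Injective ((kerSC (coverLin N)).f.hom.lTensor X) :=
      injective_lTensor_of_flat_of_injective_lTensor X _ h3
    have h5 : Function.Injective
        (((ModuleCat.restrictScalars (algebraMap A B)).obj X) ◁ (kerSC (coverLin N)).f).hom := by
      rw [ModuleCat.hom_whiskerLeft]
      exact h4
    have h6 := injective_whiskerLeft_of_iso (opcyclesIsoOfQuasiIso PX _ fX hdX).symm _ h5
    have h7 := (mono_homologyMap_tcMap_zero_iff PX hdX _).mpr h6
    exact (exactAt_tcCx_neg_one_iff PX hPXfl _ hS (hexX (-1) (by norm_num))).mpr h7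
  | succ q ih =>
    intro N hB
    have hS := kerSC_shortExact (coverLin N) (coverLin_surjective N)
    have hfl : Module.Flat A (kerSC (coverLin N)).X₂ := (inferInstance : Module.Flat A (N →₀ A))
    have e1 : (-((q + 1 : ℕ) : ℤ) - 1) + 1 = -(q : ℤ) - 1 := by push_cast; ring
    have hB' := (exactAt_tcCx_shift PB hPBfl _ hS (-((q + 1 : ℕ) : ℤ) - 1)
      (hexB _ (by push_cast; omega)) (hexB _ (by push_cast; omega))).mp hB
    rw [e1] at hB'
    have hX' := ih _ hB'
    rw [← e1] at hX'
    exact (exactAt_tcCx_shift PX hPXfl _ hS (-((q + 1 : ℕ) : ℤ) - 1)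
      (hexX _ (by push_cast; omega)) (hexX _ (by push_cast; omega))).mpr hX'

/-- a flat `B`-module has tor dimension `≤ d` over `A` if `B` does -/
theorem hasTorAmplitudeIn_restrictScalars_of_flat (d : ℕ)
    (hB : HasTorAmplitudeIn A (-(d : ℤ)) 0 (Dual.inD A B)) (X : ModuleCat.{u} B) [Module.Flat B X] :
    HasTorAmplitudeIn A (-(d : ℤ)) 0
      (Dual.inD A ((ModuleCat.restrictScalars (algebraMap A B)).obj X)) := by
  have hsv : ∀ (M : ModuleCat.{u} A) (n : ℤ), 0 < n → IsZero ((singleCx 0 M).X n) := fun M n hn =>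
    HomologicalComplex.isZero_single_obj_X _ _ _ _ (by omega)
  obtain ⟨PB, fB, hqB, -, hprojB, hvanB⟩ :=
    KP.exists_resolution_above (singleCx 0 (ModuleCat.of A B)) 0 (hsv _)
  obtain ⟨PX, fX, hqX, -, hprojX, hvanX⟩ :=
    KP.exists_resolution_above
      (singleCx 0 ((ModuleCat.restrictScalars (algebraMap A B)).obj X)) 0 (hsv _)
  have hflB : ∀ i, Module.Flat A (PB.X i) := fun i => by
    have := hprojB i
    infer_instance
  have hflX : ∀ i, Module.Flat A (PX.X i) := fun i => by
    have := hprojX i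
    infer_instance
  have : IsIso (DerivedCategory.Q.map fB) :=
    (DerivedCategory.isIso_Q_map_iff_quasiIso (ModuleCat.{u} A) fB).2 hqB
  have : IsIso (DerivedCategory.Q.map fX) :=
    (DerivedCategory.isIso_Q_map_iff_quasiIso (ModuleCat.{u} A) fX).2 hqX
  let eB : toD PB ≅ Dual.inD A B := asIso (DerivedCategory.Q.map fB) ≪≫ toDSingleIso' 0 _
  let eX : toD PX ≅ Dual.inD A ((ModuleCat.restrictScalars (algebraMap A B)).obj X) :=
    asIso (DerivedCategory.Q.map fX) ≪≫ toDSingleIso' 0 _
  have hBex : ∀ (N : ModuleCat.{u} A) (j : ℤ), (j < -(d : ℤ) ∨ 0 < j) → (tcCx PB N).ExactAt j :=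
    fun N j hj => exactAt_tensorCx_of_hasTorAmplitudeIn PB 0 hvanB hflB eB (-(d : ℤ)) 0 hB N j hj
  refine (@Groth.Agent.S6945.result A _ (fun M => LT.hasLTensor A M) _ (-(d : ℤ)) 0).mpr
    (fun N j hj => ?_)
  have := LT.hasLTensor A N
  obtain ⟨e₁⟩ := nonempty_lTensorObjIso_of_flat N PX 0 hvanX hflX
  have hex : (tcCx PX N).ExactAt j := by
    rcases hj with hj | hj
    · obtain ⟨q, hq⟩ : ∃ q : ℕ, j = -(q : ℤ) - 1 := ⟨(-j - 1).toNat, by omega⟩
      rw [hq]
      exact exactAt_tcCx_transfer PB fB hflB (hvanB 1 (by norm_num)) X PX fX hflX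
        (hvanX 1 (by norm_num)) q N (hq ▸ hBex N j (Or.inl hj))
    · exact HomologicalComplex.ExactAt.of_isZero
        ((tensorRight N).map_isZero (hvanX j hj))
  have e' : (DRing.LTensor A N).obj
      (Dual.inD A ((ModuleCat.restrictScalars (algebraMap A B)).obj X)) ≅ toD (tcCx PX N) :=
    (DRing.LTensor A N).mapIso eX.symm ≪≫ e₁
  exact ModuleCat.subsingleton_of_isZero
    ((PowTor.isZero_HF_of_exactAt _ j hex).of_iso ((HF A j).mapIso e'))

/-- **Stacks 15.66.? (tor amplitude and restriction of scalars)** -/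
theorem hasTorAmplitudeIn_restrictD (d : ℕ)
    (hB : HasTorAmplitudeIn A (-(d : ℤ)) 0 (Dual.inD A B)) (K : Dual.D B) (a b : ℤ)
    (hK : HasTorAmplitudeIn B a b K) :
    HasTorAmplitudeIn A (a - d) b ((DRing.restrictD (algebraMap A B)).obj K) := by
  obtain ⟨E, hE, hfl, ⟨e⟩⟩ := hK
  let resE : Cx A := ((ModuleCat.restrictScalars (algebraMap A B)).mapHomologicalComplex
    (ComplexShape.up ℤ)).obj E
  let e_res : toD resE ≅ (DRing.restrictD (algebraMap A B)).obj K :=
    ((ModuleCat.restrictScalars (algebraMap A B)).mapDerivedCategoryFactors.app E).symm ≪≫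
      (DRing.restrictD (algebraMap A B)).mapIso e
  refine hasTorAmplitudeIn_of_iso e_res ?_
  have hres : VanishesOutside resE a b := fun i hi =>
    (ModuleCat.restrictScalars (algebraMap A B)).map_isZero (hE i hi)
  have inst : ∀ M : ModuleCat.{u} A, DRing.HasLTensor A M := fun M => LT.hasLTensor A M
  refine TorAmpExt.hasTorAmplitudeIn_of_terms (a - d) b resE a b hres (fun i => ?_)
  by_cases hi : a ≤ i ∧ i ≤ b
  · have := hfl i
    exact hasTorAmplitudeIn_mono' (hasTorAmplitudeIn_restrictScalars_of_flat d hB (E.X i))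
      (by omega) (by omega)
  · exact TorAmpExt.hasTorAmplitudeIn_of_isZero (isZero_inD (hres i (by omega))) _ _

end Groth.Agent.Lib.Helper12
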